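import Mathlib.Tactic

/-!
# (ML), the K-list end, the row `PSp_2m(q)`, `q` odd: the arithmetic (helper532)
-/

set_option autoImplicit false

namespace Cfsg.Agent.Omega.ML.PspNum

theorem cube_lt {q : ℕ} (hq : 5 ≤ q) : q ^ 3 < 2 ^ (q + 2) := by
  induction q, hq using Nat.le_induction with
  | base => norm_num
  | succ n hn ih =>
    have h1 : (n + 1) ^ 3 ≤ 2 * n ^ 3 := by nlinarith [Nat.mul_le_mul hn hn, Nat.mul_le_mul hn (Nat.mul_le_mul hn hn)]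
    calc (n + 1) ^ 3 ≤ 2 * n ^ 3 := h1
      _ < 2 * 2 ^ (n + 2) := by omega
      _ = 2 ^ (n + 1 + 2) := by ring

theorem cube_lt' {q : ℕ} (hq : q = 3 ∨ 5 ≤ q) : q ^ 3 < 2 ^ (q + 2) := by
  rcases hq with rfl | hq
  · norm_num
  · exact cube_lt hq

theorem four_le {q : ℕ} (hq : 11 ≤ q) : q ^ 4 ≤ 2 ^ (q + 3) := by
  induction q, hq using Nat.le_induction with
  | base => norm_num
  | succ n hn ih =>
    have h1 : (n + 1) ^ 4 ≤ 2 * n ^ 4 := by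
      have h2 : (n + 1) * 11 ≤ 12 * n := by omega
      have h3 : ((n + 1) * 11) ^ 4 ≤ (12 * n) ^ 4 := Nat.pow_le_pow_left h2 4
      rw [mul_pow, mul_pow] at h3
      norm_num at h3
      omega
    calc (n + 1) ^ 4 ≤ 2 * n ^ 4 := h1
      _ ≤ 2 * 2 ^ (n + 3) := by omega
      _ = 2 ^ (n + 1 + 3) := by ring

theorem four_le' {q : ℕ} (hq : 27 ≤ q) : q ^ 4 * 2 ^ 7 ≤ 2 ^ q := by
  induction q, hq using Nat.le_induction with
  | base => norm_num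
  | succ n hn ih =>
    have h1 : (n + 1) ^ 4 ≤ 2 * n ^ 4 := by
      have h2 : (n + 1) * 11 ≤ 12 * n := by omega
      have h3 : ((n + 1) * 11) ^ 4 ≤ (12 * n) ^ 4 := Nat.pow_le_pow_left h2 4
      rw [mul_pow, mul_pow] at h3
      norm_num at h3
      omega
    calc (n + 1) ^ 4 * 2 ^ 7 ≤ 2 * (n ^ 4 * 2 ^ 7) := by omega
      _ ≤ 2 * 2 ^ n := by omega
      _ = 2 ^ (n + 1) := by ring

/-- the left-hand side of the comparison of exponents, `m = k + 3` -/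
def L (q k : ℕ) : ℕ := (q + 2) * ((k + 3) * (2 * k + 5) * (2 * k + 7)) + 3 * ((2 * k + 5) * (4 * k + 11))

theorem L_succ (q k : ℕ) : L q (k + 1) ≤ 3 * L q k := by
  unfold L
  have h1 : (k + 1 + 3) * (2 * (k + 1) + 7) ≤ 3 * ((k + 3) * (2 * k + 5)) := by nlinarith
  have h2 : (2 * (k + 1) + 5) * (4 * (k + 1) + 11) ≤ 3 * ((2 * k + 5) * (4 * k + 11)) := by nlinarith
  have h3 := Nat.mul_le_mul_left ((q + 2) * (2 * k + 7)) h1
  calc (q + 2) * ((k + 1 + 3) * (2 * (k + 1) + 5) * (2 * (k + 1) + 7)) + 3 * ((2 * (k + 1) + 5) * (4 * (k + 1) + 11))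
      = (q + 2) * (2 * k + 7) * ((k + 1 + 3) * (2 * (k + 1) + 7)) +
          3 * ((2 * (k + 1) + 5) * (4 * (k + 1) + 11)) := by ring
    _ ≤ (q + 2) * (2 * k + 7) * (3 * ((k + 3) * (2 * k + 5))) + 3 * (3 * ((2 * k + 5) * (4 * k + 11))) :=
        Nat.add_le_add h3 (Nat.mul_le_mul_left 3 h2)
    _ = _ := by ring

theorem L_step {q k : ℕ} (hq : 3 ≤ q) (h : L q k ≤ 12 * (k + 3) * q ^ (k + 2)) :
    L q (k + 1) ≤ 12 * (k + 1 + 3) * q ^ (k + 1 + 2) := by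
  refine (L_succ q k).trans ((Nat.mul_le_mul_left 3 h).trans ?_)
  have h1 : q ^ (k + 1 + 2) = q ^ (k + 2) * q := pow_succ q (k + 2)
  rw [h1]
  calc 3 * (12 * (k + 3) * q ^ (k + 2)) = 12 * (k + 3) * (q ^ (k + 2) * 3) := by ring
    _ ≤ 12 * (k + 1 + 3) * (q ^ (k + 2) * q) :=
      Nat.mul_le_mul (by omega) (Nat.mul_le_mul_left _ hq)

theorem L_le {q k : ℕ} (h : 5 ≤ q ∨ (3 ≤ q ∧ 2 ≤ k)) : L q k ≤ 12 * (k + 3) * q ^ (k + 2) := by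
  rcases h with h | ⟨h, hk⟩
  · induction k with
    | zero =>
      unfold L
      simp only [mul_zero, zero_add]
      nlinarith
    | succ k ih => exact L_step (by omega) ih
  · induction k, hk using Nat.le_induction with
    | base =>
      unfold L
      have h1 : 27 * q ≤ q ^ 4 := by
        have h2 : 3 ^ 3 * q ≤ q ^ 3 * q := Nat.mul_le_mul_right q (Nat.pow_le_pow_left h 3)
        calc 27 * q = 3 ^ 3 * q := by norm_num
          _ ≤ q ^ 3 * q := h2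
          _ = q ^ 4 := by ring
      norm_num
      omega
    | succ k hk ih => exact L_step h ih

/-- **`m ≥ 3`**: `a = b = 2m`, `n ≥ 2 q^(m-1)`, `|S| ≤ q^(m(2m+1))`. -/
theorem big {q k c n : ℕ} (hq : 5 ≤ q ∨ (q = 3 ∧ 2 ≤ k)) (hc : c ≤ q ^ ((k + 3) * (2 * k + 7)))
    (hn : 2 * q ^ (k + 2) ≤ n) :
    c ^ (2 * k + 6 - 1) * 2 ^ ((2 * k + 6 - 1) * (2 * k + 6 - 1 + (2 * k + 6))) < 2 ^ ((2 * k + 6) * n) := by
  have h1 : q ^ 3 < 2 ^ (q + 2) := cube_lt' (by omega)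
  have h2 := L_le (q := q) (k := k) (by omega)
  have h3 : 2 * k + 6 - 1 = 2 * k + 5 := by omega
  rw [h3]
  refine lt_of_lt_of_le ?_ (Nat.pow_le_pow_right (by norm_num) (Nat.mul_le_mul_left (2 * k + 6) hn))
  refine lt_of_pow_lt_pow_left₀ 3 (Nat.zero_le _) ?_
  have h4 : (c ^ (2 * k + 5)) ^ 3 ≤ (q ^ 3) ^ ((k + 3) * (2 * k + 5) * (2 * k + 7)) := by
    calc (c ^ (2 * k + 5)) ^ 3 ≤ ((q ^ ((k + 3) * (2 * k + 7))) ^ (2 * k + 5)) ^ 3 :=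
          Nat.pow_le_pow_left (Nat.pow_le_pow_left hc _) _
      _ = _ := by
        rw [← pow_mul, ← pow_mul, ← pow_mul]
        congr 1
        ring
  have h5 : (q ^ 3) ^ ((k + 3) * (2 * k + 5) * (2 * k + 7)) < (2 ^ (q + 2)) ^ ((k + 3) * (2 * k + 5) * (2 * k + 7)) :=
    Nat.pow_lt_pow_left h1 (by positivity)
  calc (c ^ (2 * k + 5) * 2 ^ ((2 * k + 5) * (2 * k + 5 + (2 * k + 6)))) ^ 3
      = (c ^ (2 * k + 5)) ^ 3 * (2 ^ ((2 * k + 5) * (2 * k + 5 + (2 * k + 6)))) ^ 3 := by rw [mul_pow]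
    _ < (2 ^ (q + 2)) ^ ((k + 3) * (2 * k + 5) * (2 * k + 7)) *
        (2 ^ ((2 * k + 5) * (2 * k + 5 + (2 * k + 6)))) ^ 3 :=
        Nat.mul_lt_mul_of_pos_right (lt_of_le_of_lt h4 h5) (by positivity)
    _ = 2 ^ L q k := by
        rw [← pow_mul, ← pow_mul, ← pow_add]
        congr 1
        unfold L
        ring
    _ ≤ 2 ^ (12 * (k + 3) * q ^ (k + 2)) := Nat.pow_le_pow_right (by norm_num) h2
    _ = (2 ^ ((2 * k + 6) * (2 * q ^ (k + 2)))) ^ 3 := by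
        rw [← pow_mul]
        congr 1
        ring

/-- **`m = 2`**: `a = b = 5`. -/
theorem two {q c n : ℕ} (hc : c ≤ q ^ 10) (hn : (11 ≤ q ∧ 4 * q ≤ n) ∨ (27 ≤ q ∧ 2 * q ≤ n)) :
    c ^ (5 - 1) * 2 ^ ((5 - 1) * (5 - 1 + 5)) < 2 ^ (5 * n) := by
  have h0 : c ^ (5 - 1) ≤ (q ^ 4) ^ 10 := by
    calc c ^ (5 - 1) ≤ (q ^ 10) ^ 4 := Nat.pow_le_pow_left hc 4
      _ = _ := by rw [← pow_mul, ← pow_mul]
  rcases hn with ⟨hq, hn⟩ | ⟨hq, hn⟩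
  · calc c ^ (5 - 1) * 2 ^ ((5 - 1) * (5 - 1 + 5)) ≤ (2 ^ (q + 3)) ^ 10 * 2 ^ 36 :=
        Nat.mul_le_mul (h0.trans (Nat.pow_le_pow_left (four_le hq) 10)) (le_of_eq (by norm_num))
      _ = 2 ^ ((q + 3) * 10 + 36) := by rw [← pow_mul, ← pow_add]
      _ < 2 ^ (5 * n) := Nat.pow_lt_pow_right (by norm_num) (by omega)
  · have h1 : (q ^ 4) ^ 10 * 2 ^ 70 ≤ 2 ^ (q * 10) := by
      calc (q ^ 4) ^ 10 * 2 ^ 70 = (q ^ 4 * 2 ^ 7) ^ 10 := by rw [mul_pow, ← pow_mul 2 7 10]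
        _ ≤ (2 ^ q) ^ 10 := Nat.pow_le_pow_left (four_le' hq) 10
        _ = 2 ^ (q * 10) := by rw [← pow_mul]
    calc c ^ (5 - 1) * 2 ^ ((5 - 1) * (5 - 1 + 5)) ≤ (q ^ 4) ^ 10 * 2 ^ 36 :=
        Nat.mul_le_mul h0 (le_of_eq (by norm_num))
      _ < (q ^ 4) ^ 10 * 2 ^ 70 := Nat.mul_lt_mul_of_pos_left (by norm_num) (by positivity)
      _ ≤ 2 ^ (q * 10) := h1
      _ ≤ 2 ^ (5 * n) := Nat.pow_le_pow_right (by norm_num) (by omega)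

set_option exponentiation.threshold 400 in
/-- `PSp_8(3)`: `a = 7`, `b = 1`, `n = 54`. -/
theorem eight_three {c n : ℕ} (hc : 2 * c = 3 ^ 16 * (8 * 80 * 728 * 6560)) (hn : 54 ≤ n) :
    c ^ (7 - 1) * 2 ^ ((7 - 1) * (7 - 1 + 1)) < 2 ^ (7 * n) := by
  obtain rfl : c = 3 ^ 16 * (4 * 80 * 728 * 6560) := by omega
  refine lt_of_lt_of_le ?_ (Nat.pow_le_pow_right (by norm_num) (Nat.mul_le_mul_left 7 hn))
  refine lt_of_lt_of_eq (b := 2 ^ 189 * 2 ^ 189) ?_ (pow_add 2 189 189).symm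
  norm_num

/-- `PSp_4(5)`: `a = 4`, `b = 1`, `n = 20`. -/
theorem four_five {c n : ℕ} (hc : 2 * c = 5 ^ 4 * (24 * 624)) (hn : 20 ≤ n) :
    c ^ (4 - 1) * 2 ^ ((4 - 1) * (4 - 1 + 1)) < 2 ^ (4 * n) := by
  obtain rfl : c = 5 ^ 4 * (12 * 624) := by omega
  refine lt_of_lt_of_le ?_ (Nat.pow_le_pow_right (by norm_num) (Nat.mul_le_mul_left 4 hn))
  norm_num

end Cfsg.Agent.Omega.ML.PspNum
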