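import Cfsg.Agent.OddHalf.Small.G23

/-!
# (ML), K-list end: every involution of `G₂(3)` inverts an element of order 13 (helper285)
-/

set_option autoImplicit false
set_option Elab.async false
set_option maxRecDepth 100000

namespace Cfsg.Agent.Omega.ML.InvGTwoThree

open Cfsg.Lie
open Cfsg.Agent.GTwoThree.Model
open Cfsg.Agent.OddHalf.Small.G23Data Cfsg.Agent.OddHalf.Small.G23Check

/-- the word `h` with `z · z^h` of order 13 -/
def wh : List ℕ := [16, 15, 0]

/-- the inverse of `h` -/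
def wh' : List ℕ := [1, 14, 17]

/-- `z · z^h` -/
def wu : List ℕ := wz ++ (wh ++ wz ++ wh')

/-- `(z · z^h) ^ n` -/
def wp : ℕ → List ℕ
  | 0 => []
  | n + 1 => wp n ++ wu

theorem inv_check : eqc (wh ++ wh') [] = true := by decide +kernel

theorem pow_check : eqc (wp 13) [] = true := by decide +kernel

theorem ne_check : nec wu [] = true := by decide +kernel

theorem ev_wp (n : ℕ) : ev y (wp n) = ev y wu ^ n := by
  induction n with
  | zero => rw [pow_zero]; rfl
  | succ n ih => rw [wp, ev_append, ih, pow_succ]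

theorem orderOf_wu : orderOf (ev y wu) = 13 := by
  refine orderOf_eq_prime (p := 13) (hp := ⟨by norm_num⟩) ?_ ?_
  · rw [← ev_wp]
    exact eq_of_eqc pow_check
  · exact ne_of_nec ne_check

theorem ev_wh' : ev y wh' = (ev y wh)⁻¹ := by
  have h1 : ev y (wh ++ wh') = 1 := eq_of_eqc inv_check
  rw [ev_append] at h1
  exact (inv_eq_of_mul_eq_one_right h1).symm

/-- Every involution `x` of the model of `G₂(3)` has a conjugate `x'` with `x x'` of order 13. -/
theorem exists_thirteen (x : ↥Gp) (hx : orderOf x = 2) : ∃ g : ↥Gp, orderOf (x * (g * x * g⁻¹)) = 13 := by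
  obtain ⟨c, hc⟩ := OddHalf.Small.G23.exists_conj hx
  have hc' : c * x * c⁻¹ = ev y wz := hc
  refine ⟨c⁻¹ * ev y wh * c, ?_⟩
  have e : x * (c⁻¹ * ev y wh * c * x * (c⁻¹ * ev y wh * c)⁻¹) = c⁻¹ * ev y wu * c⁻¹⁻¹ := by
    rw [wu, ev_append, ev_append, ev_append, ev_wh', ← hc']
    group
  rw [e]
  have h1 : orderOf (MulAut.conj c⁻¹ (ev y wu)) = orderOf (ev y wu) :=
    orderOf_injective (MulAut.conj c⁻¹).toMonoidHom (MulAut.conj c⁻¹).injective _
  rw [MulAut.conj_apply] at h1
  rw [h1, orderOf_wu]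

/-- The fact for every group isomorphic to `G₂(3)`. -/
theorem exists_thirteen' {S : Type*} [Group S] (F : Type) [Field F] [Fintype F] (hF : Fintype.card F = 3)
    (e : S ≃* ↥(chevG2.group F)) (x : S) (hx : orderOf x = 2) : ∃ g : S, orderOf (x * (g * x * g⁻¹)) = 13 := by
  have h3 : Fintype.card (ZMod 3) = Fintype.card F := by rw [hF]; rfl
  let φ : ZMod 3 ≃+* F := FiniteField.ringEquivOfCardEq h3
  let f : S ≃* ↥Gp := e.trans (ChevalleyStructure.FieldIso.groupEquiv chevG2 φ).symm
  have h1 : orderOf (f x) = 2 := (f.orderOf_eq x).trans hx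
  obtain ⟨g, hg⟩ := exists_thirteen (f x) h1
  refine ⟨f.symm g, ?_⟩
  rw [← hg]
  have h2 : f (x * (f.symm g * x * (f.symm g)⁻¹)) = f x * (g * f x * g⁻¹) := by
    simp only [map_mul, map_inv, MulEquiv.apply_symm_apply]
  rw [← h2]
  exact (f.orderOf_eq _).symm

end Cfsg.Agent.Omega.ML.InvGTwoThree
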