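import Cfsg.Agent.Omega.ML.CD
import Cfsg.Agent.MinSimple.VModule

/-!
# (ML), the K-list end: the literal rows (helper721)

`H` acts faithfully and irreducibly on `M` (`F_2`-space), `K ⊴ H` quasisimple, `|Z(K)|` odd, `C_H(K) ≤ K`, `H = KA`,
`T` a Sylow 2-subgroup of `H` which lies in at least two maximal subgroups, `A` elementary abelian, strict,
`|A| ≥ 8` and `A ≤ O₂(R)` for all `T ≤ R < H` (#16000, #16602, #16589; output of the reduction).

* `In H M K T A` : this situation;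
* `Dead 𝒮` : it does not occur if `K / Z(K)` is in the class `𝒮`;
* `AS X S T A` : the image in `X = H / Z(K)`, almost simple with socle `S`;
* `DeadG 𝒮` : the group-theoretic row: `|A| ≤ 4` if `S` is in `𝒮`;  **`DeadG.dead`**: `DeadG 𝒮 → Dead 𝒮` for
  isomorphism-closed `𝒮`;
* `AS.card_le_four` : one overgroup `R` all of whose elementary abelian subgroups of `O₂(R)` have order at most 4;
  `AS.card_le_four₂`: two overgroups.
-/

set_option autoImplicit false

namespace Cfsg.Agent.Omega.ML.Rows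

open Subgroup Cfsg Cfsg.Agent.ZN Cfsg.Agent.Omega.NOThree.NoOver Cfsg.Agent.Omega.ML.CD
open Cfsg.Agent.MinSimple.VModule (o2_isPGroup o2_le le_o2 le_normalizer_o2)

universe u v w

/-- The situation at the end of the reduction of (ML). -/
structure In (H : Type u) [Group H] (M : Type v) [Group M] [MulDistribMulAction H M] (K T A : Subgroup H) :
    Prop where
  sq : ∀ m : M, m * m = 1
  faith : ∀ h : H, (∀ m : M, h • m = m) → h = 1
  irr : ∀ W : Subgroup M, (∀ h : H, ∀ w ∈ W, h • w ∈ W) → W = ⊥ ∨ W = ⊤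
  norm : K.Normal
  qs : IsQuasisimple K
  odd : Odd (Nat.card (center K))
  cen : centralizer (K : Set H) ≤ K
  zen : ∀ z ∈ centralizer (K : Set H), ∀ h : H, h * z = z * h
  gen : K ⊔ A = ⊤
  two : IsPGroup 2 T
  syl : ¬ 2 ∣ T.index
  el : ∀ a ∈ A, a * a = 1
  strict : Strict (fab M 1 1) A
  eight : 8 ≤ Nat.card A
  low : ∀ R : Subgroup H, T ≤ R → R ≠ ⊤ → A ≤ o2 R
  nmax : ¬ ∃ N : Subgroup H, N ≠ ⊤ ∧ ∀ R : Subgroup H, T ≤ R → R ≠ ⊤ → R ≤ N
  /-- (b) of #14676 for every strict elementary abelian `B ≤ O₂(C_R(v))`, `v` fixed by a Sylow 2-subgroup of `R < H` -/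
  bb : ∀ (R P B : Subgroup H) (v : M), R ≠ ⊤ → P ≤ R → IsPGroup 2 P → ¬ 2 ∣ P.relIndex R → (∀ s ∈ P, s • v = v) →
    (∀ b ∈ B, b * b = 1) → Strict (fab M 1 1) B → B ≤ o2 (R ⊓ MulAction.stabilizer H v) → B ≤ o2 R

/-- The row of the class `𝒮` of simple groups. -/
def Dead (𝒮 : ∀ (S : Type u) [Group S], Prop) : Prop :=
  ∀ (H : Type u) [Group H] [Finite H] (M : Type v) [Group M] [Finite M] [MulDistribMulAction H M]
    (K T A : Subgroup H), In H M K T A → 𝒮 (K ⧸ center K) → False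

/-- The image of the situation in the almost simple group `X = H / Z(K)` with socle `S`. -/
structure AS {X : Type u} [Group X] (S T A : Subgroup X) : Prop where
  norm : S.Normal
  simple : IsSimpleGroup S
  cen : centralizer (S : Set X) = ⊥
  gen : S ⊔ A = ⊤
  two : IsPGroup 2 T
  syl : ¬ 2 ∣ T.index
  el : ∀ a ∈ A, a * a = 1
  low : ∀ R : Subgroup X, T ≤ R → R ≠ ⊤ → A ≤ o2 R
  nmax : ¬ ∃ N : Subgroup X, N ≠ ⊤ ∧ ∀ R : Subgroup X, T ≤ R → R ≠ ⊤ → R ≤ N

/-- The group-theoretic row of the class `𝒮`. -/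
def DeadG (𝒮 : ∀ (S : Type u) [Group S], Prop) : Prop :=
  ∀ (X : Type u) [Group X] [Finite X] (S T A : Subgroup X), AS S T A → 𝒮 S → Nat.card A ≤ 4

/-- Isomorphism-closed classes. -/
def IsoClosed (𝒮 : ∀ (S : Type u) [Group S], Prop) : Prop :=
  ∀ (S S' : Type u) [Group S] [Group S'], (S ≃* S') → 𝒮 S → 𝒮 S'

section tools

variable {X : Type u} [Group X] {S T A : Subgroup X}

/-- `T ≠ ⊤`. -/
theorem AS.ne_top (h : AS S T A) : T ≠ ⊤ := by
  intro h1
  have hsim := h.simple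
  refine h.nmax ⟨⊥, ?_, fun R hTR hR => absurd (top_le_iff.1 (h1 ▸ hTR)) hR⟩
  intro h2
  obtain ⟨x, hx⟩ := exists_ne (1 : S)
  exact hx (Subtype.ext (mem_bot.1 (h2 ▸ mem_top (x : X))))

/-- One overgroup. -/
theorem AS.card_le_four (h : AS S T A) {R : Subgroup X} (hT : T ≤ R) (hR : R ≠ ⊤)
    (hc : ∀ B ≤ o2 R, (∀ b ∈ B, b * b = 1) → Nat.card B ≤ 4) : Nat.card A ≤ 4 :=
  hc A (h.low R hT hR) h.el

/-- Two overgroups. -/
theorem AS.card_le_four₂ (h : AS S T A) {R R' : Subgroup X} (hT : T ≤ R) (hR : R ≠ ⊤) (hT' : T ≤ R')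
    (hR' : R' ≠ ⊤) (hc : ∀ B ≤ o2 R ⊓ o2 R', (∀ b ∈ B, b * b = 1) → Nat.card B ≤ 4) : Nat.card A ≤ 4 :=
  hc A (le_inf (h.low R hT hR) (h.low R' hT' hR')) h.el

/-- An overgroup with `|O₂(R)| ≤ 4`. -/
theorem AS.card_le_four_of_o2 [Finite X] (h : AS S T A) {R : Subgroup X} (hT : T ≤ R) (hR : R ≠ ⊤)
    (hc : Nat.card (o2 R) ≤ 4) : Nat.card A ≤ 4 :=
  (card_le_of_le (h.low R hT hR)).trans hc

/-- `O₂(R) ≤ S` for one overgroup `R` of `T` implies `A ≤ S`, so `X = S`. -/
theorem AS.top_of_le (h : AS S T A) {R : Subgroup X} (hT : T ≤ R) (hR : R ≠ ⊤) (hS : o2 R ≤ S) : S = ⊤ := by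
  rw [← h.gen]
  exact (sup_eq_left.2 ((h.low R hT hR).trans hS)).symm

end tools

section image

variable {H : Type u} [Group H] {M : Type v} [Group M] [MulDistribMulAction H M] {K T A : Subgroup H}

/-- The kernel `Z = C_H(K)` is central. -/
theorem In.normalZ (h : In H M K T A) : (centralizer (K : Set H)).Normal :=
  ⟨fun z hz g => by rwa [h.zen z hz g, mul_inv_cancel_right]⟩

theorem In.card_centralizer (h : In H M K T A) : Nat.card (centralizer (K : Set H)) = Nat.card (center K) := by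
  have h1 : (center K).map K.subtype = centralizer (K : Set H) := by
    ext z
    constructor
    · rintro ⟨k, hk, rfl⟩
      refine mem_centralizer_iff.2 fun y hy => ?_
      exact congrArg Subtype.val (mem_center_iff.1 hk ⟨y, hy⟩)
    · intro hz
      refine ⟨⟨z, h.cen hz⟩, mem_center_iff.2 fun y => Subtype.ext ?_, rfl⟩
      exact mem_centralizer_iff.1 hz y y.2
  rw [← h1]
  exact card_map_of_injective K.subtype_injective

end image

end Cfsg.Agent.Omega.ML.Rows
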