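import Cfsg.Agent.Omega.ML.LocPrime
import Cfsg.Agent.Omega.ML.Rows

/-!
# (ML), the K-list end: THEOREM LOC for the rows `In H M K T A` (helper667)

* `In.exists_base` : a row situation gives `Loc.Base` for some `z ∈ C_M(T)`;
* `In.false_of_prime` : **THEOREM LOC, cyclic form**;  `In.false_of_dat` : general form;
* `InZ`, `DeadZ` : the rows together with the point `z` (not needed any more).
-/

set_option autoImplicit false

namespace Cfsg.Agent.Omega.ML.LocRow

open Subgroup Cfsg Cfsg.Agent.ClassTwoFusion.Quad Cfsg.Agent.Omega.NOThree.NoOver Cfsg.Agent.Omega.ML.CD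
open Cfsg.Agent.ZN Cfsg.Agent.Omega.ML.Rows Cfsg.Agent.Omega.ML.Loc
open Cfsg.Agent.Omega.ML.MinFrame (le_normalizer_of)

universe u v

/-- the situation of the rows together with the point -/
structure InZ (H : Type u) [Group H] (M : Type v) [Group M] [MulDistribMulAction H M] (K T Q A : Subgroup H) (z : M) :
    Prop where
  row : In H M K T A
  base : Base H M T Q A z

/-- the class `𝒮` does not occur -/
def DeadZ (𝒮 : ∀ (S : Type u) [Group S], Prop) : Prop :=
  ∀ (H : Type u) [Group H] [Finite H] (M : Type v) [Group M] [Finite M] [MulDistribMulAction H M]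
    (K T Q A : Subgroup H) (z : M), InZ H M K T Q A z → 𝒮 (K ⧸ center K) → False

theorem Dead.deadZ {𝒮 : ∀ (S : Type u) [Group S], Prop} (h : Dead.{u, v} 𝒮) : DeadZ.{u, v} 𝒮 :=
  fun H _ _ M _ _ _ K T _ A _ hI hS => h H M K T A hI.row hS

theorem two_of_nmax {H : Type*} [Group H] {T : Subgroup H}
    (nmax : ¬ ∃ N : Subgroup H, N ≠ ⊤ ∧ ∀ R : Subgroup H, T ≤ R → R ≠ ⊤ → R ≤ N) :
    ∀ R : Subgroup H, T ≤ R → R ≠ ⊤ → ∃ P : Subgroup H, T ≤ P ∧ P ≠ ⊤ ∧ ¬ P ≤ R := by
  intro R _ hR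
  by_contra hc
  push Not at hc
  exact nmax ⟨R, hR, fun P hP hP' => hc P hP hP'⟩

variable {H : Type u} [Group H] [Finite H] {M : Type v} [Group M] [Finite M]
  [MulDistribMulAction H M] {K T Q A : Subgroup H} {z : M}

omit [Finite H] in
theorem exists_fixed (hsq : ∀ m : M, m * m = 1) (hT : IsPGroup 2 T) {W : Subgroup M} (hW : ∀ t ∈ T, ∀ w ∈ W, t • w ∈ W)
    (hne : W ≠ ⊥) : ∃ w ∈ W, w ≠ 1 ∧ ∀ t ∈ T, t • w = w := by
  have h2f : Fact (Nat.Prime 2) := ⟨Nat.prime_two⟩
  let _ : MulDistribMulAction T W :=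
    { smul := fun t w => ⟨(t : H) • (w : M), hW t t.2 w w.2⟩
      one_smul := fun w => Subtype.ext (one_smul H (w : M))
      mul_smul := fun c d w => Subtype.ext (mul_smul (c : H) d (w : M))
      smul_mul := fun c u w => Subtype.ext (smul_mul' (c : H) (u : M) w)
      smul_one := fun c => Subtype.ext (smul_one (c : H)) }
  have h1 : IsPGroup 2 W := fun w => ⟨1, by rw [pow_one, pow_two]; exact Subtype.ext (hsq w)⟩
  have h5 : 2 ∣ Nat.card W := by
    obtain ⟨k, hk⟩ := IsPGroup.iff_card.1 h1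
    rw [hk]
    refine dvd_pow_self 2 ?_
    rintro rfl
    rw [pow_zero, card_eq_one] at hk
    exact hne hk
  obtain ⟨b, hb, hb1⟩ := hT.exists_fixed_point_of_prime_dvd_card_of_fixed_point W h5 (a := (1 : W)) (fun c => smul_one c)
  refine ⟨b, b.2, fun h => hb1 (Subtype.ext h.symm), fun t ht => ?_⟩
  exact congrArg Subtype.val (hb ⟨t, ht⟩)

/-- the row gives the base -/
theorem _root_.Cfsg.Agent.Omega.ML.Rows.In.exists_base (h : In H M K T A) :
    ∃ z : M, z ≠ 1 ∧ Base H M T (o2 (MulAction.stabilizer H z)) A z := by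
  have hA1 : A ≠ ⊥ := by
    rintro rfl
    have := h.eight
    rw [card_bot] at this
    omega
  have htop : (⊤ : Subgroup M) ≠ ⊥ := by
    intro h1
    apply hA1
    rw [eq_bot_iff]
    intro a _
    rw [mem_bot]
    apply h.faith
    intro m
    have h2 : ∀ m : M, m = 1 := fun m => mem_bot.1 (h1 ▸ mem_top m)
    rw [h2 m, smul_one]
  obtain ⟨z, -, hz1, hz⟩ := exists_fixed h.sq h.two (W := (⊤ : Subgroup M)) (fun _ _ _ _ => mem_top _) htop
  have hcore : ∀ N : Subgroup H, N.Normal → IsPGroup 2 N → N = ⊥ := by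
    intro N hN h2
    obtain ⟨w, -, hw1, hw⟩ := exists_fixed h.sq h2 (W := (⊤ : Subgroup M)) (fun _ _ _ _ => mem_top _) htop
    have h3 : cv M (N : Set H) = ⊤ := by
      refine (h.irr (cv M (N : Set H)) fun g m hm n hn => ?_).resolve_left fun h4 => hw1 ?_
      · have h5 := hm _ (hN.conj_mem n hn g⁻¹)
        rw [inv_inv, mul_smul, mul_smul, inv_smul_eq_iff] at h5
        exact h5
      · have h5 : w ∈ cv M (N : Set H) := fun n hn => hw n hn
        rw [h4] at h5
        exact mem_bot.1 h5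
    rw [eq_bot_iff]
    intro n hn
    rw [mem_bot]
    apply h.faith
    intro m
    have h4 : m ∈ cv M (N : Set H) := by rw [h3]; exact mem_top m
    exact h4 n hn
  have hTs : T ≤ MulAction.stabilizer H z := fun t ht => hz t ht
  have hst : MulAction.stabilizer H z ≠ ⊤ := by
    intro h1
    have h2 : zpowers z = ⊤ := by
      refine (h.irr (zpowers z) fun g w hw => ?_).resolve_left fun h3 => hz1 (by
        have : z ∈ zpowers z := mem_zpowers z
        rw [h3] at this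
        exact mem_bot.1 this)
      obtain ⟨k, rfl⟩ := hw
      have h3 : g • z = z := MulAction.mem_stabilizer_iff.1 (h1 ▸ mem_top g)
      change g • (z ^ k) ∈ zpowers z
      rw [smul_zpow', h3]
      exact zpow_mem_zpowers z k
    apply hA1
    rw [eq_bot_iff]
    intro a _
    rw [mem_bot]
    apply h.faith
    intro m
    have h3 : m ∈ zpowers z := by rw [h2]; exact mem_top m
    obtain ⟨k, rfl⟩ := h3
    have h4 : a • z = z := MulAction.mem_stabilizer_iff.1 (h1 ▸ mem_top a)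
    change a • (z ^ k) = z ^ k
    rw [smul_zpow', h4]
  have hQT : ∀ Q' : Subgroup H, IsPGroup 2 Q' → (∀ q ∈ Q', q • z = z) → (∀ g : H, g • z = z → ∀ q ∈ Q', g * q * g⁻¹ ∈ Q') →
      Q' ≤ o2 (MulAction.stabilizer H z) := fun Q' hQ hQz hQn =>
    Cfsg.Agent.MinSimple.VModule.le_o2 (fun q hq => hQz q hq) hQ (le_normalizer_of fun g hg x hx => hQn g hg x hx)
  have hoT : o2 (MulAction.stabilizer H z) ≤ T := Cfsg.Agent.MinSimple.VModule.o2_le_of_sylow h.two fun h2 =>
    h.syl (h2.trans (Dvd.intro _ (relIndex_mul_index hTs)))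
  refine ⟨z, hz1, h.sq, h.faith, hcore, h.two, h.syl, hz, Cfsg.Agent.MinSimple.VModule.o2_isPGroup _,
    fun q hq => Cfsg.Agent.MinSimple.VModule.o2_le _ hq, ?_, h.low _ hTs hst, h.el, h.strict, hA1, ?_⟩
  · intro g hg q hq
    exact Cfsg.Agent.Omega.ML.MinFrame.conj_mem_of_le (Cfsg.Agent.MinSimple.VModule.le_normalizer_o2 _) hg hq
  · intro Q' B R hQ hQz hQn hBQ hB2 hB hR hR'
    have h1 : Q' ≤ T := (hQT Q' hQ hQz hQn).trans hoT
    have h2 : ¬ 2 ∣ T.relIndex R := fun h2 => h.syl (h2.trans (Dvd.intro _ (relIndex_mul_index hR)))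
    refine h.bb R T B z hR' hR h.two h2 hz hB2 hB (hBQ.trans ?_)
    refine Cfsg.Agent.MinSimple.VModule.le_o2 (le_inf (h1.trans hR) fun q hq => hQz q hq) hQ
      (le_normalizer_of fun g hg x hx => hQn g hg.2 x hx)

/-- **THEOREM LOC, cyclic form** -/
theorem _root_.Cfsg.Agent.Omega.ML.Rows.In.false_of_prime (h : In H M K T A) {E : Subgroup H} {x : H} {p n : ℕ}
    (hET : E ≤ T) (hTE : ∀ t ∈ T, ∀ e ∈ E, t * e * t⁻¹ ∈ E) (el : ∀ e ∈ E, e * e = 1) (card : Nat.card E ≤ 2 ^ n)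
    (cen : ∀ t ∈ T, (∀ e ∈ E, t * e = e * t) → t ∈ E) (hp : p.Prime) (hp2 : p ≠ 2)
    (nd : ∀ k, 0 < k → k < n → ¬ p ∣ 2 ^ k - 1) (hx : x ^ p = 1) (norm : ∀ e ∈ E, x * e * x⁻¹ ∈ E)
    (hne : ∃ e ∈ E, x * e ≠ e * x) : False := by
  obtain ⟨z, -, hz⟩ := h.exists_base
  exact hz.false_of_prime (two_of_nmax h.nmax) hET hTE el card cen hp hp2 nd hx norm hne

/-- **THEOREM LOC** -/
theorem _root_.Cfsg.Agent.Omega.ML.Rows.In.false_of_dat (h : In H M K T A) {R₀ E L : Subgroup H}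
    (D : Dat H M T R₀ E L) : False := by
  obtain ⟨z, -, hz⟩ := h.exists_base
  exact hz.loc D (two_of_nmax h.nmax)

omit [Finite H] [Finite M] in
/-- `A ≤ K` implies `H = K` -/
theorem _root_.Cfsg.Agent.Omega.ML.Rows.In.eq_top_of_le (h : In H M K T A) (hA : A ≤ K) : K = ⊤ := by
  rw [← h.gen]
  exact (sup_eq_left.2 hA).symm

end Cfsg.Agent.Omega.ML.LocRow
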