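import Cfsg.Agent.Omega.ML.Comp
import Cfsg.Agent.Omega.ML.LocRow

/-!
# (ML): the final statement and its forms for the consumers (ruling R-PS, #17472)

* `KG` : the class of K-groups, `sec_KG` : closed under sections;
* **`MLK`** : (ML) for all K-groups: no over-offender in `O₂(C_H(z))`, `z` fixed by a Sylow 2-subgroup;
* `mlk_of` : `MLK` from the reduction `InOf` and the rows `DeadZ IsKnownSimple'`;
* `MLK.act` : for actions which are not faithful, everything modulo the kernel;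
* `MLK.grp` : for subgroups of a group.
-/

set_option autoImplicit false

namespace Cfsg.Agent.Omega.ML.Final

open Subgroup Cfsg Cfsg.Agent.ClassTwoFusion.Quad Cfsg.Agent.Omega.ML.MinFrame Cfsg.Agent.Omega.ML.LocRow

universe u v

/-! ### K-groups -/

theorem simple_congr {X Y : Type*} [Group X] [Group Y] (e : X ≃* Y) (h : IsSimpleGroup X) : IsSimpleGroup Y := by
  have : Nontrivial Y := e.symm.toEquiv.nontrivial
  exact IsSimpleGroup.isSimpleGroup_of_surjective e.toMonoidHom e.surjective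

theorem not_comm_congr {X Y : Type*} [Group X] [Group Y] (e : X ≃* Y) (h : ¬ IsMulCommutative X) :
    ¬ IsMulCommutative Y := by
  intro h'
  apply h
  refine ⟨⟨fun a b => ?_⟩⟩
  apply e.injective
  rw [map_mul, map_mul]
  exact h'.is_comm.comm _ _

/-- sections of K-groups are K-groups -/
theorem kgroup_of_surj {X Q : Type u} [Group X] [Group Q] (hX : IsKGroup X) (B : Subgroup X) (f : B →* Q)
    (hf : Function.Surjective f) : IsKGroup Q := by
  intro A M _ hs hna
  let C : Subgroup X := (A.comap f).map B.subtype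
  let e : ↥(A.comap f) ≃* ↥C := (A.comap f).equivMapOfInjective _ B.subtype_injective
  let g : ↥C →* ↥A ⧸ M := ((QuotientGroup.mk' M).comp (f.subgroupComap A)).comp e.symm.toMonoidHom
  have hg : Function.Surjective g := by
    refine ((QuotientGroup.mk'_surjective M).comp ?_).comp e.symm.surjective
    rintro ⟨y, hy⟩
    obtain ⟨x, rfl⟩ := hf y
    exact ⟨⟨x, hy⟩, rfl⟩
  let i : ↥C ⧸ g.ker ≃* ↥A ⧸ M := QuotientGroup.quotientKerEquivOfSurjective g hg
  have h1 := not_comm_congr i.symm hna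
  exact OddHalf.Known.isKnownSimple'_congr i h1 (hX C g.ker (simple_congr i.symm hs) h1)

/-- the class of K-groups -/
abbrev KG : Frame.Cls.{u} := fun G _ => IsKGroup G

theorem sec_KG : Sec KG.{u} where
  sub := fun _ _ _ hG R => kgroup_of_surj hG R (MonoidHom.id R) fun x => ⟨x, rfl⟩
  quo := fun G _ _ hG N _ => kgroup_of_surj hG ⊤ ((QuotientGroup.mk' N).comp (⊤ : Subgroup G).subtype) fun x => by
    obtain ⟨y, rfl⟩ := QuotientGroup.mk'_surjective N x
    exact ⟨⟨y, mem_top y⟩, rfl⟩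

/-! ### The final statement -/

/-- **(ML) for K-groups** -/
def MLK : Prop :=
  ∀ (H : Type u) [Group H] [Finite H] (M : Type v) [Group M] [Finite M] [MulDistribMulAction H M],
    IsKGroup H → (∀ m : M, m * m = 1) → MLS False H M

/-- THE REDUCTION: a minimal counterexample gives the situation of the rows -/
def InOf : Prop :=
  ∀ (H : Type u) [Group H] [Finite H] (M : Type v) [Group M] [Finite M] [MulDistribMulAction H M]
    (T Q A : Subgroup H) (z : M), Fr KG.{u} False H M T Q A z →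
      ∃ (K T' Q' A' : Subgroup H) (z' : M), InZ H M K T' Q' A' z'

/-- the same for a class `K` closed under sections -/
theorem mls_of {K : Frame.Cls.{u}} {p : Prop} (sec : Sec K)
    (hno : ∀ (H : Type u) [Group H] [Finite H] (M : Type v) [Group M] [Finite M] [MulDistribMulAction H M]
      (T Q A : Subgroup H) (z : M), ¬ Fr K p H M T Q A z)
    (H : Type u) [Group H] [Finite H] (M : Type v) [Group M] [Finite M] [MulDistribMulAction H M] (hK : K H)
    (sq : ∀ m : M, m * m = 1) : MLS p H M := by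
  have key : ∀ n m : ℕ, ∀ (H : Type u) [Group H] [Finite H] (M : Type v) [Group M] [Finite M]
      [MulDistribMulAction H M], K H → (∀ m : M, m * m = 1) → Nat.card H = n → Nat.card M = m → MLS p H M := by
    intro n
    induction n using Nat.strong_induction_on with
    | _ n ihn =>
      intro m
      induction m using Nat.strong_induction_on with
      | _ m ihm =>
        intro H _ _ M _ _ _ hK hsq hH hM
        by_contra hc
        obtain ⟨T, Q, A, z, hfr⟩ := exists_fr sec hK hsq (by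
          intro H' _ _ M' _ _ _ hK' hsq' hlt
          rcases hlt with hlt | ⟨he, hlt⟩
          · rw [hH] at hlt
            exact ihn _ hlt _ H' M' hK' hsq' rfl rfl
          · rw [hM] at hlt
            exact ihm _ hlt H' M' hK' hsq' (he.trans hH) rfl) hc
        exact hno H M T Q A z hfr
  exact key _ _ H M hK sq rfl rfl

/-- **(ML) from the reduction and the rows** -/
theorem mlk_of (hI : InOf.{u, v}) (hR : DeadZ.{u, v} fun S _ => IsKnownSimple' S) : MLK.{u, v} := by
  intro H _ _ M _ _ _ hK hsq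
  refine mls_of sec_KG ?_ H M hK hsq
  intro H _ _ M _ _ _ T Q A z hfr
  obtain ⟨K, T', Q', A', z', hz⟩ := hI H M T Q A z hfr
  refine hR H M K T' Q' A' z' hz ?_
  have h1 : IsSimpleGroup (K ⧸ center K) := hz.row.qs.2
  have h2 : IsKGroup (K ⧸ center K) :=
    kgroup_of_surj hfr.KH K (QuotientGroup.mk' (center K)) (QuotientGroup.mk'_surjective _)
  have h3 : ¬ IsMulCommutative (K ⧸ center K) := by
    intro h3
    have h4 : commutator K ≤ (QuotientGroup.mk' (center K)).ker := by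
      let _ : CommGroup (K ⧸ center K) := { (inferInstance : Group (K ⧸ center K)) with mul_comm := h3.is_comm.comm }
      exact Abelianization.commutator_subset_ker (QuotientGroup.mk' (center K))
    have := hz.row.qs.1
    rw [Group.IsPerfect.commutator_eq_top, QuotientGroup.ker_mk'] at h4
    obtain ⟨x, hx⟩ := exists_ne (1 : K ⧸ center K)
    obtain ⟨k, rfl⟩ := QuotientGroup.mk_surjective x
    exact hx ((QuotientGroup.eq_one_iff k).2 (h4 (mem_top k)))
  -- the group itself is one of its sections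
  let e0 : ↥(⊤ : Subgroup (K ⧸ center K)) ⧸ (⊥ : Subgroup ↥(⊤ : Subgroup (K ⧸ center K))) ≃* (K ⧸ center K) :=
    (QuotientGroup.quotientBot).trans Subgroup.topEquiv
  have h4 := h2 ⊤ ⊥ (simple_congr e0.symm h1) (not_comm_congr e0.symm h3)
  exact OddHalf.Known.isKnownSimple'_congr e0 (not_comm_congr e0.symm h3) h4

/-! ### Not faithful actions -/

section act

variable {C : Type u} [Group C] [Finite C] {V : Type v} [Group V] [Finite V] [MulDistribMulAction C V]

/-- the data of (ML) modulo the kernel of the action -/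
structure Dat (T Q A : Subgroup C) (z : V) : Prop where
  sq : ∀ v : V, v * v = 1
  two : IsPGroup 2 T
  odd : ¬ 2 ∣ T.index
  fixT : ∀ t ∈ T, t • z = z
  Q2 : ∀ q ∈ Q, ∃ n : ℕ, ∀ v : V, (q ^ 2 ^ n) • v = v
  fixQ : ∀ q ∈ Q, q • z = z
  nrmQ : ∀ g : C, g • z = z → ∀ q ∈ Q, ∃ q' ∈ Q, ∀ v : V, (g * q * g⁻¹) • v = q' • v
  AQ : ∀ a ∈ A, ∃ q ∈ Q, ∀ v : V, a • v = q • v
  Asq : ∀ a ∈ A, ∀ v : V, a • a • v = v

/-- **(ML), modulo the kernel** -/
theorem MLK.act (h : MLK.{u, v}) (hK : IsKGroup C) {T Q A : Subgroup C} {z : V} (D : Dat T Q A z) :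
    (fxr C (orb (⊤ : Subgroup C) z)).relIndex A ≤ (cv V (A : Set C)).relIndex (orb (⊤ : Subgroup C) z) := by
  have hN : (fxr C (⊤ : Subgroup V)).Normal := fxr_normal fun _ _ _ => mem_top _
  have htriv : ∀ x ∈ fxr C (⊤ : Subgroup V), ∀ m : V, x • m = m := fun x hx m => hx m (mem_top m)
  set N := fxr C (⊤ : Subgroup V) with hNdef
  let _ := quoAct N htriv
  let π : C →* C ⧸ N := QuotientGroup.mk' N
  have hπ : Function.Surjective π := QuotientGroup.mk'_surjective N
  have he : ∀ (g : C) (v : V), π g • v = g • v := fun _ _ => rfl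
  have hker : ∀ x : C, (∀ v : V, x • v = v) → π x = 1 := fun x hx =>
    (QuotientGroup.eq_one_iff x).2 fun v _ => hx v
  have hker2 : ∀ x y : C, (∀ v : V, x • v = y • v) → π x = π y := by
    intro x y hxy
    rw [← mul_inv_eq_one, ← map_inv, ← map_mul]
    refine hker _ fun v => ?_
    rw [mul_smul, hxy, smul_inv_smul]
  have key := h (C ⧸ N) V (sec_KG.quo C hK N) D.sq (T.map π) (Q.map π) (A.map π) z (mem_top _) (D.two.map π) le_top
    (by
      rw [relIndex_top_right]
      intro h2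
      exact D.odd (h2.trans (index_map_dvd T hπ)))
    (by
      rintro _ ⟨t, ht, rfl⟩
      rw [he, D.fixT t ht])
    (by
      rintro ⟨_, q, hq, rfl⟩
      obtain ⟨n, hn⟩ := D.Q2 q hq
      refine ⟨n, Subtype.ext ?_⟩
      change π q ^ 2 ^ n = 1
      rw [← map_pow]
      exact hker _ hn) le_top
    (by
      rintro _ ⟨q, hq, rfl⟩
      rw [he, D.fixQ q hq])
    (by
      rintro g' _ hg' _ ⟨q, hq, rfl⟩
      obtain ⟨g, rfl⟩ := hπ g'
      obtain ⟨q', hq', hqq⟩ := D.nrmQ g (by rw [← he, hg']) q hq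
      refine ⟨q', hq', ?_⟩
      rw [← map_mul, ← map_inv, ← map_mul]
      exact (hker2 _ _ hqq).symm)
    (by
      rintro _ ⟨a, ha, rfl⟩
      obtain ⟨q, hq, hqa⟩ := D.AQ a ha
      exact ⟨q, hq, (hker2 _ _ hqa).symm⟩)
    (by
      rintro _ ⟨a, ha, rfl⟩
      rw [← map_mul]
      refine hker _ fun v => ?_
      rw [mul_smul, D.Asq a ha])
    False.elim
  have horb : orb (⊤ : Subgroup (C ⧸ N)) z = orb (⊤ : Subgroup C) z := by
    apply le_antisymm
    · refine orb_le fun g' _ => ?_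
      obtain ⟨g, rfl⟩ := hπ g'
      exact smul_mem_orb_self (mem_top g)
    · exact orb_le fun g _ => smul_mem_orb_self (g := π g) (mem_top _)
  have hcv : cv V (A.map π : Set (C ⧸ N)) = cv V (A : Set C) := by
    ext v
    constructor
    · exact fun hv a ha => hv _ ⟨a, ha, rfl⟩
    · rintro hv _ ⟨a, ha, rfl⟩
      exact hv a ha
  have hfx : (fxr (C ⧸ N) (orb (⊤ : Subgroup C) z)).comap π = fxr C (orb (⊤ : Subgroup C) z) := by
    ext x
    exact Iff.rfl
  rw [horb, hcv, ← relIndex_comap, hfx] at key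
  exact key

end act

/-! ### Subgroups of a group -/

section grp

variable {G : Type u} [Group G]

/-- `C` acts on `W / Y` by conjugation -/
abbrev conjAct {C W Y : Subgroup G} (hW : C ≤ normalizer (W : Set G)) (hY : C ≤ normalizer (Y : Set G))
    [(Y.subgroupOf W).Normal] : MulDistribMulAction C (W ⧸ Y.subgroupOf W) :=
  let f : C → (W →* W) := fun g =>
    { toFun := fun x => ⟨(g : G) * x * (g : G)⁻¹, (mem_normalizer_iff.1 (hW g.2) x).1 x.2⟩
      map_one' := Subtype.ext (by simp)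
      map_mul' := fun x y => Subtype.ext (by
        change (g : G) * ((x : G) * y) * (g : G)⁻¹ = (g : G) * x * (g : G)⁻¹ * ((g : G) * y * (g : G)⁻¹)
        group) }
  { smul := fun g => QuotientGroup.map (Y.subgroupOf W) (Y.subgroupOf W) (f g) fun x hx =>
      (mem_normalizer_iff.1 (hY g.2) x).1 hx
    one_smul := by
      rintro ⟨x⟩
      refine congrArg (QuotientGroup.mk (s := Y.subgroupOf W)) (Subtype.ext ?_)
      change (1 : G) * (x : G) * (1 : G)⁻¹ = x
      group
    mul_smul := by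
      rintro g k ⟨x⟩
      refine congrArg (QuotientGroup.mk (s := Y.subgroupOf W)) (Subtype.ext ?_)
      change ((g : G) * k) * (x : G) * ((g : G) * k)⁻¹ = (g : G) * ((k : G) * x * (k : G)⁻¹) * (g : G)⁻¹
      group
    smul_mul := fun g x y => map_mul (QuotientGroup.map _ _ (f g) _) x y
    smul_one := fun g => map_one (QuotientGroup.map _ _ (f g) _) }

/-- the data of (ML) for the subgroup `C` of `G` acting on the section `W / Y` -/
structure GDat (C W Y T Q A : Subgroup G) (w : G) : Prop where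
  nW : C ≤ normalizer (W : Set G)
  nY : C ≤ normalizer (Y : Set G)
  YW : Y ≤ W
  WY : W ≤ normalizer (Y : Set G)
  sq : ∀ x ∈ W, x * x ∈ Y
  mem : w ∈ W
  /-- `W = ⟨w^C⟩ Y` -/
  gen : ∀ U : Subgroup G, w ∈ U → Y ≤ U → C ≤ normalizer (U : Set G) → W ≤ U
  TC : T ≤ C
  two : IsPGroup 2 T
  odd : ¬ 2 ∣ T.relIndex C
  fixT : ∀ t ∈ T, t * w * t⁻¹ * w⁻¹ ∈ Y
  QC : Q ≤ C
  Q2 : IsPGroup 2 Q
  fixQ : ∀ q ∈ Q, q * w * q⁻¹ * w⁻¹ ∈ Y
  nrmQ : ∀ g ∈ C, g * w * g⁻¹ * w⁻¹ ∈ Y → ∀ q ∈ Q, g * q * g⁻¹ ∈ Q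
  AQ : A ≤ Q
  Asq : ∀ a ∈ A, ∀ x ∈ W, a * (a * x * a⁻¹) * a⁻¹ * x⁻¹ ∈ Y

/-- **(ML) for subgroups**: `KA = C_A(W/Y)`, `CW / Y = C_{W/Y}(A)` -/
theorem MLK.grp [Finite G] (h : MLK.{u, u}) {C W Y T Q A : Subgroup G} {w : G} (hK : IsKGroup C)
    (D : GDat C W Y T Q A w) {KA CW : Subgroup G}
    (hKA : ∀ a, a ∈ KA ↔ a ∈ A ∧ ∀ x ∈ W, a * x * a⁻¹ * x⁻¹ ∈ Y)
    (hCW : ∀ x, x ∈ CW ↔ x ∈ W ∧ ∀ a ∈ A, a * x * a⁻¹ * x⁻¹ ∈ Y) :
    KA.relIndex A ≤ CW.relIndex W := by
  have hN : (Y.subgroupOf W).Normal := normal_subgroupOf_of_le_normalizer D.WY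
  let _ := conjAct D.nW D.nY
  set V := W ⧸ Y.subgroupOf W with hV
  let mk : W →* V := QuotientGroup.mk' (Y.subgroupOf W)
  have hmk : Function.Surjective mk := QuotientGroup.mk'_surjective _
  have hsm : ∀ (g : C) (x : W) (hx : (g : G) * x * (g : G)⁻¹ ∈ W), g • mk x = mk ⟨(g : G) * x * (g : G)⁻¹, hx⟩ :=
    fun _ _ _ => rfl
  have hmem : ∀ (g : C) (x : W), (g : G) * x * (g : G)⁻¹ ∈ W := fun g x =>
    (mem_normalizer_iff.1 (D.nW g.2) x).1 x.2
  have hone : ∀ x y : W, mk x = mk y ↔ (x : G) * (y : G)⁻¹ ∈ Y := by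
    intro x y
    rw [← mul_inv_eq_one, ← map_inv, ← map_mul, ← MonoidHom.mem_ker, QuotientGroup.ker_mk']
    exact Iff.rfl
  have hfix : ∀ (g : C) (x : W), g • mk x = mk x ↔ (g : G) * x * (g : G)⁻¹ * (x : G)⁻¹ ∈ Y := by
    intro g x
    rw [hsm g x (hmem g x), hone]
  have hAC : A ≤ C := D.AQ.trans D.QC
  set z : V := mk ⟨w, D.mem⟩ with hz
  have hD : Dat (C := C) (V := V) (T.subgroupOf C) (Q.subgroupOf C) (A.subgroupOf C) z := by
    refine ⟨?_, D.two.of_equiv (subgroupOfEquivOfLe D.TC).symm, D.odd, ?_, ?_, ?_, ?_, ?_, ?_⟩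
    · intro v
      obtain ⟨x, rfl⟩ := hmk v
      rw [← map_mul, ← map_one mk, hone]
      simpa using D.sq x x.2
    · intro t ht
      exact (hfix t _).2 (D.fixT _ ht)
    · intro q hq
      obtain ⟨n, hn⟩ := D.Q2 ⟨q, hq⟩
      refine ⟨n, fun v => ?_⟩
      have h2 : (q : G) ^ 2 ^ n = 1 := congrArg Subtype.val hn
      have h1 : q ^ 2 ^ n = 1 := Subtype.ext h2
      rw [h1, one_smul]
    · intro q hq
      exact (hfix q _).2 (D.fixQ _ hq)
    · intro g hg q hq
      exact ⟨g * q * g⁻¹, D.nrmQ g g.2 ((hfix g _).1 hg) q hq, fun _ => rfl⟩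
    · intro a ha
      exact ⟨a, D.AQ ha, fun _ => rfl⟩
    · intro a ha v
      obtain ⟨x, rfl⟩ := hmk v
      rw [hsm a x (hmem a x), hsm a _ (hmem a ⟨_, hmem a x⟩), hone]
      exact D.Asq a ha x x.2
  have key := h.act hK hD
  -- the orbit of `z` generates
  have hgen : orb (⊤ : Subgroup C) z = ⊤ := by
    set U : Subgroup G := ((orb (⊤ : Subgroup C) z).comap mk).map W.subtype with hU
    have hUmem : ∀ x : W, (x : G) ∈ U ↔ mk x ∈ orb (⊤ : Subgroup C) z := by
      intro x
      constructor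
      · rintro ⟨y, hy, hyx⟩
        rw [← (Subtype.ext hyx : y = x)]
        exact hy
      · exact fun hx => ⟨x, hx, rfl⟩
    have h1 : W ≤ U := by
      refine D.gen U ((hUmem ⟨w, D.mem⟩).2 (mem_orb_self _ z)) ?_ ?_
      · intro y hy
        refine (hUmem ⟨y, D.YW hy⟩).2 ?_
        have h2 : mk ⟨y, D.YW hy⟩ = 1 := by
          rw [← map_one mk, hone]
          simpa using hy
        rw [h2]
        exact one_mem _
      · refine le_normalizer_of fun g hg x hx => ?_
        obtain ⟨y, hy, rfl⟩ := hx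
        have h2 := smul_mem_orb (g := (⟨g, hg⟩ : C)) (mem_top _) hy
        rw [hsm ⟨g, hg⟩ y (hmem ⟨g, hg⟩ y)] at h2
        exact (hUmem ⟨_, hmem ⟨g, hg⟩ y⟩).2 h2
    rw [eq_top_iff]
    intro v _
    obtain ⟨x, rfl⟩ := hmk v
    exact (hUmem x).1 (h1 x.2)
  rw [hgen, relIndex_top_right] at key
  have e1 : KA.relIndex A = (fxr C (⊤ : Subgroup V)).relIndex (A.subgroupOf C) := by
    rw [← relIndex_subgroupOf hAC, ← inf_relIndex_right (fxr C (⊤ : Subgroup V))]
    congr 1
    ext x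
    rw [mem_inf, mem_subgroupOf, mem_subgroupOf, hKA]
    constructor
    · rintro ⟨h1, h2⟩
      refine ⟨fun v _ => ?_, h1⟩
      obtain ⟨y, rfl⟩ := hmk v
      exact (hfix x y).2 (h2 y y.2)
    · rintro ⟨h1, h2⟩
      exact ⟨h2, fun y hy => (hfix x ⟨y, hy⟩).1 (h1 _ (mem_top _))⟩
  have e2 : CW.relIndex W = (cv V (A.subgroupOf C : Set C)).index := by
    rw [← index_comap_of_surjective _ hmk, relIndex]
    congr 1
    ext x
    rw [mem_subgroupOf, hCW, mem_comap]
    constructor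
    · rintro ⟨-, h2⟩ a ha
      exact (hfix a x).2 (h2 a ha)
    · intro h1
      exact ⟨x.2, fun a ha => (hfix ⟨a, hAC ha⟩ x).1 (h1 ⟨a, hAC ha⟩ ha)⟩
  rw [e1, e2]
  exact key

end grp

end Cfsg.Agent.Omega.ML.Final
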