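import Cfsg.Agent.Omega.ML.MinOut

/-!
# (ML): the module of a minimal counterexample is irreducible (#15719 (2), #16000 (1), (5)); K-free

For `h : Fr K p H M T Q A z`:

* `Fr.fix_eq_one` : `C_M(H) = 1`;  `Fr.irred` : `M` is irreducible;
* `Fr.point` : every `T`-fixed `z' ≠ 1` gives a frame (with `Q' = O₂(C_H(z'))`), same `A`;
* `Fr.le_o2_cent` : `A ≤ O₂(C_H(B))` for every hyperplane `B` of `A`;
* `Fr.odd_comm` : `A` centralises every subgroup of odd order which it normalises.
-/

set_option autoImplicit false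

namespace Cfsg.Agent.Omega.ML.MinFrame

open Subgroup Cfsg Cfsg.Agent.ClassTwoFusion.Quad Cfsg.Agent.Omega.NOThree.NoOver Cfsg.Agent.Omega.ML.CD
open Cfsg.Agent.ZN Cfsg.Agent.MinSimple.VModule

universe u v

section Mod

variable {H : Type*} [Group H] {M : Type*} [Group M] [MulDistribMulAction H M]

/-- a 2-group has fixed points on invariant subgroups of `M` -/
theorem exists_fixed [Finite M] (sq : ∀ m : M, m * m = 1) {B : Subgroup H} (hB : IsPGroup 2 B) {W : Subgroup M}
    (hW : W ≠ ⊥) (hWB : ∀ b ∈ B, ∀ x ∈ W, b • x ∈ W) : ∃ w ∈ W, w ≠ 1 ∧ ∀ b ∈ B, b • w = w := by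
  let _ : MulAction B W :=
    { smul := fun b x => ⟨(b : H) • (x : M), hWB b b.2 x x.2⟩
      one_smul := fun x => Subtype.ext (one_smul H (x : M))
      mul_smul := fun b c x => Subtype.ext (mul_smul (b : H) (c : H) (x : M)) }
  have hcard : 2 ∣ Nat.card W := by
    have h1 : IsPGroup 2 W := fun x => ⟨1, by
      rw [pow_one, pow_two]
      exact Subtype.ext (sq x)⟩
    have : Nontrivial W := (Subgroup.nontrivial_iff_ne_bot _).2 hW
    obtain ⟨k, hk⟩ := IsPGroup.iff_card.1 h1
    rw [hk]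
    refine dvd_pow_self 2 ?_
    rintro rfl
    have h2 : 1 < Nat.card W := Finite.one_lt_card
    rw [hk, pow_zero] at h2
    omega
  have : Fact (Nat.Prime 2) := ⟨Nat.prime_two⟩
  obtain ⟨b, hb1, hb2⟩ := hB.exists_fixed_point_of_prime_dvd_card_of_fixed_point (α := W) hcard (a := 1)
    (fun b => Subtype.ext (smul_one (b : H)))
  exact ⟨b, b.2, fun h => hb2 (Subtype.ext h.symm), fun c hc => congrArg Subtype.val (hb1 ⟨c, hc⟩)⟩

theorem le_fxr_of_strict [Finite H] [Finite M] {B : Subgroup H} (hB : Strict (fab M 1 1) B) {W : Subgroup M}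
    (h : (fxr H W).relIndex B ≤ (cv M (B : Set H)).relIndex W) : B ≤ fxr H W := by
  by_contra hc
  have hlt : B ⊓ fxr H W < B := lt_of_le_of_ne inf_le_left fun h3 => hc (inf_eq_left.1 h3)
  have h3 := relIndex_lt_of_moves hB (W := W) hlt (cv_inf_eq_iff.2 inf_le_right)
  rw [pow_one, pow_one, inf_relIndex_left] at h3
  omega

/-- the action on the quotient by an invariant normal subgroup -/
@[reducible] def modAct (N : Subgroup M) [N.Normal] (hN : ∀ g : H, ∀ m ∈ N, g • m ∈ N) :
    MulDistribMulAction H (M ⧸ N) where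
  smul g := QuotientGroup.map N N (MulDistribMulAction.toMonoidHom M g) (fun m hm => hN g m hm)
  one_smul x := by
    obtain ⟨m, rfl⟩ := QuotientGroup.mk_surjective x
    exact congrArg _ (one_smul H m)
  mul_smul g k x := by
    obtain ⟨m, rfl⟩ := QuotientGroup.mk_surjective x
    exact congrArg _ (mul_smul g k m)
  smul_mul g x y := map_mul _ x y
  smul_one g := map_one _

end Mod

/-- `B ⟨x⟩` -/
def adj {H : Type*} [Group H] (B : Subgroup H) (x : H) (hx : x * x = 1) (hc : ∀ b ∈ B, x * b = b * x) :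
    Subgroup H where
  carrier := {y | y ∈ B ∨ y * x ∈ B}
  one_mem' := Or.inl B.one_mem
  mul_mem' := by
    rintro y w (hy | hy) (hw | hw)
    · exact Or.inl (B.mul_mem hy hw)
    · right
      rw [mul_assoc]
      exact B.mul_mem hy hw
    · right
      rw [mul_assoc, ← hc w hw, ← mul_assoc]
      exact B.mul_mem hy hw
    · left
      have h1 : y * w = y * x * (w * x) := by
        rw [mul_assoc y x, hc _ hw, mul_assoc w x x, hx, mul_one]
      rw [h1]
      exact B.mul_mem hy hw
  inv_mem' := by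
    rintro y (hy | hy)
    · exact Or.inl (B.inv_mem hy)
    · right
      have h1 : (y * x)⁻¹ ∈ B := B.inv_mem hy
      have h2 : x⁻¹ = x := inv_eq_of_mul_eq_one_right hx
      rw [mul_inv_rev, h2] at h1
      have h3 := hc _ h1
      rw [← mul_assoc, hx, one_mul] at h3
      have h4 : y⁻¹ * x = x * y⁻¹ := by
        calc y⁻¹ * x = x * y⁻¹ * x * x := by rw [← h3]
          _ = x * y⁻¹ := by rw [mul_assoc, hx, mul_one]
      rw [h4]
      exact h1

theorem mem_adj {H : Type*} [Group H] {B : Subgroup H} {x : H} {hx : x * x = 1} {hc : ∀ b ∈ B, x * b = b * x}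
    {y : H} : y ∈ adj B x hx hc ↔ y ∈ B ∨ y * x ∈ B := Iff.rfl

namespace Fr

variable {K : Frame.Cls.{u}} {p : Prop} {H : Type u} [Group H] [Finite H] {M : Type v} [Group M] [Finite M]
  [MulDistribMulAction H M] {T Q A : Subgroup H} {z : M}

/-- a `T`-fixed vector which does not generate `M` is fixed by `H` -/
theorem fixed_of_orb_ne (h : Fr K p H M T Q A z) {z' : M} (hz : ∀ t ∈ T, t • z' = z')
    (hne : orb (⊤ : Subgroup H) z' ≠ ⊤) : ∀ g : H, g • z' = z' := by
  by_contra hc
  have hR : MulAction.stabilizer H z' ≠ ⊤ := fun h1 => hc fun g => by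
    have : g ∈ MulAction.stabilizer H z' := by rw [h1]; exact mem_top g
    exact this
  have hT : T ≤ MulAction.stabilizer H z' := fun t ht => hz t ht
  have hA := h.le_o2 hT hR
  have hinv : ∀ g : H, ∀ u ∈ orb (⊤ : Subgroup H) z', g • u ∈ orb (⊤ : Subgroup H) z' :=
    fun g u hu => smul_mem_orb (mem_top g) hu
  have hlt : Nat.card (orb (⊤ : Subgroup H) z') < Nat.card M := by
    have h1 : orb (⊤ : Subgroup H) z' < ⊤ := lt_top_iff_ne_top.2 hne
    have h2 := Set.ncard_lt_ncard (SetLike.coe_ssubset_coe.2 h1) (Set.toFinite _)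
    rwa [coe_top, Set.ncard_univ, ← Nat.card_coe_set_eq] at h2
  let _ := subAct (orb (⊤ : Subgroup H) z') hinv
  have h2 := rel_sub (p := p) (orb (⊤ : Subgroup H) z') hinv (h.ind H (orb (⊤ : Subgroup H) z') h.KH
    (fun x => Subtype.ext (h.sq x)) (Or.inr ⟨rfl, hlt⟩))
  have h3 := h2 T (o2 (MulAction.stabilizer H z')) A z' (mem_orb_self _ z') h.two le_top
    (by rw [relIndex_top_right]; exact h.odd) hz (o2_isPGroup _) le_top (fun q hq => o2_le _ hq)
    (fun g _ hg q hq => conj_mem_of_le (le_normalizer_o2 _) hg hq) hA h.Asq h.nrmA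
  have h4 := le_fxr_of_strict h.strict h3
  have h5 := h.eq_top_of_normal (fxr_normal hinv) h4
  apply hc
  intro g
  have h6 : g ∈ fxr H (orb (⊤ : Subgroup H) z') := by rw [h5]; exact mem_top g
  exact h6 z' (mem_orb_self _ z')

omit [Finite M] in
theorem nontriv (h : Fr K p H M T Q A z) : ¬ IsPGroup 2 (⊤ : Subgroup H) := fun h1 => by
  have h2 := h.o2_eq_bot (N := ⊤) inferInstance h1
  exact h.ne (le_bot_iff.1 (h2 ▸ (le_top : A ≤ ⊤)))

/-- `C_M(H) = 1` -/
theorem fix_eq_one (h : Fr K p H M T Q A z) {m : M} (hm : ∀ g : H, g • m = m) : m = 1 := by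
  have hM := comm_of_sq h.sq
  let M0 : Subgroup M := cv M (Set.univ : Set H)
  have hM0 : ∀ {x : M}, x ∈ M0 ↔ ∀ g : H, g • x = x := ⟨fun h1 g => h1 g (Set.mem_univ g), fun h1 g _ => h1 g⟩
  by_contra hne
  have hb : M0 ≠ ⊥ := fun h1 => hne (mem_bot.1 (h1 ▸ hM0.2 hm))
  have hnor : M0.Normal := ⟨fun x hx g => by rw [hM g x, mul_inv_cancel_right]; exact hx⟩
  have hinv : ∀ g : H, ∀ x ∈ M0, g • x ∈ M0 := fun g x hx => by rwa [hM0.1 hx g]
  let _ := modAct (H := H) M0 hinv
  have hsm : ∀ (g : H) (x : M), g • (QuotientGroup.mk x : M ⧸ M0) = QuotientGroup.mk (g • x) := fun _ _ => rfl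
  have hinvM : ∀ x : M, x⁻¹ = x := fun x => inv_eq_of_mul_eq_one_right (h.sq x)
  have hmk : ∀ x y : M, (QuotientGroup.mk x : M ⧸ M0) = QuotientGroup.mk y ↔ x * y ∈ M0 := by
    intro x y
    rw [QuotientGroup.eq, hinvM]
  -- elements acting trivially on `M / M₀`
  have hsq2 : ∀ g : H, (∀ x : M, g • x * x ∈ M0) → g * g = 1 := by
    intro g hg
    apply h.faithful
    intro x
    have h1 := hM0.1 (hg x) g
    rw [smul_mul', ← mul_smul] at h1
    exact mul_right_cancel (h1.trans (hM _ _))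
  have hlt : Nat.card (M ⧸ M0) < Nat.card M := by
    have h1 := Subgroup.card_mul_index M0
    have h2 : 1 < Nat.card M0 := (Subgroup.one_lt_card_iff_ne_bot _).2 hb
    have h3 : 0 < M0.index := Nat.pos_of_ne_zero index_ne_zero_of_finite
    have h4 : M0.index = Nat.card (M ⧸ M0) := rfl
    rw [← h4, ← h1]
    nlinarith
  have key := h.ind H (M ⧸ M0) h.KH (fun x => by
    obtain ⟨y, rfl⟩ := QuotientGroup.mk_surjective x
    rw [← QuotientGroup.mk_mul, h.sq]
    rfl) (Or.inr ⟨rfl, hlt⟩)
  set zb : M ⧸ M0 := QuotientGroup.mk z with hzb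
  have hTR : T ≤ MulAction.stabilizer H zb := fun t ht => by
    change t • zb = zb
    rw [hzb, hsm, h.fixT t ht]
  -- the orbit of `zb` generates
  have hgen : ∀ x : M, (QuotientGroup.mk x : M ⧸ M0) ∈ orb (⊤ : Subgroup H) zb := by
    intro x
    have h1 : orb (⊤ : Subgroup H) z ≤ (orb (⊤ : Subgroup H) zb).comap (QuotientGroup.mk' M0) :=
      orb_le fun g _ => smul_mem_orb_self (mem_top g)
    rw [h.gen] at h1
    exact h1 (mem_top x)
  have hR : MulAction.stabilizer H zb ≠ ⊤ := by
    intro h1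
    have h2 : ∀ g : H, g • z * z ∈ M0 := by
      intro g
      have h3 : g ∈ MulAction.stabilizer H zb := by rw [h1]; exact mem_top g
      have h4 : g • zb = zb := h3
      rw [hzb, hsm, hmk] at h4
      exact h4
    have h3 : ∀ g : H, ∀ x : M, g • x * x ∈ M0 := by
      intro g
      let W : Subgroup M :=
        { carrier := {x | g • x * x ∈ M0}
          one_mem' := by
            change g • (1 : M) * 1 ∈ M0
            rw [smul_one, mul_one]; exact one_mem _
          mul_mem' := fun {x y} hx hy => by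
            change g • (x * y) * (x * y) ∈ M0
            have e : g • (x * y) * (x * y) = (g • x * x) * (g • y * y) := by
              rw [smul_mul', mul_assoc, mul_assoc, ← mul_assoc (g • y) x y, hM (g • y) x, mul_assoc x (g • y) y]
            rw [e]
            exact mul_mem hx hy
          inv_mem' := fun {x} hx => by
            rw [hinvM]
            exact hx }
      have hW : orb (⊤ : Subgroup H) z ≤ W := by
        refine orb_le fun k _ => ?_
        change g • k • z * (k • z) ∈ M0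
        have e : g • k • z * (k • z) = ((g * k) • z * z) * (k • z * z) := by
          rw [mul_smul, mul_assoc, hM (k • z) z, ← mul_assoc z z, h.sq, one_mul]
        rw [e]
        exact mul_mem (h2 _) (h2 _)
      rw [h.gen] at hW
      exact fun x => hW (mem_top x)
    exact h.nontriv fun g => ⟨1, by
      rw [pow_one, pow_two]
      exact Subtype.ext (hsq2 g (h3 g))⟩
  have hA := h.le_o2 hTR hR
  have h1 := key T (o2 (MulAction.stabilizer H zb)) A zb (mem_top _) h.two le_top
    (by rw [relIndex_top_right]; exact h.odd) (fun t ht => hTR ht) (o2_isPGroup _) le_top (fun q hq => o2_le _ hq)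
    (fun g _ hg q hq => conj_mem_of_le (le_normalizer_o2 _) hg hq) hA h.Asq h.nrmA
  have htop : orb (⊤ : Subgroup H) zb = ⊤ := by
    rw [eq_top_iff]
    intro x _
    obtain ⟨y, rfl⟩ := QuotientGroup.mk_surjective x
    exact hgen y
  have hf : fxr H (⊤ : Subgroup (M ⧸ M0)) = ⊥ := by
    apply h.o2_eq_bot (fxr_normal fun _ _ _ => mem_top _)
    intro g
    refine ⟨1, ?_⟩
    rw [pow_one, pow_two]
    refine Subtype.ext (hsq2 g fun x => ?_)
    have h2 := g.2 (QuotientGroup.mk x) (mem_top _)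
    rw [hsm, hmk] at h2
    exact h2
  rw [htop, hf, relIndex_bot_left, relIndex_top_right] at h1
  have h2 : (cv (M ⧸ M0) (A : Set H)).index ≤ (cv M (A : Set H)).index := by
    have h3 : (cv M (A : Set H)) ≤ (cv (M ⧸ M0) (A : Set H)).comap (QuotientGroup.mk' M0) := by
      intro x hx a ha
      change a • (QuotientGroup.mk x : M ⧸ M0) = QuotientGroup.mk x
      rw [hsm, hx a ha]
    have h4 := index_antitone h3
    rwa [index_comap_of_surjective _ (QuotientGroup.mk'_surjective M0)] at h4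
  have h3 := h.strict ⊥ (bot_lt_iff_ne_bot.2 h.ne)
  rw [fab_lt_iff bot_le, pow_one, pow_one, relIndex_bot_left, cv_bot, relIndex_top_right] at h3
  omega

/-- **`M` is irreducible** -/
theorem irred (h : Fr K p H M T Q A z) {W : Subgroup M} (hW : ∀ g : H, ∀ m ∈ W, g • m ∈ W) : W = ⊥ ∨ W = ⊤ := by
  by_contra hc
  push Not at hc
  obtain ⟨w, hw, hw1, hwT⟩ := exists_fixed h.sq h.two hc.1 (fun b _ x hx => hW b x hx)
  have h1 : orb (⊤ : Subgroup H) w ≠ ⊤ := fun h2 => hc.2 (top_le_iff.1 (h2 ▸ orb_le fun g _ => hW g w hw))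
  exact hw1 (h.fix_eq_one (h.fixed_of_orb_ne hwT h1))

theorem stab_ne_top (h : Fr K p H M T Q A z) {z' : M} (hz : z' ≠ 1) : MulAction.stabilizer H z' ≠ ⊤ := fun h1 =>
  hz (h.fix_eq_one fun g => by
    have : g ∈ MulAction.stabilizer H z' := by rw [h1]; exact mem_top g
    exact this)

/-- every `T`-fixed vector `≠ 1` gives a frame, with the same `A` -/
theorem point (h : Fr K p H M T Q A z) {z' : M} (hz : z' ≠ 1) (hT : ∀ t ∈ T, t • z' = z') :
    Fr K p H M T (o2 (MulAction.stabilizer H z')) A z' where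
  ind := h.ind
  sec := h.sec
  KH := h.KH
  sq := h.sq
  two := h.two
  odd := h.odd
  fixT := hT
  Q2 := o2_isPGroup _
  fixQ := fun q hq => o2_le _ hq
  nrmQ := fun g hg q hq => conj_mem_of_le (le_normalizer_o2 _) hg hq
  AQ := h.le_o2 (fun t ht => hT t ht) (h.stab_ne_top hz)
  Asq := h.Asq
  nrmA := h.nrmA
  strict := h.strict
  ne := h.ne
  faithful := h.faithful
  gen := by
    refine (h.irred fun g m hm => smul_mem_orb (mem_top g) hm).resolve_left fun h1 => hz ?_
    exact mem_bot.1 (h1 ▸ mem_orb_self (⊤ : Subgroup H) z')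

omit [Finite H] [Finite M] in
theorem A_comm (h : Fr K p H M T Q A z) {a b : H} (ha : a ∈ A) (hb : b ∈ A) : a * b = b * a := by
  have h1 := h.Asq _ (A.mul_mem ha hb)
  have h2 : a⁻¹ = a := inv_eq_of_mul_eq_one_right (h.Asq a ha)
  have h3 : b⁻¹ = b := inv_eq_of_mul_eq_one_right (h.Asq b hb)
  calc a * b = (a * b)⁻¹ := (inv_eq_of_mul_eq_one_right h1).symm
    _ = b⁻¹ * a⁻¹ := mul_inv_rev a b
    _ = b * a := by rw [h2, h3]

omit [Finite H] in
/-- an odd order element commuting with the hyperplane `B` and centralising `C_M(B)` is trivial -/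
theorem eq_one_of_hyp (h : Fr K p H M T Q A z) {B : Subgroup H} (hB : B ≤ A) {e : H} {n : ℕ} (hn : Odd n)
    (he : e ^ n = 1) (hcom : ∀ b ∈ B, b * e = e * b) (hc : ∀ m ∈ cv M (B : Set H), e • m = m) : e = 1 :=
  h.faithful e fun m => axb h.sq (h.Q2.to_le (hB.trans h.AQ)) hn he hcom hc m

/-- **`A ≤ O₂(C_H(B))`** for the hyperplanes `B` of `A`. -/
theorem le_o2_cent (h : Fr K p H M T Q A z) {B : Subgroup H} (hB : B ≤ A) (h2 : B.relIndex A = 2) :
    A ≤ o2 (centralizer (B : Set H)) := by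
  have hcv := cv_le_of_hyp h.strict hB h2
  have hinv : ∀ g ∈ centralizer (B : Set H), ∀ m ∈ cv M (B : Set H), g • m ∈ cv M (B : Set H) := by
    intro g hg m hm b hb
    rw [← mul_smul, mem_centralizer_iff.1 hg b hb, mul_smul, hm b hb]
  have h3 : centralizer (B : Set H) ⊓ fxr H (cv M (B : Set H)) ≤ o2 (centralizer (B : Set H)) := by
    refine Cfsg.Agent.MinSimple.VModule.le_o2 inf_le_left ?_ (le_normalizer_of fun g hg x hx => ⟨?_, ?_⟩)
    · intro x
      obtain ⟨k, n, hn, hkn⟩ := Nat.exists_eq_two_pow_mul_odd (orderOf_pos (x : H)).ne'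
      refine ⟨k, Subtype.ext ?_⟩
      have h5 : ((x : H) ^ 2 ^ k) ^ n = 1 := by rw [← pow_mul, ← hkn, pow_orderOf_eq_one]
      have h6 : (x : H) ^ 2 ^ k ∈ centralizer (B : Set H) ⊓ fxr H (cv M (B : Set H)) := Subgroup.pow_mem _ x.2 _
      exact h.eq_one_of_hyp hB hn h5 (fun b hb => mem_centralizer_iff.1 h6.1 b hb) h6.2
    · exact Subgroup.mul_mem _ (Subgroup.mul_mem _ hg hx.1) (Subgroup.inv_mem _ hg)
    · exact conj_mem_fxr hinv hg hx.2
  refine le_trans (le_inf ?_ ?_) h3
  · exact fun a ha => mem_centralizer_iff.2 fun b hb => h.A_comm (hB hb) ha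
  · exact fun a ha m hm => hcv hm a ha

/-- **`A` centralises the subgroups of odd order which it normalises.** -/
theorem odd_comm (h : Fr K p H M T Q A z) {O : Subgroup H} (hO : Odd (Nat.card O))
    (hn : ∀ a ∈ A, ∀ x ∈ O, a * x * a⁻¹ ∈ O) {a x : H} (ha : a ∈ A) (hx : x ∈ O) : a * x = x * a := by
  -- hyperplanes
  have hyp : ∀ B ≤ A, B.relIndex A = 2 → O ⊓ centralizer (B : Set H) ≤ centralizer (A : Set H) := by
    rintro B hB h2 x ⟨hx, hxB⟩
    rw [mem_centralizer_iff]
    intro a ha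
    have hcv := cv_le_of_hyp h.strict hB h2
    have haB : ∀ b ∈ B, a * b = b * a := fun b hb => h.A_comm ha (hB hb)
    have h3 : x⁻¹ * (a * x * a⁻¹) ∈ O := O.mul_mem (O.inv_mem hx) (hn a ha x hx)
    have h4 : (x⁻¹ * (a * x * a⁻¹)) ^ Nat.card O = 1 := by
      have h5 : (⟨_, h3⟩ : O) ^ Nat.card O = 1 := pow_card_eq_one'
      exact congrArg Subtype.val h5
    have hxB' : ∀ b ∈ B, b * x = x * b := fun b hb => mem_centralizer_iff.1 hxB b hb
    have h5 : x⁻¹ * (a * x * a⁻¹) = 1 := by
      refine h.eq_one_of_hyp hB hO h4 (fun b hb => ?_) (fun m hm => ?_)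
      · have c1 : Commute b x := hxB' b hb
        have c2 : Commute b a := (haB b hb).symm
        exact (c1.inv_right.mul_right ((c2.mul_right c1).mul_right c2.inv_right)).eq
      · have hxm : x • m ∈ cv M (B : Set H) := by
          intro b hb
          rw [← mul_smul, hxB' b hb, mul_smul, hm b hb]
        rw [mul_smul, mul_smul, mul_smul, hcv hm a⁻¹ (A.inv_mem ha), hcv hxm a ha, inv_smul_smul]
    have h6 : a * x * a⁻¹ = x := by
      rw [inv_mul_eq_one] at h5
      exact h5.symm
    rw [mul_inv_eq_iff_eq_mul] at h6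
    exact h6
  -- all proper subgroups
  have main : ∀ B : Subgroup H, B < A → O ⊓ centralizer (B : Set H) ≤ centralizer (A : Set H) := by
    intro B
    induction B using WellFoundedGT.induction with
    | ind B ih =>
      intro hB
      by_cases h2 : B.relIndex A = 2
      · exact hyp B hB.le h2
      have hBc : ∀ x ∈ A, ∀ b ∈ B, x * b = b * x := fun x hx b hb => h.A_comm hx (hB.le hb)
      have hstep : ∀ x, ∀ hx : x ∈ A, x ∉ B →
          B < adj B x (h.Asq x hx) (hBc x hx) ∧ adj B x (h.Asq x hx) (hBc x hx) < A := by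
        intro x hx hxB
        have h3 : x ∈ adj B x (h.Asq x hx) (hBc x hx) := Or.inr (by rw [h.Asq x hx]; exact B.one_mem)
        refine ⟨lt_of_le_of_ne (fun b hb => Or.inl hb) fun h4 => hxB (h4 ▸ h3), lt_of_le_of_ne ?_ fun h4 => h2 ?_⟩
        · rintro y (hy | hy)
          · exact hB.le hy
          · have h5 := A.mul_mem (hB.le hy) (A.inv_mem hx)
            rwa [mul_inv_cancel_right] at h5
        · rw [relIndex_eq_two_iff]
          refine ⟨x, hx, fun b hb => ?_⟩
          have h5 : b ∈ adj B x (h.Asq x hx) (hBc x hx) := by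
            rw [h4]
            exact hb
          by_cases h6 : b ∈ B
          · refine Or.inr ⟨h6, fun h7 => hxB ?_⟩
            have := B.mul_mem (B.inv_mem h6) h7
            rwa [inv_mul_cancel_left] at this
          · exact Or.inl ⟨(mem_adj.1 h5).resolve_left h6, h6⟩
      obtain ⟨a, haA, haB⟩ := SetLike.exists_of_lt hB
      obtain ⟨ha1, ha2⟩ := hstep a haA haB
      obtain ⟨b, hbA, hbB⟩ := SetLike.exists_of_lt ha2
      have hbB' : b ∉ B := fun h3 => hbB (Or.inl h3)
      have hab : a * b ∉ B := fun h3 => hbB (Or.inr (by rw [h.A_comm hbA haA]; exact h3))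
      obtain ⟨hb1, hb2⟩ := hstep b hbA hbB'
      obtain ⟨hc1, hc2⟩ := hstep (a * b) (A.mul_mem haA hbA) hab
      have hodd : Odd (Nat.card (O ⊓ centralizer (B : Set H) : Subgroup H)) :=
        hO.of_dvd_nat (card_dvd_of_le inf_le_left)
      have hcB : ∀ x ∈ A, ∀ y ∈ O ⊓ centralizer (B : Set H), x * y * x⁻¹ ∈ O ⊓ centralizer (B : Set H) := by
        rintro x hx y ⟨hy1, hy2⟩
        refine ⟨hn x hx y hy1, mem_centralizer_iff.2 fun c hc => ?_⟩
        have c1 : Commute c y := mem_centralizer_iff.1 hy2 c hc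
        have c2 : Commute c x := (hBc x hx c hc).symm
        exact ((c2.mul_right c1).mul_right c2.inv_right).eq
      have hcl : ∀ x, ∀ hx : x ∈ A, adj B x (h.Asq x hx) (hBc x hx) < A → B < adj B x (h.Asq x hx) (hBc x hx) →
          ∀ y ∈ O ⊓ centralizer (B : Set H), x * y = y * x → y ∈ centralizer (A : Set H) := by
        intro x hx h3 h4 y hy hxy
        refine ih _ h4 h3 ⟨hy.1, mem_centralizer_iff.2 ?_⟩
        rintro c (hc | hc)
        · exact mem_centralizer_iff.1 hy.2 c hc
        · have h5 := mem_centralizer_iff.1 hy.2 _ hc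
          have h6 : c * x * y = c * y * x := by rw [mul_assoc, hxy, ← mul_assoc]
          rw [h6] at h5
          have h7 : c * y * x = y * c * x := by rw [h5, mul_assoc]
          exact mul_right_cancel h7
      refine Lib.KleinGen.le_of_klein (O ⊓ centralizer (B : Set H)) (centralizer (A : Set H)) hodd a b
        (h.Asq a haA) (h.Asq b hbA) (h.A_comm haA hbA) (hcB a haA) (hcB b hbA) ?_ ?_ ?_
      · exact fun y hy => hcl a haA ha2 ha1 y hy.1 (mem_centralizer_iff.1 hy.2 a rfl)
      · exact fun y hy => hcl b hbA hb2 hb1 y hy.1 (mem_centralizer_iff.1 hy.2 b rfl)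
      · exact fun y hy => hcl (a * b) (A.mul_mem haA hbA) hc2 hc1 y hy.1 (mem_centralizer_iff.1 hy.2 _ rfl)
  have h0 : x ∈ centralizer ((⊥ : Subgroup H) : Set H) := by
    rw [mem_centralizer_iff]
    intro b hb
    rw [SetLike.mem_coe, mem_bot] at hb
    rw [hb, one_mul, mul_one]
  have h1 := main ⊥ (bot_lt_iff_ne_bot.2 h.ne) ⟨hx, h0⟩
  exact mem_centralizer_iff.1 h1 a ha

end Fr

end Cfsg.Agent.Omega.ML.MinFrame
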