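import Mathlib

/-!
# 2-subgroups of symmetric groups: an overgroup with small `O₂`

Used for the alternating rows of (ML) (`Omega/ML/AltRow.lean`).

* `AP Δ` : even permutations which fix every point outside `Δ`;
* `fix_of` : a 2-group preserving `Δ`, `|Δ| ≥ 5`, normalised by `AP Δ`, acts trivially on `Δ`;
* `card_le_four` : a 2-group supported on `Γ`, `|Γ| ≤ 4`, normalised by `AP Γ`, has order at most 4;
* `main` : `n ≥ 7`, `n ≠ 8`, `T ≤ S_n` a 2-group: there is `R ≥ T`, `A_n ≰ R`, such that every 2-subgroup of `R`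
  normalised by `R ∩ A_n` has order at most 4.
-/

set_option autoImplicit false

namespace Cfsg.Agent.Omega.ML.AltPerm

open Equiv Equiv.Perm Subgroup

set_option linter.unusedSectionVars false

variable {α : Type*} [DecidableEq α] [Fintype α]

/-- Even permutations which fix every point outside `Δ`. -/
def AP (Δ : Set α) (c : Perm α) : Prop := sign c = 1 ∧ ∀ x, x ∉ Δ → c x = x

/-- The 3-cycle `a → b → c → a` as a product of two transpositions. -/
def C3 (a b c : α) : Perm α := swap a b * swap b c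

theorem C3_a {a b c : α} (h1 : a ≠ b) (h2 : a ≠ c) : C3 a b c a = b := by
  simp [C3, swap_apply_of_ne_of_ne h1 h2]

theorem C3_b {a b c : α} (h2 : a ≠ c) (h3 : b ≠ c) : C3 a b c b = c := by
  simp [C3, swap_apply_of_ne_of_ne h2.symm h3.symm]

theorem C3_of_ne {a b c x : α} (h1 : x ≠ a) (h2 : x ≠ b) (h3 : x ≠ c) : C3 a b c x = x := by
  simp [C3, swap_apply_of_ne_of_ne h2 h3, swap_apply_of_ne_of_ne h1 h2]

theorem sign_C3 {a b c : α} (h1 : a ≠ b) (h3 : b ≠ c) : sign (C3 a b c) = 1 := by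
  simp [C3, sign_swap h1, sign_swap h3]

theorem three_C3 {a b c : α} (h1 : a ≠ b) (h2 : a ≠ c) (h3 : b ≠ c) : (C3 a b c).IsThreeCycle := by
  have h := isThreeCycle_swap_mul_swap_same (a := b) (b := a) (c := c) h1.symm h3 h2
  rwa [swap_comm b a] at h

theorem not_two {N : Subgroup (Perm α)} (hN : IsPGroup 2 N) {c : Perm α} (hc : c.IsThreeCycle) : c ∉ N := by
  intro h
  obtain ⟨k, hk⟩ := hN ⟨c, h⟩
  have h1 : c ^ 2 ^ k = 1 := congrArg Subtype.val hk
  have h2 := orderOf_dvd_of_pow_eq_one h1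
  rw [hc.orderOf] at h2
  have h3 := Nat.Prime.dvd_of_dvd_pow Nat.prime_three h2
  omega

theorem fix_of {Δ : Set α} (h5 : 5 ≤ Nat.card Δ) (N : Subgroup (Perm α)) (hN : IsPGroup 2 N)
    (hp : ∀ g ∈ N, ∀ x ∈ Δ, g x ∈ Δ) (hn : ∀ c, AP Δ c → ∀ g ∈ N, c * g * c⁻¹ ∈ N) :
    ∀ g ∈ N, ∀ x ∈ Δ, g x = x := by
  classical
  have : Fintype Δ := Fintype.ofFinite Δ
  have hS : IsSimpleGroup (alternatingGroup Δ) := alternatingGroup.isSimpleGroup (by simpa using h5)
  let ι : Perm Δ →* Perm α := ofSubtype (p := (· ∈ Δ))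
  have hAP : ∀ s : Perm Δ, sign s = 1 → AP Δ (ι s) := fun s hs =>
    ⟨by rw [← hs]; exact sign_ofSubtype s, fun x hx => ofSubtype_apply_of_not_mem s hx⟩
  let N' : Subgroup (alternatingGroup Δ) := N.comap (ι.comp (alternatingGroup Δ).subtype)
  have hN'n : N'.Normal := by
    refine ⟨fun n hn' s => ?_⟩
    have h1 := hn (ι s.1) (hAP s.1 (mem_alternatingGroup.1 s.2)) _ (Subgroup.mem_comap.1 hn')
    refine Subgroup.mem_comap.2 ?_
    simpa using h1
  have hbot : N' = ⊥ := by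
    rcases hS.eq_bot_or_eq_top_of_normal N' hN'n with h | h
    · exact h
    · exfalso
      have hc3 : 2 < Fintype.card Δ := by rw [← Nat.card_eq_fintype_card]; omega
      obtain ⟨a, b, c, hab, hac, hbc⟩ := Fintype.two_lt_card_iff.1 hc3
      have h1 : (⟨C3 a b c, mem_alternatingGroup.2 (sign_C3 hab hbc)⟩ : alternatingGroup Δ) ∈ N' := by
        rw [h]; trivial
      have h2 : ι (C3 a b c) ∈ N := Subgroup.mem_comap.1 h1
      obtain ⟨k, hk⟩ := hN ⟨_, h2⟩
      have h3 : ι (C3 a b c) ^ 2 ^ k = 1 := congrArg Subtype.val hk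
      rw [← map_pow] at h3
      have h4 : C3 a b c ^ 2 ^ k = 1 := ofSubtype_injective (by rw [map_one]; exact h3)
      have h5' := orderOf_dvd_of_pow_eq_one h4
      rw [(three_C3 hab hac hbc).orderOf] at h5'
      have h6 := Nat.Prime.dvd_of_dvd_pow Nat.prime_three h5'
      omega
  intro g hg x hx
  by_contra hne
  have hgp : ∀ z, g z ∈ Δ ↔ z ∈ Δ := fun z => by
    constructor
    · intro hz
      have := hp g⁻¹ (N.inv_mem hg) _ hz
      simpa using this
    · exact hp g hg z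
  have hgi : ∀ z, g⁻¹ z ∈ Δ ↔ z ∈ Δ := fun z => by
    have := hgp (g⁻¹ z)
    rw [show g (g⁻¹ z) = z from by simp] at this
    exact this.symm
  set y := g x with hy
  have hyΔ : y ∈ Δ := hp g hg x hx
  obtain ⟨u, hu, v, hv, huv⟩ : ∃ u ∈ ((Finset.univ : Finset Δ) \ {⟨x, hx⟩, ⟨y, hyΔ⟩}),
      ∃ v ∈ ((Finset.univ : Finset Δ) \ {⟨x, hx⟩, ⟨y, hyΔ⟩}), u ≠ v := by
    refine Finset.one_lt_card.1 ?_
    have h1 := Finset.le_card_sdiff ({⟨x, hx⟩, ⟨y, hyΔ⟩} : Finset Δ) (Finset.univ : Finset Δ)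
    have h2 : ({⟨x, hx⟩, ⟨y, hyΔ⟩} : Finset Δ).card ≤ 2 := Finset.card_le_two
    rw [Finset.card_univ, ← Nat.card_eq_fintype_card] at h1
    omega
  simp only [Finset.mem_sdiff, Finset.mem_univ, Finset.mem_insert, Finset.mem_singleton, true_and, not_or] at hu hv
  have hyu : (⟨y, hyΔ⟩ : Δ) ≠ u := fun h => hu.2 h.symm
  have hyv : (⟨y, hyΔ⟩ : Δ) ≠ v := fun h => hv.2 h.symm
  set c : Perm Δ := C3 ⟨y, hyΔ⟩ u v with hc
  have hcs : sign c = 1 := sign_C3 hyu huv
  have hcA := hAP c hcs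
  set w := g * ι c * g⁻¹ * (ι c)⁻¹ with hw
  have hwN : w ∈ N := by
    have h1 := hn (ι c) hcA g⁻¹ (N.inv_mem hg)
    have h2 := N.mul_mem hg h1
    have h3 : w = g * (ι c * g⁻¹ * (ι c)⁻¹) := by rw [hw]; group
    rw [h3]; exact h2
  have hws : sign w = 1 := by
    rw [hw]
    simp only [Perm.sign_mul, Perm.sign_inv, hcA.1]
    simp
  have hcfix : ∀ z, z ∉ Δ → (ι c)⁻¹ z = z := fun z hz => by
    rw [inv_eq_iff_eq]; exact (hcA.2 z hz).symm
  have hwfix : ∀ z, z ∉ Δ → w z = z := by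
    intro z hz
    have h1 : g⁻¹ z ∉ Δ := fun h => hz ((hgi z).1 h)
    rw [hw]
    simp only [Perm.mul_apply]
    rw [hcfix z hz, hcA.2 _ h1]
    simp
  have hwp : ∀ z, w z ∈ Δ ↔ z ∈ Δ := by
    intro z
    constructor
    · intro h
      by_contra hz
      rw [hwfix z hz] at h
      exact hz h
    · intro h
      by_contra hz
      have := hwfix _ hz
      have h2 := w.injective this
      rw [h2] at hz
      exact hz h
  have hwo : ι (w.subtypePerm hwp) = w := ofSubtype_subtypePerm hwp fun z hz => by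
    by_contra h
    exact hz (hwfix z h)
  have hss : sign (w.subtypePerm hwp) = 1 := by
    have h1 : sign (ι (w.subtypePerm hwp)) = sign (w.subtypePerm hwp) := sign_ofSubtype _
    rw [← h1, hwo, hws]
  have hmem : (⟨w.subtypePerm hwp, mem_alternatingGroup.2 hss⟩ : alternatingGroup Δ) ∈ N' := by
    refine Subgroup.mem_comap.2 ?_
    change ι (w.subtypePerm hwp) ∈ N
    rw [hwo]; exact hwN
  rw [hbot, Subgroup.mem_bot] at hmem
  have h1 : w.subtypePerm hwp = 1 := congrArg Subtype.val hmem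
  have h2 : w = 1 := by rw [← hwo, h1, map_one]
  have h3 : g * ι c = ι c * g := by
    have : w * ι c * g = g * ι c := by rw [hw]; group
    rw [h2, one_mul] at this
    exact this.symm
  have h4 := congrArg (fun f : Perm α => f x) h3
  simp only [Perm.mul_apply] at h4
  have h5 : ι c x = x := by
    have : ι c x = (c ⟨x, hx⟩ : Δ) := ofSubtype_apply_of_mem c hx
    rw [this, hc, C3_of_ne (fun h => hne (congrArg Subtype.val h).symm) (fun h => hu.1 h.symm)
      (fun h => hv.1 h.symm)]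
  have h6 : ι c y = u := by
    have : ι c y = (c ⟨y, hyΔ⟩ : Δ) := ofSubtype_apply_of_mem c hyΔ
    rw [this, hc, C3_a hyu hyv]
  rw [h5, ← hy, h6] at h4
  exact hyu (Subtype.ext h4)

/-! ### the small part -/

theorem dec4 : Fintype.card {x : Perm (Fin 4) // x ^ 8 = 1 ∧ ∀ a b c : Fin 4, a ≠ b → a ≠ c → b ≠ c →
    (x * (swap a b * swap b c * x * (swap a b * swap b c)⁻¹)) ^ 8 = 1} ≤ 4 := by
  decide +kernel

theorem card_le_four {Γ : Set α} (h4 : Nat.card Γ ≤ 4) (N : Subgroup (Perm α)) (hN : IsPGroup 2 N)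
    (hp : ∀ g ∈ N, ∀ x, x ∉ Γ → g x = x) (hn : ∀ c, AP Γ c → ∀ g ∈ N, c * g * c⁻¹ ∈ N) :
    Nat.card N ≤ 4 := by
  classical
  have : Fintype Γ := Fintype.ofFinite Γ
  obtain ⟨k, hk⟩ : ∃ k, Nat.card Γ = k := ⟨_, rfl⟩
  have hfin : Nonempty (Γ ≃ Fin k) := ⟨(Finite.equivFinOfCardEq hk)⟩
  obtain ⟨e⟩ := hfin
  -- the embedding
  let F : Perm (Fin k) →* Perm α := (ofSubtype (p := (· ∈ Γ))).comp (e.symm.permCongrHom.toMonoidHom)
  have hF : ∀ s : Perm (Fin k), sign s = 1 → AP Γ (F s) := by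
    intro s hs
    refine ⟨?_, fun x hx => ofSubtype_apply_of_not_mem _ hx⟩
    have h1 : sign (F s) = sign (e.symm.permCongr s) := sign_ofSubtype _
    rw [h1, sign_permCongr, hs]
  have hFi : Function.Injective F :=
    (ofSubtype_injective (p := (· ∈ Γ))).comp (e.symm.permCongrHom.injective)
  have hsur : ∀ g ∈ N, ∃ s, F s = g := by
    intro g hg
    have hgp : ∀ z, g z ∈ Γ ↔ z ∈ Γ := by
      intro z
      constructor
      · intro h
        by_contra hz
        rw [hp g hg z hz] at h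
        exact hz h
      · intro h
        by_contra hz
        have := hp g hg _ hz
        have h2 := g.injective this
        rw [h2] at hz
        exact hz h
    refine ⟨e.permCongr (g.subtypePerm hgp), ?_⟩
    have h1 : e.symm.permCongr (e.permCongr (g.subtypePerm hgp)) = g.subtypePerm hgp := by
      ext x; simp [permCongr_apply]
    change ofSubtype (e.symm.permCongr (e.permCongr (g.subtypePerm hgp))) = g
    rw [h1]
    exact ofSubtype_subtypePerm hgp fun z hz => by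
      by_contra h
      exact hz (hp g hg z h)
  let N' : Subgroup (Perm (Fin k)) := N.comap F
  have hcard : Nat.card N = Nat.card N' := by
    have h1 : N'.map F = N := by
      refine le_antisymm (Subgroup.map_comap_le _ _) fun g hg => ?_
      obtain ⟨s, hs⟩ := hsur g hg
      exact ⟨s, Subgroup.mem_comap.2 (by rw [hs]; exact hg), hs⟩
    rw [← h1]
    exact Nat.card_congr (N'.equivMapOfInjective F hFi).symm.toEquiv
  rw [hcard]
  have hN' : IsPGroup 2 N' := hN.comap_of_injective F hFi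
  rcases Nat.lt_or_ge k 4 with h | h
  · -- at most 6 permutations
    obtain ⟨m, hm⟩ := (IsPGroup.iff_card (p := 2) (G := N')).1 hN'
    have h6 : Nat.card N' ≤ 6 := by
      refine (Nat.card_le_card_of_injective _ N'.subtype_injective).trans ?_
      rw [Nat.card_eq_fintype_card, Fintype.card_perm, Fintype.card_fin]
      interval_cases k <;> decide
    rw [hm] at h6 ⊢
    have : m < 3 := by
      by_contra hc
      have := Nat.pow_le_pow_right (show 0 < 2 by norm_num) (not_lt.1 hc)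
      omega
    calc 2 ^ m ≤ 2 ^ 2 := Nat.pow_le_pow_right (by norm_num) (by omega)
      _ = 4 := by norm_num
  · have hk4 : k = 4 := by omega
    subst hk4
    have hmem : ∀ x ∈ N', x ^ 8 = 1 := by
      intro x hx
      have h1 : orderOf x ∣ Nat.card N' := by
        have := orderOf_dvd_natCard (⟨x, hx⟩ : N')
        rwa [Subgroup.orderOf_mk] at this
      obtain ⟨m, hm⟩ := (IsPGroup.iff_card (p := 2) (G := N')).1 hN'
      have h2 : orderOf x ∣ Nat.card (Perm (Fin 4)) := orderOf_dvd_natCard x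
      rw [hm] at h1
      obtain ⟨j, hj, hj2⟩ := (Nat.dvd_prime_pow Nat.prime_two).1 h1
      rw [Nat.card_eq_fintype_card, Fintype.card_perm, Fintype.card_fin, hj2] at h2
      have hj3 : j ≤ 3 := by
        by_contra hc
        have h3 : 2 ^ 4 ∣ Nat.factorial 4 := (Nat.pow_dvd_pow 2 (by omega : 4 ≤ j)).trans h2
        revert h3
        decide
      refine orderOf_dvd_iff_pow_eq_one.1 ?_
      rw [hj2]
      exact (Nat.pow_dvd_pow 2 hj3)
    have hconj : ∀ c : Perm (Fin 4), sign c = 1 → ∀ x ∈ N', c * x * c⁻¹ ∈ N' := by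
      intro c hc x hx
      refine Subgroup.mem_comap.2 ?_
      have := hn (F c) (hF c hc) (F x) (Subgroup.mem_comap.1 hx)
      simpa using this
    refine le_trans ?_ dec4
    rw [← Nat.card_eq_fintype_card]
    refine Nat.card_le_card_of_injective (fun x : N' => ⟨x.1, hmem x.1 x.2, fun a b c h1 h2 h3 => ?_⟩) ?_
    · refine hmem _ (N'.mul_mem x.2 (hconj (swap a b * swap b c) ?_ x.1 x.2))
      exact sign_C3 h1 h3
    · intro x y hxy
      have h1 : (x : Perm (Fin 4)) = y := congrArg (fun z => z.1) hxy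
      exact Subtype.ext h1

/-! ### set stabilisers -/

/-- The stabiliser of the set `Δ`. -/
def St (Δ : Set α) : Subgroup (Perm α) where
  carrier := {g | ∀ x, g x ∈ Δ ↔ x ∈ Δ}
  mul_mem' {g h} hg hh := fun x => by rw [Perm.mul_apply, hg, hh]
  one_mem' := fun _ => Iff.rfl
  inv_mem' {g} hg := fun x => by
    have := hg (g⁻¹ x)
    rw [show g (g⁻¹ x) = x from by simp] at this
    exact this.symm

theorem mem_St {Δ : Set α} {g : Perm α} : g ∈ St Δ ↔ ∀ x, g x ∈ Δ ↔ x ∈ Δ := Iff.rfl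

theorem AP_St {Δ : Set α} {c : Perm α} (h : AP Δ c) : c ∈ St Δ := by
  intro x
  constructor
  · intro hx
    by_contra hz
    rw [h.2 x hz] at hx
    exact hz hx
  · intro hx
    by_contra hz
    have h1 := h.2 _ hz
    have h2 := c.injective h1
    rw [h2] at hz
    exact hz hx

theorem St_compl {Δ : Set α} : St Δᶜ = St Δ := by
  ext g
  rw [mem_St, mem_St]
  simp only [Set.mem_compl_iff, not_iff_not]

theorem good_St {Δ : Set α} (h5 : 5 ≤ Nat.card Δ) (N : Subgroup (Perm α)) (hN : IsPGroup 2 N) (hS : N ≤ St Δ)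
    (hn : ∀ c ∈ St Δ, sign c = 1 → ∀ g ∈ N, c * g * c⁻¹ ∈ N) :
    (∀ g ∈ N, ∀ x ∈ Δ, g x = x) ∧ Nat.card N ≤ 4 := by
  have h1 : ∀ g ∈ N, ∀ x ∈ Δ, g x = x :=
    fix_of h5 N hN (fun g hg x hx => (hS hg x).2 hx) (fun c hc => hn c (AP_St hc) hc.1)
  refine ⟨h1, ?_⟩
  by_cases h : 5 ≤ Nat.card (Δᶜ : Set α)
  · have h2 : ∀ g ∈ N, ∀ x ∈ Δᶜ, g x = x :=
      fix_of h N hN (fun g hg x hx hx' => hx ((hS hg x).1 hx')) (fun c hc => hn c (St_compl (Δ := Δ) ▸ AP_St hc) hc.1)
    have h3 : N = ⊥ := by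
      rw [Subgroup.eq_bot_iff_forall]
      intro g hg
      ext x
      by_cases hx : x ∈ Δ
      · exact h1 g hg x hx
      · exact h2 g hg x hx
    rw [h3, Subgroup.card_bot]
    norm_num
  · exact card_le_four (Γ := Δᶜ) (by omega) N hN (fun g hg x hx => h1 g hg x (not_not.1 hx))
      (fun c hc => hn c (St_compl (Δ := Δ) ▸ AP_St hc) hc.1)

theorem ex_St {Δ : Set α} (h2 : 2 ≤ Nat.card Δ) (h1 : ∃ d, d ∉ Δ) : ∃ c : Perm α, sign c = 1 ∧ c ∉ St Δ := by
  classical
  obtain ⟨d, hd⟩ := h1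
  have : Finite Δ := inferInstance
  obtain ⟨a, b, hab⟩ := Finite.one_lt_card_iff_nontrivial.1 h2
  have h1 : (a : α) ≠ b := fun h => hab (Subtype.ext h)
  have h3 : (a : α) ≠ d := fun h => hd (h ▸ a.2)
  have h4 : (b : α) ≠ d := fun h => hd (h ▸ b.2)
  refine ⟨C3 a d b, sign_C3 h3 h4.symm, fun h => ?_⟩
  have := (h a).2 a.2
  rw [C3_a h3 h1] at this
  exact hd this

/-! ### blocks -/

/-- The stabiliser of the partition `{Δ, Δᶜ}`. -/
def Bl (Δ : Set α) : Subgroup (Perm α) where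
  carrier := {g | (∀ x, g x ∈ Δ ↔ x ∈ Δ) ∨ (∀ x, g x ∈ Δ ↔ x ∉ Δ)}
  mul_mem' {g h} hg hh := by
    rcases hg with hg | hg <;> rcases hh with hh | hh
    · exact Or.inl fun x => by rw [Perm.mul_apply, hg, hh]
    · exact Or.inr fun x => by rw [Perm.mul_apply, hg, hh]
    · exact Or.inr fun x => by rw [Perm.mul_apply, hg, hh]
    · exact Or.inl fun x => by rw [Perm.mul_apply, hg, hh, not_not]
  one_mem' := Or.inl fun _ => Iff.rfl
  inv_mem' {g} hg := by
    rcases hg with hg | hg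
    · refine Or.inl fun x => ?_
      have := hg (g⁻¹ x)
      rw [show g (g⁻¹ x) = x from by simp] at this
      exact this.symm
    · refine Or.inr fun x => ?_
      have := hg (g⁻¹ x)
      rw [show g (g⁻¹ x) = x from by simp] at this
      rw [this, not_not]

theorem mem_Bl {Δ : Set α} {g : Perm α} :
    g ∈ Bl Δ ↔ (∀ x, g x ∈ Δ ↔ x ∈ Δ) ∨ (∀ x, g x ∈ Δ ↔ x ∉ Δ) := Iff.rfl

theorem St_le_Bl {Δ : Set α} : St Δ ≤ Bl Δ := fun _ h => Or.inl h

theorem good_Bl {Δ : Set α} (h5 : 5 ≤ Nat.card Δ) (h5' : 5 ≤ Nat.card (Δᶜ : Set α)) (N : Subgroup (Perm α))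
    (hN : IsPGroup 2 N) (hS : N ≤ Bl Δ) (hn : ∀ c ∈ Bl Δ, sign c = 1 → ∀ g ∈ N, c * g * c⁻¹ ∈ N) :
    Nat.card N ≤ 2 := by
  have hN0 : IsPGroup 2 (N ⊓ St Δ : Subgroup (Perm α)) := hN.to_le inf_le_left
  have hn0 : ∀ c ∈ St Δ, sign c = 1 → ∀ g ∈ N ⊓ St Δ, c * g * c⁻¹ ∈ N ⊓ St Δ := fun c hc hc1 g hg =>
    ⟨hn c (St_le_Bl hc) hc1 g hg.1, (St Δ).mul_mem ((St Δ).mul_mem hc hg.2) ((St Δ).inv_mem hc)⟩
  have h1 := (good_St h5 (N ⊓ St Δ) hN0 inf_le_right hn0).1
  have h2 := (good_St (Δ := Δᶜ) h5' (N ⊓ St Δ) hN0 (by rw [St_compl]; exact inf_le_right)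
    (by rw [St_compl]; exact hn0)).1
  have h3 : ∀ g ∈ N, g ∈ St Δ → g = 1 := by
    intro g hg hg'
    ext x
    by_cases hx : x ∈ Δ
    · exact h1 g ⟨hg, hg'⟩ x hx
    · exact h2 g ⟨hg, hg'⟩ x hx
  have h4 : ∀ g ∈ N, ∀ h ∈ N, g ∉ St Δ → h ∉ St Δ → g = h := by
    intro g hg h hh hg' hh'
    have hg2 := (hS hg).resolve_left hg'
    have hh2 := (hS hh).resolve_left hh'
    have h5 : g * h⁻¹ ∈ St Δ := by
      intro x
      have e1 : h (h⁻¹ x) = x := by simp
      have e2 := hh2 (h⁻¹ x)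
      rw [e1] at e2
      rw [Perm.mul_apply, hg2, e2]
    have h6 := h3 _ (N.mul_mem hg (N.inv_mem hh)) h5
    exact mul_inv_eq_one.1 h6
  have h5 : Nat.card N ≤ Nat.card Prop := by
    refine Nat.card_le_card_of_injective (fun g : N => (g : Perm α) ∈ St Δ) ?_
    intro g h hgh
    have hgh' : ((g : Perm α) ∈ St Δ) = ((h : Perm α) ∈ St Δ) := hgh
    by_cases hg : (g : Perm α) ∈ St Δ
    · have hh : (h : Perm α) ∈ St Δ := hgh' ▸ hg
      exact Subtype.ext ((h3 _ g.2 hg).trans (h3 _ h.2 hh).symm)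
    · have hh : (h : Perm α) ∉ St Δ := hgh' ▸ hg
      exact Subtype.ext (h4 _ g.2 _ h.2 hg hh)
  refine h5.trans ?_
  rw [Nat.card_eq_fintype_card, Fintype.card_prop]

theorem ex_Bl {Δ : Set α} (h2 : 2 ≤ Nat.card Δ) (h1 : ∃ d, d ∉ Δ) : ∃ c : Perm α, sign c = 1 ∧ c ∉ Bl Δ := by
  classical
  obtain ⟨d, hd⟩ := h1
  have : Finite Δ := inferInstance
  obtain ⟨a, b, hab⟩ := Finite.one_lt_card_iff_nontrivial.1 h2
  have h1 : (a : α) ≠ b := fun h => hab (Subtype.ext h)
  have h3 : (a : α) ≠ d := fun h => hd (h ▸ a.2)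
  have h4 : (b : α) ≠ d := fun h => hd (h ▸ b.2)
  refine ⟨C3 b a d, sign_C3 h1.symm h3, fun h => ?_⟩
  rcases h with h | h
  · have := (h a).2 a.2
    rw [C3_b h4 h3] at this
    exact hd this
  · have := (h b).1 (by rw [C3_a h1.symm h4]; exact a.2)
    exact this b.2

/-! ### the overgroup -/

theorem main {n : ℕ} (h7 : 7 ≤ n) (h8 : n ≠ 8) (T : Subgroup (Perm (Fin n))) (hT : IsPGroup 2 T) :
    ∃ R : Subgroup (Perm (Fin n)), T ≤ R ∧ (∃ c, sign c = 1 ∧ c ∉ R) ∧
      ∀ N : Subgroup (Perm (Fin n)), N ≤ R → IsPGroup 2 N →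
        (∀ c ∈ R, sign c = 1 → ∀ g ∈ N, c * g * c⁻¹ ∈ N) → Nat.card N ≤ 4 := by
  classical
  -- a proper invariant set with at least five points is enough
  have key : ∀ Δ : Set (Fin n), 5 ≤ Nat.card Δ → (∃ d, d ∉ Δ) → T ≤ St Δ →
      ∃ R : Subgroup (Perm (Fin n)), T ≤ R ∧ (∃ c, sign c = 1 ∧ c ∉ R) ∧
      ∀ N : Subgroup (Perm (Fin n)), N ≤ R → IsPGroup 2 N →
        (∀ c ∈ R, sign c = 1 → ∀ g ∈ N, c * g * c⁻¹ ∈ N) → Nat.card N ≤ 4 := by
    intro Δ h5 hd hTS
    exact ⟨St Δ, hTS, ex_St (by omega) hd, fun N hN h2 hn => (good_St h5 N h2 hN hn).2⟩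
  have hadd : ∀ Δ : Set (Fin n), Nat.card Δ + Nat.card (Δᶜ : Set (Fin n)) = n := by
    intro Δ
    have h1 := Set.ncard_add_ncard_compl Δ
    rw [Nat.card_eq_fintype_card, Fintype.card_fin] at h1
    exact h1
  rcases Nat.even_or_odd n with he | ho
  · -- even degree, at least 10
    have h10 : 10 ≤ n := by
      rcases he with ⟨k, hk⟩
      omega
    have hpos : 0 < n := by omega
    set x₀ : Fin n := ⟨0, hpos⟩ with hx₀
    by_cases htr : ∀ x, ∃ h ∈ T, h x₀ = x
    · -- transitive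
      let S : Subgroup T := (MulAction.stabilizer (Perm (Fin n)) x₀).subgroupOf T
      have hSm : ∀ h : T, h ∈ S ↔ (h : Perm (Fin n)) x₀ = x₀ := fun h => by
        rw [Subgroup.mem_subgroupOf, MulAction.mem_stabilizer_iff]
        rfl
      obtain ⟨t, ht⟩ := (IsPGroup.iff_card (p := 2) (G := T)).1 hT
      obtain ⟨s, hs⟩ := (IsPGroup.iff_card (p := 2) (G := S)).1 (hT.to_subgroup S)
      have hst : s < t := by
        have h1 : Nat.card S ∣ Nat.card T := Subgroup.card_subgroup_dvd_card S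
        have h2 : Nat.card S ≤ Nat.card T := Nat.le_of_dvd Nat.card_pos h1
        rw [hs, ht] at h2
        have h3 : s ≤ t := (Nat.pow_le_pow_iff_right (by norm_num)).1 h2
        refine lt_of_le_of_ne h3 fun h => ?_
        have h4 : Nat.card S = Nat.card T := by rw [hs, ht, h]
        have h5 : S = ⊤ := Subgroup.eq_top_of_card_eq S h4
        obtain ⟨h, hh, hhx⟩ := htr ⟨1, by omega⟩
        have h6 : (⟨h, hh⟩ : T) ∈ S := by rw [h5]; trivial
        rw [hSm] at h6
        have h7 : (⟨1, by omega⟩ : Fin n) = x₀ := hhx.symm.trans h6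
        rw [hx₀, Fin.mk.injEq] at h7
        omega
      have hpt : 2 ^ (t - 1) ∣ Nat.card T := by
        rw [ht]; exact Nat.pow_dvd_pow 2 (by omega)
      obtain ⟨M, hM, hSM⟩ := Sylow.exists_subgroup_card_pow_prime_le 2 hpt S hs (by omega)
      have hMi : M.index = 2 := by
        have h1 := M.card_mul_index
        rw [hM, ht] at h1
        have h2 : 2 ^ t = 2 ^ (t - 1) * 2 := by
          rw [← pow_succ]; congr 1; omega
        rw [h2] at h1
        exact Nat.eq_of_mul_eq_mul_left (by positivity) h1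
      let Δ : Set (Fin n) := {x | ∃ m : T, m ∈ M ∧ (m : Perm (Fin n)) x₀ = x}
      have hΔ : ∀ h : T, (h : Perm (Fin n)) x₀ ∈ Δ ↔ h ∈ M := by
        intro h
        constructor
        · rintro ⟨m, hm, hmx⟩
          have h1 : m⁻¹ * h ∈ S := by
            rw [hSm]
            change ((m : Perm (Fin n))⁻¹ * (h : Perm (Fin n))) x₀ = x₀
            rw [Perm.mul_apply, ← hmx]
            simp
          have h2 := M.mul_mem hm (hSM h1)
          rwa [mul_inv_cancel_left] at h2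
        · exact fun hh => ⟨h, hh, rfl⟩
      have hgx : ∀ g : T, ∀ x, (g : Perm (Fin n)) x ∈ Δ ↔ (g ∈ M ↔ x ∈ Δ) := by
        intro g x
        obtain ⟨h, hh, hhx⟩ := htr x
        have h1 : (g : Perm (Fin n)) x = ((g * ⟨h, hh⟩ : T) : Perm (Fin n)) x₀ := by
          rw [← hhx]; rfl
        have h2 : x = ((⟨h, hh⟩ : T) : Perm (Fin n)) x₀ := hhx.symm
        rw [h1, hΔ, Subgroup.mul_mem_iff_of_index_two hMi]
        conv_rhs => rw [h2, hΔ]
      have hTB : T ≤ Bl Δ := by
        intro g hg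
        by_cases hgM : (⟨g, hg⟩ : T) ∈ M
        · refine Or.inl fun x => ?_
          have := hgx ⟨g, hg⟩ x
          simpa [hgM] using this
        · refine Or.inr fun x => ?_
          have := hgx ⟨g, hg⟩ x
          simpa [hgM] using this
      obtain ⟨g, hgM⟩ : ∃ g : T, g ∉ M := by
        by_contra hc
        push Not at hc
        have h1 : M = ⊤ := Subgroup.eq_top_iff' M |>.2 hc
        rw [h1, Subgroup.index_top] at hMi
        omega
      have hsw : ∀ x, (g : Perm (Fin n)) x ∈ Δ ↔ x ∉ Δ := fun x => by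
        have := hgx g x
        simpa [hgM] using this
      have hc1 : Nat.card Δ ≤ Nat.card (Δᶜ : Set (Fin n)) := by
        refine Nat.card_le_card_of_injective (fun x : Δ => (⟨(g : Perm (Fin n)) x, fun h => (hsw _).1 h x.2⟩ :
          (Δᶜ : Set (Fin n)))) ?_
        intro x y hxy
        exact Subtype.ext ((g : Perm (Fin n)).injective (congrArg Subtype.val hxy))
      have hc2 : Nat.card (Δᶜ : Set (Fin n)) ≤ Nat.card Δ := by
        refine Nat.card_le_card_of_injective (fun x : (Δᶜ : Set (Fin n)) => (⟨(g : Perm (Fin n)) x, (hsw _).2 x.2⟩ :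
          Δ)) ?_
        intro x y hxy
        exact Subtype.ext ((g : Perm (Fin n)).injective (congrArg Subtype.val hxy))
      have hsum := hadd Δ
      have h5 : 5 ≤ Nat.card Δ := by omega
      have h5' : 5 ≤ Nat.card (Δᶜ : Set (Fin n)) := by omega
      have hd : ∃ d, d ∉ Δ := by
        have : Nonempty (Δᶜ : Set (Fin n)) := (Nat.card_pos_iff.1 (by omega)).1
        exact ⟨this.some.1, this.some.2⟩
      refine ⟨Bl Δ, hTB, ex_Bl (by omega) hd, fun N hN h2 hn => ?_⟩
      have := good_Bl h5 h5' N h2 hN hn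
      omega
    · -- intransitive
      push Not at htr
      obtain ⟨y, hy⟩ := htr
      let Δ : Set (Fin n) := {x | ∃ h ∈ T, h x₀ = x}
      have hyΔ : y ∉ Δ := by
        rintro ⟨h, hh, hhy⟩
        exact hy h hh hhy
      have hTΔ : T ≤ St Δ := by
        intro g hg x
        constructor
        · rintro ⟨h, hh, hhx⟩
          refine ⟨g⁻¹ * h, T.mul_mem (T.inv_mem hg) hh, ?_⟩
          rw [Perm.mul_apply, hhx]
          simp
        · rintro ⟨h, hh, hhx⟩
          exact ⟨g * h, T.mul_mem hg hh, by rw [Perm.mul_apply, hhx]⟩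
      have hsum := hadd Δ
      rcases Nat.lt_or_ge (Nat.card Δ) 5 with h | h
      · refine key Δᶜ (by omega) ⟨x₀, ?_⟩ (by rw [St_compl]; exact hTΔ)
        rw [Set.mem_compl_iff, not_not]
        exact ⟨1, T.one_mem, rfl⟩
      · exact key Δ h ⟨y, hyΔ⟩ hTΔ
  · -- odd degree: a fixed point
    have h1 := hT.card_modEq_card_fixedPoints (Fin n)
    have h2 : (MulAction.fixedPoints T (Fin n)).Nonempty := by
      rw [← Set.nonempty_coe_sort]
      by_contra hc
      rw [not_nonempty_iff] at hc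
      have h3 : Nat.card (MulAction.fixedPoints T (Fin n)) = 0 := Nat.card_of_isEmpty
      have h4 : Nat.card (Fin n) = n := by rw [Nat.card_eq_fintype_card, Fintype.card_fin]
      rw [h3, h4] at h1
      have : n % 2 = 0 := h1
      obtain ⟨k, hk⟩ := ho
      omega
    obtain ⟨x, hx⟩ := h2
    have hx' : ∀ g ∈ T, g x = x := fun g hg => hx ⟨g, hg⟩
    have hsum := hadd {x}
    have hone : Nat.card ({x} : Set (Fin n)) = 1 := by simp
    refine key ({x}ᶜ) (by omega) ⟨x, by simp⟩ ?_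
    rw [St_compl]
    intro g hg y
    rw [Set.mem_singleton_iff, Set.mem_singleton_iff]
    constructor
    · intro h
      exact g.injective (h.trans (hx' g hg).symm)
    · rintro rfl
      exact hx' g hg

end Cfsg.Agent.Omega.ML.AltPerm
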