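import Cfsg.Agent.Omega.ML.Rows
import Cfsg.Agent.Omega.ML.AltPerm
import Cfsg.Agent.Omega.TwoF.AltRk

/-!
# (ML), the K-list end: the alternating rows (helper482)

* `exists_emb` : `X` with `S ⊴ X`, `C_X(S) = 1`, `S ≃ A_n`, `n ≥ 7`: an embedding `X → S_n` whose image of `S` is `A_n`;
* **`alt_over`** : such an `X`, `n ≠ 8`, every 2-subgroup `T` has a proper overgroup `R` with `|O₂(R)| ≤ 4`;
* **`deadG_alt`** : the row `DeadG` of the alternating groups of degree `n ≥ 7`, `n ≠ 8`.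
-/

set_option autoImplicit false

namespace Cfsg.Agent.Omega.ML.AltRow

open Subgroup Equiv Equiv.Perm Cfsg Cfsg.Agent.ZN Cfsg.Agent.Omega.ML.Rows
open Cfsg.Agent.MinSimple.VModule (o2_isPGroup o2_le le_normalizer_o2)

universe u

theorem exists_emb {X : Type u} [Group X] [Finite X] (S : Subgroup X) [S.Normal]
    (hC : centralizer (S : Set X) = ⊥) {n : ℕ} (h7 : 7 ≤ n) (e : S ≃* alternatingGroup (Fin n)) :
    ∃ π : X →* Perm (Fin n), Function.Injective π ∧ S.map π = alternatingGroup (Fin n) := by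
  obtain ⟨ψ, hψ, -⟩ := Cfsg.Agent.Omega.TwoF.AltRk.exists_psi h7
  let π : X →* Perm (Fin n) := ψ.comp ((MulAut.congr e).toMonoidHom.comp (MulAut.conjNormal (H := S)))
  have hπ : Function.Injective π := by
    refine hψ.comp ((MulAut.congr e).injective.comp ?_)
    rw [injective_iff_map_eq_one]
    intro g hg
    have h1 : g ∈ centralizer (S : Set X) := by
      refine mem_centralizer_iff.2 fun s hs => ?_
      have h2 : ((MulAut.conjNormal g : MulAut S) ⟨s, hs⟩ : X) = s := by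
        rw [hg]; rfl
      rw [MulAut.conjNormal_apply] at h2
      have h3 : g * s * g⁻¹ = s := h2
      exact (mul_inv_eq_iff_eq_mul.1 h3).symm
    rw [hC] at h1
    exact mem_bot.1 h1
  refine ⟨π, hπ, ?_⟩
  have : Nontrivial (Fin n) := Fin.nontrivial_iff_two_le.2 (by omega)
  apply eq_alternatingGroup_of_index_eq_two
  have h1 : Nat.card (S.map π) = Nat.card (alternatingGroup (Fin n)) :=
    (Nat.card_congr (S.equivMapOfInjective π hπ).symm.toEquiv).trans (Nat.card_congr e.toEquiv)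
  have h2 := (S.map π).card_mul_index
  have h3 := (alternatingGroup (Fin n)).card_mul_index
  rw [alternatingGroup.index_eq_two] at h3
  rw [h1, ← h3] at h2
  exact Nat.eq_of_mul_eq_mul_left Nat.card_pos h2

theorem alt_over {X : Type u} [Group X] [Finite X] (S : Subgroup X) [S.Normal]
    (hC : centralizer (S : Set X) = ⊥) {n : ℕ} (h7 : 7 ≤ n) (h8 : n ≠ 8) (e : S ≃* alternatingGroup (Fin n))
    (T : Subgroup X) (hT : IsPGroup 2 T) : ∃ R : Subgroup X, T ≤ R ∧ R ≠ ⊤ ∧ Nat.card (o2 R) ≤ 4 := by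
  obtain ⟨π, hπ, hS⟩ := exists_emb S hC h7 e
  obtain ⟨R₀, hTR, ⟨c, hc, hcR⟩, hN⟩ := AltPerm.main h7 h8 (T.map π) (hT.map π)
  have hex : ∀ c : Perm (Fin n), sign c = 1 → ∃ s, π s = c := by
    intro c hc
    have h1 : c ∈ S.map π := by rw [hS]; exact mem_alternatingGroup.2 hc
    obtain ⟨s, -, hs⟩ := h1
    exact ⟨s, hs⟩
  refine ⟨R₀.comap π, Subgroup.map_le_iff_le_comap.1 hTR, ?_, ?_⟩
  · intro h
    obtain ⟨s, hs⟩ := hex c hc
    have h1 : s ∈ R₀.comap π := by rw [h]; trivial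
    rw [mem_comap, hs] at h1
    exact hcR h1
  · have h1 := hN ((o2 (R₀.comap π)).map π) (Subgroup.map_le_iff_le_comap.2 (o2_le _)) ((o2_isPGroup _).map π) ?_
    · rwa [card_map_of_injective hπ] at h1
    · rintro c hcR hc1 _ ⟨g, hg, rfl⟩
      obtain ⟨s, rfl⟩ := hex c hc1
      have h2 : s ∈ R₀.comap π := hcR
      refine ⟨s * g * s⁻¹, ?_, by simp⟩
      exact (mem_normalizer_iff.1 (le_normalizer_o2 _ h2) g).1 hg

/-- **The alternating rows, degree `≥ 7`, `≠ 8`.** -/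
theorem deadG_alt : DeadG.{u} (fun S _ => ∃ n : ℕ, 7 ≤ n ∧ n ≠ 8 ∧ Nonempty (S ≃* alternatingGroup (Fin n))) := by
  rintro X _ _ S T A h ⟨n, h7, h8, ⟨e⟩⟩
  have := h.norm
  obtain ⟨R, hT, hR, hc⟩ := alt_over S h.cen h7 h8 e T h.two
  exact h.card_le_four_of_o2 hT hR hc

end Cfsg.Agent.Omega.ML.AltRow
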