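import Cfsg.Agent.Omega.ML.Rows

/-!
# (ML), the K-list end: from the almost simple group to the situation `In` (helper721)

* `In.as` : the image of `In H M K T A` in `H / C_H(K)` is a situation `AS`, `|A|` is unchanged and the socle is
  isomorphic to `K / Z(K)`;
* `DeadG.dead` : `DeadG 𝒮 → Dead 𝒮` for isomorphism-closed `𝒮`.
-/

set_option autoImplicit false

namespace Cfsg.Agent.Omega.ML.Rows

open Subgroup Cfsg Cfsg.Agent.ZN Cfsg.Agent.Omega.NOThree.NoOver Cfsg.Agent.Omega.ML.CD
open Cfsg.Agent.MinSimple.VModule (o2_isPGroup o2_le le_o2 le_normalizer_o2)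

universe u v w

variable {H : Type u} [Group H] {M : Type v} [Group M] [MulDistribMulAction H M] {K T A : Subgroup H}

/-- An element commuting with the perfect group `K` modulo the centre commutes with `K`. -/
theorem commutes_of_central (hperf : commutator K = ⊤) {h : H}
    (hc : ∀ k ∈ K, ∀ x : H, x * (h * k * h⁻¹ * k⁻¹) = (h * k * h⁻¹ * k⁻¹) * x) : h ∈ centralizer (K : Set H) := by
  have hmem : ∀ k ∈ K, h * k * h⁻¹ * k⁻¹ ∈ center H := fun k hk => mem_center_iff.2 fun x => hc k hk x
  let f : K →* center H :=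
    { toFun := fun k => ⟨h * k * h⁻¹ * (k : H)⁻¹, hmem k k.2⟩
      map_one' := Subtype.ext (by simp)
      map_mul' := fun a b => Subtype.ext (by
        change h * ((a : H) * b) * h⁻¹ * ((a : H) * b)⁻¹ =
          (h * a * h⁻¹ * (a : H)⁻¹) * (h * b * h⁻¹ * (b : H)⁻¹)
        have h1 := hc b b.2 (a : H)
        calc h * ((a : H) * b) * h⁻¹ * ((a : H) * b)⁻¹
            = (h * a * h⁻¹) * ((h * b * h⁻¹ * (b : H)⁻¹) * (a : H)⁻¹) := by group
          _ = (h * a * h⁻¹) * ((a : H)⁻¹ * (h * b * h⁻¹ * (b : H)⁻¹)) := by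
              rw [hc b b.2 (a : H)⁻¹]
          _ = _ := by group) }
  have h1 : commutator K ≤ f.ker := by
    rw [commutator_def, commutator_le]
    intro a _ b _
    rw [MonoidHom.mem_ker, map_commutatorElement, commutatorElement_eq_one_iff_mul_comm]
    exact Subtype.ext (mem_center_iff.1 (f b).2 (f a))
  rw [hperf] at h1
  refine mem_centralizer_iff.2 fun k hk => ?_
  have h2 : f ⟨k, hk⟩ = 1 := h1 (mem_top _)
  have h3 : h * k * h⁻¹ * k⁻¹ = 1 := congrArg Subtype.val h2
  have h4 : h * k * h⁻¹ = k := by rwa [mul_inv_eq_one] at h3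
  calc k * h = (h * k * h⁻¹) * h := by rw [h4]
    _ = h * k := by group

theorem In.perf (h : In H M K T A) : commutator K = ⊤ := by
  have := h.qs.1
  exact Group.IsPerfect.commutator_eq_top

section

variable (h : In H M K T A) (hZ : (centralizer (K : Set H)).Normal)

include h

theorem In.inf_eq_bot [Finite H] (P : Subgroup H) (hP : IsPGroup 2 P) : P ⊓ centralizer (K : Set H) = ⊥ := by
  rw [eq_bot_iff]
  intro x hx
  obtain ⟨n, hn⟩ := hP ⟨x, hx.1⟩
  have h1 : x ^ 2 ^ n = 1 := congrArg Subtype.val hn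
  have h2 : orderOf x ∣ 2 ^ n := orderOf_dvd_of_pow_eq_one h1
  have h3 : orderOf x ∣ Nat.card (centralizer (K : Set H)) := by
    have := orderOf_dvd_natCard (⟨x, hx.2⟩ : centralizer (K : Set H))
    rwa [orderOf_mk] at this
  rw [h.card_centralizer] at h3
  have h4 : Nat.Coprime (2 ^ n) (Nat.card (center K)) := (Nat.coprime_two_left.2 h.odd).pow_left n
  have h5 : orderOf x = 1 := Nat.eq_one_of_dvd_coprimes h4 h2 h3
  exact mem_bot.2 (orderOf_eq_one_iff.1 h5)

/-- A subgroup `R ≥ T` covering `H / Z` is `H`. -/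
theorem In.eq_top_of_sup [Finite H] {R : Subgroup H} (hR : R ⊔ centralizer (K : Set H) = ⊤) : R = ⊤ := by
  have hZn := h.normalZ
  -- `R` is normal
  have hRn : R.Normal := by
    refine ⟨fun r hr g => ?_⟩
    have hg : g ∈ R ⊔ centralizer (K : Set H) := hR ▸ mem_top g
    obtain ⟨s, hs, z, hz, rfl⟩ := mem_sup_of_normal_right.1 hg
    have h1 : s * z * r * (s * z)⁻¹ = s * r * s⁻¹ := by
      have h2 := h.zen z hz r
      calc s * z * r * (s * z)⁻¹ = s * (z * r) * z⁻¹ * s⁻¹ := by group
        _ = s * (r * z) * z⁻¹ * s⁻¹ := by rw [h2]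
        _ = _ := by group
    rw [h1]
    exact mul_mem (mul_mem hs hr) (inv_mem hs)
  -- the quotient is an image of `Z`
  have hq : ∀ x : H ⧸ R, ∃ z ∈ centralizer (K : Set H), QuotientGroup.mk z = x := by
    intro x
    obtain ⟨g, rfl⟩ := QuotientGroup.mk_surjective x
    have hg : g ∈ R ⊔ centralizer (K : Set H) := hR ▸ mem_top g
    obtain ⟨s, hs, z, hz, rfl⟩ := mem_sup_of_normal_right.1 hg
    refine ⟨z, hz, ?_⟩
    rw [QuotientGroup.mk_mul, (QuotientGroup.eq_one_iff s).2 hs, one_mul]
  have hcomm : ∀ x y : H ⧸ R, x * y = y * x := by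
    intro x y
    obtain ⟨z, hz, rfl⟩ := hq x
    obtain ⟨g, rfl⟩ := QuotientGroup.mk_surjective y
    rw [← QuotientGroup.mk_mul, ← QuotientGroup.mk_mul, h.zen z hz g]
  have hK : K ≤ R := by
    let _ : CommGroup (H ⧸ R) := { (inferInstance : Group (H ⧸ R)) with mul_comm := hcomm }
    have h1 : commutator K ≤ ((QuotientGroup.mk' R).comp K.subtype).ker :=
      Abelianization.commutator_subset_ker ((QuotientGroup.mk' R).comp K.subtype)
    rw [h.perf] at h1
    intro k hk
    have h2 : ((QuotientGroup.mk' R).comp K.subtype) ⟨k, hk⟩ = 1 := h1 (mem_top _)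
    exact (QuotientGroup.eq_one_iff k).1 h2
  have hA : A ≤ R := by
    intro a ha
    obtain ⟨z, hz, hza⟩ := hq (QuotientGroup.mk a)
    have h1 : (QuotientGroup.mk a : H ⧸ R) ^ 2 = 1 := by
      rw [pow_two, ← QuotientGroup.mk_mul, h.el a ha, QuotientGroup.mk_one]
    have h2 : (QuotientGroup.mk a : H ⧸ R) ^ Nat.card (center K) = 1 := by
      rw [← hza, ← QuotientGroup.mk_pow, ← h.card_centralizer]
      have h3 : (⟨z, hz⟩ : centralizer (K : Set H)) ^ Nat.card (centralizer (K : Set H)) = 1 := pow_card_eq_one'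
      have h4 : z ^ Nat.card (centralizer (K : Set H)) = 1 := by
        have h5 := congrArg (centralizer (K : Set H)).subtype h3
        rw [map_pow, map_one] at h5
        exact h5
      rw [h4, QuotientGroup.mk_one]
    have h3 : orderOf (QuotientGroup.mk a : H ⧸ R) = 1 :=
      Nat.eq_one_of_dvd_coprimes (Nat.coprime_two_left.2 h.odd) (orderOf_dvd_of_pow_eq_one h1)
        (orderOf_dvd_of_pow_eq_one h2)
    exact (QuotientGroup.eq_one_iff a).1 (orderOf_eq_one_iff.1 h3)
  rw [eq_top_iff, ← h.gen]
  exact sup_le hK hA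

/-- the socle of `H / C_H(K)` -/
noncomputable def equivZ (hZ : (centralizer (K : Set H)).Normal) :
    (K ⧸ center K) ≃* (K.map (QuotientGroup.mk' (centralizer (K : Set H))) : Subgroup _) := by
  have hker : ((QuotientGroup.mk' (centralizer (K : Set H))).subgroupMap K).ker = center K := by
    ext k
    rw [MonoidHom.mem_ker, mem_center_iff]
    constructor
    · intro hk y
      have h1 : QuotientGroup.mk' (centralizer (K : Set H)) (k : H) = 1 := congrArg Subtype.val hk
      have h2 : (k : H) ∈ centralizer (K : Set H) := (QuotientGroup.eq_one_iff _).1 h1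
      exact Subtype.ext (mem_centralizer_iff.1 h2 y y.2)
    · intro hk
      have h2 : (k : H) ∈ centralizer (K : Set H) := mem_centralizer_iff.2 fun y hy =>
        congrArg Subtype.val (hk ⟨y, hy⟩)
      exact Subtype.ext ((QuotientGroup.eq_one_iff _).2 h2)
  exact (QuotientGroup.quotientMulEquivOfEq hker.symm).trans
    (QuotientGroup.quotientKerEquivOfSurjective _ (MonoidHom.subgroupMap_surjective _ _))

end

/-- **The image in `H / C_H(K)`.** -/
theorem In.as [Finite H] (h : In H M K T A) (hZ : (centralizer (K : Set H)).Normal) :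
    AS (K.map (QuotientGroup.mk' (centralizer (K : Set H)))) (T.map (QuotientGroup.mk' (centralizer (K : Set H))))
      (A.map (QuotientGroup.mk' (centralizer (K : Set H)))) := by
  set π := QuotientGroup.mk' (centralizer (K : Set H)) with hπ
  have hs : Function.Surjective π := QuotientGroup.mk'_surjective _
  have hker : π.ker = centralizer (K : Set H) := QuotientGroup.ker_mk' _
  have hKn := h.norm
  have htop : ∀ R : Subgroup H, R ≠ ⊤ → R.map π ≠ ⊤ := by
    intro R hR h1
    apply hR
    apply h.eq_top_of_sup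
    rw [← hker, ← comap_map_eq, h1, comap_top]
  refine ⟨hKn.map π hs, ?_, ?_, ?_, h.two.map π, ?_, ?_, ?_, ?_⟩
  · have := h.qs.2
    exact (equivZ hZ).symm.isSimpleGroup
  · rw [eq_bot_iff]
    intro x hx
    obtain ⟨g, rfl⟩ := hs x
    have h1 : g ∈ centralizer (K : Set H) := by
      refine commutes_of_central h.perf fun k hk x => ?_
      have h2 : π g * π k = π k * π g := (mem_centralizer_iff.1 hx (π k) (mem_map_of_mem π hk)).symm
      have h3 : g * k * g⁻¹ * k⁻¹ ∈ centralizer (K : Set H) := by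
        rw [← hker, MonoidHom.mem_ker, map_mul, map_mul, map_mul, map_inv, map_inv, h2]
        group
      exact h.zen _ h3 x
    rw [← hker] at h1
    exact mem_bot.2 h1
  · rw [← Subgroup.map_sup, h.gen, map_top_of_surjective π hs]
  · intro h1
    exact h.syl (h1.trans (index_map_dvd T hs))
  · rintro _ ⟨a, ha, rfl⟩
    rw [← map_mul, h.el a ha, map_one]
  · intro R hTR hR
    have h1 : T ≤ R.comap π := map_le_iff_le_comap.1 hTR
    have h2 : R.comap π ≠ ⊤ := by
      intro h3
      apply hR
      rw [← map_comap_eq_self_of_surjective hs R, h3, map_top_of_surjective π hs]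
    have h3 := h.low _ h1 h2
    have h4 : (o2 (R.comap π)).map π ≤ o2 R := by
      refine le_o2 ?_ ((o2_isPGroup _).map π) ?_
      · rw [map_le_iff_le_comap]
        exact o2_le _
      · intro x hx
        obtain ⟨g, rfl⟩ := hs x
        have h5 := le_normalizer_o2 (R.comap π) (show g ∈ R.comap π from hx)
        rw [mem_normalizer_iff] at h5 ⊢
        intro y
        constructor
        · rintro ⟨q, hq, rfl⟩
          exact ⟨g * q * g⁻¹, (h5 q).1 hq, by rw [map_mul, map_mul, map_inv]⟩
        · rintro ⟨q, hq, hqy⟩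
          refine ⟨g⁻¹ * q * g, ?_, ?_⟩
          · rw [SetLike.mem_coe, h5]
            have h6 : g * (g⁻¹ * q * g) * g⁻¹ = q := by group
            rwa [h6]
          · rw [map_mul, map_mul, map_inv, hqy]
            group
    exact (map_mono h3).trans h4
  · rintro ⟨N, hN, hall⟩
    apply h.nmax
    refine ⟨N.comap π, ?_, fun R hTR hR => ?_⟩
    · intro h3
      apply hN
      rw [← map_comap_eq_self_of_surjective hs N, h3, map_top_of_surjective π hs]
    · exact map_le_iff_le_comap.1 (hall _ (map_mono hTR) (htop R hR))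

theorem In.card_map [Finite H] (h : In H M K T A) (hZ : (centralizer (K : Set H)).Normal) :
    Nat.card (A.map (QuotientGroup.mk' (centralizer (K : Set H)))) = Nat.card A := by
  have h1 : IsPGroup 2 A := fun a => ⟨1, Subtype.ext (by rw [pow_one, pow_two]; exact h.el a a.2)⟩
  have h2 := h.inf_eq_bot A h1
  have h3 : Function.Injective ((QuotientGroup.mk' (centralizer (K : Set H))).comp A.subtype) := by
    rw [injective_iff_map_eq_one]
    intro a ha
    have h4 : (a : H) ∈ centralizer (K : Set H) := (QuotientGroup.eq_one_iff _).1 ha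
    have h5 : (a : H) ∈ A ⊓ centralizer (K : Set H) := ⟨a.2, h4⟩
    rw [h2] at h5
    exact Subtype.ext (mem_bot.1 h5)
  have h6 : ((QuotientGroup.mk' (centralizer (K : Set H))).comp A.subtype).range =
      A.map (QuotientGroup.mk' (centralizer (K : Set H))) := by
    rw [MonoidHom.range_eq_map, ← Subgroup.map_map, ← MonoidHom.range_eq_map, range_subtype]
  rw [← h6]
  exact (Nat.card_congr (MonoidHom.ofInjective h3).toEquiv).symm

/-- **A group-theoretic row is a row.** -/
theorem DeadG.dead {𝒮 : ∀ (S : Type u) [Group S], Prop} (h𝒮 : IsoClosed.{u} 𝒮) (hD : DeadG.{u} 𝒮) :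
    Dead.{u, v} 𝒮 := by
  intro H _ _ M _ _ _ K T A h hK
  have hZ := h.normalZ
  have h1 := hD _ _ _ _ (h.as hZ) (h𝒮 _ _ (equivZ hZ) hK)
  rw [h.card_map hZ] at h1
  exact absurd h.eight (by omega)

end Cfsg.Agent.Omega.ML.Rows
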