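import Cfsg.Agent.Omega.ML.LocRow
import Cfsg.Agent.Omega.ML.RowsDead
import Cfsg.Agent.Omega.ML.AltRow
import Cfsg.Agent.Omega.KFacts
import Cfsg.Agent.S0252

/-!
# (ML), the K-list end: the list of all rows (helper484, GLUE)

* `DeadZ.mono`, `DeadZ.or`, `DeadZ.of_dead`, `DeadZ.of_deadG`, `DeadZ.perm_iso`;
* `OddLie K` : of Lie type in odd characteristic;
* **`RowsML`** : one field per row of the list (every field has the form `DeadZ 𝒮`);
* **`RowsML.known`** : `RowsML → DeadZ IsKnownSimple'`.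
-/

set_option autoImplicit false

namespace Cfsg.Agent.Omega.ML.Known

open Subgroup Cfsg Cfsg.Agent.ZN Cfsg.Agent.Omega.ML.Rows Cfsg.Agent.Omega.ML.LocRow Cfsg.Agent.Omega.KFacts

universe u v

/-- smaller classes -/
theorem DeadZ.mono {𝒮 𝒮' : ∀ (S : Type u) [Group S], Prop} (h : DeadZ.{u, v} 𝒮)
    (h' : ∀ (S : Type u) [Group S], 𝒮' S → 𝒮 S) : DeadZ.{u, v} 𝒮' :=
  fun H _ _ M _ _ _ K T Q A z hI hS => h H M K T Q A z hI (h' _ hS)

/-- a row of the form `Dead` -/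
theorem DeadZ.of_dead {𝒮 : ∀ (S : Type u) [Group S], Prop} (h : Dead.{u, v} 𝒮) : DeadZ.{u, v} 𝒮 :=
  LocRow.Dead.deadZ h

/-- a group-theoretic row -/
theorem DeadZ.of_deadG {𝒮 : ∀ (S : Type u) [Group S], Prop} (h𝒮 : IsoClosed.{u} 𝒮) (h : DeadG.{u} 𝒮) :
    DeadZ.{u, v} 𝒮 :=
  DeadZ.of_dead (h.dead h𝒮)

theorem DeadZ.or {𝒮 𝒮' : ∀ (S : Type u) [Group S], Prop} (h : DeadZ.{u, v} 𝒮) (h' : DeadZ.{u, v} 𝒮') :
    DeadZ.{u, v} fun S _ => 𝒮 S ∨ 𝒮' S :=
  fun H _ _ M _ _ _ K T Q A z hI hS =>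
    hS.elim (fun h1 => h H M K T Q A z hI h1) fun h1 => h' H M K T Q A z hI h1

/-- of Lie type in odd characteristic -/
def OddLie (K : Type u) [Group K] : Prop := ∃ p : ℕ, p.Prime ∧ p ≠ 2 ∧ IsLieTypeChar p K

/-- **The rows of the list of (ML).** -/
structure RowsML : Prop where
  lie2 : DeadZ.{u, v} fun S _ => IsLieTypeChar 2 S
  alt : DeadZ.{u, v} fun S _ => ∃ n : ℕ, 7 ≤ n ∧ n ≠ 8 ∧ Nonempty (S ≃* alternatingGroup (Fin n))
  a6 : DeadZ.{u, v} fun S _ => Nonempty (S ≃* alternatingGroup (Fin 6))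
  odd : DeadZ.{u, v} fun S _ => OddLie S ∧ ¬ IsLieTypeChar 2 S
  tits : DeadZ.{u, v} @Lie.IsoTits
  m11 : DeadZ.{u, v} @Spor.IsoM11
  m12 : DeadZ.{u, v} @Spor.IsoM12
  m22 : DeadZ.{u, v} @Spor.IsoM22
  m23 : DeadZ.{u, v} @Spor.IsoM23
  m24 : DeadZ.{u, v} @Spor.IsoM24
  j1 : DeadZ.{u, v} @Spor.IsoJ1
  j2 : DeadZ.{u, v} @Spor.IsoJ2
  j3 : DeadZ.{u, v} @Spor.IsoJ3
  j4 : DeadZ.{u, v} @Spor.IsoJ4
  co1 : DeadZ.{u, v} @Spor.IsoCo1
  co2 : DeadZ.{u, v} @Spor.IsoCo2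
  co3 : DeadZ.{u, v} @Spor.IsoCo3
  mcl : DeadZ.{u, v} @Spor.IsoMcL
  hs : DeadZ.{u, v} @Spor.IsoHS
  suz : DeadZ.{u, v} @Spor.IsoSuz
  he : DeadZ.{u, v} @Spor.IsoHe
  ru : DeadZ.{u, v} @Spor.IsoRu
  on : DeadZ.{u, v} @Spor.IsoON
  ly : DeadZ.{u, v} @Spor.IsoLy
  fi22 : DeadZ.{u, v} @Spor.IsoFi22
  fi23 : DeadZ.{u, v} @Spor.IsoFi23
  fi24 : DeadZ.{u, v} @Spor.IsoFi24'
  hn : DeadZ.{u, v} @Spor.IsoHN
  th : DeadZ.{u, v} @Spor.IsoTh
  b : DeadZ.{u, v} @Spor.IsoB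
  m : DeadZ.{u, v} @Spor.IsoM


theorem isoClosed_alt : IsoClosed.{u} fun S _ => ∃ n : ℕ, 7 ≤ n ∧ n ≠ 8 ∧ Nonempty (S ≃* alternatingGroup (Fin n)) :=
  fun _ _ _ _ e ⟨n, h7, h8, ⟨f⟩⟩ => ⟨n, h7, h8, ⟨e.symm.trans f⟩⟩

/-- **the alternating row, `n ≥ 7`, `n ≠ 8`** -/
theorem row_alt : DeadZ.{u, v} fun S _ => ∃ n : ℕ, 7 ≤ n ∧ n ≠ 8 ∧ Nonempty (S ≃* alternatingGroup (Fin n)) :=
  DeadZ.of_deadG isoClosed_alt AltRow.deadG_alt

section

variable {K : Type u} [Group K]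

theorem odd_psl (h : OddChar @IsPSLChar K) : OddLie K := by
  obtain ⟨p, hp, h2, h⟩ := h
  exact ⟨p, hp, h2, Or.inl h⟩

theorem odd_psp (h : OddChar @IsPSpChar K) : OddLie K := by
  obtain ⟨p, hp, h2, h⟩ := h
  exact ⟨p, hp, h2, Or.inr (Or.inl h)⟩

theorem odd_psu (h : OddChar @IsPSUChar K) : OddLie K := by
  obtain ⟨p, hp, h2, h⟩ := h
  exact ⟨p, hp, h2, Or.inr (Or.inr (Or.inl h))⟩

theorem odd_omOdd (h : OddChar @IsPOmegaOddChar K) : OddLie K := by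
  obtain ⟨p, hp, h2, h⟩ := h
  exact ⟨p, hp, h2, Or.inr (Or.inr (Or.inr (Or.inl h)))⟩

theorem odd_omPlus (h : OddChar @IsPOmegaPlusChar K) : OddLie K := by
  obtain ⟨p, hp, h2, h⟩ := h
  exact ⟨p, hp, h2, Or.inr (Or.inr (Or.inr (Or.inr (Or.inl h))))⟩

theorem odd_omMinus (h : OddChar @IsPOmegaMinusChar K) : OddLie K := by
  obtain ⟨p, hp, h2, h⟩ := h
  exact ⟨p, hp, h2, Or.inr (Or.inr (Or.inr (Or.inr (Or.inr (Or.inl h)))))⟩

theorem odd_chev (h : OddChar @IsExceptionalChevChar K) : OddLie K := by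
  obtain ⟨p, hp, h2, h⟩ := h
  exact ⟨p, hp, h2, Or.inr (Or.inr (Or.inr (Or.inr (Or.inr (Or.inr (Or.inl h))))))⟩

theorem odd_twisted (h : OddChar @IsTwistedE6D4Char K) : OddLie K := by
  obtain ⟨p, hp, h2, h⟩ := h
  exact ⟨p, hp, h2, Or.inr (Or.inr (Or.inr (Or.inr (Or.inr (Or.inr (Or.inr (Or.inl h)))))))⟩

theorem odd_ree (h : Lie.IsoRee K) : OddLie K :=
  ⟨3, Nat.prime_three, by norm_num,
    Or.inr (Or.inr (Or.inr (Or.inr (Or.inr (Or.inr (Or.inr (Or.inr (Or.inr (Or.inr ⟨rfl, h⟩)))))))))⟩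

/-- **The classes of the list.** -/
theorem cases (h : IsKnownSimple' K) :
    IsPrimeCyclic K ∨ IsLieTypeChar 2 K ∨ (OddLie K ∧ ¬ IsLieTypeChar 2 K) ∨
      Nonempty (K ≃* alternatingGroup (Fin 6)) ∨
      (∃ n : ℕ, 7 ≤ n ∧ n ≠ 8 ∧ Nonempty (K ≃* alternatingGroup (Fin n))) ∨ Lie.IsoTits K ∨ IsSporadicGroup K := by
  by_cases h2 : IsLieTypeChar 2 K
  · exact Or.inr (Or.inl h2)
  have hn := fun (P : Prop) (hP : IsLieTypeChar 2 K ∨ P) => hP.resolve_left h2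
  have ho : OddLie K → IsPrimeCyclic K ∨ IsLieTypeChar 2 K ∨ (OddLie K ∧ ¬ IsLieTypeChar 2 K) ∨
      Nonempty (K ≃* alternatingGroup (Fin 6)) ∨
      (∃ n : ℕ, 7 ≤ n ∧ n ≠ 8 ∧ Nonempty (K ≃* alternatingGroup (Fin n))) ∨ Lie.IsoTits K ∨ IsSporadicGroup K :=
    fun h => Or.inr (Or.inr (Or.inl ⟨h, h2⟩))
  rcases h with h | ⟨n, h5, ⟨e⟩⟩ | h | h | h | h | h | h | h | h
  · exact Or.inl h
  · by_cases h8 : n = 8
    · exfalso
      subst h8
      apply h2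
      obtain ⟨e'⟩ := Cfsg.Agent.S0256.result (F := ZMod 2) (by simp)
      exact Or.inl ⟨ZMod 2, inferInstance, inferInstance, inferInstance, 4, by norm_num, by norm_num,
        ⟨e.trans e'.symm⟩⟩
    · by_cases h5' : n = 5
      · exfalso
        subst h5'
        apply h2
        let _ : Fintype (GaloisField 2 2) := Fintype.ofFinite _
        have hc : Fintype.card (GaloisField 2 2) = 4 := by
          rw [Fintype.card_eq_nat_card, GaloisField.card 2 2 (by norm_num)]; norm_num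
        obtain ⟨e'⟩ := Cfsg.Agent.S0252.result (F := GaloisField 2 2) hc
        exact Or.inl ⟨GaloisField 2 2, inferInstance, inferInstance, inferInstance, 2, le_rfl,
          fun _ => hc.ge, ⟨e.trans e'.symm⟩⟩
      · by_cases h6 : n = 6
        · subst h6
          exact Or.inr (Or.inr (Or.inr (Or.inl ⟨e⟩)))
        · exact Or.inr (Or.inr (Or.inr (Or.inr (Or.inl ⟨n, by omega, h8, ⟨e⟩⟩))))
  · exact ho (odd_psl (hn _ (of_psl h)))
  · exact ho (odd_psp (hn _ (of_psp h)))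
  · exact ho (odd_psu (hn _ (of_psu h)))
  · exact ho (odd_omOdd (hn _ (of_omOdd h)))
  · exact ho (odd_omPlus (hn _ (of_omPlus h)))
  · exact ho (odd_omMinus (hn _ (of_omMinus h)))
  · unfold IsExceptionalLieType at h
    by_cases h3 : Lie.IsoChevG2 K ∨ Lie.IsoF4 K ∨ Lie.IsoChevE6 K ∨ Lie.IsoE7 K ∨ Lie.IsoE8 K
    · exact ho (odd_chev (hn _ (of_chev h3)))
    by_cases h4 : Lie.Iso2E6 K ∨ Lie.Iso3D4 K
    · exact ho (odd_twisted (hn _ (of_twisted h4)))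
    by_cases h5 : Lie.IsoSuzuki K
    · exact absurd (Or.inr (Or.inr (Or.inr (Or.inr (Or.inr (Or.inr (Or.inr (Or.inr (Or.inl ⟨rfl, h5⟩)))))))))  h2
    by_cases h6 : Lie.Iso2F4 K
    · exact absurd (Or.inr (Or.inr (Or.inr (Or.inr (Or.inr (Or.inr (Or.inr (Or.inr (Or.inr
        (Or.inl ⟨rfl, h6⟩)))))))))) h2
    by_cases h7 : Lie.IsoRee K
    · exact ho (odd_ree h7)
    by_cases h8 : Lie.IsoTits K
    · exact Or.inr (Or.inr (Or.inr (Or.inr (Or.inr (Or.inl h8)))))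
    exfalso
    tauto
  · exact Or.inr (Or.inr (Or.inr (Or.inr (Or.inr (Or.inr h)))))

end

/-- `K / Z(K)` is not of prime order -/
theorem not_primeCyclic {K : Type u} [Group K] : ¬ IsPrimeCyclic (K ⧸ center K) := by
  intro hc
  have h1 : Nat.Prime (Nat.card (K ⧸ center K)) := hc
  have : Fact (Nat.card (K ⧸ center K)).Prime := ⟨h1⟩
  have hcyc : IsCyclic (K ⧸ center K) := isCyclic_of_prime_card (α := K ⧸ center K) rfl
  have hcomm : ∀ a b : K, a * b = b * a :=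
    (MonoidHom.isMulCommutative_of_isCyclic_of_ker_le_center (QuotientGroup.mk' (center K)) (by
      rw [QuotientGroup.ker_mk'])).is_comm.comm
  have htop : center K = ⊤ := by
    rw [eq_top_iff]
    intro x _
    exact mem_center_iff.2 fun y => hcomm y x
  have h2 : Nat.card (K ⧸ center K) = 1 := by
    rw [htop]
    exact index_top
  rw [h2] at h1
  exact Nat.not_prime_one h1

/-- **All rows of the list: no known simple group occurs.** -/
theorem RowsML.known (R : RowsML.{u, v}) : DeadZ.{u, v} @IsKnownSimple' := by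
  intro H _ _ M _ _ _ K T Q A z hI hS
  rcases cases hS with h | h | h | h | h | h | h
  · exact not_primeCyclic h
  · exact R.lie2 H M K T Q A z hI h
  · exact R.odd H M K T Q A z hI h
  · exact R.a6 H M K T Q A z hI h
  · exact R.alt H M K T Q A z hI h
  · exact R.tits H M K T Q A z hI h
  · unfold IsSporadicGroup at h
    rcases h with h | h | h | h | h | h | h | h | h | h | h | h | h | h | h | h | h | h | h | h | h | h | h | h | h | h
    · exact R.m11 H M K T Q A z hI h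
    · exact R.m12 H M K T Q A z hI h
    · exact R.m22 H M K T Q A z hI h
    · exact R.m23 H M K T Q A z hI h
    · exact R.m24 H M K T Q A z hI h
    · exact R.j1 H M K T Q A z hI h
    · exact R.j2 H M K T Q A z hI h
    · exact R.j3 H M K T Q A z hI h
    · exact R.j4 H M K T Q A z hI h
    · exact R.co1 H M K T Q A z hI h
    · exact R.co2 H M K T Q A z hI h
    · exact R.co3 H M K T Q A z hI h
    · exact R.mcl H M K T Q A z hI h
    · exact R.hs H M K T Q A z hI h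
    · exact R.suz H M K T Q A z hI h
    · exact R.he H M K T Q A z hI h
    · exact R.ru H M K T Q A z hI h
    · exact R.on H M K T Q A z hI h
    · exact R.ly H M K T Q A z hI h
    · exact R.fi22 H M K T Q A z hI h
    · exact R.fi23 H M K T Q A z hI h
    · exact R.fi24 H M K T Q A z hI h
    · exact R.hn H M K T Q A z hI h
    · exact R.th H M K T Q A z hI h
    · exact R.b H M K T Q A z hI h
    · exact R.m H M K T Q A z hI h

end Cfsg.Agent.Omega.ML.Known
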