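import Cfsg.Agent.Omega.ML.RowsDead
import Cfsg.Agent.Omega.ML.LocRow
import Cfsg.Agent.Omega.KFacts
import Cfsg.Agent.S0253

/-!
# (ML), the K-list end: the list of the rows (helper721)

`RowsML` : one field per class of known simple groups, the literal type `DeadZ 𝒮` of `Omega/ML/LocRow.lean` (a row in
the form `DeadG 𝒮` is converted by `DeadG.dead`, a row in the form `Dead 𝒮` by `Dead.deadZ`; together: `DeadG.deadZ`).
`RowsML.main` : all rows together give `DeadZ IsKnownSimple'`, that is, the situation `InZ` does not occur for a known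
simple group `K / Z(K)`.
-/

set_option autoImplicit false

namespace Cfsg.Agent.Omega.ML.Rows

open Subgroup Cfsg Cfsg.Agent.Omega.KFacts Cfsg.Agent.Omega.ML.LocRow

universe u v

/-- `IsAlt S` : alternating of degree `n ≥ 7`, `n ≠ 8`. -/
def IsAlt7 (S : Type u) [Group S] : Prop :=
  ∃ n : ℕ, 7 ≤ n ∧ n ≠ 8 ∧ Nonempty (S ≃* alternatingGroup (Fin n))

/-- `A₆`. -/
def IsAlt6 (S : Type u) [Group S] : Prop := Nonempty (S ≃* alternatingGroup (Fin 6))

/-- `L₂(q)`, `q` odd, `q ≥ 4`. -/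
def IsLTwoOdd (S : Type u) [Group S] : Prop :=
  ∃ (F : Type) (_ : Field F) (_ : Fintype F), (2 : F) ≠ 0 ∧ 4 ≤ Fintype.card F ∧
    Nonempty (S ≃* Matrix.ProjectiveSpecialLinearGroup (Fin 2) F)

/-- `L_n(q)`, `q` odd, `n ≥ 3`. -/
def IsLOdd (S : Type u) [Group S] : Prop :=
  ∃ (F : Type) (_ : Field F) (_ : Fintype F) (n : ℕ), (2 : F) ≠ 0 ∧ 3 ≤ n ∧
    Nonempty (S ≃* Matrix.ProjectiveSpecialLinearGroup (Fin n) F)

/-- `U₃(3)`. -/
def IsUThreeThree (S : Type u) [Group S] : Prop :=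
  ∃ (F : Type) (_ : Field F) (_ : Fintype F), Fintype.card F = 9 ∧ Nonempty (S ≃* PSU 3 F 3)

/-- `U_n(q)`, `q` odd, `n ≥ 3`, not `U₃(3)`, not `U₄(3)`. -/
def IsUOdd (S : Type u) [Group S] : Prop :=
  ∃ (F : Type) (_ : Field F) (_ : Fintype F) (n q : ℕ), (2 : F) ≠ 0 ∧ Fintype.card F = q ^ 2 ∧ 3 ≤ n ∧
    ¬ (n = 3 ∧ q = 3) ∧ ¬ (n = 4 ∧ q = 3) ∧ Nonempty (S ≃* PSU n F q)

/-- `G₂(3)`. -/
def IsGTwoThree (S : Type u) [Group S] : Prop :=
  ∃ (F : Type) (_ : Field F) (_ : Fintype F), Fintype.card F = 3 ∧ Nonempty (S ≃* Lie.chevG2.group F)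

/-- `G₂(q)`, `q` odd, `q ≠ 3`. -/
def IsGTwoOdd (S : Type u) [Group S] : Prop :=
  ∃ (F : Type) (_ : Field F) (_ : Fintype F), (2 : F) ≠ 0 ∧ Fintype.card F ≠ 3 ∧
    Nonempty (S ≃* Lie.chevG2.group F)

/-- `F₄(q)`, `E₆(q)`, `E₇(q)`, `E₈(q)`, `q` odd. -/
def IsFEOdd (S : Type u) [Group S] : Prop :=
  ∃ (F : Type) (_ : Field F) (_ : Fintype F), (2 : F) ≠ 0 ∧
    (Nonempty (S ≃* Lie.chevF4.group F) ∨ Nonempty (S ≃* Lie.chevE6.group F) ∨
      Nonempty (S ≃* Lie.chevE7.group F) ∨ Nonempty (S ≃* Lie.chevE8.group F))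

/-- **The rows.** -/
structure RowsML : Prop where
  -- Lie type in characteristic 2
  lieTwo : DeadZ.{u, v} fun S _ => IsLieTypeChar 2 S
  -- alternating groups
  alt : DeadZ.{u, v} @IsAlt7
  a6 : DeadZ.{u, v} @IsAlt6
  -- Lie type in odd characteristic
  lTwo : DeadZ.{u, v} @IsLTwoOdd
  lin : DeadZ.{u, v} @IsLOdd
  psp : DeadZ.{u, v} fun S _ => OddChar @IsPSpChar S ∧ ¬ IsLieTypeChar 2 S
  u33 : DeadZ.{u, v} @IsUThreeThree
  u43 : DeadZ.{u, v} @IsUFourThree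
  uni : DeadZ.{u, v} @IsUOdd
  omOdd : DeadZ.{u, v} fun S _ => OddChar @IsPOmegaOddChar S
  omPlus : DeadZ.{u, v} fun S _ => OddChar @IsPOmegaPlusChar S
  omMinus : DeadZ.{u, v} fun S _ => OddChar @IsPOmegaMinusChar S
  g23 : DeadZ.{u, v} @IsGTwoThree
  g2 : DeadZ.{u, v} @IsGTwoOdd
  fe : DeadZ.{u, v} @IsFEOdd
  twisted : DeadZ.{u, v} fun S _ => OddChar @IsTwistedE6D4Char S
  ree : DeadZ.{u, v} @Lie.IsoRee
  tits : DeadZ.{u, v} @Lie.IsoTits
  -- sporadic groups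
  m11 : DeadZ.{u, v} @Spor.IsoM11
  m12 : DeadZ.{u, v} @Spor.IsoM12
  m22 : DeadZ.{u, v} @Spor.IsoM22
  m23 : DeadZ.{u, v} @Spor.IsoM23
  m24 : DeadZ.{u, v} @Spor.IsoM24
  j1 : DeadZ.{u, v} @Spor.IsoJ1
  j2 : DeadZ.{u, v} @Spor.IsoJ2
  j3 : DeadZ.{u, v} @Spor.IsoJ3
  j4 : DeadZ.{u, v} @Spor.IsoJ4
  co1 : DeadZ.{u, v} @Spor.IsoCo1
  co2 : DeadZ.{u, v} @Spor.IsoCo2
  co3 : DeadZ.{u, v} @Spor.IsoCo3
  mcl : DeadZ.{u, v} @Spor.IsoMcL
  hs : DeadZ.{u, v} @Spor.IsoHS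
  suz : DeadZ.{u, v} @Spor.IsoSuz
  he : DeadZ.{u, v} @Spor.IsoHe
  ru : DeadZ.{u, v} @Spor.IsoRu
  on : DeadZ.{u, v} @Spor.IsoON
  ly : DeadZ.{u, v} @Spor.IsoLy
  fi22 : DeadZ.{u, v} @Spor.IsoFi22
  fi23 : DeadZ.{u, v} @Spor.IsoFi23
  fi24 : DeadZ.{u, v} @Spor.IsoFi24'
  hn : DeadZ.{u, v} @Spor.IsoHN
  th : DeadZ.{u, v} @Spor.IsoTh
  b : DeadZ.{u, v} @Spor.IsoB
  m : DeadZ.{u, v} @Spor.IsoM

/-- A group-theoretic row is a row. -/
theorem DeadG.deadZ {𝒮 : ∀ (S : Type u) [Group S], Prop} (h𝒮 : IsoClosed.{u} 𝒮) (hD : DeadG.{u} 𝒮) :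
    DeadZ.{u, v} 𝒮 :=
  LocRow.Dead.deadZ (DeadG.dead h𝒮 hD)

theorem DeadZ.mono {𝒮 𝒮' : ∀ (S : Type u) [Group S], Prop} (h : ∀ (S : Type u) [Group S], 𝒮 S → 𝒮' S)
    (hD : DeadZ.{u, v} 𝒮') : DeadZ.{u, v} 𝒮 :=
  fun H _ _ M _ _ _ K T Q A z hI hS => hD H M K T Q A z hI (h _ hS)

/-- The cyclic row is void. -/
theorem In.not_cyclic {H : Type u} [Group H] {M : Type v} [Group M] [MulDistribMulAction H M] {K T A : Subgroup H}
    (h : In H M K T A) : ¬ IsPrimeCyclic (K ⧸ center K) := by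
  rintro hc
  have h1 : IsSimpleGroup (K ⧸ center K) := h.qs.2
  have hc' : (Nat.card (K ⧸ center K)).Prime := hc
  have hcomm : ∀ x y : K ⧸ center K, x * y = y * x := by
    have : Fact (Nat.card (K ⧸ center K)).Prime := ⟨hc'⟩
    have hcyc : IsCyclic (K ⧸ center K) := isCyclic_of_prime_card rfl
    exact fun x y => (IsCyclic.commGroup (α := K ⧸ center K)).mul_comm x y
  let _ : CommGroup (K ⧸ center K) := { (inferInstance : Group (K ⧸ center K)) with mul_comm := hcomm }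
  have h2 : commutator K ≤ (QuotientGroup.mk' (center K)).ker :=
    Abelianization.commutator_subset_ker (QuotientGroup.mk' (center K))
  rw [h.perf, QuotientGroup.ker_mk'] at h2
  obtain ⟨x, hx⟩ := exists_ne (1 : K ⧸ center K)
  obtain ⟨k, rfl⟩ := QuotientGroup.mk_surjective x
  exact hx ((QuotientGroup.eq_one_iff k).2 (h2 (mem_top k)))

/-- **(ML), the K-list end**: the situation `In` does not occur for known `K / Z(K)`. -/
theorem RowsML.main (R : RowsML.{u, v}) : DeadZ.{u, v} fun S _ => IsKnownSimple' S := by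
  intro H _ _ M _ _ _ K T Q A z hI h
  set S := K ⧸ center K
  have hS : IsSimpleGroup S := hI.row.qs.2
  by_cases h2 : IsLieTypeChar 2 S
  · exact R.lieTwo H M K T Q A z hI h2
  have hn := fun (P : Prop) (hP : IsLieTypeChar 2 S ∨ P) => hP.resolve_left h2
  have hodd : ∀ {F : Type} [Field F] {p : ℕ}, p.Prime → p ≠ 2 → CharP F p → (2 : F) ≠ 0 := by
    intro F _ p hp hp2 hF h3
    have h4 : ((2 : ℕ) : F) = 0 := by exact_mod_cast h3
    rw [CharP.cast_eq_zero_iff F p] at h4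
    exact hp2 ((Nat.prime_dvd_prime_iff_eq hp Nat.prime_two).1 h4)
  rcases h with h | ⟨n, h5, ⟨e⟩⟩ | h | h | h | h | h | h | h | h
  · exact hI.row.not_cyclic h
  · by_cases h8 : n = 8
    · exfalso
      subst h8
      apply h2
      obtain ⟨e'⟩ := Cfsg.Agent.S0256.result (F := ZMod 2) (by simp)
      exact Or.inl ⟨ZMod 2, inferInstance, inferInstance, inferInstance, 4, by norm_num, by norm_num,
        ⟨e.trans e'.symm⟩⟩
    by_cases h6 : n = 6
    · subst h6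
      exact R.a6 H M K T Q A z hI ⟨e⟩
    by_cases h7 : 7 ≤ n
    · exact R.alt H M K T Q A z hI ⟨n, h7, h8, ⟨e⟩⟩
    have h55 : n = 5 := by omega
    subst h55
    have : Fact (Nat.Prime 5) := ⟨by norm_num⟩
    obtain ⟨e'⟩ := Cfsg.Agent.S0253.result (F := ZMod 5) (by simp)
    exact R.lTwo H M K T Q A z hI ⟨ZMod 5, inferInstance, inferInstance,
      hodd (p := 5) (by norm_num) (by norm_num) inferInstance, by simp, ⟨e.trans e'.symm⟩⟩
  · obtain ⟨p, hp, hp2, F, _, _, hF, n, hn2, hn4, ⟨e⟩⟩ := hn _ (of_psl h)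
    by_cases h3 : n = 2
    · subst h3
      exact R.lTwo H M K T Q A z hI ⟨F, inferInstance, inferInstance, hodd hp hp2 hF, hn4 rfl, ⟨e⟩⟩
    · exact R.lin H M K T Q A z hI ⟨F, inferInstance, inferInstance, n, hodd hp hp2 hF, by omega, ⟨e⟩⟩
  · exact R.psp H M K T Q A z hI ⟨hn _ (of_psp h), h2⟩
  · obtain ⟨p, hp, hp2, F, _, _, hF, n, q, hq, hn3, -, ⟨e⟩⟩ := hn _ (of_psu h)
    by_cases h3 : n = 3 ∧ q = 3
    · obtain ⟨rfl, rfl⟩ := h3
      exact R.u33 H M K T Q A z hI ⟨F, inferInstance, inferInstance, hq, ⟨e⟩⟩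
    by_cases h4 : n = 4 ∧ q = 3
    · obtain ⟨rfl, rfl⟩ := h4
      exact R.u43 H M K T Q A z hI ⟨F, inferInstance, inferInstance, hq, ⟨e⟩⟩
    · exact R.uni H M K T Q A z hI ⟨F, inferInstance, inferInstance, n, q, hodd hp hp2 hF, hq, hn3, h3, h4, ⟨e⟩⟩
  · exact R.omOdd H M K T Q A z hI (hn _ (of_omOdd h))
  · exact R.omPlus H M K T Q A z hI (hn _ (of_omPlus h))
  · exact R.omMinus H M K T Q A z hI (hn _ (of_omMinus h))
  · unfold IsExceptionalLieType at h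
    by_cases h3 : Lie.IsoChevG2 S ∨ Lie.IsoF4 S ∨ Lie.IsoChevE6 S ∨ Lie.IsoE7 S ∨ Lie.IsoE8 S
    · obtain ⟨p, hp, hp2, F, _, _, hF, h4⟩ := hn _ (of_chev h3)
      rcases h4 with ⟨h4, e⟩ | h4
      · by_cases h5 : Fintype.card F = 3
        · exact R.g23 H M K T Q A z hI ⟨F, inferInstance, inferInstance, h5, e⟩
        · exact R.g2 H M K T Q A z hI ⟨F, inferInstance, inferInstance, hodd hp hp2 hF, h5, e⟩
      · exact R.fe H M K T Q A z hI ⟨F, inferInstance, inferInstance, hodd hp hp2 hF, h4⟩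
    by_cases h4 : Lie.Iso2E6 S ∨ Lie.Iso3D4 S
    · exact R.twisted H M K T Q A z hI (hn _ (of_twisted h4))
    by_cases h5 : Lie.IsoSuzuki S
    · exact absurd (Or.inr (Or.inr (Or.inr (Or.inr (Or.inr (Or.inr (Or.inr (Or.inr (Or.inl ⟨rfl, h5⟩))))))))) h2
    by_cases h6 : Lie.Iso2F4 S
    · exact absurd (Or.inr (Or.inr (Or.inr (Or.inr (Or.inr (Or.inr (Or.inr (Or.inr (Or.inr
        (Or.inl ⟨rfl, h6⟩)))))))))) h2
    by_cases h7 : Lie.IsoRee S
    · exact R.ree H M K T Q A z hI h7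
    by_cases h8 : Lie.IsoTits S
    · exact R.tits H M K T Q A z hI h8
    exfalso
    tauto
  · unfold IsSporadicGroup at h
    rcases h with h | h | h | h | h | h | h | h | h | h | h | h | h | h | h | h | h | h | h | h | h | h | h | h | h | h
    · exact R.m11 H M K T Q A z hI h
    · exact R.m12 H M K T Q A z hI h
    · exact R.m22 H M K T Q A z hI h
    · exact R.m23 H M K T Q A z hI h
    · exact R.m24 H M K T Q A z hI h
    · exact R.j1 H M K T Q A z hI h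
    · exact R.j2 H M K T Q A z hI h
    · exact R.j3 H M K T Q A z hI h
    · exact R.j4 H M K T Q A z hI h
    · exact R.co1 H M K T Q A z hI h
    · exact R.co2 H M K T Q A z hI h
    · exact R.co3 H M K T Q A z hI h
    · exact R.mcl H M K T Q A z hI h
    · exact R.hs H M K T Q A z hI h
    · exact R.suz H M K T Q A z hI h
    · exact R.he H M K T Q A z hI h
    · exact R.ru H M K T Q A z hI h
    · exact R.on H M K T Q A z hI h
    · exact R.ly H M K T Q A z hI h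
    · exact R.fi22 H M K T Q A z hI h
    · exact R.fi23 H M K T Q A z hI h
    · exact R.fi24 H M K T Q A z hI h
    · exact R.hn H M K T Q A z hI h
    · exact R.th H M K T Q A z hI h
    · exact R.b H M K T Q A z hI h
    · exact R.m H M K T Q A z hI h

end Cfsg.Agent.Omega.ML.Rows
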