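import Cfsg.Agent.Omega.ML.MinFrame
import Cfsg.Agent.Lib.SylowNormalInf
import Cfsg.Agent.Lib.KleinGen
import Cfsg.Agent.Lib.PGroupFixedVector

/-!
# (ML): first properties of a minimal counterexample (#15719 (1), (2), #16000 (1)); K-free

For `h : Fr K p H M T Q A z` (`MinFrame.lean`):

* `Fr.red` : strict `B ≤ O₂(C_R(z'))`, `R < H`, `z'` fixed by a Sylow 2-subgroup of `R`: `B` centralises `⟨z'^R⟩`;
  `Fr.red_o2` : `B ≤ O₂(R)`;  `Fr.le_o2` : `A ≤ O₂(R)` for all `T ≤ R < H`;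
* `Fr.o2_eq_bot`, `Fr.eq_top_of_normal` : `O₂(H) = 1`, `H = ⟨A^H⟩`;
* `Fr.irred` : `M` is irreducible;  `Fr.fix_eq` : `C_M(H) = 1`;  `Fr.point` : every `T`-fixed `z' ≠ 1` gives a frame;
* `quad` : strict abelian subgroups are quadratic;  `Fr.cv_le_of_hyp` : `C_M(B) = C_M(A)` for the hyperplanes `B`;
* `axb` : the `A x B`-lemma;  `Fr.odd_comm` : `A` centralises every subgroup of odd order which it normalises.
-/

set_option autoImplicit false

namespace Cfsg.Agent.Omega.ML.MinFrame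

open Subgroup Cfsg Cfsg.Agent.ClassTwoFusion.Quad Cfsg.Agent.Omega.NOThree.NoOver Cfsg.Agent.Omega.ML.CD
open Cfsg.Agent.ZN Cfsg.Agent.MinSimple.VModule

universe u v

/-! ### General facts -/

theorem le_normalizer_of {G : Type*} [Group G] {R N : Subgroup G} (h : ∀ g ∈ R, ∀ x ∈ N, g * x * g⁻¹ ∈ N) :
    R ≤ normalizer (N : Set G) := by
  intro g hg
  rw [mem_normalizer_iff]
  intro x
  refine ⟨h g hg x, fun hx => ?_⟩
  have h1 := h g⁻¹ (inv_mem hg) _ hx
  have e : g⁻¹ * (g * x * g⁻¹) * g⁻¹⁻¹ = x := by group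
  rwa [e] at h1

theorem conj_mem_of_le {G : Type*} [Group G] {R N : Subgroup G} (h : R ≤ normalizer (N : Set G)) {g x : G}
    (hg : g ∈ R) (hx : x ∈ N) : g * x * g⁻¹ ∈ N := (mem_normalizer_iff.1 (h hg) x).1 hx

/-- `O₂` of a normal subgroup -/
theorem o2_le_o2 {G : Type*} [Group G] {R N : Subgroup G} (hN : N ≤ R) (hn : ∀ g ∈ R, ∀ x ∈ N, g * x * g⁻¹ ∈ N) :
    o2 N ≤ o2 R := by
  refine le_o2 ((o2_le N).trans hN) (o2_isPGroup N) (le_normalizer_of fun h hh x hx => ?_)
  have hc : (o2 N).map (MulAut.conj h).toMonoidHom ≤ o2 N := by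
    apply le_o2
    · rintro _ ⟨y, hy, rfl⟩
      exact hn h hh y (o2_le N hy)
    · exact (o2_isPGroup N).map _
    · refine le_normalizer_of fun y hy z hz => ?_
      obtain ⟨w, hw, rfl⟩ := hz
      have h1 : h⁻¹ * y * h ∈ N := by
        have := hn h⁻¹ (inv_mem hh) y hy
        rwa [inv_inv] at this
      refine ⟨(h⁻¹ * y * h) * w * (h⁻¹ * y * h)⁻¹, conj_mem_of_le (le_normalizer_o2 N) h1 hw, ?_⟩
      change h * ((h⁻¹ * y * h) * w * (h⁻¹ * y * h)⁻¹) * h⁻¹ = y * (h * w * h⁻¹) * y⁻¹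
      group
  exact hc ⟨x, hx, rfl⟩

section Mod

variable {H : Type*} [Group H] {M : Type*} [Group M] [MulDistribMulAction H M]

theorem comm_of_sq (sq : ∀ m : M, m * m = 1) (x y : M) : x * y = y * x := by
  have h1 : ∀ m : M, m⁻¹ = m := fun m => inv_eq_of_mul_eq_one_right (sq m)
  calc x * y = (x * y)⁻¹ := (h1 _).symm
    _ = y⁻¹ * x⁻¹ := mul_inv_rev x y
    _ = y * x := by rw [h1, h1]

/-- **Strict abelian subgroups are quadratic** (Timmesfeld). -/
theorem quad [Finite H] [Finite M] (sq : ∀ m : M, m * m = 1) {A : Subgroup H} (hA : Strict (fab M 1 1) A)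
    (hab : ∀ a ∈ A, ∀ b ∈ A, a * b = b * a) {a b : H} (ha : a ∈ A) (hb : b ∈ A) (m : M) :
    b • (a • m * m) = a • m * m := by
  have hM := comm_of_sq sq
  -- `B = C_A([m, A])`
  let B : Subgroup H := A ⊓ fxr H (closure {x : M | ∃ a ∈ A, x = a • m * m})
  have hmB : ∀ {b : H}, b ∈ B ↔ b ∈ A ∧ ∀ a ∈ A, b • (a • m * m) = a • m * m := by
    intro b
    constructor
    · rintro ⟨h1, h2⟩
      exact ⟨h1, fun a ha => h2 _ (subset_closure ⟨a, ha, rfl⟩)⟩
    · rintro ⟨h1, h2⟩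
      refine ⟨h1, fun x hx => ?_⟩
      have h3 : closure {x : M | ∃ a ∈ A, x = a • m * m} ≤ cv M ({b} : Set H) := by
        rw [closure_le]
        rintro _ ⟨a, ha, rfl⟩
        exact mem_cv_singleton.2 (h2 a ha)
      exact mem_cv_singleton.1 (h3 hx)
  -- symmetry
  have hsym : ∀ a ∈ A, ∀ b ∈ A, (b • (a • m * m) = a • m * m ↔ a • (b • m * m) = b • m * m) := by
    intro a ha b hb
    rw [smul_mul', smul_mul', ← mul_smul, ← mul_smul, hab b hb a ha]
    constructor
    · intro h1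
      have h2 : (a * b) • m = a • m * m * (b • m)⁻¹ := by rw [← h1]; group
      have h3 : (b • m)⁻¹ = b • m := inv_eq_of_mul_eq_one_right (sq _)
      rw [h2, h3, mul_assoc (a • m * m), hM (b • m) (a • m), ← mul_assoc, mul_assoc (a • m) m (a • m),
        hM m (a • m), ← mul_assoc, sq, one_mul, hM]
    · intro h1
      have h2 : (a * b) • m = b • m * m * (a • m)⁻¹ := by rw [← h1]; group
      have h3 : (a • m)⁻¹ = a • m := inv_eq_of_mul_eq_one_right (sq _)
      rw [h2, h3, mul_assoc (b • m * m), hM (a • m) (b • m), ← mul_assoc, mul_assoc (b • m) m (b • m),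
        hM m (b • m), ← mul_assoc, sq, one_mul, hM]
  suffices hB : B = A by
    have h1 : b ∈ B := hB.ge hb
    exact (hmB.1 h1).2 a ha
  by_contra hne
  have hlt : B < A := lt_of_le_of_ne inf_le_left hne
  have h1 := hA B hlt
  rw [fab_lt_iff hlt.le, pow_one, pow_one] at h1
  -- the injection `A / B → C_M(B) / C_M(A)`
  have hinv : ∀ x : M, x⁻¹ = x := fun x => inv_eq_of_mul_eq_one_right (sq x)
  have hcB : ∀ a ∈ A, a • m * m ∈ cv M (B : Set H) := fun a ha b hb => (hmB.1 hb).2 a ha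
  let φ : A → cv M (B : Set H) := fun a => ⟨(a : H) • m * m, hcB a a.2⟩
  have key : ∀ a b : A, ((φ a)⁻¹ * φ b ∈ (cv M (A : Set H)).subgroupOf (cv M (B : Set H))) ↔
      (a⁻¹ * b ∈ B.subgroupOf A) := by
    intro a b
    rw [mem_subgroupOf, mem_subgroupOf]
    change ((a : H) • m * m)⁻¹ * ((b : H) • m * m) ∈ cv M (A : Set H) ↔ (a : H)⁻¹ * (b : H) ∈ B
    have e1 : ((a : H) • m * m)⁻¹ * ((b : H) • m * m) = (a : H) • ((((a : H)⁻¹ * (b : H)) • m) * m) := by
      rw [hinv, smul_mul', ← mul_smul, mul_inv_cancel_left, mul_assoc, hM ((b : H) • m) m, ← mul_assoc m m, sq,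
        one_mul, hM]
    rw [e1, hmB]
    have hc : (a : H)⁻¹ * (b : H) ∈ A := mul_mem (inv_mem a.2) b.2
    constructor
    · intro h2
      refine ⟨hc, fun c hcA => ?_⟩
      rw [hsym c hcA _ hc]
      have h3 := h2 c hcA
      rw [← mul_smul, hab c hcA a a.2, mul_smul] at h3
      exact smul_left_cancel _ h3
    · rintro ⟨-, h2⟩ c hcA
      rw [← mul_smul, hab c hcA a a.2, mul_smul]
      congr 1
      exact (hsym c hcA _ hc).1 (h2 c hcA)
  have hle : B.relIndex A ≤ (cv M (A : Set H)).relIndex (cv M (B : Set H)) := by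
    let ψ : A ⧸ B.subgroupOf A → cv M (B : Set H) ⧸ (cv M (A : Set H)).subgroupOf (cv M (B : Set H)) :=
      Quotient.map' φ (by
        intro a b hab
        rw [QuotientGroup.leftRel_apply] at hab ⊢
        exact (key a b).2 hab)
    refine Nat.card_le_card_of_injective ψ ?_
    intro x y
    induction x using Quotient.inductionOn' with
    | h a =>
      induction y using Quotient.inductionOn' with
      | h b =>
        intro h2
        have h3 : (Quotient.mk'' (φ a) : cv M (B : Set H) ⧸ (cv M (A : Set H)).subgroupOf (cv M (B : Set H))) =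
          Quotient.mk'' (φ b) := h2
        apply Quotient.sound'
        rw [QuotientGroup.leftRel_apply, ← key]
        exact QuotientGroup.leftRel_apply.1 (Quotient.exact' h3)
  omega

/-- hyperplanes of strict subgroups have the same centraliser -/
theorem cv_le_of_hyp [Finite H] [Finite M] {A B : Subgroup H} (hA : Strict (fab M 1 1) A) (hB : B ≤ A)
    (h2 : B.relIndex A = 2) : cv M (B : Set H) ≤ cv M (A : Set H) := by
  have hlt : B < A := lt_of_le_of_ne hB fun h => by rw [h, relIndex_self] at h2; omega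
  have h1 := hA B hlt
  rw [fab_lt_iff hB, pow_one, pow_one, h2] at h1
  have h3 : (cv M (A : Set H)).relIndex (cv M (B : Set H)) ≠ 0 := relIndex_ne _ _
  exact relIndex_eq_one.1 (by omega)

/-- **The `A x B`-lemma**: `B` a 2-group, `e` of odd order commuting with `B` and centralising `C_M(B)`. -/
theorem axb [Finite M] (sq : ∀ m : M, m * m = 1) {B : Subgroup H} (hB : IsPGroup 2 B) {e : H} {n : ℕ}
    (hn : Odd n) (he : e ^ n = 1) (hcom : ∀ b ∈ B, b * e = e * b) (hc : ∀ m ∈ cv M (B : Set H), e • m = m) (m : M) :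
    e • m = m := by
  classical
  have hM := comm_of_sq sq
  let _ : CommGroup M := { (inferInstance : Group M) with mul_comm := hM }
  -- the norm
  let N : M → M := fun m => ∏ i ∈ Finset.range n, e ^ i • m
  have hN1 : ∀ x y, N (x * y) = N x * N y := by
    intro x y
    change ∏ i ∈ Finset.range n, e ^ i • (x * y) = _
    rw [← Finset.prod_mul_distrib]
    exact Finset.prod_congr rfl fun i _ => smul_mul' _ _ _
  have hN2 : ∀ x, N (e • x) = N x := by
    intro x
    obtain ⟨k, rfl⟩ := hn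
    change ∏ i ∈ Finset.range (2 * k + 1), e ^ i • e • x = ∏ i ∈ Finset.range (2 * k + 1), e ^ i • x
    have h1 : ∀ i, e ^ i • e • x = e ^ (i + 1) • x := fun i => by rw [← mul_smul, ← pow_succ]
    rw [Finset.prod_congr rfl fun i _ => h1 i, Finset.prod_range_succ, Finset.prod_range_succ', he, pow_zero]
  have hN3 : ∀ b ∈ B, ∀ x, N (b • x) = b • N x := by
    intro b hb x
    have h1 : ∀ i, e ^ i • b • x = b • e ^ i • x := by
      intro i
      rw [← mul_smul, ← mul_smul]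
      have h2 : Commute b e := hcom b hb
      rw [(h2.pow_right i).eq]
    change ∏ i ∈ Finset.range n, e ^ i • b • x = b • ∏ i ∈ Finset.range n, e ^ i • x
    rw [Finset.prod_congr rfl fun i _ => h1 i]
    have h3 := map_prod (MulDistribMulAction.toMonoidHom M b) (fun i => e ^ i • x) (Finset.range n)
    exact h3.symm
  have hN4 : ∀ x, e • x = x → N x = x := by
    intro x hx
    have h1 : ∀ i, e ^ i • x = x := by
      intro i
      induction i with
      | zero => rw [pow_zero, one_smul]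
      | succ i ih => rw [pow_succ, mul_smul, hx, ih]
    change ∏ i ∈ Finset.range n, e ^ i • x = x
    rw [Finset.prod_congr rfl fun i _ => h1 i, Finset.prod_const, Finset.card_range]
    obtain ⟨k, rfl⟩ := hn
    rw [pow_succ, pow_mul, pow_two, sq, one_pow, one_mul]
  -- the kernel of the norm
  let W : Subgroup M :=
    { carrier := {x | N x = 1}
      one_mem' := by
        have h1 := hN1 1 1
        rw [mul_one] at h1
        exact mul_eq_left.1 h1.symm
      mul_mem' := fun {x y} hx hy => by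
        change N (x * y) = 1
        rw [hN1, show N x = 1 from hx, show N y = 1 from hy, mul_one]
      inv_mem' := fun {x} hx => by
        have h1 : x⁻¹ = x := inv_eq_of_mul_eq_one_right (sq x)
        rw [h1]
        exact hx }
  have hW : ∀ x, x ∈ W ↔ N x = 1 := fun _ => Iff.rfl
  -- it is trivial
  have hWb : W = ⊥ := by
    by_contra hne
    have hWB : ∀ b : B, ∀ x ∈ W, (b : H) • x ∈ W := fun b x hx => by
      rw [hW, hN3 b b.2, (hW x).1 hx, smul_one]
    let _ : MulAction B W :=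
      { smul := fun b x => ⟨(b : H) • (x : M), hWB b x x.2⟩
        one_smul := fun x => Subtype.ext (one_smul H (x : M))
        mul_smul := fun b c x => Subtype.ext (mul_smul (b : H) (c : H) (x : M)) }
    have hcard : 2 ∣ Nat.card W := by
      have h1 : IsPGroup 2 W := fun x => ⟨1, by
        rw [pow_one, pow_two]
        exact Subtype.ext (sq x)⟩
      have : Nontrivial W := (Subgroup.nontrivial_iff_ne_bot _).2 hne
      obtain ⟨k, hk⟩ := IsPGroup.iff_card.1 h1
      rw [hk]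
      refine dvd_pow_self 2 ?_
      rintro rfl
      have h2 : 1 < Nat.card W := Finite.one_lt_card
      rw [hk, pow_zero] at h2
      omega
    have : Fact (Nat.Prime 2) := ⟨Nat.prime_two⟩
    obtain ⟨b, hb1, hb2⟩ := hB.exists_fixed_point_of_prime_dvd_card_of_fixed_point (α := W) hcard (a := 1)
      (fun b => Subtype.ext (smul_one (b : H)))
    have h3 : (b : M) ∈ cv M (B : Set H) := fun c hcB => congrArg Subtype.val (hb1 ⟨c, hcB⟩)
    have h4 := hN4 b (hc b h3)
    rw [(hW b).1 b.2] at h4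
    exact hb2 (Subtype.ext h4)
  have h5 : (e • m) * m⁻¹ ∈ W := by
    rw [hW, hN1, hN2]
    have h6 : m⁻¹ = m := inv_eq_of_mul_eq_one_right (sq m)
    rw [h6, sq]
  rw [hWb, mem_bot] at h5
  exact mul_inv_eq_one.1 h5

end Mod

/-! ### The frame -/

namespace Fr

variable {K : Frame.Cls.{u}} {p : Prop} {H : Type u} [Group H] [Finite H] {M : Type v} [Group M] [Finite M]
  [MulDistribMulAction H M] {T Q A : Subgroup H} {z : M}

omit [Finite H] [Finite M] in
theorem A_le_T_stab (h : Fr K p H M T Q A z) {a : H} (ha : a ∈ A) : a • z = z := h.fixQ a (h.AQ ha)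

theorem card_lt {R : Subgroup H} (hR : R ≠ ⊤) : Nat.card R < Nat.card H := by
  have h1 : R < ⊤ := lt_top_iff_ne_top.2 hR
  have h2 := Set.ncard_lt_ncard (SetLike.coe_ssubset_coe.2 h1) (Set.toFinite _)
  rwa [coe_top, Set.ncard_univ, ← Nat.card_coe_set_eq] at h2

/-- **(RED)** -/
theorem red (h : Fr K p H M T Q A z) {R : Subgroup H} (hR : R ≠ ⊤) {T' Q' B : Subgroup H} {z' : M}
    (hT : IsPGroup 2 T') (hTR : T' ≤ R) (hTi : ¬ 2 ∣ T'.relIndex R) (hTz : ∀ t ∈ T', t • z' = z')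
    (hQ : IsPGroup 2 Q') (hQR : Q' ≤ R) (hQz : ∀ q ∈ Q', q • z' = z')
    (hQn : ∀ g ∈ R, g • z' = z' → ∀ q ∈ Q', g * q * g⁻¹ ∈ Q') (hBQ : B ≤ Q') (hB2 : ∀ a ∈ B, a * a = 1)
    (hBn : p → ∀ t ∈ T', ∀ a ∈ B, t * a * t⁻¹ ∈ B) (hB : Strict (fab M 1 1) B) :
    B ≤ fxr H (orb R z') := by
  have h1 := rel_subgroup (M := M) R (h.ind R M (h.sec.sub H h.KH R) h.sq (Or.inl (card_lt hR)))
  have h2 := h1 T' Q' B z' (mem_top _) hT hTR hTi hTz hQ hQR hQz hQn hBQ hB2 hBn
  by_contra hc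
  have hlt : B ⊓ fxr H (orb R z') < B := lt_of_le_of_ne inf_le_left fun h3 => hc (inf_eq_left.1 h3)
  have h3 := relIndex_lt_of_moves hB (W := orb R z') hlt (cv_inf_eq_iff.2 inf_le_right)
  rw [pow_one, pow_one, inf_relIndex_left] at h3
  omega

theorem red_o2 (h : Fr K p H M T Q A z) {R : Subgroup H} (hR : R ≠ ⊤) {T' Q' B : Subgroup H} {z' : M}
    (hT : IsPGroup 2 T') (hTR : T' ≤ R) (hTi : ¬ 2 ∣ T'.relIndex R) (hTz : ∀ t ∈ T', t • z' = z')
    (hQ : IsPGroup 2 Q') (hQR : Q' ≤ R) (hQz : ∀ q ∈ Q', q • z' = z')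
    (hQn : ∀ g ∈ R, g • z' = z' → ∀ q ∈ Q', g * q * g⁻¹ ∈ Q') (hBQ : B ≤ Q') (hB2 : ∀ a ∈ B, a * a = 1)
    (hBn : p → ∀ t ∈ T', ∀ a ∈ B, t * a * t⁻¹ ∈ B) (hB : Strict (fab M 1 1) B) : B ≤ o2 R := by
  have h1 := h.red hR hT hTR hTi hTz hQ hQR hQz hQn hBQ hB2 hBn hB
  have hinv : ∀ g ∈ R, ∀ m ∈ orb R z', g • m ∈ orb R z' := fun g hg m hm => smul_mem_orb hg hm
  have h2 : o2 (R ⊓ fxr H (orb R z')) ≤ o2 R := o2_le_o2 inf_le_left fun g hg x hx =>
    ⟨R.mul_mem (R.mul_mem hg hx.1) (R.inv_mem hg), conj_mem_fxr hinv hg hx.2⟩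
  refine le_trans ?_ h2
  have h3 : Q' ⊓ (R ⊓ fxr H (orb R z')) ≤ o2 (R ⊓ fxr H (orb R z')) := by
    refine le_o2 inf_le_right (hQ.to_le inf_le_left) (le_normalizer_of fun g hg x hx => ⟨?_, ?_⟩)
    · exact hQn g hg.1 (hg.2 _ (mem_orb_self R z')) x hx.1
    · exact Subgroup.mul_mem _ (Subgroup.mul_mem _ hg hx.2) (Subgroup.inv_mem _ hg)
  exact le_trans (le_inf hBQ (le_inf (hBQ.trans hQR) h1)) h3

omit [Finite H] [Finite M] in
theorem not_dvd_relIndex (h : Fr K p H M T Q A z) {R : Subgroup H} (hR : T ≤ R) : ¬ 2 ∣ T.relIndex R :=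
  fun h2 => h.odd (h2.trans (Dvd.intro _ (relIndex_mul_index hR)))

omit [Finite M] in
/-- `O₂(C_H(z)) ≤ T`, so `A ≤ T` -/
theorem Q_le_T (h : Fr K p H M T Q A z) : Q ≤ T := by
  have h1 : T ≤ MulAction.stabilizer H z := fun t ht => h.fixT t ht
  have h2 : Q ≤ o2 (MulAction.stabilizer H z) :=
    le_o2 (fun q hq => h.fixQ q hq) h.Q2 (le_normalizer_of fun g hg x hx => h.nrmQ g hg x hx)
  refine h2.trans (o2_le_of_sylow h.two fun h3 => h.odd (h3.trans (Dvd.intro _ (relIndex_mul_index h1))))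

omit [Finite M] in
theorem A_le_T (h : Fr K p H M T Q A z) : A ≤ T := h.AQ.trans h.Q_le_T

/-- `A` centralises `⟨z^R⟩` for `T ≤ R < H` -/
theorem le_fxr (h : Fr K p H M T Q A z) {R : Subgroup H} (hT : T ≤ R) (hR : R ≠ ⊤) : A ≤ fxr H (orb R z) :=
  h.red hR h.two hT (h.not_dvd_relIndex hT) h.fixT h.Q2 (h.Q_le_T.trans hT) h.fixQ
    (fun g _ hg q hq => h.nrmQ g hg q hq) h.AQ h.Asq h.nrmA h.strict

/-- **`A ≤ O₂(R)` for `T ≤ R < H`** -/
theorem le_o2 (h : Fr K p H M T Q A z) {R : Subgroup H} (hT : T ≤ R) (hR : R ≠ ⊤) : A ≤ o2 R :=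
  h.red_o2 hR h.two hT (h.not_dvd_relIndex hT) h.fixT h.Q2 (h.Q_le_T.trans hT) h.fixQ
    (fun g _ hg q hq => h.nrmQ g hg q hq) h.AQ h.Asq h.nrmA h.strict

omit [Finite M] in
/-- `O₂(H) = 1` -/
theorem o2_eq_bot (h : Fr K p H M T Q A z) {N : Subgroup H} (hN : N.Normal) (h2 : IsPGroup 2 N) : N = ⊥ := by
  rw [eq_bot_iff]
  intro x hx
  rw [mem_bot]
  apply h.faithful
  have h1 : N ≤ T := by
    have h3 : N ≤ o2 (⊤ : Subgroup H) := Cfsg.Agent.MinSimple.VModule.le_o2 le_top h2 (le_normalizer_of fun g _ x hx => hN.conj_mem x hx g)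
    exact h3.trans (o2_le_of_sylow h.two (by rw [relIndex_top_right]; exact h.odd))
  have h3 : x ∈ fxr H (orb (⊤ : Subgroup H) z) := by
    rw [mem_fxr_orb]
    intro g _
    have h4 : g⁻¹ * x * g ∈ T := by
      have := hN.conj_mem x hx g⁻¹
      rw [inv_inv] at this
      exact h1 this
    have h5 := h.fixT _ h4
    rw [mul_smul, mul_smul, inv_smul_eq_iff] at h5
    exact h5
  rw [h.gen] at h3
  exact fun m => h3 m (mem_top m)

/-- `H = ⟨A^H⟩` -/
theorem eq_top_of_normal (h : Fr K p H M T Q A z) {N : Subgroup H} (hN : N.Normal) (hA : A ≤ N) : N = ⊤ := by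
  by_contra hne
  have hTi : ¬ 2 ∣ (T ⊓ N).relIndex N := by
    rw [inf_relIndex_right, ← Lib.SylowNormalInf.relIndex_sup_of_normal T N]
    exact h.not_dvd_relIndex le_sup_left
  have h1 := h.red_o2 hne (T' := T ⊓ N) (Q' := Q ⊓ N) (B := A) (z' := z) (h.two.to_le inf_le_left) inf_le_right hTi
    (fun t ht => h.fixT t ht.1) (h.Q2.to_le inf_le_left) inf_le_right (fun q hq => h.fixQ q hq.1)
    (fun g _ hgz q hq => ⟨h.nrmQ g hgz q hq.1, hN.conj_mem q hq.2 g⟩) (le_inf h.AQ hA) h.Asq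
    (fun hp t ht a ha => h.nrmA hp t ht.1 a ha) h.strict
  have h2 : o2 N ≤ o2 (⊤ : Subgroup H) := o2_le_o2 le_top fun g _ x hx => hN.conj_mem x hx g
  have h3 : o2 (⊤ : Subgroup H) = ⊥ := h.o2_eq_bot (by
    constructor
    intro x hx g
    exact conj_mem_of_le (le_normalizer_o2 ⊤) (mem_top g) hx) (o2_isPGroup _)
  exact h.ne (le_bot_iff.1 ((h1.trans h2).trans h3.le))

end Fr

end Cfsg.Agent.Omega.ML.MinFrame
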