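import Cfsg.Agent.Omega.ML.GMod
import Cfsg.Agent.Omega.NO3b.Bang
import Cfsg.Agent.Omega.FrameNOFF

/-!
# LEMMA GML, corollaries for `NN(S)` (helper567; helper133 bb OMEGA #23967 (5))

* `le_o2_of_gml` : `V ≤ S` without offender in `S`, `V ≤ O₂(C_G(Z))`, `C_G(Z) ≤ L ∈ L(S)` ⟹ `V ≤ O₂(L)`;
* **`NN.le_o2`** : the same for `V ∈ NN(S)`;  `NN.cent_zl` : `V` centralises `⟨Z^L⟩`;
* `NN.hul_le_o2`, `NN.hul_comm` : `⟨V^L⟩ ≤ O₂(L)`, and `⟨Z^L⟩` centralises `⟨V^L⟩`.
-/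

set_option autoImplicit false

namespace Cfsg.Agent.Omega.ML.GNN

open Subgroup Cfsg Cfsg.Agent.ZN Cfsg.Agent.ZN.ChoiceBase Cfsg.Agent.Omega.ML.Final
open Cfsg.Agent.Omega.MinPar Cfsg.Agent.Omega.Frame Cfsg.Agent.Omega.FrameNOFF Cfsg.Agent.Omega.FFThm
open Cfsg.Agent.Omega.NO3b.Bang Cfsg.Agent.Omega.ML.GMod
open Cfsg.Agent.MinSimple.VModule hiding mem_zc
open Cfsg.Agent.MinSimple.Basic (not_dvd_relIndex)

universe u

variable {G : Type u} [Group G]

/-- the hypotheses of LEMMA GML for `⟨Z^L⟩` and an elementary abelian `A ≤ O₂(C_G(Z))`, `C_G(Z) ≤ L` -/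
theorem zd_of [Finite G] {S : Sylow 2 G} (hG : IsCharacteristicTwoType G) {L A : Subgroup G}
    (hL : IsLoc (S : Subgroup G) L) (hC : CZ (S : Subgroup G) ≤ L) (hA : A ≤ o2 (CZ (S : Subgroup G)))
    (hsq : ∀ a ∈ A, a ^ 2 = 1) :
    ZD L (zl (S : Subgroup G) L) (zc (S : Subgroup G)) (S : Subgroup G) A where
  nV := le_normalizer_zl _ _
  sq := fun v hv => by
    have := zc_sq _ _ (hL.zl_le S hG hv)
    rwa [sq] at this
  ZV := zc_le_zl _ _
  gen := fun U hZ hLU => zl_le hZ hLU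
  TL := hL.le
  two := S.isPGroup'
  odd := not_dvd_relIndex S hL.le
  TZ := le_centralizer_zc _
  AO := by
    rwa [inf_eq_right.2 hC]
  Asq := fun a ha => by
    have := hsq a ha
    rw [← sq, this]
    exact one_mem _

theorem card_mul {A B : Subgroup G} (h : A ≤ B) : Nat.card A * A.relIndex B = Nat.card B := by
  have := relIndex_mul_relIndex (⊥ : Subgroup G) A B bot_le h
  rwa [relIndex_bot_left, relIndex_bot_left] at this

/-- `V` centralises `⟨Z^L⟩` -/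
theorem cent_zl_of [Finite G] (h : MLK.{u, u}) {S : Sylow 2 G} (hG : Ctx G) {L V : Subgroup G}
    (hL : IsLoc (S : Subgroup G) L) (hK : IsKGroup L) (hC : CZ (S : Subgroup G) ≤ L)
    (hVQ : V ≤ o2 (CZ (S : Subgroup G))) (hsq : ∀ v ∈ V, v ^ 2 = 1)
    (hn : zl (S : Subgroup G) L ≤ normalizer (V : Set G))
    (hnff : ∀ A : Subgroup G, A ≤ (S : Subgroup G) → ¬ OffM V A) :
    V ≤ centralizer (zl (S : Subgroup G) L : Set G) := by
  by_contra hne
  set U : Subgroup G := zl (S : Subgroup G) L with hU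
  have hU2 : U ≤ zc (o2 L) := hL.zl_le S hG.char2
  have hUS : U ≤ (S : Subgroup G) := (hU2.trans (zc_le _)).trans (hL.o2_le S)
  have h1 := (zd_of hG.char2 hL hC hVQ hsq).gml h hK
  rw [← hU] at h1
  refine hnff U hUS ⟨⟨?_, ?_⟩, fun hc => hne (cent_symm hc), ?_⟩
  · intro a ha
    rw [zc_sq _ _ (hU2 ha)]
    exact one_mem _
  · intro a ha b hb
    rw [zc_comm _ _ (hU2 ha) _ (hU2 hb), mul_inv_cancel_right, mul_inv_cancel]
    exact one_mem _
  · have e1 : Nat.card ↥(V ⊓ centralizer (U : Set G)) * (centralizer (U : Set G)).relIndex V = Nat.card V := by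
      rw [← inf_relIndex_left]
      exact card_mul inf_le_left
    have e2 : Nat.card ↥(U ⊓ centralizer (V : Set G)) * (centralizer (V : Set G)).relIndex U = Nat.card U := by
      rw [← inf_relIndex_left]
      exact card_mul inf_le_left
    rw [← e1, ← e2]
    calc Nat.card ↥(V ⊓ centralizer (U : Set G)) * (centralizer (U : Set G)).relIndex V *
          Nat.card ↥(U ⊓ centralizer (V : Set G))
        ≤ Nat.card ↥(V ⊓ centralizer (U : Set G)) * (centralizer (V : Set G)).relIndex U *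
          Nat.card ↥(U ⊓ centralizer (V : Set G)) := by
          exact Nat.mul_le_mul_right _ (Nat.mul_le_mul_left _ h1)
      _ = _ := by ring

/-- **`V ≤ S` without offender, `V ≤ O₂(C_G(Z))` implies `V ≤ O₂(L)` for every local `L ≥ C_G(Z)`.** -/
theorem le_o2_of_gml [Finite G] (h : MLK.{u, u}) {S : Sylow 2 G} (hG : Ctx G) {L V : Subgroup G}
    (hL : IsLoc (S : Subgroup G) L) (hK : IsKGroup L) (hC : CZ (S : Subgroup G) ≤ L)
    (hVQ : V ≤ o2 (CZ (S : Subgroup G))) (hsq : ∀ v ∈ V, v ^ 2 = 1)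
    (hn : zl (S : Subgroup G) L ≤ normalizer (V : Set G))
    (hnff : ∀ A : Subgroup G, A ≤ (S : Subgroup G) → ¬ OffM V A) : V ≤ o2 L := by
  have h1 := cent_zl_of h hG hL hK hC hVQ hsq hn hnff
  set U : Subgroup G := zl (S : Subgroup G) L with hU
  have hC1 : L ⊓ centralizer (U : Set G) ≤ CZ (S : Subgroup G) :=
    inf_le_right.trans (centralizer_le (zc_le_zl _ _))
  have hnC : L ≤ normalizer ((L ⊓ centralizer (U : Set G) : Subgroup G) : Set G) :=
    le_trans (le_inf Subgroup.le_normalizer ((le_normalizer_zl _ _).trans (nc U)))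
      inf_normalizer_le_normalizer_inf
  -- `O₂(C) ∩ C_L(U)` is a normal 2-subgroup of `C_L(U)`
  have h2 : o2 (CZ (S : Subgroup G)) ⊓ (L ⊓ centralizer (U : Set G)) ≤ o2 (L ⊓ centralizer (U : Set G)) := by
    refine le_o2 inf_le_right ((o2_isPGroup _).to_le inf_le_left) ?_
    exact le_trans (le_inf (hC1.trans (le_normalizer_o2 _)) Subgroup.le_normalizer)
      inf_normalizer_le_normalizer_inf
  have h3 : o2 (L ⊓ centralizer (U : Set G)) ≤ o2 L :=
    le_o2 ((o2_le _).trans inf_le_left) (o2_isPGroup _)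
      (hnC.trans (normalizer_le_normalizer_o2 _))
  have hQL : o2 (CZ (S : Subgroup G)) ≤ L := (o2_le _).trans hC
  exact (le_inf hVQ (le_inf (hVQ.trans hQL) h1)).trans (h2.trans h3)

section NN

variable [Finite G] {S : Sylow 2 G} {L V : Subgroup G}

/-- `V ∈ NN(S)`, `V ≤ O₂(C_G(Z))` centralises `⟨Z^L⟩` for every local `L ≥ C_G(Z)`. -/
theorem NN.cent_zl (hV : NN (S : Subgroup G) V) (h : MLK.{u, u}) (hG : Ctx G) (hL : IsLoc (S : Subgroup G) L)
    (hK : IsKGroup L) (hC : CZ (S : Subgroup G) ≤ L) (hVQ : V ≤ o2 (CZ (S : Subgroup G))) :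
    V ≤ centralizer (zl (S : Subgroup G) L : Set G) :=
  cent_zl_of h hG hL hK hC hVQ hV.sq
    ((((hL.zl_le S hG.char2).trans (zc_le _)).trans (hL.o2_le S)).trans hV.norm) hV.nff

/-- **`V ∈ NN(S)`, `V ≤ O₂(C_G(Z))` implies `V ≤ O₂(L)` for every local `L ≥ C_G(Z)`.** -/
theorem NN.le_o2 (hV : NN (S : Subgroup G) V) (h : MLK.{u, u}) (hG : Ctx G) (hL : IsLoc (S : Subgroup G) L)
    (hK : IsKGroup L) (hC : CZ (S : Subgroup G) ≤ L) (hVQ : V ≤ o2 (CZ (S : Subgroup G))) : V ≤ o2 L :=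
  le_o2_of_gml h hG hL hK hC hVQ hV.sq
    ((((hL.zl_le S hG.char2).trans (zc_le _)).trans (hL.o2_le S)).trans hV.norm) hV.nff

/-- `⟨V^L⟩ ≤ O₂(L)` -/
theorem NN.hul_le_o2 (hV : NN (S : Subgroup G) V) (h : MLK.{u, u}) (hG : Ctx G) (hL : IsLoc (S : Subgroup G) L)
    (hK : IsKGroup L) (hC : CZ (S : Subgroup G) ≤ L) (hVQ : V ≤ o2 (CZ (S : Subgroup G))) : hul V L ≤ o2 L :=
  hul_le_of (NN.le_o2 hV h hG hL hK hC hVQ) (le_normalizer_o2 _)

end NN

/-- a local subgroup is a `K`-group -/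
theorem kgroup_of_isLoc [Finite G] {S : Sylow 2 G} (hG : Ctx G) (h2 : ¬ IsPGroup 2 G) {L : Subgroup G}
    (hL : IsLoc (S : Subgroup G) L) : IsKGroup L :=
  haveI := hG.simple
  hG.kproper L (hL.ne_top S h2)

end Cfsg.Agent.Omega.ML.GNN
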