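import Cfsg.Agent.Omega.ML.Rows
import Cfsg.Agent.Omega.AltRow.Small
import Cfsg.Agent.Lib.SylowNormalInf
import Cfsg.Agent.Lib.NormalAbelian

/-!
# (ML), the K-list end: the rows `A₅` and `A₆` (helper482)

* `card_le_of_rk` : `|A| ≤ 2 ^ a` if `RK S a`; `deadG_of_rk` : the row of the groups with `RK S 2`; `deadG_five`;
* `deadG_six` : the row `A₆`, including all extensions inside `Aut(A₆)`.
-/

set_option autoImplicit false

namespace Cfsg.Agent.Omega.ML.AltSix

open Subgroup Equiv Cfsg Cfsg.Agent.ZN Cfsg.Agent.Omega.ML.Rows Cfsg.Agent.StdAlt.Six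
open Cfsg.Agent.MinSimple.VModule (o2_isPGroup o2_le le_normalizer_o2 o2_le_of_sylow)

universe u

section general

variable {X : Type u} [Group X] {S T A : Subgroup X}

theorem le_T (h : AS S T A) : A ≤ T := (h.low T le_rfl h.ne_top).trans (o2_le T)

/-- the action on a normal subgroup, transported -/
def act {K : Type*} [Group K] (S : Subgroup X) [S.Normal] (e : S ≃* K) : X →* MulAut K :=
  (MulAut.congr e).toMonoidHom.comp (MulAut.conjNormal (H := S))

/-- the embedding of `K` with image `S` -/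
def io {K : Type*} [Group K] (S : Subgroup X) (e : S ≃* K) : K →* X := S.subtype.comp e.symm.toMonoidHom

theorem io_mem {K : Type*} [Group K] (e : S ≃* K) (x : K) : io S e x ∈ S := (e.symm x).2

theorem io_inj {K : Type*} [Group K] (e : S ≃* K) : Function.Injective (io S e) :=
  S.subtype_injective.comp e.symm.injective

theorem io_surj {K : Type*} [Group K] (e : S ≃* K) {s : X} (hs : s ∈ S) : ∃ x, io S e x = s :=
  ⟨e ⟨s, hs⟩, by simp [io]⟩

theorem act_io {K : Type*} [Group K] [S.Normal] (e : S ≃* K) (g : X) (x : K) :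
    g * io S e x * g⁻¹ = io S e (act S e g x) := by
  simp [io, act, MulAut.congr, MulAut.conjNormal_apply]

theorem act_inj {K : Type*} [Group K] [S.Normal] (e : S ≃* K) (hC : centralizer (S : Set X) = ⊥) :
    Function.Injective (act S e) := by
  rw [injective_iff_map_eq_one]
  intro g hg
  have h1 : g ∈ centralizer (S : Set X) := by
    refine mem_centralizer_iff.2 fun s hs => ?_
    obtain ⟨x, rfl⟩ := io_surj e hs
    have h2 := act_io e g x
    rw [hg, MulAut.one_apply] at h2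
    exact (mul_inv_eq_iff_eq_mul.1 h2).symm
  rw [hC] at h1
  exact mem_bot.1 h1

theorem act_of_io {K : Type*} [Group K] [S.Normal] (e : S ≃* K) (u : K) : act S e (io S e u) = MulAut.conj u := by
  ext x
  apply io_inj e
  rw [← act_io, MulAut.conj_apply, map_mul, map_mul, map_inv]

theorem card_le_of_rk [Finite X] (h : AS S T A) {a : ℕ} (hr : Cfsg.Agent.Omega.TwoF.RK S a) :
    Nat.card A ≤ 2 ^ a := by
  have := h.norm
  have h1 := hr (A.map (act S (MulEquiv.refl S))) ?_
  · rwa [card_map_of_injective (act_inj (MulEquiv.refl S) h.cen)] at h1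
  · rintro _ ⟨x, hx, rfl⟩
    rw [← map_pow, pow_two, h.el x hx, map_one]

/-- The groups whose automorphism groups have 2-rank at most two. -/
theorem deadG_of_rk : DeadG.{u} (fun S _ => Cfsg.Agent.Omega.TwoF.RK S 2) :=
  fun _ _ _ _ _ _ h hr => card_le_of_rk h hr

theorem rk_congr {K L : Type*} [Group K] [Group L] (e : K ≃* L) {a : ℕ} (h : Cfsg.Agent.Omega.TwoF.RK L a) :
    Cfsg.Agent.Omega.TwoF.RK K a := by
  intro A hA
  have h1 := h (A.map (MulAut.congr e).toMonoidHom) ?_
  · rwa [card_map_of_injective (MulAut.congr e).injective] at h1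
  · rintro _ ⟨x, hx, rfl⟩
    rw [← map_pow, hA x hx, map_one]

/-- **The row `A₅`.** -/
theorem deadG_five : DeadG.{u} (fun S _ => Nonempty (S ≃* alternatingGroup (Fin 5))) := by
  rintro X _ _ S T A h ⟨e⟩
  exact card_le_of_rk h (rk_congr e (Cfsg.Agent.Omega.AltRow.rk (n := 5) (by norm_num) (by norm_num)))

theorem card_le_two_mul [Finite X] (A P : Subgroup X) (h : ∀ g ∈ A, ∀ k ∈ A, g ∉ P → k ∉ P → g * k ∈ P) :
    Nat.card A ≤ 2 * Nat.card (A ⊓ P : Subgroup X) := by
  by_cases hAP : A ≤ P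
  · rw [inf_eq_left.2 hAP]
    have : 0 < Nat.card A := Nat.card_pos
    omega
  · obtain ⟨a, ha, haP⟩ := SetLike.not_le_iff_exists.1 hAP
    have h2 : (P.subgroupOf A).index = 2 := by
      rw [Subgroup.index_eq_two_iff]
      refine ⟨⟨a, ha⟩, fun b => ?_⟩
      rw [Subgroup.mem_subgroupOf, Subgroup.mem_subgroupOf]
      by_cases hb : (b : X) ∈ P
      · refine Or.inr ⟨hb, fun h' => haP ?_⟩
        have h3 : (b : X)⁻¹ * ((b * ⟨a, ha⟩ : A) : X) ∈ P := P.mul_mem (P.inv_mem hb) h'
        simpa using h3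
      · exact Or.inl ⟨h b b.2 a ha hb haP, hb⟩
    have h3 := (P.subgroupOf A).card_mul_index
    rw [h2] at h3
    have h4 : Nat.card (P.subgroupOf A) = Nat.card (A ⊓ P : Subgroup X) := by
      rw [inf_comm, ← subgroupOf_map_subtype, card_map_of_injective A.subtype_injective]
    omega

end general

/-! ### degree six -/

theorem fix_a0 : ∀ σ : Perm (Fin 6), σ * z0 = z0 * σ → σ * a0 * σ⁻¹ = a0 ∨ σ * a0 * σ⁻¹ = a0 * z0 := by
  decide +kernel

theorem fix_b0 : ∀ σ : Perm (Fin 6), σ * z0 = z0 * σ → σ * b0 * σ⁻¹ = b0 ∨ σ * b0 * σ⁻¹ = b0 * z0 := by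
  decide +kernel

theorem cent_both : ∀ w : Perm (Fin 6), Perm.sign w = 1 → w * z0 = z0 * w →
    c0 * w * c0⁻¹ * z0 = z0 * (c0 * w * c0⁻¹) → d0 * w * d0⁻¹ * z0 = z0 * (d0 * w * d0⁻¹) → w = 1 ∨ w = z0 := by
  decide +kernel

theorem ne_facts : a0 ≠ b0 ∧ a0 ≠ b0 * z0 ∧ a0 * z0 ≠ b0 ∧ a0 * z0 ≠ b0 * z0 ∧ a0 * b0 ≠ b0 * a0 ∧
    a0 * (b0 * z0) ≠ b0 * z0 * a0 ∧ a0 * z0 * b0 ≠ b0 * (a0 * z0) ∧ a0 * z0 * (b0 * z0) ≠ b0 * z0 * (a0 * z0) := by
  decide +kernel

theorem ne_facts' : b0 * z0 ≠ 1 ∧ b0 * z0 ≠ z0 ∧ b0 * z0 ≠ a0 ∧ b0 * z0 ≠ a0 * z0 ∧ a0 ≠ 1 ∧ a0 ≠ z0 := by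
  decide +kernel

theorem perm_facts : c0 * (a0 * z0) * c0⁻¹ = z0 ∧ d0 * (b0 * z0) * d0⁻¹ = b0 := by
  decide +kernel

/-- the four-group `⟨Z0, w⟩` -/
def Fo (w x : A6) : Prop := x = 1 ∨ x = Z0 ∨ x = w ∨ x = w * Z0

section six

variable {X : Type u} [Group X] {S T A : Subgroup X}

/-- the stabiliser of a subset of `A₆` -/
def Sta (S : Subgroup X) [S.Normal] (e : S ≃* A6) (P : A6 → Prop) : Subgroup X where
  carrier := {g | ∀ x, P (act S e g x) ↔ P x}
  mul_mem' {g k} hg hk := fun x => by rw [map_mul, MulAut.mul_apply, hg, hk]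
  one_mem' := fun x => by rw [map_one, MulAut.one_apply]
  inv_mem' {g} hg := fun x => by
    have := hg (act S e g⁻¹ x)
    rw [← MulAut.mul_apply, ← map_mul, mul_inv_cancel, map_one, MulAut.one_apply] at this
    exact this.symm

theorem mem_Sta [S.Normal] {e : S ≃* A6} {P : A6 → Prop} {g : X} :
    g ∈ Sta S e P ↔ ∀ x, P (act S e g x) ↔ P x := Iff.rfl

theorem mem_Sta_of [S.Normal] {e : S ≃* A6} {P : A6 → Prop} {g : X} (h : ∀ x, P x → P (act S e g x))
    (h' : ∀ x, P x → P (act S e g⁻¹ x)) : g ∈ Sta S e P := by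
  intro x
  refine ⟨fun hx => ?_, h x⟩
  have := h' _ hx
  rwa [← MulAut.mul_apply, ← map_mul, inv_mul_cancel, map_one, MulAut.one_apply] at this

theorem mem_Sta_of_cube [S.Normal] {e : S ≃* A6} {P : A6 → Prop} {c : A6} (h3 : c * c * c = 1)
    (h : ∀ x, P x → P (c * x * c⁻¹)) : io S e c ∈ Sta S e P := by
  refine mem_Sta_of (fun x hx => ?_) (fun x hx => ?_)
  · rw [act_of_io, MulAut.conj_apply]; exact h x hx
  · have h1 := h _ (h x hx)
    have h2 : c⁻¹ = c * c := inv_eq_of_mul_eq_one_left h3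
    rw [← map_inv, act_of_io, MulAut.conj_apply, h2]
    have h4 : c * (c * x * c⁻¹) * c⁻¹ = c * c * x * (c * c)⁻¹ := by group
    rwa [h4] at h1

theorem fo_map {α : MulAut A6} {w : A6} (hz : α Z0 = Z0) (hw : α w = w ∨ α w = w * Z0) {x : A6} (hx : Fo w x) :
    Fo w (α x) := by
  rcases hx with rfl | rfl | rfl | rfl
  · exact Or.inl (map_one α)
  · exact Or.inr (Or.inl hz)
  · rcases hw with h | h
    · exact Or.inr (Or.inr (Or.inl h))
    · exact Or.inr (Or.inr (Or.inr h))
  · rw [map_mul, hz]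
    rcases hw with h | h
    · exact Or.inr (Or.inr (Or.inr (by rw [h])))
    · refine Or.inr (Or.inr (Or.inl ?_))
      rw [h, mul_assoc, Z0_sq, mul_one]

theorem ns_a0 {α : MulAut A6} (hz : α Z0 = Z0) (hn : NS α) : α A0 = A0 ∨ α A0 = A0 * Z0 := by
  obtain ⟨σ, hσ⟩ := hn
  have h1 : σ * z0 = z0 * σ := by
    have h2 := hσ Z0
    rw [hz] at h2
    exact (mul_inv_eq_iff_eq_mul.1 h2.symm)
  rcases fix_a0 σ h1 with h | h
  · exact Or.inl (Subtype.ext ((hσ A0).trans h))
  · exact Or.inr (Subtype.ext ((hσ A0).trans h))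

theorem ns_b0 {α : MulAut A6} (hz : α Z0 = Z0) (hn : NS α) : α B0 = B0 ∨ α B0 = B0 * Z0 := by
  obtain ⟨σ, hσ⟩ := hn
  have h1 : σ * z0 = z0 * σ := by
    have h2 := hσ Z0
    rw [hz] at h2
    exact (mul_inv_eq_iff_eq_mul.1 h2.symm)
  rcases fix_b0 σ h1 with h | h
  · exact Or.inl (Subtype.ext ((hσ B0).trans h))
  · exact Or.inr (Subtype.ext ((hσ B0).trans h))

/-- an involution of `T ∩ S` in the centre of `T` -/
theorem exists_z [Finite X] (h : AS S T A) (e : S ≃* A6) : ∃ z ∈ T ⊓ S, z ≠ 1 ∧ z * z = 1 ∧ ∀ t ∈ T, t * z = z * t := by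
  have := h.norm
  have hI : ¬ 2 ∣ T.relIndex S := Cfsg.Agent.Lib.SylowNormalInf.not_dvd_relIndex (h.two.toSylow h.syl) S
  let N : Subgroup T := (T ⊓ S).subgroupOf T
  have hN : N.Normal := by
    refine ⟨fun n hn g => ?_⟩
    rw [mem_subgroupOf] at hn ⊢
    exact ⟨(g * n * g⁻¹).2, h.norm.conj_mem _ hn.2 _⟩
  have hNb : N ≠ ⊥ := by
    intro h1
    have h2 : T ⊓ S = ⊥ := by
      rw [eq_bot_iff]
      intro x hx
      have h3 : (⟨x, hx.1⟩ : T) ∈ N := mem_subgroupOf.2 hx
      rw [h1, mem_bot] at h3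
      exact mem_bot.2 (congrArg Subtype.val h3)
    have h3 := Cfsg.Agent.Lib.SylowNormalInf.card_inf_mul_relIndex T S
    rw [h2, card_bot, one_mul] at h3
    rw [h3, Nat.card_congr e.toEquiv] at hI
    apply hI
    have h4 : orderOf Z0 = 2 := by
      apply orderOf_eq_prime
      · rw [pow_two]; exact Z0_sq
      · exact Z0_ne
    rw [← h4]
    exact orderOf_dvd_natCard Z0
  have hp : Fact (Nat.Prime 2) := ⟨Nat.prime_two⟩
  have hnil : Group.IsNilpotent T := h.two.isNilpotent
  have hne := Cfsg.Agent.Lib.NormalAbelian.normal_inf_center_ne_bot N hNb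
  have h2 : IsPGroup 2 (N ⊓ center T : Subgroup T) := h.two.to_subgroup _
  have hnt : Nontrivial (N ⊓ center T : Subgroup T) := (Subgroup.nontrivial_iff_ne_bot _).2 hne
  obtain ⟨n, hn, hn'⟩ := h2.nontrivial_iff_card.1 hnt
  have h3 : 2 ∣ Nat.card (N ⊓ center T : Subgroup T) := by
    rw [hn']; exact dvd_pow_self 2 hn.ne'
  obtain ⟨z, hz⟩ := exists_prime_orderOf_dvd_card' 2 h3
  have hz1 : z * z = 1 := by rw [← pow_two, ← hz, pow_orderOf_eq_one]
  have hz2 : z ≠ 1 := by
    rintro rfl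
    rw [orderOf_one] at hz
    omega
  refine ⟨((z : T) : X), mem_subgroupOf.1 z.2.1, fun h1 => hz2 (Subtype.ext (Subtype.ext h1)),
    congrArg (fun y : (N ⊓ center T : Subgroup T) => ((y : T) : X)) hz1, fun t ht => ?_⟩
  exact congrArg Subtype.val (mem_center_iff.1 z.2.2 ⟨t, ht⟩)

/-- **normalisation** -/
theorem exists_e [Finite X] (h : AS S T A) (e : S ≃* A6) : ∃ e' : S ≃* A6, io S e' Z0 ∈ T ∧
    ∀ t ∈ T, t * io S e' Z0 = io S e' Z0 * t := by
  obtain ⟨z, hz, hz1, hzz, hzT⟩ := exists_z h e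
  obtain ⟨x, hx⟩ := io_surj e hz.2
  have hx2 : x * x = 1 := io_inj e (by rw [map_mul, hx, hzz, map_one])
  have hx1 : x ≠ 1 := fun h1 => hz1 (by rw [← hx, h1, map_one])
  obtain ⟨w, hw⟩ := exists_conj_Z0 hx2 hx1
  have h1 : io S (e.trans (MulAut.conj w)) Z0 = z := by
    rw [← hx]
    show ((e.symm ((MulAut.conj w).symm Z0) : S) : X) = ((e.symm x : S) : X)
    rw [← hw]
    congr 2
    rw [MulAut.conj_symm_apply]
    group
  exact ⟨e.trans (MulAut.conj w), by rw [h1]; exact hz.1, by rw [h1]; exact hzT⟩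

/-- **The row `A₆`.** -/
theorem card_six [Finite X] (h : AS S T A) (e₀ : S ≃* A6) : Nat.card A ≤ 4 := by
  have hnorm := h.norm
  obtain ⟨e, hzT, hcT⟩ := exists_e h e₀
  have hAT := le_T h
  have hinj := act_inj e h.cen
  -- elements of `T` fix `Z0`
  have hfix : ∀ t ∈ T, act S e t Z0 = Z0 := by
    intro t ht
    apply io_inj e
    rw [← act_io, hcT t ht, mul_inv_cancel_right]
  have hio : ∀ x : A6, io S e x ∈ T → x * Z0 = Z0 * x := by
    intro x hx
    apply io_inj e
    rw [map_mul, map_mul, hcT _ hx]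
  have hodd : ∀ R : Subgroup X, T ≤ R → ¬ 2 ∣ T.relIndex R := fun R hR hd =>
    h.syl (hd.trans (Subgroup.relIndex_dvd_index_of_le hR))
  have hoT : ∀ R : Subgroup X, T ≤ R → o2 R ≤ T := fun R hR => o2_le_of_sylow h.two (hodd R hR)
  -- index of `A ∩ S` in the NS part
  let P : Subgroup X :=
    { carrier := {g | NS (act S e g)}
      one_mem' := by
        show NS (act S e 1)
        rw [map_one]; exact ⟨1, fun x => by rw [inv_one, mul_one, one_mul]; rfl⟩
      mul_mem' := fun {g k} hg hk => by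
        show NS (act S e (g * k))
        rw [map_mul]; exact hg.mul hk
      inv_mem' := fun {g} hg => by
        show NS (act S e g⁻¹)
        rw [map_inv]; exact NS.inv hg }
  have hSP : S ≤ P := by
    intro s hs
    obtain ⟨x, rfl⟩ := io_surj e hs
    show NS (act S e (io S e x))
    rw [act_of_io]; exact NS.conj x
  have hinner : ∀ g, ∀ σ : Perm (Fin 6), Perm.sign σ = 1 → (∀ x : A6, (act S e g x : Perm (Fin 6)) = σ * x * σ⁻¹) →
      g ∈ S := by
    intro g σ hσ hg
    have h1 : g = io S e ⟨σ, Equiv.Perm.mem_alternatingGroup.2 hσ⟩ := by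
      apply hinj
      rw [act_of_io]
      ext x : 1
      apply Subtype.ext
      rw [hg]; rfl
    rw [h1]; exact io_mem e _
  have hPS : ∀ g ∈ A ⊓ P, ∀ k ∈ A ⊓ P, g ∉ S → k ∉ S → g * k ∈ S := by
    rintro g ⟨-, σ, hσ⟩ k ⟨-, τ, hτ⟩ hgS hkS
    have s1 : Perm.sign σ = -1 := (Int.units_eq_one_or _).resolve_left fun h' => hgS (hinner g σ h' hσ)
    have s2 : Perm.sign τ = -1 := (Int.units_eq_one_or _).resolve_left fun h' => hkS (hinner k τ h' hτ)
    refine hinner (g * k) (σ * τ) (by rw [Perm.sign_mul, s1, s2]; decide) fun x => ?_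
    rw [map_mul, MulAut.mul_apply, hσ, hτ]; group
  have hc1 : Nat.card (A ⊓ P : Subgroup X) ≤ 2 * Nat.card (A ⊓ S : Subgroup X) := by
    have := card_le_two_mul (A ⊓ P) S hPS
    rwa [inf_assoc, inf_eq_right.2 hSP] at this
  have hc2 : Nat.card A ≤ 2 * Nat.card (A ⊓ P : Subgroup X) :=
    card_le_two_mul A P fun g _ k _ hg hk => by
      show NS (act S e (g * k))
      rw [map_mul]; exact NS.mul_of_not hg hk
  have hgen : ∀ R : Subgroup X, T ≤ R → ∀ r ∈ R, ∃ u : A6, io S e u ∈ R ∧ ∃ b ∈ A, r = io S e u * b := by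
    intro R hR r hr
    have h1 : r ∈ S ⊔ A := by rw [h.gen]; trivial
    obtain ⟨s, hs, b, hb, rfl⟩ := Subgroup.mem_sup_of_normal_left.1 h1
    obtain ⟨u, rfl⟩ := io_surj e hs
    refine ⟨u, ?_, b, hb, rfl⟩
    have := R.mul_mem hr (R.inv_mem (hR (hAT hb)))
    rwa [mul_inv_cancel_right] at this
  by_cases hNS : ∀ g, NS (act S e g)
  · -- no graph automorphism: two overgroups
    have hAP : A ⊓ P = A := inf_eq_left.2 fun g _ => hNS g
    have hone : ∀ w : A6, (∀ t ∈ T, act S e t w = w ∨ act S e t w = w * Z0) → T ≤ Sta S e (Fo w) := by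
      intro w hw t ht
      exact mem_Sta_of (fun x hx => fo_map (hfix t ht) (hw t ht) hx)
        (fun x hx => fo_map (hfix _ (T.inv_mem ht)) (hw _ (T.inv_mem ht)) hx)
    have hR1 : T ≤ Sta S e (Fo A0) := hone A0 fun t ht => ns_a0 (hfix t ht) (hNS t)
    have hR2 : T ≤ Sta S e (Fo B0) := hone B0 fun t ht => ns_b0 (hfix t ht) (hNS t)
    have f1 : C0 * Z0 * C0⁻¹ = A0 := Subtype.ext conjV_c0.1
    have f2 : C0 * A0 * C0⁻¹ = A0 * Z0 := Subtype.ext conjV_c0.2
    have f3 : D0 * Z0 * D0⁻¹ = B0 * Z0 := Subtype.ext conjV_d0.1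
    have f4 : D0 * B0 * D0⁻¹ = Z0 := Subtype.ext conjV_d0.2
    have f5 : C0 * (A0 * Z0) * C0⁻¹ = Z0 := Subtype.ext perm_facts.1
    have f6 : D0 * (B0 * Z0) * D0⁻¹ = B0 := Subtype.ext perm_facts.2
    obtain ⟨k1, k2, k3, k4, k5, k6⟩ := ne_facts'
    obtain ⟨n1, n2, n3, n4, -⟩ := ne_facts
    have hC : io S e C0 ∈ Sta S e (Fo A0) := by
      refine mem_Sta_of_cube C0_cube ?_
      rintro x (rfl | rfl | rfl | rfl)
      · exact Or.inl (by group)
      · exact Or.inr (Or.inr (Or.inl f1))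
      · exact Or.inr (Or.inr (Or.inr f2))
      · exact Or.inr (Or.inl f5)
    have hD : io S e D0 ∈ Sta S e (Fo B0) := by
      refine mem_Sta_of_cube D0_cube ?_
      rintro x (rfl | rfl | rfl | rfl)
      · exact Or.inl (by group)
      · exact Or.inr (Or.inr (Or.inr f3))
      · exact Or.inr (Or.inl f4)
      · exact Or.inr (Or.inr (Or.inl f6))
    have hT1 : Sta S e (Fo A0) ≠ ⊤ := by
      intro ht
      have h1 : io S e D0 ∈ Sta S e (Fo A0) := by rw [ht]; trivial
      have h2 := (mem_Sta.1 h1 Z0).2 (Or.inr (Or.inl rfl))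
      rw [act_of_io, MulAut.conj_apply, f3] at h2
      rcases h2 with h2 | h2 | h2 | h2
      · exact k1 (congrArg Subtype.val h2)
      · exact k2 (congrArg Subtype.val h2)
      · exact k3 (congrArg Subtype.val h2)
      · exact k4 (congrArg Subtype.val h2)
    have hT2 : Sta S e (Fo B0) ≠ ⊤ := by
      intro ht
      have h1 : io S e C0 ∈ Sta S e (Fo B0) := by rw [ht]; trivial
      have h2 := (mem_Sta.1 h1 Z0).2 (Or.inr (Or.inl rfl))
      rw [act_of_io, MulAut.conj_apply, f1] at h2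
      rcases h2 with h2 | h2 | h2 | h2
      · exact k5 (congrArg Subtype.val h2)
      · exact k6 (congrArg Subtype.val h2)
      · exact n1 (congrArg Subtype.val h2)
      · exact n2 (congrArg Subtype.val h2)
    have hAS : ∀ x : A6, io S e x ∈ A → x = 1 ∨ x = Z0 := by
      intro x hx
      have g1 : io S e (C0 * x * C0⁻¹) ∈ T := by
        rw [map_mul, map_mul, map_inv]
        exact hoT _ hR1 ((mem_normalizer_iff.1 (le_normalizer_o2 _ hC) _).1 (h.low _ hR1 hT1 hx))
      have g2 : io S e (D0 * x * D0⁻¹) ∈ T := by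
        rw [map_mul, map_mul, map_inv]
        exact hoT _ hR2 ((mem_normalizer_iff.1 (le_normalizer_o2 _ hD) _).1 (h.low _ hR2 hT2 hx))
      rcases cent_both x (sign_val x) (congrArg Subtype.val (hio x (hAT hx))) (congrArg Subtype.val (hio _ g1))
        (congrArg Subtype.val (hio _ g2)) with h1 | h1
      · exact Or.inl (Subtype.ext h1)
      · exact Or.inr (Subtype.ext h1)
    have h1 : A ⊓ S ≤ zpowers (io S e Z0) := by
      rintro x ⟨hxA, hxS⟩
      obtain ⟨y, rfl⟩ := io_surj e hxS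
      rcases hAS y hxA with rfl | rfl
      · rw [map_one]; exact one_mem _
      · exact mem_zpowers _
    have h2 : Nat.card (zpowers (io S e Z0)) ≤ 2 := by
      rw [Nat.card_zpowers]
      refine Nat.le_of_dvd (by norm_num) (orderOf_dvd_of_pow_eq_one ?_)
      rw [← map_pow, pow_two, Z0_sq, map_one]
    have h3 := card_le_of_le h1
    rw [hAP] at hc1
    omega
  · -- a graph automorphism in `A`
    push Not at hNS
    obtain ⟨g, hg⟩ := hNS
    obtain ⟨u, -, a, ha, rfl⟩ := hgen ⊤ le_top g trivial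
    have hna : ¬ NS (act S e a) := by
      intro hn
      apply hg
      rw [map_mul, act_of_io]
      exact (NS.conj u).mul hn
    have hza := hfix a (hAT ha)
    have ca := cases_a0 hza hna
    have cb := cases_b0 hza hna
    obtain ⟨n1, n2, n3, n4, m1, m2, m3, m4⟩ := ne_facts
    -- `a v` does not commute with `v`
    have hnc : ∀ v : A6, v * Z0 = Z0 * v → v * v = 1 → v ≠ 1 → v ≠ Z0 → act S e a v * v ≠ v * act S e a v := by
      intro v hv h2 h1 hz
      have q1 : B0 * A0 ≠ A0 * B0 := fun hh => m1 (congrArg Subtype.val hh).symm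
      have q2 : B0 * Z0 * A0 ≠ A0 * (B0 * Z0) := fun hh => m2 (congrArg Subtype.val hh).symm
      have q3 : B0 * (A0 * Z0) ≠ A0 * Z0 * B0 := fun hh => m3 (congrArg Subtype.val hh).symm
      have q4 : B0 * Z0 * (A0 * Z0) ≠ A0 * Z0 * (B0 * Z0) := fun hh => m4 (congrArg Subtype.val hh).symm
      have zz : ∀ w : A6, w * Z0 * Z0 = w := fun w => by rw [mul_assoc, Z0_sq, mul_one]
      rcases cases_inv hv h2 h1 hz with rfl | rfl | rfl | rfl
      · rcases ca with c | c <;> rw [c]
        · exact q1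
        · exact q2
      · rw [map_mul, hza]
        rcases ca with c | c <;> rw [c]
        · exact q4
        · rw [zz]; exact q3
      · rcases cb with c | c <;> rw [c]
        · exact q1.symm
        · exact q3.symm
      · rw [map_mul, hza]
        rcases cb with c | c <;> rw [c]
        · exact q4.symm
        · rw [zz]; exact q2.symm
    have hAS : ∀ x : A6, io S e x ∈ A → x = 1 ∨ x = Z0 := by
      intro x hx
      by_contra hc
      push Not at hc
      have h1 := hio x (hAT hx)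
      have h2 : x * x = 1 := io_inj e (by rw [map_mul, h.el _ hx, map_one])
      refine hnc x h1 h2 hc.1 hc.2 ?_
      have h3 : act S e a x = x := by
        apply io_inj e
        rw [← act_io]
        have h4 : a * io S e x = io S e x * a := by
          have h5 := h.el _ (A.mul_mem ha hx)
          have h6 := h.el _ ha
          have h7 := h.el _ hx
          have h8 : a⁻¹ = a := inv_eq_of_mul_eq_one_left h6
          have h9 : (io S e x)⁻¹ = io S e x := inv_eq_of_mul_eq_one_left h7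
          have h10 : (a * io S e x)⁻¹ = a * io S e x := inv_eq_of_mul_eq_one_left h5
          rw [mul_inv_rev, h8, h9] at h10
          exact h10.symm
        rw [h4, mul_inv_cancel_right]
      rw [h3]
    by_cases hzA : io S e Z0 ∈ A
    · exfalso
      refine h.nmax ⟨centralizer ({io S e Z0} : Set X), ?_, fun R hTR hR r hr => ?_⟩
      · intro ht
        have h1 : io S e C0 ∈ centralizer ({io S e Z0} : Set X) := by rw [ht]; trivial
        rw [mem_centralizer_singleton_iff, ← map_mul, ← map_mul] at h1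
        have h2 := io_inj e h1
        have h3 : C0 * Z0 * C0⁻¹ = A0 := Subtype.ext conjV_c0.1
        rw [h2, mul_inv_cancel_right] at h3
        exact A0_ne_Z0 h3.symm
      · obtain ⟨u, hu, b, hb, rfl⟩ := hgen R hTR r hr
        refine mul_mem ?_ (mem_centralizer_singleton_iff.2 (hcT b (hAT hb)))
        rw [mem_centralizer_singleton_iff, ← map_mul, ← map_mul]
        congr 1
        by_contra hc
        have hn := fun (g : X) (hg : g ∈ R) (y : X) (hy : y ∈ o2 R) =>
          (mem_normalizer_iff.1 (le_normalizer_o2 R hg) y).1 hy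
        have hz : io S e Z0 ∈ o2 R := h.low R hTR hR hzA
        have hv : io S e (u * Z0 * u⁻¹) ∈ o2 R := by
          rw [map_mul, map_mul, map_inv]
          exact hn _ hu _ hz
        have hav : io S e (act S e a (u * Z0 * u⁻¹)) ∈ o2 R := by
          rw [← act_io]
          exact hn _ (hTR (hAT ha)) _ hv
        have hw : io S e (u⁻¹ * act S e a (u * Z0 * u⁻¹) * u) ∈ T := by
          have h1 := hn _ (R.inv_mem hu) _ hav
          rw [inv_inv, ← map_inv, ← map_mul, ← map_mul] at h1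
          exact hoT R hTR h1
        have h1 := hio _ hw
        refine hnc (u * Z0 * u⁻¹) (hio _ (hoT R hTR hv)) ?_ ?_ ?_ ?_
        · calc u * Z0 * u⁻¹ * (u * Z0 * u⁻¹) = u * (Z0 * Z0) * u⁻¹ := by group
            _ = 1 := by rw [Z0_sq]; group
        · intro h2
          apply Z0_ne
          rw [mul_inv_eq_one] at h2
          exact mul_eq_left.1 h2
        · intro h2
          exact hc (mul_inv_eq_iff_eq_mul.1 h2)
        · set y := act S e a (u * Z0 * u⁻¹) with hy
          calc y * (u * Z0 * u⁻¹) = u * (u⁻¹ * y * u * Z0) * u⁻¹ := by group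
            _ = u * (Z0 * (u⁻¹ * y * u)) * u⁻¹ := by rw [h1]
            _ = u * Z0 * u⁻¹ * y := by group
    · have h1 : A ⊓ S = ⊥ := by
        rw [eq_bot_iff]
        rintro x ⟨hxA, hxS⟩
        obtain ⟨y, rfl⟩ := io_surj e hxS
        rcases hAS y hxA with rfl | rfl
        · rw [map_one]; exact mem_bot.2 rfl
        · exact absurd hxA hzA
      rw [h1, card_bot] at hc1
      omega

end six

/-- **The row `A₆`.** -/
theorem deadG_six : DeadG.{u} (fun S _ => Nonempty (S ≃* alternatingGroup (Fin 6))) := by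
  rintro X _ _ S T A h ⟨e⟩
  exact card_six h e

end Cfsg.Agent.Omega.ML.AltSix
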