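import Cfsg.Agent.Omega.ML.TwF4Opp
import Cfsg.Agent.Omega.ML.Rows
import Cfsg.Agent.KFacts.TwF4.OutTwo
import Cfsg.Agent.KFacts.TwF4.Full

/-!
# (ML), the K-list end: the row `²F₄(q)`, `q ≥ 8` (helper335)

`X` almost simple with socle `S = ²F₄(q)`, `X = SA`, `A ≤ O₂(R)` for all `T ≤ R < X`, `T` a Sylow 2-subgroup.

* `AS.eq_top` : `X = S`, because all automorphisms of 2-power order of `²F₄(q)` are inner;
* `AS.exists_opp` : **there is a Sylow 2-subgroup `T'` of `X` with `A ⊓ R' = ⊥` for all `T' ≤ R' < X`** (the opposite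
  one: `A` lies in the unipotent radicals of both maximal parabolic subgroups over `T`);
* `exists_opp` : the same for one element `x` of all `O₂(R)`, `T ≤ R < X` (the literal form of helper116).
-/

set_option autoImplicit false
set_option linter.unusedSectionVars false

namespace Cfsg.Agent.Omega.ML.LieTwF4

open Subgroup Cfsg Cfsg.Lie Cfsg.Agent.ZN
open Cfsg.Agent.SplitTwo Cfsg.Agent.SplitTwo.ZS Cfsg.Agent.TitsThree.RankTwoZ Cfsg.Agent.SplitTwo.RootSysZ
open Cfsg.Agent.KFacts.TwF4 Cfsg.Agent.KFacts.TwF4.Arc Cfsg.Agent.KFacts.TwF4.Inv Cfsg.Agent.KFacts.TwF4.SylU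
open Cfsg.Agent.Omega.ML.TwF4Opp
open Cfsg.Agent.MinSimple.VModule (o2_isPGroup o2_le le_o2 le_normalizer_o2)
open Cfsg.Agent.Omega.ML.Rows (AS)

universe u v

section coord

variable {F : Type*} [Field F] [Finite F] {σ : F →+* F} {G : Type*} [Group G] [Finite G] [IsSimpleGroup G]
  (S : Full σ G) {X : Type*} [Group X] [Finite X]

/-- the image of a normal 2-subgroup of `R` under an isomorphism -/
theorem norm_comap (f : G ≃* X) (R : Subgroup G) :
    R ≤ normalizer (((o2 (R.map f.toMonoidHom)).comap f.toMonoidHom : Subgroup G) : Set G) := by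
  intro r hr
  have h1 := le_normalizer_o2 (R.map f.toMonoidHom) (mem_map_of_mem f.toMonoidHom hr)
  rw [mem_normalizer_iff] at h1 ⊢
  intro x
  have h2 := h1 (f x)
  show f x ∈ o2 (R.map f.toMonoidHom) ↔ f (r * x * r⁻¹) ∈ o2 (R.map f.toMonoidHom)
  rw [map_mul, map_mul, map_inv]
  exact h2

theorem map_ne_top (f : G ≃* X) {R : Subgroup G} (hR : R ≠ ⊤) : R.map f.toMonoidHom ≠ ⊤ := by
  intro h
  apply hR
  rw [eq_top_iff]
  intro x _
  have h1 : f x ∈ R.map f.toMonoidHom := by rw [h]; exact mem_top _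
  obtain ⟨y, hy, e⟩ := h1
  have e1 : y = x := f.injective e
  rwa [← e1]

/-- one element -/
theorem core (hF : ∃ c : Fˣ, c ≠ 1) (hR : S.R.p = 2) (f : G ≃* X) {x : X}
    (low : ∀ R : Subgroup X, (J S.XZ 1 8).map f.toMonoidHom ≤ R → R ≠ ⊤ → x ∈ o2 R) {R : Subgroup X}
    (h1 : (J S.XZ 9 16).map f.toMonoidHom ≤ R) (h2 : R ≠ ⊤) (hx : x ∈ R) : x = 1 := by
  have Z := S.zsys8
  obtain ⟨y, rfl⟩ := f.surjective x
  have hU1 : J S.XZ 1 8 ≤ normalizer (J S.XZ 2 8 : Set G) := by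
    refine J_le fun k h1 h2 => ?_
    exact (X_le_J (by omega) (by omega)).trans (Z.le_normalizer (a := 2) (b := 8) (by norm_num))
  have hU2 : J S.XZ 1 8 ≤ normalizer (J S.XZ 1 7 : Set G) := by
    refine J_le fun k h1 h2 => ?_
    exact (X_le_J (by omega) (by omega)).trans (Z.le_normalizer (a := 1) (b := 7) (by norm_num))
  have key : ∀ N : Subgroup G, J S.XZ 1 8 ≤ N → N ≠ ⊤ →
      y ∈ (o2 (N.map f.toMonoidHom)).comap f.toMonoidHom := fun N hN hN1 =>
    low (N.map f.toMonoidHom) (Subgroup.map_mono hN) (map_ne_top f hN1)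
  have htwo : ∀ N : Subgroup G, IsPGroup 2 ↥((o2 (N.map f.toMonoidHom)).comap f.toMonoidHom) := fun N =>
    (o2_isPGroup _).comap_of_injective f.toMonoidHom f.injective
  have h3 : y ∈ J S.XZ 2 8 := two_le_one S hF hR (htwo _) (norm_comap f _)
    (key _ hU1 (norm_ne_top S (by norm_num) (by norm_num)))
  have h4 : y ∈ J S.XZ 1 7 := two_le_two S hF hR (htwo _) (norm_comap f _)
    (key _ hU2 (norm_ne_top S (by norm_num) (by norm_num)))
  have h5 : R.comap f.toMonoidHom ≠ ⊤ := by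
    intro h
    apply h2
    rw [eq_top_iff]
    intro z _
    obtain ⟨w, rfl⟩ := f.surjective z
    have : w ∈ R.comap f.toMonoidHom := by rw [h]; exact mem_top _
    exact this
  have h6 := opp S hF hR (R := R.comap f.toMonoidHom) (Subgroup.map_le_iff_le_comap.1 h1) h5 h3 h4 hx
  rw [h6, map_one]

/-- an isomorphism carrying `U` to a given Sylow 2-subgroup -/
theorem exists_iso (hF : ∃ c : Fˣ, c ≠ 1) (hR : S.R.p = 2) (e : G ≃* X) {T : Subgroup X} (hT : IsPGroup 2 T)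
    (hs : ¬ 2 ∣ T.index) : ∃ f : G ≃* X, (J S.XZ 1 8).map f.toMonoidHom = T := by
  have hfact : Fact (Nat.Prime 2) := ⟨Nat.prime_two⟩
  obtain ⟨P, hP⟩ := exists_sylow S hF hR
  have hT2 : IsPGroup 2 ↥(T.comap e.toMonoidHom) := hT.comap_of_injective e.toMonoidHom e.injective
  have hi : ¬ 2 ∣ (T.comap e.toMonoidHom).index := by
    rw [index_comap_of_surjective T e.surjective]
    exact hs
  obtain ⟨g, hg⟩ := MulAction.exists_smul_eq G P (hT2.toSylow hi)
  have h1 : ∀ y, y ∈ J S.XZ 1 8 ↔ e (g * y * g⁻¹) ∈ T := by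
    intro y
    have h2 : g * y * g⁻¹ ∈ ((g • P : Sylow 2 G) : Subgroup G) ↔ y ∈ (P : Subgroup G) := by
      rw [Sylow.coe_subgroup_smul]
      have h3 := Subgroup.smul_mem_pointwise_smul_iff (a := MulAut.conj g) (S := (P : Subgroup G)) (x := y)
      exact h3
    rw [← hP, ← h2, hg]
    rfl
  refine ⟨(MulAut.conj g).trans e, ?_⟩
  ext x
  constructor
  · rintro ⟨y, hy, rfl⟩
    exact (h1 y).1 hy
  · intro hx
    obtain ⟨z, rfl⟩ := e.surjective x
    refine ⟨g⁻¹ * z * g, (h1 _).2 ?_, ?_⟩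
    · rwa [show g * (g⁻¹ * z * g) * g⁻¹ = z by group]
    · show e (g * (g⁻¹ * z * g) * g⁻¹) = e z
      rw [show g * (g⁻¹ * z * g) * g⁻¹ = z by group]

/-- **the opposite Sylow 2-subgroup** -/
theorem exists_opp_full (hF : ∃ c : Fˣ, c ≠ 1) (hR : S.R.p = 2) (e : G ≃* X) {T : Subgroup X} (hT : IsPGroup 2 T)
    (hs : ¬ 2 ∣ T.index) : ∃ T' : Subgroup X, IsPGroup 2 T' ∧ ¬ 2 ∣ T'.index ∧
      ∀ x : X, (∀ R : Subgroup X, T ≤ R → R ≠ ⊤ → x ∈ o2 R) →
        ∀ R' : Subgroup X, T' ≤ R' → R' ≠ ⊤ → x ∈ R' → x = 1 := by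
  obtain ⟨f, hf⟩ := exists_iso S hF hR e hT hs
  have h2 : IsPGroup 2 ↥(J S.XZ 9 16) := two_arc S.zsys8 (two_X S hR) (by norm_num)
  refine ⟨(J S.XZ 9 16).map f.toMonoidHom, h2.map _, ?_, ?_⟩
  · have h3 : Nat.card ↥((J S.XZ 9 16).map f.toMonoidHom) = Nat.card T := by
      rw [← hf, card_map_of_injective f.injective, card_map_of_injective f.injective]
      have h4 : (J S.XZ 9 16).map (S.ck (-4)).toMonoidHom = J S.XZ 1 8 := by
        have := S.map_J (k := -4) (a := 9) (b := 16)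
        norm_num at this
        exact this
      rw [← h4, card_map_of_injective (S.ck (-4)).injective]
    have h4 : ((J S.XZ 9 16).map f.toMonoidHom).index = T.index := by
      have h5 := ((J S.XZ 9 16).map f.toMonoidHom).index_mul_card
      have h6 := T.index_mul_card
      rw [h3] at h5
      exact Nat.eq_of_mul_eq_mul_right Nat.card_pos (h5.trans h6.symm)
    rwa [h4]
  · intro x low R' hR' hne hx
    refine core S hF hR f (fun R h3 h4 => low R ?_ h4) hR' hne hx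
    rwa [hf] at h3

end coord

/-- the parameters of `²F₄(q)`, `q ≥ 8` -/
theorem exists_full {K : Type v} [Group K] [Finite K] (h : Iso2F4 K) :
    ∃ (F : Type) (_ : Field F) (_ : Finite F) (σ : F →+* F) (m : ℕ) (G : Type) (_ : Group G) (_ : Finite G)
      (S : Full σ G), Nat.card F = 2 ^ (2 * m + 1) ∧ (∃ c : Fˣ, c ≠ 1) ∧ S.R.p = 2 ∧ Nonempty (G ≃* K) := by
  obtain ⟨F, _, _, m, hm, hK, ⟨e⟩⟩ := h
  obtain ⟨φ, hφ⟩ := Cfsg.Agent.ChevalleyStructure.TwF4.TwistedFix.exists_rln hK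
  have := Cfsg.Agent.ChevalleyStructure.TwF4.Twisted.charP_two hK
  have hfin : Finite ↥(twistedF4 F (2 ^ m)) := inferInstance
  have hF : ∃ c : Fˣ, c ≠ 1 := by
    have h1 : 1 < Nat.card Fˣ := by
      rw [Nat.card_units, Nat.card_eq_fintype_card, hK]
      have : 2 ^ 3 ≤ 2 ^ (2 * m + 1) := Nat.pow_le_pow_right (by norm_num) (by omega)
      omega
    have h2 : Nontrivial Fˣ := Finite.one_lt_card_iff_nontrivial.1 h1
    exact exists_ne 1
  exact ⟨F, inferInstance, inferInstance, φ, m, ↥(twistedF4 F (2 ^ m)), inferInstance, hfin,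
    Cfsg.Agent.KFacts.TwF4.Inst.full hK hφ, by rw [Nat.card_eq_fintype_card, hK], hF, rfl, ⟨e.symm⟩⟩

/-- `helper116`'s literal form, for `X` itself of type `²F₄(q)` -/
theorem exists_opp {X : Type u} [Group X] [Finite X] [IsSimpleGroup X] (hX : Iso2F4 X) {T : Subgroup X}
    (hT : IsPGroup 2 T) (hs : ¬ 2 ∣ T.index) : ∃ T' : Subgroup X, IsPGroup 2 T' ∧ ¬ 2 ∣ T'.index ∧
      ∀ x : X, (∀ R : Subgroup X, T ≤ R → R ≠ ⊤ → x ∈ o2 R) →
        ∀ R' : Subgroup X, T' ≤ R' → R' ≠ ⊤ → x ∈ R' → x = 1 := by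
  obtain ⟨F, _, _, σ, m, G, _, _, S, hcard, hF, hR, ⟨e⟩⟩ := exists_full hX
  have : IsSimpleGroup G := e.isSimpleGroup
  exact exists_opp_full S hF hR e hT hs

section rows

variable {X : Type u} [Group X] [Finite X] {S T A : Subgroup X}

/-- `X = S`: the elements of `A` are inner on `S` -/
theorem AS.eq_top (h : AS S T A) (hS : Iso2F4 S) : S = ⊤ := by
  have hn := h.norm
  obtain ⟨F, _, _, σ, m, G, _, _, SS, hcard, hF, hR, ⟨e⟩⟩ := exists_full hS
  have hA : A ≤ S := by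
    intro a ha
    obtain ⟨α, hα⟩ : ∃ α : MulAut S, α = MulAut.conjNormal a := ⟨_, rfl⟩
    have h1 : α ^ 2 ^ 1 = 1 := by
      rw [hα, ← map_pow, pow_one, pow_two, h.el a ha, map_one]
    obtain ⟨β, hβ⟩ : ∃ β : MulAut G, β = MulAut.congr e.symm α := ⟨_, rfl⟩
    have h2 : β ^ 2 ^ 1 = 1 := by rw [hβ, ← map_pow, h1, map_one]
    obtain ⟨x, hx⟩ := Cfsg.Agent.KFacts.TwF4.OutTwo.inner SS hcard hF hR h2
    have h3 : ∀ s : S, (α s : S) = e x * s * (e x)⁻¹ := by
      intro s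
      have h4 : β (e.symm s) = x * e.symm s * x⁻¹ := by rw [hx, MulAut.conj_apply]
      have h5 : β (e.symm s) = e.symm (α s) := by
        rw [hβ]
        show e.symm (α (e.symm.symm (e.symm s))) = _
        rw [MulEquiv.symm_symm, MulEquiv.apply_symm_apply]
      rw [h5] at h4
      have h6 := congrArg e h4
      rwa [MulEquiv.apply_symm_apply, map_mul, map_mul, map_inv, MulEquiv.apply_symm_apply] at h6
    have h4 : ((e x : S) : X)⁻¹ * a ∈ centralizer (S : Set X) := by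
      rw [mem_centralizer_iff]
      intro s hs
      have h5 := congrArg Subtype.val (h3 ⟨s, hs⟩)
      rw [hα, MulAut.conjNormal_apply] at h5
      have h6 : a * s * a⁻¹ = (e x : S) * s * ((e x : S) : X)⁻¹ := h5
      have h7 : s = ((e x : S) : X)⁻¹ * (a * s * a⁻¹) * (e x : S) := by rw [h6]; group
      calc s * (((e x : S) : X)⁻¹ * a)
          = ((e x : S) : X)⁻¹ * (a * s * a⁻¹) * (e x : S) * (((e x : S) : X)⁻¹ * a) := by rw [← h7]
        _ = ((e x : S) : X)⁻¹ * a * s := by group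
    rw [h.cen, mem_bot] at h4
    rw [← inv_mul_eq_one.1 h4]
    exact (e x).2
  rw [← h.gen]
  exact (sup_eq_left.2 hA).symm

/-- **The row `²F₄(q)`, `q ≥ 8`.** -/
theorem AS.exists_opp (h : AS S T A) (hS : Iso2F4 S) : ∃ T' : Subgroup X, IsPGroup 2 T' ∧ ¬ 2 ∣ T'.index ∧
    ∀ R' : Subgroup X, T' ≤ R' → R' ≠ ⊤ → A ⊓ R' = ⊥ := by
  have h1 := AS.eq_top h hS
  have hsim := h.simple
  have e : S ≃* X := (MulEquiv.subgroupCongr h1).trans topEquiv
  obtain ⟨F, _, _, σ, m, G, _, _, SS, hcard, hF, hR, ⟨e'⟩⟩ := exists_full hS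
  have : IsSimpleGroup G := e'.isSimpleGroup
  obtain ⟨T', h2, h3, h4⟩ := exists_opp_full SS hF hR (e'.trans e) h.two h.syl
  refine ⟨T', h2, h3, fun R' h5 h6 => ?_⟩
  rw [eq_bot_iff]
  intro x hx
  exact mem_bot.2 (h4 x (fun R h7 h8 => h.low R h7 h8 hx.1) R' h5 h6 hx.2)

end rows

end Cfsg.Agent.Omega.ML.LieTwF4
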