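import Cfsg.Agent.Omega.ML.InvRow
import Cfsg.Agent.OddHalf.D6.RThree.U33Facts

/-!
# (ML), the K-list end: the row `U₃(3)`, `U₃(3).2 = G₂(2)` (helper598)

* `seven`, `eight_le` : `M` of exponent 2, `w^7 = 1`, `w` nontrivial on `M`, `x w x⁻¹ = w⁻¹` ⟹ `64 ≤ |M : C_M(w)|`;
  if `x² = 1` moreover `8 ≤ |M : C_M(x)|`;
* `key` : an elementary abelian 2-subgroup `B` of `Aut U₃(3)` of order at least 8 has order 8 and contains an element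
  inverting an element of order 7 of `U₃(3)`;
* `dead` : the row.
-/

set_option autoImplicit false

namespace Cfsg.Agent.Omega.ML.RowU33

section module

open Subgroup Cfsg.Agent.ClassTwoFusion.Quad Cfsg.Agent.Omega.NOThree.NoOver Cfsg.Agent.Omega.ML.CD
open Cfsg.Agent.Omega.ML.InvFrob

section add

variable {V : Type*} [AddCommGroup V]

theorem card_eight [Finite V] {W : V → V} (N : AddSubgroup V) (hN : ∀ v ∈ N, W v ∈ N) (hW0 : W 0 = 0) {v : V}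
    (hv : v ∈ N) (h7 : W (W (W (W (W (W (W v)))))) = v) (hne : W v ≠ v) : 8 ≤ Nat.card N := by
  have h1 : Function.IsPeriodicPt W 7 v := h7
  have h2 : Function.minimalPeriod W v = 7 := by
    rcases (Nat.Prime.eq_one_or_self_of_dvd (by norm_num : Nat.Prime 7) _ h1.minimalPeriod_dvd) with h | h
    · exact absurd (Function.minimalPeriod_eq_one_iff_isFixedPt.1 h) hne
    · exact h
  have hinj : Set.InjOn (fun n => W^[n] v) (Set.Iio 7) := by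
    have := Function.iterate_injOn_Iio_minimalPeriod (f := W) (x := v)
    rwa [h2] at this
  have hmem : ∀ n, W^[n] v ∈ N := by
    intro n
    induction n with
    | zero => exact hv
    | succ n ih => rw [Function.iterate_succ_apply']; exact hN _ ih
  have hne0 : ∀ n < 7, W^[n] v ≠ 0 := by
    intro n hn h
    have h3 : W^[7 - n] (W^[n] v) = v := by
      rw [← Function.iterate_add_apply, Nat.sub_add_cancel hn.le]
      exact h7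
    have h4 : ∀ k, W^[k] (0 : V) = 0 := by
      intro k
      induction k with
      | zero => rfl
      | succ k ih => rw [Function.iterate_succ_apply', ih, hW0]
    rw [h, h4] at h3
    apply hne
    rw [← h3, hW0]
  let f : Option (Fin 7) → N := fun o => match o with
    | none => 0
    | some i => ⟨W^[(i : ℕ)] v, hmem _⟩
  have hf : Function.Injective f := by
    intro a b hab
    rcases a with _ | i <;> rcases b with _ | j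
    · rfl
    · exact absurd (congrArg Subtype.val hab).symm (hne0 j j.2)
    · exact absurd (congrArg Subtype.val hab) (hne0 i i.2)
    · have h5 : W^[(i : ℕ)] v = W^[(j : ℕ)] v := congrArg Subtype.val hab
      have h6 := hinj i.2 j.2 h5
      exact congrArg some (Fin.ext h6)
  have h3 := Nat.card_le_card_of_injective f hf
  have h4 : Nat.card (Option (Fin 7)) = 8 := by simp
  rwa [h4] at h3

theorem seven_add [Finite V] (h2 : ∀ v : V, v + v = 0) {W X : V →+ V} (hW : ∀ v, W (W (W (W (W (W (W v)))))) = v)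
    (hX : ∀ v, X (W v) = W (W (W (W (W (W (X v))))))) (hXi : Function.Injective X) (hne : ∃ v, W v ≠ v)
    (C : AddSubgroup V) (hC : ∀ v ∈ C, W v = v) : 64 ≤ C.index := by
  let p : V →+ V := AddMonoidHom.id V + W + W.comp (W.comp W)
  let q : V →+ V := AddMonoidHom.id V + W.comp W + W.comp (W.comp W)
  have hp : ∀ v, p v = v + W v + W (W (W v)) := fun v => rfl
  have hq : ∀ v, q v = v + W (W v) + W (W (W v)) := fun v => rfl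
  have hWi : Function.Injective W := by
    intro a b hab
    rw [← hW a, ← hW b, hab]
  have hn : ∀ v : V, -v = v := fun v => neg_eq_of_add_eq_zero_left (h2 v)
  have heq : ∀ a b : V, a + b = 0 → a = b := by
    intro a b h
    rw [← hn b]
    exact eq_neg_of_add_eq_zero_left h
  -- fixed vectors
  have hfp : ∀ v, p v = 0 → W v = v → v = 0 := by
    intro v hv hf
    rw [hp, hf, hf, hf, h2, zero_add] at hv
    exact hv
  have hfq : ∀ v, q v = 0 → W v = v → v = 0 := by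
    intro v hv hf
    rw [hq, hf, hf, hf, h2, zero_add] at hv
    exact hv
  have hint : ∀ v, p v = 0 → q v = 0 → v = 0 := by
    intro v h3 h4
    refine hfp v h3 ?_
    rw [hp] at h3
    rw [hq] at h4
    have h5 : W v = W (W v) := by
      have h6 : v + W v + W (W (W v)) = v + W (W v) + W (W (W v)) := by rw [h3, h4]
      exact add_left_cancel (add_right_cancel h6)
    exact (hWi h5).symm
  -- `X` exchanges the kernels
  have hpX : ∀ v, p v = 0 → q (X v) = 0 := by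
    intro v hv
    rw [hp] at hv
    have h3 := congrArg X hv
    rw [map_add, map_add, map_zero, hX v, hX (W (W v)), hX (W v), hX v] at h3
    simp only [hW] at h3
    have h4 := congrArg (fun y => W (W (W y))) h3
    simp only [map_add, map_zero, hW] at h4
    rw [hq]
    rw [← h4]
    abel
  have hqX : ∀ v, q v = 0 → p (X v) = 0 := by
    intro v hv
    rw [hq] at hv
    have h3 := congrArg X hv
    rw [map_add, map_add, map_zero, hX (W (W v)), hX (W v), hX v] at h3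
    simp only [hW] at h3
    have h4 := congrArg (fun y => W (W (W y))) h3
    simp only [map_add, map_zero, hW] at h4
    rw [hp]
    rw [← h4]
    abel
  -- nonzero elements
  have hex : ∃ v, v ≠ 0 ∧ (p v = 0 ∨ q v = 0) := by
    obtain ⟨y, hy⟩ := hne
    by_cases h3 : q (W y + y) = 0
    · exact ⟨W y + y, fun h => hy (heq _ _ h), Or.inr h3⟩
    · refine ⟨q (W y + y), h3, Or.inl ?_⟩
      rw [hp, hq]
      simp only [map_add, hW]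
      have key : ∀ a b c d e f g : V, (b + a + (d + c) + (e + d)) + (c + b + (e + d) + (f + e)) +
          (e + d + (g + f) + (a + g)) = (a + a) + (b + b) + (c + c) + ((d + d) + (d + d)) + ((e + e) + (e + e)) +
          (f + f) + (g + g) := by
        intro a b c d e f g; abel
      rw [key]
      simp only [h2]
  -- the two kernels
  have hbig : 8 ≤ Nat.card p.ker ∧ 8 ≤ Nat.card q.ker := by
    have hpW : ∀ v ∈ p.ker, W v ∈ p.ker := by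
      intro v hv
      rw [AddMonoidHom.mem_ker] at hv ⊢
      rw [hp] at hv ⊢
      rw [← map_add, ← map_add, hv, map_zero]
    have hqW : ∀ v ∈ q.ker, W v ∈ q.ker := by
      intro v hv
      rw [AddMonoidHom.mem_ker] at hv ⊢
      rw [hq] at hv ⊢
      rw [← map_add, ← map_add, hv, map_zero]
    have hX0 : ∀ v, v ≠ 0 → X v ≠ 0 := fun v hv h => hv (hXi (h.trans (map_zero X).symm))
    have h8p : ∀ v, v ≠ 0 → p v = 0 → 8 ≤ Nat.card p.ker := fun v h0 hv =>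
      card_eight p.ker hpW (map_zero W) (v := v) hv (hW v) (fun h => h0 (hfp v hv h))
    have h8q : ∀ v, v ≠ 0 → q v = 0 → 8 ≤ Nat.card q.ker := fun v h0 hv =>
      card_eight q.ker hqW (map_zero W) (v := v) hv (hW v) (fun h => h0 (hfq v hv h))
    obtain ⟨v, h0, h3 | h3⟩ := hex
    · exact ⟨h8p v h0 h3, h8q _ (hX0 v h0) (hpX v h3)⟩
    · exact ⟨h8p _ (hX0 v h0) (hqX v h3), h8q v h0 h3⟩
  let f : p.ker × q.ker → V ⧸ C := fun z => ((z.1 : V) + (z.2 : V) : V)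
  have hf : Function.Injective f := by
    rintro ⟨⟨a, ha⟩, ⟨b, hb⟩⟩ ⟨⟨a', ha'⟩, ⟨b', hb'⟩⟩ h
    rw [AddMonoidHom.mem_ker] at ha hb ha' hb'
    have h3 : -(a + b) + (a' + b') ∈ C := QuotientAddGroup.eq.1 h
    have h4 := hC _ h3
    set c := a' - a with hc
    set d := b' - b with hd
    have hpc : p c = 0 := by rw [hc, map_sub, ha, ha', sub_zero]
    have hqd : q d = 0 := by rw [hd, map_sub, hb, hb', sub_zero]
    have h5 : W (c + d) = c + d := by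
      have : c + d = -(a + b) + (a' + b') := by rw [hc, hd]; abel
      rw [this]; exact h4
    -- `W c + c = W d + d`
    have h6 : W c - c = -(W d - d) := by
      rw [map_add] at h5
      have : W c - c + (W d - d) = (W c + W d) - (c + d) := by abel
      rw [eq_neg_iff_add_eq_zero, this, h5, sub_self]
    have hpW : p (W c - c) = 0 := by
      have h7 : p (W c) = W (p c) := by
        rw [hp, hp, map_add, map_add]
      rw [map_sub, h7, hpc, map_zero, sub_zero]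
    have hqW : q (W d - d) = 0 := by
      have h7 : q (W d) = W (q d) := by
        rw [hq, hq, map_add, map_add]
      rw [map_sub, h7, hqd, map_zero, sub_zero]
    have h8 : W c - c = 0 := by
      refine hint _ hpW ?_
      rw [h6, map_neg, hqW, neg_zero]
    have h9 : W d - d = 0 := by rw [h8] at h6; exact neg_eq_zero.1 h6.symm
    have h10 : c = 0 := hfp c hpc (sub_eq_zero.1 h8)
    have h11 : d = 0 := hfq d hqd (sub_eq_zero.1 h9)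
    have h12 : a = a' := (sub_eq_zero.1 h10).symm
    have h13 : b = b' := (sub_eq_zero.1 h11).symm
    subst h12 h13
    rfl
  have h3 := Nat.card_le_card_of_injective f hf
  rw [Nat.card_prod] at h3
  calc 64 = 8 * 8 := rfl
    _ ≤ Nat.card p.ker * Nat.card q.ker := Nat.mul_le_mul hbig.1 hbig.2
    _ ≤ C.index := h3

end add

section mul

variable {H : Type*} [Group H]

theorem seven' {M : Type*} [CommGroup M] [Finite M] [MulDistribMulAction H M] {x w : H} (sq : ∀ m : M, m * m = 1)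
    (hw7 : w ^ 7 = 1) (hx : x * w * x⁻¹ = w⁻¹) (hne : ∃ m : M, w • m ≠ m) : 64 ≤ (cv M ({w} : Set H)).index := by
  have h7 : w⁻¹ = w ^ 6 := by
    rw [inv_eq_iff_mul_eq_one, ← pow_succ']
    exact hw7
  rw [← index_kr]
  refine seven_add (V := Additive M) (W := rho (M := M) w) (X := rho (M := M) x) (fun v => sq (Additive.toMul v))
    (fun v => ?_) (fun v => ?_) ?_ ?_ (kr M w) (fun v hv => mem_kr.1 hv)
  · have h1 : (rho (M := M) w ^ 7) v = v := by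
      rw [← map_pow, hw7, map_one]; rfl
    exact h1
  · have h1 : rho (M := M) x * rho w = rho w ^ 6 * rho x := by
      rw [← map_mul, ← map_pow, ← map_mul, ← h7, ← hx]
      congr 1
      group
    exact DFunLike.congr_fun h1 v
  · intro a b hab
    have h1 : ∀ v, rho (M := M) x⁻¹ (rho (M := M) x v) = v := by
      intro v
      rw [← mul_app, ← map_mul, inv_mul_cancel, map_one]; rfl
    rw [← h1 a, ← h1 b]
    exact congrArg _ hab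
  · obtain ⟨m, hm⟩ := hne
    exact ⟨Additive.ofMul m, hm⟩

/-- **Real elements of order 7**: `|M : C_M(w)| ≥ 64`. -/
theorem seven {M : Type*} [Group M] [Finite M] [MulDistribMulAction H M] {x w : H} (sq : ∀ m : M, m * m = 1)
    (hw7 : w ^ 7 = 1) (hx : x * w * x⁻¹ = w⁻¹) (hne : ∃ m : M, w • m ≠ m) : 64 ≤ (cv M ({w} : Set H)).index := by
  let _ : CommGroup M := { (inferInstance : Group M) with mul_comm := comm_of_sq sq }
  exact seven' sq hw7 hx hne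

/-- Involutions inverting an element of order 7: `|M : C_M(x)| ≥ 8`. -/
theorem eight_le {M : Type*} [Group M] [Finite M] [MulDistribMulAction H M] {x w : H} (sq : ∀ m : M, m * m = 1)
    (hxx : x * x = 1) (hw7 : w ^ 7 = 1) (hx : x * w * x⁻¹ = w⁻¹) (hne : ∃ m : M, w • m ≠ m) :
    8 ≤ (cv M ({x} : Set H)).index := by
  have h1 := (seven sq hw7 hx hne).trans (inv_index (M := M) hxx hx (by decide : Odd 7) hw7)
  by_contra hc
  push Not at hc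
  have h2 : (cv M ({x} : Set H)).index ^ 2 ≤ 7 ^ 2 := Nat.pow_le_pow_left (by omega) 2
  omega

end mul

end module

section kfact

open Matrix Subgroup Cfsg
open Cfsg.Agent.Classification.RTwo.UThreeThree (K9 card_k9 card_k9' IsGood psuEquiv center_SU)
open Cfsg.Agent.OddHalf.Small.U33
open Cfsg.Agent.OddHalf.D4.Small.KU33
open Cfsg.Agent.OddHalf.D6.RThree.U33

/-- elements of order 7 -/
def wtab (k : Fin 36) : Matrix (Fin 3) (Fin 3) K9 :=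
  ![!![⟨0, 0⟩, ⟨1, 1⟩, ⟨1, 2⟩; ⟨1, 1⟩, ⟨1, 0⟩, ⟨0, 1⟩; ⟨1, 1⟩, ⟨2, 0⟩, ⟨0, 2⟩],
    !![⟨0, 0⟩, ⟨1, 1⟩, ⟨1, 1⟩; ⟨2, 2⟩, ⟨1, 0⟩, ⟨2, 0⟩; ⟨1, 2⟩, ⟨0, 2⟩, ⟨0, 1⟩],
    !![⟨0, 0⟩, ⟨1, 1⟩, ⟨1, 1⟩; ⟨1, 2⟩, ⟨0, 1⟩, ⟨0, 2⟩; ⟨2, 2⟩, ⟨2, 0⟩, ⟨1, 0⟩],
    !![⟨0, 0⟩, ⟨0, 0⟩, ⟨1, 0⟩; ⟨1, 2⟩, ⟨1, 1⟩, ⟨0, 0⟩; ⟨2, 1⟩, ⟨1, 1⟩, ⟨0, 0⟩],
    !![⟨0, 0⟩, ⟨0, 0⟩, ⟨1, 0⟩; ⟨2, 1⟩, ⟨1, 1⟩, ⟨0, 0⟩; ⟨2, 1⟩, ⟨2, 2⟩, ⟨0, 0⟩],
    !![⟨0, 0⟩, ⟨0, 0⟩, ⟨1, 0⟩; ⟨1, 2⟩, ⟨1, 2⟩, ⟨0, 0⟩; ⟨2, 2⟩, ⟨1, 1⟩, ⟨0, 0⟩],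
    !![⟨0, 0⟩, ⟨0, 0⟩, ⟨1, 0⟩; ⟨2, 1⟩, ⟨1, 2⟩, ⟨0, 0⟩; ⟨2, 2⟩, ⟨2, 2⟩, ⟨0, 0⟩],
    !![⟨0, 0⟩, ⟨1, 2⟩, ⟨1, 1⟩; ⟨1, 1⟩, ⟨0, 2⟩, ⟨2, 0⟩; ⟨1, 1⟩, ⟨0, 1⟩, ⟨1, 0⟩],
    !![⟨0, 0⟩, ⟨0, 0⟩, ⟨0, 1⟩; ⟨1, 1⟩, ⟨1, 2⟩, ⟨0, 0⟩; ⟨2, 1⟩, ⟨2, 2⟩, ⟨0, 0⟩],
    !![⟨0, 0⟩, ⟨0, 0⟩, ⟨0, 1⟩; ⟨2, 2⟩, ⟨1, 2⟩, ⟨0, 0⟩; ⟨2, 1⟩, ⟨1, 1⟩, ⟨0, 0⟩],
    !![⟨0, 0⟩, ⟨0, 0⟩, ⟨0, 1⟩; ⟨1, 1⟩, ⟨1, 1⟩, ⟨0, 0⟩; ⟨1, 1⟩, ⟨2, 2⟩, ⟨0, 0⟩],
    !![⟨0, 0⟩, ⟨0, 0⟩, ⟨0, 1⟩; ⟨2, 2⟩, ⟨1, 1⟩, ⟨0, 0⟩; ⟨1, 1⟩, ⟨1, 1⟩, ⟨0, 0⟩],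
    !![⟨0, 0⟩, ⟨1, 1⟩, ⟨1, 2⟩; ⟨2, 2⟩, ⟨1, 0⟩, ⟨0, 1⟩; ⟨1, 1⟩, ⟨1, 0⟩, ⟨0, 1⟩],
    !![⟨0, 0⟩, ⟨1, 1⟩, ⟨1, 1⟩; ⟨1, 1⟩, ⟨1, 0⟩, ⟨2, 0⟩; ⟨1, 2⟩, ⟨0, 1⟩, ⟨0, 2⟩],
    !![⟨0, 0⟩, ⟨1, 2⟩, ⟨1, 1⟩; ⟨1, 1⟩, ⟨0, 1⟩, ⟨1, 0⟩; ⟨2, 2⟩, ⟨0, 1⟩, ⟨1, 0⟩],
    !![⟨0, 0⟩, ⟨0, 0⟩, ⟨1, 0⟩; ⟨1, 1⟩, ⟨1, 1⟩, ⟨0, 0⟩; ⟨2, 1⟩, ⟨1, 2⟩, ⟨0, 0⟩],
    !![⟨0, 0⟩, ⟨0, 0⟩, ⟨1, 0⟩; ⟨2, 2⟩, ⟨1, 1⟩, ⟨0, 0⟩; ⟨2, 1⟩, ⟨2, 1⟩, ⟨0, 0⟩],
    !![⟨0, 0⟩, ⟨0, 0⟩, ⟨1, 0⟩; ⟨1, 1⟩, ⟨1, 2⟩, ⟨0, 0⟩; ⟨2, 2⟩, ⟨1, 2⟩, ⟨0, 0⟩],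
    !![⟨0, 0⟩, ⟨0, 0⟩, ⟨1, 0⟩; ⟨2, 2⟩, ⟨1, 2⟩, ⟨0, 0⟩; ⟨2, 2⟩, ⟨2, 1⟩, ⟨0, 0⟩],
    !![⟨0, 0⟩, ⟨1, 1⟩, ⟨1, 1⟩; ⟨1, 2⟩, ⟨0, 2⟩, ⟨0, 1⟩; ⟨1, 1⟩, ⟨2, 0⟩, ⟨1, 0⟩],
    !![⟨0, 0⟩, ⟨0, 0⟩, ⟨0, 1⟩; ⟨2, 1⟩, ⟨1, 2⟩, ⟨0, 0⟩; ⟨2, 1⟩, ⟨2, 1⟩, ⟨0, 0⟩],
    !![⟨0, 0⟩, ⟨0, 0⟩, ⟨0, 1⟩; ⟨1, 2⟩, ⟨1, 2⟩, ⟨0, 0⟩; ⟨2, 1⟩, ⟨1, 2⟩, ⟨0, 0⟩],
    !![⟨0, 0⟩, ⟨0, 0⟩, ⟨0, 1⟩; ⟨2, 1⟩, ⟨1, 1⟩, ⟨0, 0⟩; ⟨1, 1⟩, ⟨2, 1⟩, ⟨0, 0⟩],
    !![⟨0, 0⟩, ⟨0, 0⟩, ⟨0, 1⟩; ⟨1, 2⟩, ⟨1, 1⟩, ⟨0, 0⟩; ⟨1, 1⟩, ⟨1, 2⟩, ⟨0, 0⟩],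
    !![⟨0, 1⟩, ⟨0, 1⟩, ⟨1, 2⟩; ⟨1, 1⟩, ⟨2, 2⟩, ⟨0, 0⟩; ⟨2, 0⟩, ⟨2, 0⟩, ⟨2, 2⟩],
    !![⟨0, 1⟩, ⟨0, 1⟩, ⟨1, 2⟩; ⟨2, 2⟩, ⟨2, 0⟩, ⟨1, 0⟩; ⟨1, 0⟩, ⟨1, 1⟩, ⟨2, 0⟩],
    !![⟨0, 1⟩, ⟨0, 1⟩, ⟨1, 2⟩; ⟨2, 0⟩, ⟨2, 1⟩, ⟨0, 1⟩; ⟨2, 2⟩, ⟨0, 2⟩, ⟨2, 0⟩],
    !![⟨0, 1⟩, ⟨0, 1⟩, ⟨1, 2⟩; ⟨1, 0⟩, ⟨1, 0⟩, ⟨1, 1⟩; ⟨1, 1⟩, ⟨2, 2⟩, ⟨0, 0⟩],
    !![⟨0, 1⟩, ⟨0, 1⟩, ⟨1, 2⟩; ⟨0, 1⟩, ⟨1, 1⟩, ⟨1, 0⟩; ⟨1, 2⟩, ⟨1, 0⟩, ⟨0, 2⟩],
    !![⟨0, 1⟩, ⟨0, 1⟩, ⟨1, 2⟩; ⟨0, 2⟩, ⟨1, 2⟩, ⟨0, 1⟩; ⟨2, 1⟩, ⟨0, 1⟩, ⟨0, 2⟩],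
    !![⟨0, 1⟩, ⟨0, 1⟩, ⟨1, 1⟩; ⟨2, 2⟩, ⟨2, 0⟩, ⟨0, 1⟩; ⟨0, 2⟩, ⟨1, 2⟩, ⟨2, 0⟩],
    !![⟨0, 1⟩, ⟨0, 1⟩, ⟨1, 1⟩; ⟨1, 1⟩, ⟨2, 2⟩, ⟨0, 0⟩; ⟨0, 1⟩, ⟨0, 1⟩, ⟨2, 2⟩],
    !![⟨0, 1⟩, ⟨0, 1⟩, ⟨1, 1⟩; ⟨1, 0⟩, ⟨1, 0⟩, ⟨2, 1⟩; ⟨1, 2⟩, ⟨2, 1⟩, ⟨0, 0⟩],
    !![⟨0, 1⟩, ⟨0, 1⟩, ⟨1, 1⟩; ⟨2, 0⟩, ⟨2, 1⟩, ⟨2, 0⟩; ⟨2, 1⟩, ⟨2, 0⟩, ⟨2, 0⟩],
    !![⟨0, 1⟩, ⟨0, 1⟩, ⟨1, 1⟩; ⟨0, 2⟩, ⟨1, 2⟩, ⟨2, 0⟩; ⟨1, 1⟩, ⟨1, 0⟩, ⟨0, 2⟩],
    !![⟨0, 1⟩, ⟨0, 1⟩, ⟨1, 1⟩; ⟨0, 1⟩, ⟨1, 1⟩, ⟨0, 1⟩; ⟨2, 2⟩, ⟨0, 2⟩, ⟨0, 2⟩]] k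

theorem wtab_good : ∀ k : Fin 36, IsGood (wtab k) := by decide +kernel

theorem wtab_seven : ∀ k : Fin 36, wtab k * wtab k * wtab k * (wtab k * wtab k * wtab k) * wtab k = 1 := by
  decide +kernel

theorem wtab_ne : ∀ k : Fin 36, wtab k ≠ 1 := by decide +kernel

theorem cover : ∀ d1 d2 a1 a2 b1 b2 : ZMod 3, (⟨d1, d2⟩ : K9) * cj ⟨d1, d2⟩ = 1 →
    (⟨a1, a2⟩ : K9) * cj ⟨a1, a2⟩ + ⟨b1, b2⟩ * cj ⟨b1, b2⟩ = 1 →
    cm ⟨d1, d2⟩ ⟨a1, a2⟩ ⟨b1, b2⟩ * (cm ⟨d1, d2⟩ ⟨a1, a2⟩ ⟨b1, b2⟩).map cj = 1 →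
    ∃ k : Fin 36, wtab k * (cm ⟨d1, d2⟩ ⟨a1, a2⟩ ⟨b1, b2⟩ * (wtab k).map cj) = cm ⟨d1, d2⟩ ⟨a1, a2⟩ ⟨b1, b2⟩ := by
  decide +kernel

/-- an outer involution centralising `t0` inverts an element of order 7 -/
theorem exists_seven {h : SU33} (hh : h * t0 = t0 * h) (hs : h * φ h = 1) :
    ∃ w : SU33, w ≠ 1 ∧ w ^ 7 = 1 ∧ w * (h * φ w) = h := by
  obtain ⟨h00, h21, h22, h11⟩ := param hh
  have hm : mt h = cm (mt h 0 0) (mt h 1 1) (mt h 1 2) := mt_cm hh rfl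
  have hs' : mt h * (mt h).map cj = 1 := by
    have := congrArg (fun x : SU33 => mt x) hs
    exact this
  generalize mt h 0 0 = d at hm h00
  generalize mt h 1 1 = a at hm h11
  generalize mt h 1 2 = b at hm h11
  rw [hm] at hs'
  obtain ⟨d1, d2⟩ := d
  obtain ⟨a1, a2⟩ := a
  obtain ⟨b1, b2⟩ := b
  obtain ⟨k, hk⟩ := cover d1 d2 a1 a2 b1 b2 h00 h11 hs'
  refine ⟨(wtab_good k).su, fun h1 => wtab_ne k ?_, ?_, ?_⟩
  · have := congrArg (fun x : SU33 => mt x) h1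
    exact this
  · have h1 : ∀ x : SU33, x ^ 7 = x * x * x * (x * x * x) * x := by
      intro x; simp only [pow_succ, pow_zero, one_mul, mul_assoc]
    rw [h1]
    apply mt_ext
    exact wtab_seven k
  · apply mt_ext
    rw [mt_mul, mt_mul, mt_φ, hm]
    exact hk

theorem inner_le {B : Subgroup SU33} (ht : t0 ∈ B) (h2 : ∀ b ∈ B, b * b = 1) : Nat.card B ≤ 4 := by
  classical
  have hc : ∀ b ∈ B, b * t0 = t0 * b := by
    intro b hb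
    have h1 := h2 _ (mul_mem hb ht)
    have h3 : b⁻¹ = b := inv_eq_of_mul_eq_one_right (h2 b hb)
    have h4 : t0⁻¹ = t0 := inv_eq_of_mul_eq_one_right t0_t0
    have h5 : b * t0 = (b * t0)⁻¹ := (inv_eq_of_mul_eq_one_right h1).symm
    rw [h5, _root_.mul_inv_rev, h3, h4]
  have hD : ∀ b ∈ B, D b = 1 ∨ D b = -1 := by
    intro b hb
    have h1 : D b * D b = 1 := by rw [← D_mul (hc b hb), h2 b hb, D_one]
    exact mul_self_eq_one_iff.1 h1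
  have h1 : ∀ b ∈ B, D b = 1 → b = 1 ∨ b = t0 := by
    intro x hx hd
    have h3 : InQ x := inQ_of_two (hc x hx) (isP_of_pow (k := 1) (by rw [pow_one, pow_two, h2 x hx])) (Or.inl hd)
    by_contra hcon
    push Not at hcon
    have h4 := isQ.sq x ⟨h3, hd⟩ hcon.1 hcon.2
    rw [h2 x hx] at h4
    exact t0_ne h4.symm
  obtain ⟨x, hx⟩ : ∃ x : SU33, ∀ b ∈ B, b = 1 ∨ b = t0 ∨ b = x ∨ b = x * t0 := by
    by_cases hex : ∃ x ∈ B, D x = -1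
    · obtain ⟨x, hx, hdx⟩ := hex
      refine ⟨x, fun b hb => ?_⟩
      rcases hD b hb with h | h
      · rcases h1 b hb h with h | h
        · exact Or.inl h
        · exact Or.inr (Or.inl h)
      · have h3 : D (x * b) = 1 := by rw [D_mul (hc x hx), hdx, h]; ring
        have h4 : b = x * (x * b) := by rw [← mul_assoc, h2 x hx, one_mul]
        rcases h1 _ (mul_mem hx hb) h3 with h5 | h5
        · rw [h5, mul_one] at h4
          exact Or.inr (Or.inr (Or.inl h4))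
        · rw [h5] at h4
          exact Or.inr (Or.inr (Or.inr h4))
    · push Not at hex
      refine ⟨1, fun b hb => ?_⟩
      rcases h1 b hb ((hD b hb).resolve_right (hex b hb)) with h | h
      · exact Or.inl h
      · exact Or.inr (Or.inl h)
  have h3 : (B : Set SU33) ⊆ (({1, t0, x, x * t0} : Finset SU33) : Set SU33) := by
    intro b hb
    have := hx b hb
    simpa using this
  have h4 := Set.ncard_le_ncard h3 (Finset.finite_toSet _)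
  rw [Set.ncard_coe_finset] at h4
  exact h4.trans Finset.card_le_four

instance : Finite (MulAut SU33) :=
  Finite.of_injective (fun φ => (φ : SU33 → SU33)) DFunLike.coe_injective

theorem key' {B : Subgroup (MulAut SU33)} (h2 : ∀ b ∈ B, b * b = 1) (h8 : 8 ≤ Nat.card B)
    (ht : MulAut.conj t0 ∈ B) :
    Nat.card B ≤ 8 ∧ ∃ β ∈ B, ∃ w : SU33, w ≠ 1 ∧ w ^ 7 = 1 ∧ β w = w⁻¹ := by
  set I := (MulAut.conj : SU33 →* MulAut SU33).range with hI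
  have h1 : Nat.card (B.comap (MulAut.conj : SU33 →* MulAut SU33)) ≤ 4 := by
    refine inner_le (mem_comap.2 ht) fun b hb => ?_
    apply conj_inj
    rw [map_mul, h2 _ hb, map_one]
  have h3 : Nat.card ↥(I ⊓ B) ≤ 4 := by
    have h4 : (B.comap (MulAut.conj : SU33 →* MulAut SU33)).map MulAut.conj = I ⊓ B := map_comap_eq _ _
    rw [← h4, card_map_of_injective (fun x y h => conj_inj h)]
    exact h1
  have h4 : Nat.card ↥(I ⊓ B) * I.relIndex B = Nat.card B := by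
    have h5 := relIndex_mul_relIndex (⊥ : Subgroup (MulAut SU33)) (I ⊓ B) B bot_le inf_le_right
    rw [relIndex_bot_left, relIndex_bot_left, inf_relIndex_right] at h5
    exact h5
  have h5 : I.relIndex B ≤ 2 := by
    have h6 : I.relIndex B ≤ I.relIndex ⊤ :=
      relIndex_le_of_le_right le_top (by rw [relIndex_top_right]; exact index_ne_zero_of_finite)
    rw [relIndex_top_right, index_inn] at h6
    exact h6
  refine ⟨by rw [← h4]; exact Nat.mul_le_mul h3 h5, ?_⟩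
  obtain ⟨β, hβ, hβI⟩ : ∃ β ∈ B, β ∉ I := by
    by_contra hcon
    push Not at hcon
    have h6 : I ⊓ B = B := inf_eq_right.2 hcon
    rw [h6] at h3
    omega
  have h6 : β t0 = t0 := by
    apply conj_inj
    have e1 : β * MulAut.conj t0 * β⁻¹ = MulAut.conj (β t0) := by
      refine MulEquiv.ext fun x => ?_
      rw [MulAut.mul_apply, MulAut.mul_apply, MulAut.conj_apply, MulAut.conj_apply, map_mul, map_mul, map_inv,
        MulAut.apply_inv_self]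
    rw [← e1]
    have e2 := h2 _ (mul_mem hβ ht)
    have e3 : β⁻¹ = β := inv_eq_of_mul_eq_one_right (h2 β hβ)
    have e4 : MulAut.conj t0 * MulAut.conj t0 = 1 := h2 _ ht
    calc β * MulAut.conj t0 * β⁻¹ = β * MulAut.conj t0 * β * (MulAut.conj t0 * MulAut.conj t0) := by
          rw [e3, e4, mul_one]
      _ = (β * MulAut.conj t0 * (β * MulAut.conj t0)) * MulAut.conj t0 := by group
      _ = MulAut.conj t0 := by rw [e2, one_mul]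
  obtain ⟨g, hg, h7 | h7⟩ := fix_cases h6
  · exact absurd ⟨g, h7.symm⟩ hβI
  have h8' : ∀ x, β x = (g * gi) * φ x * (g * gi)⁻¹ := by
    intro x
    rw [h7, MulAut.mul_apply, MulAut.conj_apply, f_apply]
    group
  have h9 : (g * gi) * φ (g * gi) = 1 := by
    apply conj_inj
    rw [map_one, ← h2 β hβ]
    refine MulEquiv.ext fun x => ?_
    have e1 : φ ((g * gi) * φ x * (g * gi)⁻¹) = φ (g * gi) * x * (φ (g * gi))⁻¹ := by
      rw [map_mul, map_mul _ (g * gi), map_inv, φφ]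
    rw [MulAut.mul_apply, h8' (β x), h8' x, e1, MulAut.conj_apply]
    group
  obtain ⟨w, hw1, hw7, hw⟩ := exists_seven (comm_mul hg gi_t0) h9
  refine ⟨β, hβ, w, hw1, hw7, ?_⟩
  rw [h8', eq_inv_iff_mul_eq_one]
  have e : (g * gi) * φ w = w⁻¹ * (g * gi) := by
    rw [eq_inv_mul_iff_mul_eq]; exact hw
  rw [e]
  group

theorem key {B : Subgroup (MulAut SU33)} (h2 : ∀ b ∈ B, b * b = 1) (h8 : 8 ≤ Nat.card B) :
    Nat.card B ≤ 8 ∧ ∃ β ∈ B, ∃ w : SU33, w ≠ 1 ∧ w ^ 7 = 1 ∧ β w = w⁻¹ := by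
  set I := (MulAut.conj : SU33 →* MulAut SU33).range with hI
  obtain ⟨T, hT, hT1⟩ : ∃ T : SU33, MulAut.conj T ∈ B ∧ T ≠ 1 := by
    by_contra hcon
    push Not at hcon
    have h3 : I ⊓ B = ⊥ := by
      rw [eq_bot_iff]
      rintro x ⟨⟨T, rfl⟩, hx⟩
      rw [hcon T hx, map_one]
      exact mem_bot.2 rfl
    have h4 : I.relIndex B = Nat.card B := by rw [← inf_relIndex_right, h3, relIndex_bot_left]
    have h6 : I.relIndex B ≤ I.relIndex ⊤ :=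
      relIndex_le_of_le_right le_top (by rw [relIndex_top_right]; exact index_ne_zero_of_finite)
    rw [relIndex_top_right, index_inn, h4] at h6
    omega
  have hTT : T * T = 1 := by
    apply conj_inj
    rw [map_mul, h2 _ hT, map_one]
  obtain ⟨v, hv, hTv⟩ := exists_fixed hTT hT1
  obtain ⟨g, hg⟩ := exists_su hv
  have hgi : mt g⁻¹ * mt g = 1 := by rw [← mt_mul, inv_mul_cancel, mt_one]
  have hS : g⁻¹ * T * g = t0 := by
    apply eq_t0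
    · calc g⁻¹ * T * g * (g⁻¹ * T * g) = g⁻¹ * (T * T) * g := by group
        _ = 1 := by rw [hTT]; group
    · intro h
      apply hT1
      calc T = g * (g⁻¹ * T * g) * g⁻¹ := by group
        _ = 1 := by rw [h]; group
    · rw [mt_mul, mt_mul, ← Matrix.mulVec_mulVec, ← Matrix.mulVec_mulVec, hg, hTv, ← hg,
        Matrix.mulVec_mulVec, hgi, Matrix.one_mulVec]
  -- conjugate `B`
  set γ : MulAut SU33 := MulAut.conj g⁻¹ with hγ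
  set B' := B.map (MulAut.conj γ).toMonoidHom with hB'
  have hcard : Nat.card B' = Nat.card B := card_map_of_injective (MulAut.conj γ).injective
  have h2' : ∀ b ∈ B', b * b = 1 := by
    rintro _ ⟨b, hb, rfl⟩
    rw [← map_mul, h2 b hb, map_one]
  have ht : MulAut.conj t0 ∈ B' := by
    refine ⟨MulAut.conj T, hT, ?_⟩
    show γ * MulAut.conj T * γ⁻¹ = MulAut.conj t0
    rw [← hS, hγ, ← map_inv, ← map_mul, ← map_mul, inv_inv]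
  obtain ⟨h3, β', ⟨β, hβ, rfl⟩, w, hw1, hw7, hw⟩ := key' h2' (by rw [hcard]; exact h8) ht
  refine ⟨by rw [← hcard]; exact h3, β, hβ, γ⁻¹ w, ?_, ?_, ?_⟩
  · intro h
    apply hw1
    have := congrArg γ h
    rwa [MulAut.apply_inv_self, map_one] at this
  · rw [← map_pow, hw7, map_one]
  · have h4 : γ (β (γ⁻¹ w)) = w⁻¹ := hw
    have h5 := congrArg (γ⁻¹ : MulAut SU33) h4
    rwa [MulAut.inv_apply_self, map_inv] at h5

end kfact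

section row

open Subgroup Cfsg Cfsg.Agent.ZN Cfsg.Agent.Omega.NOThree.NoOver Cfsg.Agent.Omega.ML.CD
open Cfsg.Agent.Omega.ML.Rows Cfsg.Agent.Omega.ML.InvChain Cfsg.Agent.Omega.ML.InvRow Cfsg.Agent.Omega.TwoF
open Cfsg.Agent.ClassTwoFusion.Quad
open Cfsg.Agent.OddHalf.Small.U33 (SU33)

universe u v

/-- **The row `U₃(3)`.** -/
theorem dead' : Dead.{u, v} (fun S _ => Nonempty (S ≃* SU33)) := by
  rintro H _ _ M _ _ _ K T A h ⟨e⟩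
  have hN := h.norm
  -- the image of `A`
  let F : A →* MulAut SU33 := (MulAut.congr e).toMonoidHom.comp ((act (K := K)).comp A.subtype)
  have hF : Function.Injective F := by
    have h1 : Function.Injective ((act (K := K)).comp A.subtype) := by
      rw [injective_iff_map_eq_one]
      intro a ha
      exact Subtype.ext (eq_one h (mem_centralizer_of_act h.qs ha) (h.el a a.2))
    exact (MulAut.congr e).injective.comp h1
  have hcard : Nat.card F.range = Nat.card A := (Nat.card_congr (MonoidHom.ofInjective hF).toEquiv).symm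
  obtain ⟨h8, _, ⟨x, rfl⟩, w₀, hw1, hw7, hw⟩ := key (B := F.range)
    (by
      rintro _ ⟨a, rfl⟩
      rw [← map_mul, show a * a = 1 from Subtype.ext (h.el a a.2), map_one])
    (by rw [hcard]; exact h.eight)
  rw [hcard] at h8
  have hxx : (x : H) * x = 1 := h.el x x.2
  -- the element of order 7 of `K / Z(K)`
  obtain ⟨k, hk⟩ := QuotientGroup.mk_surjective (e.symm w₀)
  have hk' : e (k : K ⧸ center K) = w₀ := by rw [hk, MulEquiv.apply_symm_apply]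
  have h1 : (act (x : H) : MulAut (K ⧸ center K)) (k : K ⧸ center K) = (k : K ⧸ center K)⁻¹ := by
    have h2 : e ((act (x : H) : MulAut (K ⧸ center K)) (e.symm w₀)) = w₀⁻¹ := hw
    rw [← hk] at h2
    apply e.injective
    rw [h2, map_inv, hk']
  -- in `H / C_H(K)`
  have hZ := h.normalZ
  set Z := centralizer (K : Set H) with hZdef
  have hcen : ∀ c : K, c ∈ center K → (c : H) ∈ Z := by
    intro c hc
    refine mem_centralizer_iff.2 fun y hy => ?_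
    exact congrArg Subtype.val (mem_center_iff.1 hc ⟨y, hy⟩)
  have hcen' : ∀ c : K, (c : H) ∈ Z → c ∈ center K := by
    intro c hc
    exact mem_center_iff.2 fun y => Subtype.ext (mem_centralizer_iff.1 hc y y.2)
  have h2 : (QuotientGroup.mk' Z) (x : H) * QuotientGroup.mk' Z (k : H) * (QuotientGroup.mk' Z (x : H))⁻¹ =
      (QuotientGroup.mk' Z (k : H))⁻¹ := by
    rw [← map_inv, ← map_mul, ← map_mul, ← map_inv]
    rw [act_mk, ← QuotientGroup.mk_inv] at h1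
    have h3 := QuotientGroup.eq.1 h1
    have h4 := hcen _ h3
    refine QuotientGroup.eq.2 ?_
    have h5 : (((MulAut.conjNormal (x : H) k : K)⁻¹ * k⁻¹ : K) : H) = ((x : H) * k * (x : H)⁻¹)⁻¹ * (k : H)⁻¹ := by
      simp
    rwa [h5] at h4
  have ho : orderOf (QuotientGroup.mk' Z (k : H)) = 7 := by
    have : Fact (Nat.Prime 7) := ⟨by norm_num⟩
    refine orderOf_eq_prime ?_ ?_
    · rw [← map_pow]
      refine (QuotientGroup.eq_one_iff _).2 ?_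
      have h3 : ((k ^ 7 : K) : K ⧸ center K) = 1 := by
        apply e.injective
        rw [QuotientGroup.mk_pow, map_pow, hk', hw7, map_one]
      have h4 := hcen _ ((QuotientGroup.eq_one_iff _).1 h3)
      rwa [Subgroup.coe_pow] at h4
    · intro h3
      have h4 := hcen' k ((QuotientGroup.eq_one_iff _).1 h3)
      apply hw1
      rw [← hk', (QuotientGroup.eq_one_iff k).2 h4, map_one]
  obtain ⟨w, hw2, hw3, hw4⟩ := lift_inv (QuotientGroup.mk' Z) (QuotientGroup.mk'_surjective Z)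
    (by
      intro c hc g
      rw [QuotientGroup.ker_mk'] at hc
      exact (h.zen c hc g).symm)
    (by
      rw [QuotientGroup.ker_mk', hZdef, h.card_centralizer]
      exact h.odd) hxx (w' := QuotientGroup.mk' Z (k : H)) (by rw [ho]; norm_num) (by rw [ho]; norm_num) h2
  rw [ho] at hw3
  have h5 : 8 ≤ (cv M ({(x : H)} : Set H)).index := by
    refine eight_le h.sq hxx (w := w) (by rw [← hw3]; exact pow_orderOf_eq_one w) hw4 ?_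
    by_contra hc
    push Not at hc
    rw [h.faith w hc, orderOf_one] at hw3
    omega
  have h6 := InvFrob.lt_card h.strict (fun h5 => by have := h.eight; rw [h5, Subgroup.card_bot] at this; omega) x.2
  omega

open Cfsg.Agent.Classification.RTwo.UThreeThree (K9 card_k9 psuEquiv) in
/-- **The row `U₃(3)`** (field `u33` of `RowsML`). -/
theorem dead : Dead.{u, v} (fun S _ => ∃ (F : Type) (_ : Field F) (_ : Fintype F), Fintype.card F = 9 ∧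
    Nonempty (S ≃* PSU 3 F 3)) := by
  rintro H _ _ M _ _ _ K T A h ⟨F, _, _, hF, ⟨e⟩⟩
  have hcard : Fintype.card F = Fintype.card K9 := by rw [hF, card_k9]
  let g : F ≃+* K9 := FiniteField.ringEquivOfCardEq hcard
  exact dead' H M K T A h ⟨e.trans ((psuEquiv hF).trans (LieClassical.FieldTransfer.suCongr 3 3 g))⟩

end row

end Cfsg.Agent.Omega.ML.RowU33
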