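import Cfsg.Agent.Omega.ML.RowLoc
import Cfsg.Agent.OddHalf.D6.RThree.L33Facts

/-!
# (ML), the K-list end: `L₃(3)` (helper600)
-/

set_option autoImplicit false
set_option Elab.async false

namespace Cfsg.Agent.Omega.ML.RowL33

open Matrix Subgroup Cfsg
open Cfsg.Agent.Omega.ML.Rows Cfsg.Agent.Omega.ML.RowLoc
open Cfsg.Agent.OddHalf.D4.Small Cfsg.Agent.OddHalf.D4.Small.KL33
open Cfsg.Agent.OddHalf.D6.RThree.L33Facts (dat d_mul d_inv d_neg mx_eq det_block cent_R' jz gg3 pow_two_dvd index_aux)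

universe u

/-- the class of `L₃(3)` -/
def IsL33 (S : Type u) [Group S] : Prop :=
  ∃ (F : Type) (_ : Field F) (_ : Fintype F), Fintype.card F = 3 ∧
    Nonempty (S ≃* Matrix.ProjectiveSpecialLinearGroup (Fin 3) F)

theorem isoClosed : IsoClosed.{u} (fun S _ => IsL33 S) := by
  rintro S S' _ _ e ⟨F, _, _, hF, ⟨f⟩⟩
  exact ⟨F, inferInstance, inferInstance, hF, ⟨e.symm.trans f⟩⟩

theorem oo_aux : ∀ a b c e : ZMod 3, a * e - b * c = -1 →
    ¬ PR ((gM * !![-1, 0, 0; 0, a, b; 0, c, e] * (gM * gM) * !![-1, 0, 0; 0, a, b; 0, c, e]) 1 1)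
      ((gM * !![-1, 0, 0; 0, a, b; 0, c, e] * (gM * gM) * !![-1, 0, 0; 0, a, b; 0, c, e]) 1 2)
      ((gM * !![-1, 0, 0; 0, a, b; 0, c, e] * (gM * gM) * !![-1, 0, 0; 0, a, b; 0, c, e]) 2 1)
      ((gM * !![-1, 0, 0; 0, a, b; 0, c, e] * (gM * gM) * !![-1, 0, 0; 0, a, b; 0, c, e]) 2 2) := by
  decide +kernel

/-- the commutator of `gg` and an involution of determinant `-1` is not in `Q₈` -/
theorem not_mem {n : SL33} (hc : n * z = z * n) (hd : mx n 0 0 = -1) : gg * n * (gg * gg) * n ∉ R := by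
  intro h
  have h1 := (show InR (gg * n * (gg * gg) * n) from h).2
  have h2 : mx (gg * n * (gg * gg) * n) = gM * mx n * (gM * gM) * mx n := rfl
  have h3 := det_block hc
  rw [hd] at h3
  rw [h2, mx_eq hc, hd] at h1
  exact oo_aux _ _ _ _ h3 h1

theorem loc : Loc z S where
  z1 := coreS.z1
  zz := coreS.z2
  pP := isPGroup_S
  odd := by
    have := odd_S
    rw [Nat.odd_iff] at this
    omega
  zc := fun p hp => (coreS.zc p hp).symm
  uniq := by
    intro x hx _
    have hzS : z ∈ S := (show InR z from z_R).inS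
    exact cent_R' (hx z hzS) fun r hr => hx r (show InR r from hr).inS
  oo := by
    intro N hN hc hn n hnN hnn
    have hnz := hc n hnN
    by_cases hd : mx n 0 0 = 1
    · exact jz hnz hd hnn
    · exfalso
      have hd' := d_neg hnz hd
      have hni : n⁻¹ = n := inv_eq_of_mul_eq_one_left hnn
      have hgi : gg⁻¹ = gg * gg := by
        rw [inv_eq_iff_mul_eq_one, ← mul_assoc]; exact gg3
      have hcN : gg * n * gg⁻¹ * n⁻¹ ∈ N := N.mul_mem (hn gg gg_z n hnN) (N.inv_mem hnN)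
      have hcz := hc _ hcN
      have hgz' : gg⁻¹ * z = z * gg⁻¹ := (show Commute gg z from gg_z).inv_left
      have hdc : mx (gg * n * gg⁻¹ * n⁻¹) 0 0 = 1 := by
        have hnz' : n⁻¹ * z = z * n⁻¹ := (show Commute n z from hnz).inv_left
        have e1 : (gg * n) * z = z * (gg * n) := comm_mul gg_z hnz
        have e2 : (gg * n * gg⁻¹) * z = z * (gg * n * gg⁻¹) := comm_mul e1 hgz'
        rw [d_mul e2, d_mul e1, d_mul gg_z, d_inv hnz, d_inv gg_z, hd']
        decide +kernel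
      obtain ⟨k, hk⟩ := hN ⟨_, hcN⟩
      have hR := dat.mem_R_of hcz hdc k (congrArg Subtype.val hk)
      rw [hgi, hni] at hR
      exact not_mem hnz hd' hR

/-- **the row `L₃(3)`** -/
theorem deadG : DeadG.{u} (fun S _ => IsL33 S) := by
  rintro X _ _ S' T A h ⟨F, _, _, hF, ⟨e⟩⟩
  obtain ⟨g⟩ := exists_equiv hF e
  have hfin : Finite S' := inferInstance
  refine AS.card_le_four_of_loc h (loc.of_equiv g.symm) ?_
  have h1 : S'.index ∣ 2 := by
    refine AS.index_dvd h ?_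
    obtain ⟨z, Q, ho⟩ := Cfsg.Agent.OddHalf.D6.RThree.L33Facts.exists_one hF e
    exact ho.out
  exact Nat.le_of_dvd (by norm_num) h1

end Cfsg.Agent.Omega.ML.RowL33
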