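import Cfsg.Agent.Omega.ML.Dual
import Cfsg.Agent.Omega.EH3.ST

/-!
# Chermak-Delgado for all subgroups, and orbit sums (OMEGA, (ML); #16692 of helper694); K-free

* `glob` : **(G)** `M` a faithful irreducible `H`-module over `F_p`, `B` ANY subgroup of `H`:
  `|B|^{m(M)} |H|^{m(C_M(B))} ≤ |H|^{m(M)}`, `m(W) = log_p |W|`;
* `over_off` : **(G1)** if `|A| = p^a` and `|A| |C_M(A)| > |M|` then `|M|^a ≤ |H|^(a-1)`;
  `exact_off` : if `A ≠ 1`, `|A| |C_M(A)| ≥ |M|` then `|M| ≤ |H|`;
* `orbit_sum` : **(SUM)** `A` abelian and strict, `A ≤ P₀`, `P₀` a 2-group, `v ∈ M` with `∏ v^{P₀} ≠ 1` (the product over the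
  orbit): then `A` centralises the orbit.
-/

set_option autoImplicit false
set_option linter.unusedVariables false

namespace Cfsg.Agent.Omega.ML.Glob

open Subgroup Cfsg.Agent.ClassTwoFusion.Quad Cfsg.Agent.Omega.NOThree.NoOver Cfsg.Agent.Omega.ML.CD
  Cfsg.Agent.Omega.ML.Dual

section G

variable {H : Type*} [Group H] {M : Type*} [Group M] [MulDistribMulAction H M]

/-- `log_p |W|` -/
noncomputable def mm (p : ℕ) (W : Subgroup M) : ℕ := Nat.log p (Nat.card W)

omit [MulDistribMulAction H M] in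
theorem card_eq [Finite M] {p : ℕ} (hp : p.Prime) (hM : IsPGroup p M) (W : Subgroup M) :
    Nat.card W = p ^ mm p W := by
  have : Fact p.Prime := ⟨hp⟩
  obtain ⟨n, hn⟩ := IsPGroup.iff_card.1 (hM.to_subgroup W)
  rw [mm, hn, Nat.log_pow hp.one_lt]

variable (M) in
/-- `|B|^{m(M)} |H|^{m(C_M(B))}` -/
noncomputable def F (p : ℕ) (B : Subgroup H) : ℕ :=
  Nat.card B ^ mm p (⊤ : Subgroup M) * Nat.card H ^ mm p (cv M (B : Set H))

theorem ls_F [Finite H] [Finite M] {p : ℕ} (hp : p.Prime) (hM : IsPGroup p M) :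
    LS (F M p : Subgroup H → ℕ) where
  pos := fun B => Nat.mul_pos (Nat.pow_pos Nat.card_pos) (Nat.pow_pos Nat.card_pos)
  sup := by
    intro B D
    have h1 := Nat.pow_le_pow_left (card_mul_card_le B D) (mm p (⊤ : Subgroup M))
    have h2 := card_cv_le (M := M) B D
    rw [card_eq hp hM, card_eq hp hM, card_eq hp hM, card_eq hp hM, ← pow_add, ← pow_add,
      Nat.pow_le_pow_iff_right hp.one_lt] at h2
    have h3 : Nat.card H ^ (mm p (cv M (B : Set H)) + mm p (cv M (D : Set H))) ≤
        Nat.card H ^ (mm p (cv M ((B ⊔ D : Subgroup H) : Set H)) + mm p (cv M ((B ⊓ D : Subgroup H) : Set H))) :=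
      Nat.pow_le_pow_right Nat.card_pos h2
    rw [mul_pow, mul_pow] at h1
    rw [pow_add, pow_add] at h3
    unfold F
    calc _ = (Nat.card B ^ mm p (⊤ : Subgroup M) * Nat.card D ^ mm p (⊤ : Subgroup M)) *
          (Nat.card H ^ mm p (cv M (B : Set H)) * Nat.card H ^ mm p (cv M (D : Set H))) := by ring
      _ ≤ _ := Nat.mul_le_mul h1 h3
      _ = _ := by ring
  conj := by
    intro g B
    have h1 : Nat.card (cj g B) = Nat.card B :=
      (Nat.card_congr (B.equivMapOfInjective _ (MulAut.conj g).injective).toEquiv).symm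
    have h2 : Nat.card (cv M (cj g B : Set H)) = Nat.card (cv M (B : Set H)) := by
      have h3 : cv M (cj g B : Set H) = _ := QData.cv_map_conj (V := M) B g
      rw [h3]
      exact (Nat.card_congr ((cv M (B : Set H)).equivMapOfInjective _
        (MulDistribMulAction.toMulEquiv M g : M ≃* M).injective).toEquiv).symm
    unfold F mm
    rw [h1, h2]

/-- **(G)** -/
theorem glob [Finite H] [Finite M] {p : ℕ} (hp : p.Prime) (hM : IsPGroup p M)
    (faith : ∀ h : H, (∀ m : M, h • m = m) → h = 1)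
    (irr : ∀ W : Subgroup M, (∀ h : H, ∀ w ∈ W, h • w ∈ W) → W = ⊥ ∨ W = ⊤) (B : Subgroup H) :
    Nat.card B ^ mm p (⊤ : Subgroup M) * Nat.card H ^ mm p (cv M (B : Set H)) ≤
      Nat.card H ^ mm p (⊤ : Subgroup M) := by
  have hF := ls_F (H := H) (M := M) hp hM
  set N := hi (F M p) (⊤ : Subgroup H) with hN
  have hbest := hF.best_hi (⊤ : Subgroup H)
  rw [← hN] at hbest
  have hcj : ∀ g : H, cj g N = N := by
    intro g
    have h1 := hF.hi_cj g (⊤ : Subgroup H)
    have h2 : cj g (⊤ : Subgroup H) = ⊤ := by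
      rw [eq_top_iff]
      intro x _
      exact mem_cj.2 (mem_top _)
    rw [h2] at h1
    exact h1.symm
  have h1 : F M p B ≤ F M p N := hbest.2 B le_top
  refine le_trans h1 ?_
  rcases irr (cv M (N : Set H)) (by
    intro h w hw a ha
    have h3 : h⁻¹ * a * h ∈ N := by
      have h4 : h⁻¹ * a * h⁻¹⁻¹ ∈ cj h⁻¹ N := mem_cj.2 (by
        rw [show h⁻¹⁻¹ * (h⁻¹ * a * h⁻¹⁻¹) * h⁻¹ = a by group]
        exact ha)
      rw [hcj, inv_inv] at h4
      exact h4
    have h5 := hw _ h3
    calc a • h • w = h • (h⁻¹ * a * h) • w := by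
          rw [← mul_smul, ← mul_smul]; congr 1; group
      _ = h • w := by rw [h5]) with h2 | h2
  · have h3 : mm p (cv M (N : Set H)) = 0 := by
      rw [mm, h2, card_bot, Nat.log_one_right]
    rw [F, h3, pow_zero, mul_one]
    exact Nat.pow_le_pow_left (card_le_card_group N) _
  · have h3 : N = ⊥ := by
      rw [eq_bot_iff]
      intro x hx
      refine mem_bot.2 (faith x fun m => ?_)
      exact (h2 ▸ mem_top m : m ∈ cv M (N : Set H)) x hx
    rw [h3, F, cv_bot, card_bot, one_pow, one_mul]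

/-- **(G1)** over-offenders -/
theorem over_off [Finite H] [Finite M] {p : ℕ} (hp : p.Prime) (hM : IsPGroup p M)
    (faith : ∀ h : H, (∀ m : M, h • m = m) → h = 1)
    (irr : ∀ W : Subgroup M, (∀ h : H, ∀ w ∈ W, h • w ∈ W) → W = ⊥ ∨ W = ⊤) {A : Subgroup H} {a : ℕ}
    (hA : Nat.card A = p ^ a) (hf : Nat.card M < fo M A) : Nat.card M ^ a ≤ Nat.card H ^ (a - 1) := by
  have h1 := glob hp hM faith irr A
  have hM' : Nat.card M = p ^ mm p (⊤ : Subgroup M) := by
    rw [← card_eq hp hM, card_top]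
  rw [fo, hA, hM', card_eq hp hM (cv M (A : Set H)), ← pow_add, Nat.pow_lt_pow_iff_right hp.one_lt] at hf
  rw [hM', ← pow_mul, mul_comm _ a, pow_mul, ← hA]
  set n := mm p (⊤ : Subgroup M)
  set k := mm p (cv M (A : Set H))
  have hH : 0 < Nat.card H := Nat.card_pos
  by_cases hk : k ≤ n
  · have h2 : Nat.card H ^ n = Nat.card H ^ (n - k) * Nat.card H ^ k := by
      rw [← pow_add, Nat.sub_add_cancel hk]
    rw [h2] at h1
    have h3 := Nat.le_of_mul_le_mul_right h1 (Nat.pow_pos hH)
    exact h3.trans (Nat.pow_le_pow_right hH (by omega))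
  · exfalso
    apply hk
    have h3 : Nat.card (cv M (A : Set H)) ≤ Nat.card (⊤ : Subgroup M) := by
      rw [card_top]
      exact card_le_card_group _
    rw [card_eq hp hM, card_eq hp hM, Nat.pow_le_pow_iff_right hp.one_lt] at h3
    exact h3

/-- **exact offenders** -/
theorem exact_off [Finite H] [Finite M] {p : ℕ} (hp : p.Prime) (hM : IsPGroup p M)
    (faith : ∀ h : H, (∀ m : M, h • m = m) → h = 1)
    (irr : ∀ W : Subgroup M, (∀ h : H, ∀ w ∈ W, h • w ∈ W) → W = ⊥ ∨ W = ⊤) {A : Subgroup H} {a : ℕ}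
    (hA : Nat.card A = p ^ a) (ha : a ≠ 0) (hf : Nat.card M ≤ fo M A) : Nat.card M ≤ Nat.card H := by
  have h1 := glob hp hM faith irr A
  have hM' : Nat.card M = p ^ mm p (⊤ : Subgroup M) := by
    rw [← card_eq hp hM, card_top]
  have hk : mm p (cv M (A : Set H)) ≤ mm p (⊤ : Subgroup M) := by
    have h3 : Nat.card (cv M (A : Set H)) ≤ Nat.card (⊤ : Subgroup M) := by
      rw [card_top]
      exact card_le_card_group _
    rwa [card_eq hp hM, card_eq hp hM, Nat.pow_le_pow_iff_right hp.one_lt] at h3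
  rw [fo, hA, hM', card_eq hp hM (cv M (A : Set H)), ← pow_add, Nat.pow_le_pow_iff_right hp.one_lt] at hf
  rw [hM']
  set n := mm p (⊤ : Subgroup M)
  set k := mm p (cv M (A : Set H))
  have hH : 0 < Nat.card H := Nat.card_pos
  have h2 : Nat.card H ^ n = Nat.card H ^ (n - k) * Nat.card H ^ k := by
    rw [← pow_add, Nat.sub_add_cancel hk]
  rw [h2, hA] at h1
  have h3 := Nat.le_of_mul_le_mul_right h1 (Nat.pow_pos hH)
  have h4 : (p ^ n) ^ a ≤ Nat.card H ^ a := by
    rw [← pow_mul, mul_comm, pow_mul]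
    exact h3.trans (Nat.pow_le_pow_right hH (by omega))
  exact (Nat.pow_le_pow_iff_left ha).1 h4

end G

section Sum

variable {H : Type*} [Group H] {M : Type*} [CommGroup M] [MulDistribMulAction H M]

/-- the additive version of the action -/
@[reducible] def addAct (T : Subgroup H) : DistribMulAction T (Additive M) where
  smul t x := Additive.ofMul ((t : H) • x.toMul)
  one_smul x := by
    change Additive.ofMul (((1 : T) : H) • x.toMul) = x
    rw [OneMemClass.coe_one, one_smul]
    rfl
  mul_smul t u x := by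
    change Additive.ofMul (((t * u : T) : H) • x.toMul) = Additive.ofMul ((t : H) • (u : H) • x.toMul)
    rw [MulMemClass.coe_mul, mul_smul]
  smul_zero t := by
    change Additive.ofMul ((t : H) • (1 : M)) = 0
    rw [smul_one]
    rfl
  smul_add t x y := by
    change Additive.ofMul ((t : H) • (x.toMul * y.toMul)) = _
    rw [smul_mul']
    rfl

/-- **(SUM)** -/
theorem orbit_sum [Finite H] [Finite M] (hM : ∀ m : M, m * m = 1) {P₀ A : Subgroup H} (hP : IsPGroup 2 P₀)
    (hAP : A ≤ P₀) (hAc : ∀ a ∈ A, ∀ b ∈ A, a * b = b * a) (hA : Strict (fo M) A) (v : M)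
    [Fintype (MulAction.orbit P₀ v)] (hs : ∏ y : MulAction.orbit P₀ v, (y : M) ≠ 1) :
    ∀ a ∈ A, ∀ y ∈ MulAction.orbit P₀ v, a • y = y := by
  classical
  let _ := addAct (M := M) P₀
  let f : MulAction.orbit P₀ v → Additive M := fun y => Additive.ofMul (y : M)
  have hfr : Cfsg.Agent.Omega.EH3.ST.Fr P₀ f (∑ y, f y) :=
    { two := fun x => hM x.toMul
      pg := hP
      tr := fun b c => MulAction.exists_smul_eq P₀ b c
      eq := fun t y => rfl
      ne := fun h => hs h
      sum := rfl }
  let _ : Module (ZMod 2) (Additive M) := AddCommGroup.zmodModule (n := 2) (fun x => by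
    rw [two_nsmul]
    exact hM x.toMul)
  have h01 : ∀ c : ZMod 2, c = 0 ∨ c = 1 := by decide
  have hli : LinearIndependent (ZMod 2) f := by
    rw [linearIndependent_iff']
    intro s g hg i hi
    have h1' : ∑ y ∈ s.filter (fun y => g y = 1), f y = ∑ i ∈ s, g i • f i := by
      rw [Finset.sum_filter]
      refine Finset.sum_congr rfl fun y _ => ?_
      rcases h01 (g y) with h | h
      · rw [h, zero_smul, if_neg (by decide)]
      · rw [h, one_smul, if_pos rfl]
    have h1 : ∑ y ∈ s.filter (fun y => g y = 1), f y = 0 := h1'.trans hg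
    have h2 := hfr.indep _ h1
    rcases h01 (g i) with h | h
    · exact h
    · exfalso
      have h3 : i ∈ s.filter (fun y => g y = 1) := Finset.mem_filter.2 ⟨hi, h⟩
      rw [h2] at h3
      exact Finset.notMem_empty _ h3
  -- the orbits of `A`
  have hmem : ∀ a ∈ A, ∀ y : MulAction.orbit P₀ v, a • (y : M) ∈ MulAction.orbit P₀ v := by
    intro a ha y
    have := (⟨a, hAP ha⟩ : P₀) • y
    exact ((⟨a, hAP ha⟩ : P₀) • y).2
  let r : Setoid (MulAction.orbit P₀ v) :=
    { r := fun y y' => ∃ a ∈ A, a • (y : M) = y'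
      iseqv :=
        { refl := fun y => ⟨1, one_mem _, one_smul _ _⟩
          symm := fun {y y'} h => by
            obtain ⟨a, ha, h1⟩ := h
            exact ⟨a⁻¹, inv_mem ha, by rw [← h1, inv_smul_smul]⟩
          trans := fun {x y z} h h' => by
            obtain ⟨a, ha, h1⟩ := h
            obtain ⟨b, hb, h2⟩ := h'
            exact ⟨b * a, mul_mem hb ha, by rw [mul_smul, h1, h2]⟩ } }
  let rep : MulAction.orbit P₀ v → MulAction.orbit P₀ v := fun y => (Quotient.mk r y).out
  have hrep : ∀ y, ∃ a ∈ A, a • (rep y : M) = y := fun y => by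
    have h1 : (Quotient.mk r (rep y)) = Quotient.mk r y := Quotient.out_eq _
    exact Quotient.exact h1
  have hrr : ∀ y y' : MulAction.orbit P₀ v, (∃ a ∈ A, a • (y : M) = y') → rep y = rep y' := fun y y' h => by
    have h1 : Quotient.mk r y = Quotient.mk r y' := Quotient.sound h
    change (Quotient.mk r y).out = (Quotient.mk r y').out
    rw [h1]
  have hrep2 : ∀ y, rep (rep y) = rep y := fun y => hrr _ _ (hrep y)
  -- the functional
  obtain ⟨φ, hφ⟩ : ∃ φ : Additive M →ₗ[ZMod 2] ZMod 2, ∀ y, φ (f y) = if rep y = y then 1 else 0 := by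
    let b := Module.Basis.extend hli.linearIndepOn_id
    have hb : ∀ y, ∃ i, b i = f y := by
      intro y
      exact ⟨⟨f y, hli.linearIndepOn_id.subset_extend (Set.subset_univ _) ⟨y, rfl⟩⟩, Module.Basis.extend_apply_self _ _⟩
    have hinj : Function.Injective f := fun x y h => Subtype.ext h
    refine ⟨b.constr (ZMod 2) (fun i => if ∃ y, rep y = y ∧ f y = b i then 1 else 0), fun y => ?_⟩
    obtain ⟨i, hi⟩ := hb y
    rw [← hi, Module.Basis.constr_basis]
    by_cases h : rep y = y
    · rw [if_pos h, if_pos ⟨y, h, hi.symm⟩]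
    · rw [if_neg h, if_neg]
      rintro ⟨y', h1, h2⟩
      rw [hi] at h2
      rw [hinj h2] at h1
      exact h h1
  let u : M → ℤˣ := fun m => if φ (Additive.ofMul m) = 0 then 1 else -1
  have hu : ∀ w w', u (w * w') = u w * u w' := by
    intro w w'
    have h1 : φ (Additive.ofMul (w * w')) = φ (Additive.ofMul w) + φ (Additive.ofMul w') := by
      rw [ofMul_mul, map_add]
    change (if φ (Additive.ofMul (w * w')) = 0 then (1 : ℤˣ) else -1) = _
    rw [h1]
    change _ = (if φ (Additive.ofMul w) = 0 then (1 : ℤˣ) else -1) * (if φ (Additive.ofMul w') = 0 then (1 : ℤˣ) else -1)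
    rcases h01 (φ (Additive.ofMul w)) with h | h <;> rcases h01 (φ (Additive.ofMul w')) with h' | h' <;>
      rw [h, h'] <;> decide
  -- the subspace
  let W : Subgroup M := closure (MulAction.orbit P₀ v)
  have hWA : Iv A W := by
    intro a ha w hw
    induction hw using closure_induction with
    | mem y hy => exact subset_closure (hmem a ha ⟨y, hy⟩)
    | one => rw [smul_one]; exact one_mem _
    | mul x y _ _ hx hy => rw [smul_mul']; exact mul_mem hx hy
    | inv x _ hx => rw [smul_inv']; exact inv_mem hx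
  by_contra hcon
  push Not at hcon
  obtain ⟨a₀, ha₀, y₀, hy₀, hne⟩ := hcon
  obtain ⟨a, ha, ⟨w, hw, haw⟩, hfix⟩ := exists_fix hA hWA ⟨a₀, ha₀, y₀, subset_closure hy₀, hne⟩
    (u := u) (fun w _ w' _ => hu w w')
  have hkey : ∀ y : MulAction.orbit P₀ v, a • (y : M) = y := by
    intro y
    have h1 : a • (rep y : M) = rep y := by
      have h2 := hfix _ (subset_closure (rep y).2)
      have h3 : φ (f ⟨a • (rep y : M), hmem a ha _⟩) = 1 := by
        have h4 : φ (f (rep y)) = 1 := by rw [hφ, if_pos (hrep2 y)]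
        have h5 : u (rep y : M) = -1 := by
          change (if φ (f (rep y)) = 0 then (1 : ℤˣ) else -1) = -1
          rw [h4]
          decide
        rw [h5] at h2
        change (if φ (f ⟨a • (rep y : M), hmem a ha _⟩) = 0 then (1 : ℤˣ) else -1) = -1 at h2
        rcases h01 (φ (f ⟨a • (rep y : M), hmem a ha _⟩)) with h | h
        · rw [if_pos h] at h2
          exact absurd h2 (by decide)
        · exact h
      rw [hφ] at h3
      have h6 : rep ⟨a • (rep y : M), hmem a ha _⟩ = ⟨a • (rep y : M), hmem a ha _⟩ := by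
        by_contra h7
        rw [if_neg h7] at h3
        exact absurd h3 (by decide)
      have h8 : rep (rep y) = rep ⟨a • (rep y : M), hmem a ha _⟩ := hrr _ _ ⟨a, ha, rfl⟩
      rw [hrep2, h6] at h8
      exact (congrArg Subtype.val h8).symm
    obtain ⟨b, hb, hby⟩ := hrep y
    rw [← hby, ← mul_smul, hAc a ha b hb, mul_smul, h1]
  apply haw
  clear haw
  induction hw using closure_induction with
  | mem y hy => exact hkey ⟨y, hy⟩
  | one => rw [smul_one]
  | mul x y _ _ hx hy => rw [smul_mul', hx, hy]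
  | inv x _ hx => rw [smul_inv', hx]

end Sum

end Cfsg.Agent.Omega.ML.Glob
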