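import Cfsg.Agent.Omega.ML.Rows
import Cfsg.Agent.Omega.ML.Glob
import Cfsg.Agent.Omega.TwoF.Rk
import Cfsg.Agent.Omega.Lie.HeisCover

/-!
# (ML), the K-list end: the numerical criterion

In the situation `Rows.In H M K T A` (`|A| = 2 ^ a`):
* `card_center_le` : `|Z(K)| ≤ 2 ^ (a - 1)`;
* `image facts` : `X = H / C_H(K)`, `N` the image of `K`: `N ≃* K ⧸ center K`, `C_X(N) = 1`, `X = N A`, `|A| = |image of A|`;
* `dead` : **the criterion** `NumML S` (`LB S n`, `RK S a`, `OutB S b` and `|S| ^ (a-1) * 2 ^ ((a-1) * (a-1+b)) < 2 ^ (a * n)`).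
-/

set_option autoImplicit false
set_option linter.unusedVariables false

namespace Cfsg.Agent.Omega.ML.Num

open Subgroup Cfsg Cfsg.Agent.ClassTwoFusion.Quad Cfsg.Agent.Omega.NOThree.NoOver Cfsg.Agent.Omega.ML.CD
  Cfsg.Agent.Omega.ML.Rows Cfsg.Agent.Omega.TwoF
open Cfsg.Agent.Omega.Lie
open scoped commutatorElement

universe u v w

/-- `|X : N| ≤ 2 ^ b` for `X = N A` almost simple with socle `N ≅ S`, `A` an elementary abelian 2-group. -/
def OutB (S : Type w) [Group S] (b : ℕ) : Prop :=
  ∀ (X : Type u) [Group X] [Finite X] (N : Subgroup X) [N.Normal], Nonempty (N ≃* S) →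
    centralizer (N : Set X) = ⊥ → ∀ A : Subgroup X, (∀ a ∈ A, a * a = 1) → N ⊔ A = ⊤ → N.index ≤ 2 ^ b

theorem index_le_card {X : Type*} [Group X] [Finite X] {N A : Subgroup X} [N.Normal] (h : N ⊔ A = ⊤) :
    N.index ≤ Nat.card A := by
  have h1 := relIndex_sup_right A N
  rw [sup_comm, h, relIndex_top_right] at h1
  rw [h1]
  exact Nat.card_le_card_of_surjective (fun a : A => (QuotientGroup.mk a : A ⧸ (N.subgroupOf A)))
    QuotientGroup.mk_surjective

theorem OutB.of_rk {S : Type w} [Group S] {a : ℕ} (h : Rk.RK.{u} S a) : OutB.{u} S a := by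
  intro X _ _ N _ hN hc A hA hX
  exact (index_le_card hX).trans (h X N hN hc A hA)

theorem OutB.mono {S : Type w} [Group S] {a b : ℕ} (h : OutB.{u} S a) (hab : a ≤ b) : OutB.{u} S b :=
  fun X _ _ N _ hN hc A hA hX => (h X N hN hc A hA hX).trans (Nat.pow_le_pow_right (by norm_num) hab)

/-- **The numerical criterion.** -/
def NumML (S : Type u) [Group S] : Prop :=
  ∃ n a b : ℕ, Heis.LB.{u, u, v} S n ∧ Rk.RK.{u} S a ∧ OutB.{u} S b ∧
    Nat.card S ^ (a - 1) * 2 ^ ((a - 1) * (a - 1 + b)) < 2 ^ (a * n)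

theorem NumML.of_card_out {S : Type u} [Group S] {n a b N : ℕ} (h1 : Heis.LB.{u, u, v} S n) (h2 : Rk.RK.{u} S a)
    (h3 : OutB.{u} S b) (h4 : Nat.card S ≤ 2 ^ N) (h5 : (a - 1) * (N + a - 1 + b) < a * n) : NumML.{u, v} S := by
  refine ⟨n, a, b, h1, h2, h3, ?_⟩
  rcases Nat.eq_zero_or_pos a with h6 | h6
  · subst h6
    simp at h5
  · calc Nat.card S ^ (a - 1) * 2 ^ ((a - 1) * (a - 1 + b))
        ≤ (2 ^ N) ^ (a - 1) * 2 ^ ((a - 1) * (a - 1 + b)) :=
          Nat.mul_le_mul_right _ (Nat.pow_le_pow_left h4 _)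
      _ = 2 ^ ((a - 1) * (N + a - 1 + b)) := by
          rw [← pow_mul, ← pow_add]
          congr 1
          rw [show N + a - 1 + b = N + (a - 1 + b) by omega]
          ring
      _ < 2 ^ (a * n) := Nat.pow_lt_pow_right (by norm_num) h5

theorem NumML.of_card {S : Type u} [Group S] {n a N : ℕ} (h1 : Heis.LB.{u, u, v} S n) (h2 : Rk.RK.{u} S a)
    (h4 : Nat.card S ≤ 2 ^ N) (h5 : (a - 1) * (N + 2 * a - 1) < a * n) : NumML.{u, v} S := by
  refine NumML.of_card_out h1 h2 (OutB.of_rk h2) h4 ?_
  rcases Nat.eq_zero_or_pos a with h6 | h6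
  · subst h6
    simp at h5
  · rwa [show N + a - 1 + a = N + 2 * a - 1 by omega]

section image

variable {H : Type u} [Group H] {M : Type v} [Group M] [MulDistribMulAction H M] {K T A : Subgroup H}

theorem perf (h : In H M K T A) : _root_.commutator K = ⊤ := h.qs.1.commutator_eq_top

/-- the image of `K` in `H / C_H(K)` -/
def img (K : Subgroup H) [(centralizer (K : Set H)).Normal] : Subgroup (H ⧸ centralizer (K : Set H)) :=
  K.map (QuotientGroup.mk' (centralizer (K : Set H)))

theorem subgroupOf_eq (h : In H M K T A) : (centralizer (K : Set H)).subgroupOf K = center K := by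
  ext z
  rw [mem_subgroupOf, mem_center_iff, mem_centralizer_iff]
  constructor
  · intro hz y
    exact Subtype.ext (hz y y.2)
  · intro hz y hy
    exact congrArg Subtype.val (hz ⟨y, hy⟩)

theorem exists_equiv (h : In H M K T A) [(centralizer (K : Set H)).Normal] : Nonempty (img K ≃* K ⧸ center K) := by
  let f : K →* H ⧸ centralizer (K : Set H) := (QuotientGroup.mk' (centralizer (K : Set H))).comp K.subtype
  have hk : f.ker = center K := by
    rw [← subgroupOf_eq h]
    ext z
    rw [MonoidHom.mem_ker, mem_subgroupOf]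
    show (QuotientGroup.mk (z : H) : H ⧸ centralizer (K : Set H)) = 1 ↔ _
    rw [QuotientGroup.eq_one_iff]
  have hr : f.range = img K := by
    rw [MonoidHom.range_comp, K.range_subtype]
    rfl
  exact ⟨((QuotientGroup.quotientMulEquivOfEq hk.symm).trans
    ((QuotientGroup.quotientKerEquivRange f).trans (MulEquiv.subgroupCongr hr))).symm⟩

theorem img_normal (h : In H M K T A) [(centralizer (K : Set H)).Normal] : (img K).Normal :=
  h.norm.map _ (QuotientGroup.mk'_surjective _)

theorem centralizer_img (h : In H M K T A) [(centralizer (K : Set H)).Normal] :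
    centralizer (img K : Set (H ⧸ centralizer (K : Set H))) = ⊥ := by
  have hn := h.norm
  rw [eq_bot_iff]
  intro x hx
  obtain ⟨g, rfl⟩ := QuotientGroup.mk_surjective x
  rw [mem_bot, QuotientGroup.eq_one_iff]
  -- `[g, K] ≤ C_H(K)`
  have h1 : ∀ k ∈ K, ⁅g, k⁆ ∈ centralizer (K : Set H) := by
    intro k hk
    have h2 := mem_centralizer_iff.1 hx (QuotientGroup.mk k) ⟨k, hk, rfl⟩
    rw [← QuotientGroup.eq_one_iff, commutatorElement_def]
    simp only [QuotientGroup.mk_mul, QuotientGroup.mk_inv]
    rw [← h2]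
    group
  -- `k ↦ [g, k]` is a homomorphism `K → C_H(K)`, central, so trivial on the perfect group `K`
  have hz := h.zen
  let f : K →* H :=
    { toFun := fun k => ⁅g, (k : H)⁆
      map_one' := by simp
      map_mul' := fun k l => by
        have h3 : (k : H)⁻¹ * ⁅g, (l : H)⁆ = ⁅g, (l : H)⁆ * (k : H)⁻¹ := hz _ (h1 l l.2) (k : H)⁻¹
        rw [coe_mul]
        calc ⁅g, (k : H) * l⁆ = (g * k * g⁻¹) * (⁅g, (l : H)⁆ * (k : H)⁻¹) := by
              simp only [commutatorElement_def]; group
          _ = (g * k * g⁻¹) * ((k : H)⁻¹ * ⁅g, (l : H)⁆) := by rw [h3]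
          _ = ⁅g, (k : H)⁆ * ⁅g, (l : H)⁆ := by simp only [commutatorElement_def]; group }
  have hab : ∀ k l : K, f k * f l = f l * f k := fun k l => hz _ (h1 l l.2) _
  have hf : ∀ k : K, f k = 1 := by
    intro k
    have h3 : commutator K ≤ f.ker := by
      rw [_root_.commutator_def, commutator_le]
      intro a _ b _
      rw [MonoidHom.mem_ker, map_commutatorElement, commutatorElement_eq_one_iff_mul_comm]
      exact hab a b
    rw [perf h] at h3
    exact MonoidHom.mem_ker.1 (h3 (mem_top k))
  rw [mem_centralizer_iff]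
  intro k hk
  have h4 : ⁅g, k⁆ = 1 := hf ⟨k, hk⟩
  exact (commutatorElement_eq_one_iff_mul_comm.1 h4).symm

theorem isPGroup_A (h : In H M K T A) : IsPGroup 2 A := fun a =>
  ⟨1, Subtype.ext (by rw [pow_one, pow_two]; exact h.el a a.2)⟩

theorem disj [Finite H] (h : In H M K T A) : A ⊓ centralizer (K : Set H) = ⊥ := by
  have h1 : Nat.card (centralizer (K : Set H)) = Nat.card (center K) := h.card_centralizer
  have h2 : Nat.Coprime (Nat.card A) (Nat.card (centralizer (K : Set H))) := by
    rw [h1]
    obtain ⟨n, hn⟩ := IsPGroup.iff_card.1 (isPGroup_A h)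
    rw [hn]
    exact Nat.Coprime.pow_left _ (Nat.coprime_two_left.2 h.odd)
  exact (disjoint_of_coprime_natCard h2).eq_bot

theorem card_map_A [Finite H] (h : In H M K T A) [(centralizer (K : Set H)).Normal] :
    Nat.card (A.map (QuotientGroup.mk' (centralizer (K : Set H)))) = Nat.card A := by
  have h1 : Function.Injective ((QuotientGroup.mk' (centralizer (K : Set H))).comp A.subtype) := by
    rw [← MonoidHom.ker_eq_bot_iff, eq_bot_iff]
    intro a ha
    have h2 : (QuotientGroup.mk (a : H) : H ⧸ centralizer (K : Set H)) = 1 := ha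
    rw [QuotientGroup.eq_one_iff] at h2
    have h3 : (a : H) ∈ A ⊓ centralizer (K : Set H) := ⟨a.2, h2⟩
    rw [disj h, mem_bot] at h3
    exact mem_bot.2 (Subtype.ext h3)
  have h2 : A.map (QuotientGroup.mk' (centralizer (K : Set H))) =
      ((QuotientGroup.mk' (centralizer (K : Set H))).comp A.subtype).range := by
    rw [MonoidHom.range_comp, A.range_subtype]
  rw [h2]
  exact (Nat.card_congr (MonoidHom.ofInjective h1).toEquiv).symm

theorem sup_map (h : In H M K T A) [(centralizer (K : Set H)).Normal] :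
    img K ⊔ A.map (QuotientGroup.mk' (centralizer (K : Set H))) = ⊤ := by
  rw [img, ← Subgroup.map_sup, h.gen]
  exact map_top_of_surjective _ (QuotientGroup.mk'_surjective _)

theorem index_img (h : In H M K T A) [(centralizer (K : Set H)).Normal] : (img K).index = K.index := by
  rw [img, index_map, MonoidHom.range_eq_top.2 (QuotientGroup.mk'_surjective _), index_top, mul_one,
    QuotientGroup.ker_mk', sup_eq_left.2 h.cen]

theorem el_map (h : In H M K T A) [(centralizer (K : Set H)).Normal] :
    ∀ a ∈ A.map (QuotientGroup.mk' (centralizer (K : Set H))), a * a = 1 := by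
  rintro _ ⟨a, ha, rfl⟩
  rw [← map_mul, h.el a ha, map_one]

/-- `m_2` -/
theorem card_A_le [Finite H] (h : In H M K T A) {a : ℕ} (hr : Rk.RK.{u} (K ⧸ center K) a) :
    Nat.card A ≤ 2 ^ a := by
  have := h.normalZ
  have := img_normal h
  rw [← card_map_A h]
  exact hr _ (img K) (exists_equiv h) (centralizer_img h) _ (el_map h)

theorem index_le [Finite H] (h : In H M K T A) {b : ℕ} (hr : OutB.{u} (K ⧸ center K) b) : K.index ≤ 2 ^ b := by
  have := h.normalZ
  have := img_normal h
  rw [← index_img h]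
  exact hr _ (img K) (exists_equiv h) (centralizer_img h) _ (el_map h) (sup_map h)

theorem overOff [Finite H] [Finite M] (h : In H M K T A) : Nat.card M < fo M A := by
  have h1 : (⊥ : Subgroup H) < A := by
    rw [bot_lt_iff_ne_bot]
    rintro rfl
    have := h.eight
    rw [card_bot] at this
    omega
  have h2 := h.strict ⊥ h1
  rwa [fab_one, fab_one, fo_bot] at h2

/-- `|Z| ≤ 2 ^ (a - 1)` -/
theorem card_center_le [Finite H] [Finite M] (h : In H M K T A) {a : ℕ} (ha : Nat.card A = 2 ^ a) :
    Nat.card (centralizer (K : Set H)) ≤ 2 ^ (a - 1) := by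
  -- an element `x` of `A`, `x ≠ 1`
  have h1 : A ≠ ⊥ := by
    rintro rfl
    have := h.eight
    rw [card_bot] at this
    omega
  obtain ⟨x, hx⟩ := A.ne_bot_iff_exists_ne_one.1 h1
  have hcomm : ∀ m n : M, m * n = n * m := by
    intro m n
    have h2 := h.sq (m * n)
    have h3 := h.sq m
    have h4 := h.sq n
    calc m * n = m * (m * n * (m * n)) * n := by rw [h2, mul_one]
      _ = (m * m) * n * m * (n * n) := by group
      _ = n * m := by rw [h3, h4, one_mul, mul_one]
  let f : M →* M :=
    { toFun := fun m => m * ((x : H) • m)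
      map_one' := by rw [smul_one, mul_one]
      map_mul' := fun m n => by
        rw [smul_mul']
        calc m * n * ((x : H) • m * (x : H) • n) = m * (n * (x : H) • m) * (x : H) • n := by group
          _ = m * ((x : H) • m * n) * (x : H) • n := by rw [hcomm n]
          _ = m * (x : H) • m * (n * (x : H) • n) := by group }
  -- `ker f = C_M(x) ≥ C_M(A)`
  have hker : cv M (A : Set H) ≤ f.ker := by
    intro m hm
    rw [MonoidHom.mem_ker]
    show m * ((x : H) • m) = 1
    rw [hm _ x.2, h.sq]
  -- `|f.range| < |A|`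
  have h2 : Nat.card f.range * Nat.card f.ker = Nat.card M := by
    rw [mul_comm, ← Nat.card_congr (QuotientGroup.quotientKerEquivRange f).toEquiv]
    exact (card_eq_card_quotient_mul_card_subgroup f.ker).symm ▸ mul_comm _ _
  have h3 := overOff h
  rw [fo] at h3
  have h4 : Nat.card f.range < Nat.card A := by
    have h5 : Nat.card f.range * Nat.card (cv M (A : Set H)) ≤ Nat.card M := by
      rw [← h2]
      exact Nat.mul_le_mul_left _ (card_le_of_le hker)
    have h6 := lt_of_le_of_lt h5 h3
    exact lt_of_mul_lt_mul_right h6 (Nat.zero_le _)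
  have h5 : Nat.card f.range ≤ 2 ^ (a - 1) := by
    have hp : IsPGroup 2 f.range := fun m => ⟨1, Subtype.ext (by rw [pow_one, pow_two]; exact h.sq m)⟩
    obtain ⟨k, hk⟩ := IsPGroup.iff_card.1 hp
    rw [hk, ha, Nat.pow_lt_pow_iff_right (by norm_num)] at h4
    rw [hk]
    exact Nat.pow_le_pow_right (by norm_num) (by omega)
  refine le_trans ?_ h5
  -- `Z` acts semiregularly
  have h6 : ∃ m : M, f m ≠ 1 := by
    by_contra hcon
    push Not at hcon
    apply hx
    apply Subtype.ext
    apply h.faith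
    intro m
    have h7 : m * ((x : H) • m) = 1 := hcon m
    have h8 := h.sq m
    exact mul_left_cancel (h7.trans h8.symm)
  obtain ⟨m, hm⟩ := h6
  have hreg : ∀ z ∈ centralizer (K : Set H), z • f m = f m → z = 1 := by
    intro z hz hzm
    let W : Subgroup M :=
      { carrier := {w | z • w = w}
        one_mem' := smul_one z
        mul_mem' := fun {a b} ha hb => by
          show z • (a * b) = a * b
          rw [smul_mul', show z • a = a from ha, show z • b = b from hb]
        inv_mem' := fun {a} ha => by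
          show z • a⁻¹ = a⁻¹
          rw [smul_inv', show z • a = a from ha] }
    rcases h.irr W (fun g w hw => by
      show z • g • w = g • w
      rw [smul_smul, ← h.zen z hz g, mul_smul, show z • w = w from hw]) with h7 | h7
    · exfalso
      apply hm
      rw [← mem_bot, ← h7]
      exact hzm
    · apply h.faith
      intro w
      have : w ∈ W := by rw [h7]; exact mem_top w
      exact this
  refine Nat.card_le_card_of_injective
    (fun z : centralizer (K : Set H) => (⟨(z : H) • f m, ⟨(z : H) • m, ?_⟩⟩ : f.range)) ?_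
  · show (z : H) • m * ((x : H) • (z : H) • m) = (z : H) • (m * (x : H) • m)
    rw [smul_mul', smul_smul, smul_smul, h.zen z z.2 x]
  · intro z y hzy
    have h7 : (z : H) • f m = (y : H) • f m := congrArg Subtype.val hzy
    have h8 := hreg (y⁻¹ * z) (mul_mem (inv_mem y.2) z.2) (by
      rw [mul_smul, h7]
      exact inv_smul_smul (y : H) (f m))
    exact Subtype.ext (inv_mul_eq_one.1 h8).symm

theorem card_H_le [Finite H] [Finite M] (h : In H M K T A) {a b : ℕ} (ha : Nat.card A = 2 ^ a)
    (hr : OutB.{u} (K ⧸ center K) b) : Nat.card H ≤ Nat.card (K ⧸ center K) * 2 ^ (a - 1) * 2 ^ b := by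
  have h1 : Nat.card K * K.index = Nat.card H := card_mul_index K
  have h2 : Nat.card K = Nat.card (K ⧸ center K) * Nat.card (center K) := card_eq_card_quotient_mul_card_subgroup _
  rw [← h1, h2, ← h.card_centralizer]
  exact Nat.mul_le_mul (Nat.mul_le_mul_left _ (card_center_le h ha)) (index_le h hr)

/-- the lower bound -/
theorem lb_le [Finite H] [Finite M] (h : In H M K T A) {n : ℕ} (hl : Heis.LB.{u, u, v} (K ⧸ center K) n) :
    2 ^ n ≤ Nat.card M := by
  have hcomm : ∀ m n : M, m * n = n * m := by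
    intro m n
    have h2 := h.sq (m * n)
    have h3 := h.sq m
    have h4 := h.sq n
    calc m * n = m * (m * n * (m * n)) * n := by rw [h2, mul_one]
      _ = (m * m) * n * m * (n * n) := by group
      _ = n * m := by rw [h3, h4, one_mul, mul_one]
  let _ : CommGroup M := { ‹Group M› with mul_comm := hcomm }
  have hp : IsPGroup 2 M := fun m => ⟨1, by rw [pow_one, pow_two]; exact h.sq m⟩
  refine hl K (QuotientGroup.mk' (center K)) (QuotientGroup.mk'_surjective _)
    (le_of_eq (QuotientGroup.ker_mk' _)) ?_ (perf h) M hp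
    ((MulDistribMulAction.toMulAut H M).comp K.subtype) ?_
  · rw [QuotientGroup.ker_mk']
    exact h.odd
  · intro h1
    have h2 : ∀ k : K, k = 1 := by
      intro k
      apply Subtype.ext
      apply h.faith
      intro m
      have := congrArg (fun e : MulAut M => e m) (DFunLike.congr_fun h1 k)
      exact this
    have h3 : IsSimpleGroup (K ⧸ center K) := h.qs.2
    obtain ⟨x, hx⟩ := exists_ne (1 : K ⧸ center K)
    obtain ⟨k, rfl⟩ := QuotientGroup.mk_surjective x
    exact hx (by rw [h2 k]; rfl)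

end image

theorem num {s n a a' b : ℕ} (hs : 1 ≤ s) (h1 : 1 ≤ a') (h2 : a' ≤ a)
    (h3 : 2 ^ (n * a') ≤ (s * 2 ^ (a' - 1) * 2 ^ b) ^ (a' - 1))
    (h4 : s ^ (a - 1) * 2 ^ ((a - 1) * (a - 1 + b)) < 2 ^ (a * n)) : False := by
  set t := s * 2 ^ (a - 1) * 2 ^ b with ht
  have ht1 : 1 ≤ t := Nat.mul_pos (Nat.mul_pos hs (by positivity)) (by positivity)
  have h5 : t ^ (a - 1) < 2 ^ (a * n) := by
    refine lt_of_eq_of_lt ?_ h4
    rw [ht, mul_assoc, mul_pow, ← pow_add, ← pow_mul]
    ring_nf
  have h6 : t ^ ((a - 1) * a') < 2 ^ (a * n * a') := by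
    rw [pow_mul, pow_mul 2 (a * n) a']
    exact Nat.pow_lt_pow_left h5 (by omega)
  have h7 : 2 ^ (a * n * a') ≤ t ^ ((a' - 1) * a) := by
    rw [show a * n * a' = n * a' * a by ring, pow_mul 2 (n * a') a, pow_mul t (a' - 1) a]
    refine Nat.pow_le_pow_left (h3.trans (Nat.pow_le_pow_left ?_ _)) _
    rw [ht]
    exact Nat.mul_le_mul_right _ (Nat.mul_le_mul_left _ (Nat.pow_le_pow_right (by norm_num) (by omega)))
  have h8 : (a' - 1) * a ≤ (a - 1) * a' := by
    rw [Nat.sub_mul, Nat.sub_mul, one_mul, one_mul, mul_comm a' a]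
    omega
  have h9 : t ^ ((a' - 1) * a) ≤ t ^ ((a - 1) * a') := Nat.pow_le_pow_right ht1 h8
  exact absurd (h7.trans h9) (not_le.2 h6)

/-- **(G1) kills the rows with `NumML`.** -/
theorem dead : Dead.{u, v} fun S _ => NumML.{u, v} S := by
  intro H _ _ M _ _ _ K T A h ⟨n, a, b, hl, hr, ho, hn⟩
  obtain ⟨a', ha'⟩ := IsPGroup.iff_card.1 (isPGroup_A h)
  have h1 : a' ≤ a := by
    have h2 := card_A_le h hr
    rwa [ha', Nat.pow_le_pow_iff_right (by norm_num)] at h2
  have h2 : 1 ≤ a' := by
    rcases Nat.eq_zero_or_pos a' with h3 | h3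
    · subst h3
      have := h.eight
      rw [ha'] at this
      norm_num at this
    · exact h3
  have hp : IsPGroup 2 M := fun m => ⟨1, by rw [pow_one, pow_two]; exact h.sq m⟩
  have h3 := Glob.over_off Nat.prime_two hp h.faith h.irr ha' (overOff h)
  have h4 := card_H_le h ha' ho
  have h5 := lb_le h hl
  have hs : 1 ≤ Nat.card (K ⧸ center K) := Nat.card_pos
  refine num hs h2 h1 (n := n) (b := b) ?_ hn
  rw [pow_mul]
  exact (Nat.pow_le_pow_left h5 _).trans (h3.trans (Nat.pow_le_pow_left h4 _))

end Cfsg.Agent.Omega.ML.Num
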