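import Cfsg.Agent.Omega.ML.RowsDead
import Cfsg.Agent.OddHalf.D8.JTwo.Sheet
import Cfsg.Agent.Lib.SylowNormalInf

/-!
# (ML), the K-list end: sporadic groups with a sheet of type (E) (helper926)

`S` a simple normal subgroup of `X`, `C_X(S) = 1`, `SheetX z P R` (helper915's sheet of type (E) without the `y`-trick:
`J2 J3 Suz Co1 Co2 Th B M J4 HN Fi24'`), `R = O₂(C_S(z)^∞)`:

* `o2_le_R` : `O₂(C_X(z)) ≤ R`;
* `AS.le_conj` : in the situation `AS S T A`: `A ≤ R^g` for some `g`;   `AS.eq_top` : `S = X`;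
* `AS.card_le` : `|A| ≤ 4` if the elementary abelian subgroups of `R` have order at most 4;   `deadG_of` : the row.
-/

set_option autoImplicit false

namespace Cfsg.Agent.Omega.ML.ShE

open Subgroup Cfsg Cfsg.Agent.OddHalf.D8.Sheet Cfsg.Agent.OddHalf.D8.JTwo.Sheet Cfsg.Agent.Omega.ML.Rows
open Cfsg.Agent.ZN
open Cfsg.Agent.MinSimple.VModule (o2_isPGroup o2_le le_o2 le_normalizer_o2)

universe u

variable {X : Type u} [Group X] {S T A : Subgroup X}

/-- `O₂(C_X(z)) ≤ R`. -/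
theorem o2_le_R (hS : S.Normal) (hc : centralizer (S : Set X) = ⊥) {z : S} {P R : Subgroup S} (h : SheetX z P R) :
    o2 (centralizer ({(z : X)} : Set X)) ≤ R.map S.subtype := by
  set D := o2 (centralizer ({(z : X)} : Set X)) with hD
  have hD2 : IsPGroup 2 D := o2_isPGroup _
  have hDz : ∀ d ∈ D, d * (z : X) = z * d := fun d hd => mem_centralizer_singleton_iff.1 (o2_le _ hd)
  -- `P` normalises `D`
  have hPn : ∀ x ∈ P, ∀ d ∈ D, (x : X) * d * (x : X)⁻¹ ∈ D := by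
    intro x hx d hd
    have h1 : (x : X) ∈ centralizer ({(z : X)} : Set X) :=
      mem_centralizer_singleton_iff.2 (congrArg Subtype.val (h.cen x hx))
    exact (mem_normalizer_iff.1 (le_normalizer_o2 _ h1) d).1 hd
  -- `D ∩ P ≤ R`
  have hB : P ⊓ D.comap S.subtype ≤ R := by
    apply h.Rmax _ inf_le_left
    · exact (hD2.comap_of_injective S.subtype S.subtype_injective).to_le inf_le_right
    · rintro x hx b ⟨hb1, hb2⟩
      exact ⟨P.mul_mem (P.mul_mem hx hb1) (P.inv_mem hx), hPn x hx _ hb2⟩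
  intro d hd
  let α : MulAut S := MulAut.conjNormal d
  have hαx : ∀ x : S, ((α x : S) : X) = d * x * d⁻¹ := fun x => MulAut.conjNormal_apply d x
  have hαz : α z = z := Subtype.ext (by rw [hαx, hDz d hd, mul_inv_cancel_right])
  have hα2 : IsPGroup 2 (zpowers α) := by
    have h1 : IsPGroup 2 (zpowers d) := hD2.to_le (zpowers_le.2 hd)
    have h2 := h1.map (MulAut.conjNormal : X →* MulAut S)
    rwa [MonoidHom.map_zpowers] at h2
  obtain ⟨r, hr, hαr⟩ := h.aut α hα2 hαz (by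
    intro x hx
    apply hB
    refine ⟨P.mul_mem (P.inv_mem hx) (map_P h.perf h.cen h.der α hαz hx), ?_⟩
    show ((x⁻¹ * α x : S) : X) ∈ D
    rw [Subgroup.coe_mul, Subgroup.coe_inv, hαx]
    have h1 : (x : X)⁻¹ * (d * x * d⁻¹) = ((x : X)⁻¹ * d * x) * d⁻¹ := by group
    rw [h1]
    refine D.mul_mem ?_ (D.inv_mem hd)
    have h2 := hPn x⁻¹ (P.inv_mem hx) d hd
    rwa [Subgroup.coe_inv, inv_inv] at h2)
  have h1 : (r : X)⁻¹ * d ∈ centralizer (S : Set X) := by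
    rw [mem_centralizer_iff]
    intro y hy
    have h2 : d * y * d⁻¹ = (r : X) * y * (r : X)⁻¹ := by
      have h3 := congrArg (fun β : MulAut S => ((β ⟨y, hy⟩ : S) : X)) hαr
      rw [hαx] at h3
      exact h3
    calc y * ((r : X)⁻¹ * d) = (r : X)⁻¹ * (r * y * (r : X)⁻¹) * d := by group
      _ = (r : X)⁻¹ * (d * y * d⁻¹) * d := by rw [h2]
      _ = (r : X)⁻¹ * d * y := by group
  rw [hc, mem_bot, inv_mul_eq_one] at h1
  exact ⟨r, hr, h1⟩

/-- A conjugate of `z` by an element of `S` is centralised by `T`. -/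
theorem exists_conj [Finite X] (hS : S.Normal) (hT : IsPGroup 2 T) (hTi : ¬ 2 ∣ T.index) {z : S}
    (hz : ∃ S₀ : Sylow 2 S, z ∈ S₀ ∧ (∀ x ∈ S₀, x * z = z * x) ∧ ∀ y ∈ S₀, (∀ x ∈ S₀, x * y = y * x) → y = 1 ∨ y = z) :
    ∃ g : S, T ≤ centralizer ({(g * z * g⁻¹ : X)} : Set X) := by
  have hp : Fact (Nat.Prime 2) := ⟨Nat.prime_two⟩
  obtain ⟨S₀, hz0, hzc, hzu⟩ := hz
  -- the Sylow subgroup `T ∩ S` of `S`
  let T' : Sylow 2 X := hT.toSylow hTi
  have h1 : ¬ 2 ∣ (T' : Subgroup X).relIndex S := Cfsg.Agent.Lib.SylowNormalInf.not_dvd_relIndex T' S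
  let T₀ : Sylow 2 S := (Cfsg.Agent.Lib.SylowNormalInf.isPGroup_subgroupOf T' S).toSylow h1
  have hT₀ : ∀ x : S, x ∈ T₀ ↔ (x : X) ∈ T := fun x => Iff.rfl
  obtain ⟨g, hg⟩ := MulAction.exists_smul_eq S S₀ T₀
  refine ⟨g, fun t ht => mem_centralizer_singleton_iff.2 ?_⟩
  have hmem : ∀ x : S, x ∈ S₀ → g * x * g⁻¹ ∈ T₀ := by
    intro x hx
    rw [← hg]
    exact ⟨x, hx, rfl⟩
  have hmem' : ∀ x : S, x ∈ T₀ → g⁻¹ * x * g ∈ S₀ := by
    intro x hx
    rw [← hg] at hx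
    obtain ⟨y, hy, rfl⟩ := hx
    show g⁻¹ * (g * y * g⁻¹) * g ∈ S₀
    have : g⁻¹ * (g * y * g⁻¹) * g = y := by group
    rwa [this]
  -- conjugation by `t`
  let α : MulAut S := MulAut.conjNormal t
  have hαx : ∀ x : S, ((α x : S) : X) = t * x * t⁻¹ := fun x => MulAut.conjNormal_apply t x
  have hαT : ∀ x : S, x ∈ T₀ → α x ∈ T₀ := by
    intro x hx
    rw [hT₀, hαx]
    exact T.mul_mem (T.mul_mem ht ((hT₀ x).1 hx)) (T.inv_mem ht)
  have hαT' : ∀ x : S, x ∈ T₀ → α.symm x ∈ T₀ := by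
    intro x hx
    have h2 : ((α.symm x : S) : X) = t⁻¹ * x * t := by
      have h3 := hαx (α.symm x)
      rw [MulEquiv.apply_symm_apply] at h3
      rw [h3]; group
    rw [hT₀, h2]
    exact T.mul_mem (T.mul_mem (T.inv_mem ht) ((hT₀ x).1 hx)) ht
  have h2 : α (g * z * g⁻¹) = g * z * g⁻¹ := by
    rcases hzu (g⁻¹ * α (g * z * g⁻¹) * g) (hmem' _ (hαT _ (hmem z hz0))) (by
      intro x hx
      have h3 : g⁻¹ * α.symm (g * x * g⁻¹) * g ∈ S₀ := hmem' _ (hαT' _ (hmem x hx))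
      have h4 := hzc _ h3
      have h5 : α.symm (g * x * g⁻¹) * (g * z * g⁻¹) = (g * z * g⁻¹) * α.symm (g * x * g⁻¹) := by
        calc α.symm (g * x * g⁻¹) * (g * z * g⁻¹) = g * ((g⁻¹ * α.symm (g * x * g⁻¹) * g) * z) * g⁻¹ := by group
          _ = g * (z * (g⁻¹ * α.symm (g * x * g⁻¹) * g)) * g⁻¹ := by rw [h4]
          _ = _ := by group
      have h6 : (g * x * g⁻¹) * α (g * z * g⁻¹) = α (g * z * g⁻¹) * (g * x * g⁻¹) := by
        have h7 := congrArg α h5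
        rw [map_mul α (α.symm (g * x * g⁻¹)), map_mul α (g * z * g⁻¹), MulEquiv.apply_symm_apply] at h7
        exact h7
      calc x * (g⁻¹ * α (g * z * g⁻¹) * g) = g⁻¹ * ((g * x * g⁻¹) * α (g * z * g⁻¹)) * g := by group
        _ = g⁻¹ * (α (g * z * g⁻¹) * (g * x * g⁻¹)) * g := by rw [h6]
        _ = _ := by group) with h3 | h3
    · have h4 : α (g * z * g⁻¹) = 1 := by
        have h5 : α (g * z * g⁻¹) = g * (g⁻¹ * α (g * z * g⁻¹) * g) * g⁻¹ := by group
        rw [h5, h3]; group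
      have h5 : g * z * g⁻¹ = 1 := α.injective (h4.trans (map_one α).symm)
      rw [h4, h5]
    · calc α (g * z * g⁻¹) = g * (g⁻¹ * α (g * z * g⁻¹) * g) * g⁻¹ := by group
        _ = _ := by rw [h3]
  have h3 := congrArg Subtype.val h2
  rw [hαx, Subgroup.coe_mul, Subgroup.coe_mul, Subgroup.coe_inv, mul_inv_eq_iff_eq_mul] at h3
  exact h3

/-- **`A ≤ O₂(C_X(z))^g`, `g ∈ S`.** -/
theorem le_o2_conj [Finite X] (h : AS S T A) {z : S} (hz1 : z ≠ 1)
    (hz : ∃ S₀ : Sylow 2 S, z ∈ S₀ ∧ (∀ x ∈ S₀, x * z = z * x) ∧ ∀ y ∈ S₀, (∀ x ∈ S₀, x * y = y * x) → y = 1 ∨ y = z) :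
    ∃ g : S, ∀ a ∈ A, (g : X)⁻¹ * a * g ∈ o2 (centralizer ({(z : X)} : Set X)) := by
  have hS := h.norm
  obtain ⟨g, hg⟩ := exists_conj hS h.two h.syl hz
  refine ⟨g, ?_⟩
  have hne : centralizer ({((g : X) * z * (g : X)⁻¹)} : Set X) ≠ ⊤ := by
    intro h1
    have h2 : (z : X) ∈ centralizer (S : Set X) := by
      rw [mem_centralizer_iff]
      intro y _
      have h3 : (g * y * (g : X)⁻¹) * (g * z * (g : X)⁻¹) = (g * z * (g : X)⁻¹) * (g * y * (g : X)⁻¹) :=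
        mem_centralizer_singleton_iff.1 (h1 ▸ mem_top _)
      calc y * (z : X) = (g : X)⁻¹ * ((g * y * (g : X)⁻¹) * (g * z * (g : X)⁻¹)) * g := by group
        _ = (g : X)⁻¹ * ((g * z * (g : X)⁻¹) * (g * y * (g : X)⁻¹)) * g := by rw [h3]
        _ = z * y := by group
    rw [h.cen, mem_bot] at h2
    exact hz1 (Subtype.ext h2)
  have hle := h.low _ hg hne
  intro a ha
  have h1 := hle ha
  -- equivariance
  have h2 : (o2 (centralizer ({((g : X) * z * (g : X)⁻¹)} : Set X))).map (MulAut.conj (g : X)⁻¹).toMonoidHom ≤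
      o2 (centralizer ({(z : X)} : Set X)) := by
    have hc1 : ∀ x ∈ centralizer ({((g : X) * z * (g : X)⁻¹)} : Set X), (g : X)⁻¹ * x * g ∈ centralizer ({(z : X)} : Set X) := by
      intro x hx
      rw [mem_centralizer_singleton_iff] at hx ⊢
      calc (g : X)⁻¹ * x * g * z = (g : X)⁻¹ * (x * (g * z * (g : X)⁻¹)) * g := by group
        _ = (g : X)⁻¹ * ((g * z * (g : X)⁻¹) * x) * g := by rw [hx]
        _ = z * ((g : X)⁻¹ * x * g) := by group
    have hc2 : ∀ x ∈ centralizer ({(z : X)} : Set X), (g : X) * x * (g : X)⁻¹ ∈ centralizer ({((g : X) * z * (g : X)⁻¹)} : Set X) := by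
      intro x hx
      rw [mem_centralizer_singleton_iff] at hx ⊢
      calc (g : X) * x * (g : X)⁻¹ * (g * z * (g : X)⁻¹) = (g : X) * (x * z) * (g : X)⁻¹ := by group
        _ = (g : X) * (z * x) * (g : X)⁻¹ := by rw [hx]
        _ = _ := by group
    refine le_o2 ?_ ((o2_isPGroup _).map _) ?_
    · rintro _ ⟨x, hx, rfl⟩
      have h3 := hc1 x (o2_le _ hx)
      rw [MulEquiv.toMonoidHom_eq_coe, MonoidHom.coe_coe, MulAut.conj_apply, inv_inv]
      exact h3
    · have key : ∀ x ∈ centralizer ({(z : X)} : Set X), ∀ y ∈ (o2 (centralizer ({((g : X) * z * (g : X)⁻¹)} : Set X))).map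
          (MulAut.conj (g : X)⁻¹).toMonoidHom, x * y * x⁻¹ ∈ (o2 (centralizer ({((g : X) * z * (g : X)⁻¹)} : Set X))).map
          (MulAut.conj (g : X)⁻¹).toMonoidHom := by
        rintro x hx _ ⟨y, hy, rfl⟩
        refine ⟨(g * x * (g : X)⁻¹) * y * (g * x * (g : X)⁻¹)⁻¹, ?_, ?_⟩
        · exact (mem_normalizer_iff.1 (le_normalizer_o2 _ (hc2 x hx)) y).1 hy
        · rw [MulEquiv.toMonoidHom_eq_coe, MonoidHom.coe_coe, MulAut.conj_apply, MulAut.conj_apply]
          group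
      intro x hx
      rw [mem_normalizer_iff]
      intro y
      refine ⟨fun hy => key x hx y hy, fun hy => ?_⟩
      have h3 := key x⁻¹ (inv_mem hx) _ hy
      have h4 : x⁻¹ * (x * y * x⁻¹) * x⁻¹⁻¹ = y := by group
      rwa [h4] at h3
  apply h2
  refine ⟨a, h1, ?_⟩
  rw [MulEquiv.toMonoidHom_eq_coe, MonoidHom.coe_coe, MulAut.conj_apply, inv_inv]

/-- **`A ≤ R^g`.** -/
theorem le_conj [Finite X] (h : AS S T A) {z : S} {P R : Subgroup S} (hz : SheetX z P R) :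
    ∃ g : X, ∀ a ∈ A, g⁻¹ * a * g ∈ R.map S.subtype := by
  obtain ⟨g, hg⟩ := le_o2_conj h hz.z1 hz.syl
  exact ⟨g, fun a ha => o2_le_R h.norm h.cen hz (hg a ha)⟩

/-- `A ≤ S`, so `S = X`. -/
theorem eq_top [Finite X] (h : AS S T A) {z : S} {P R : Subgroup S} (hz : SheetX z P R) : S = ⊤ := by
  obtain ⟨g, hg⟩ := le_conj h hz
  have hS := h.norm
  rw [← h.gen]
  refine (sup_eq_left.2 fun a ha => ?_).symm
  obtain ⟨r, -, hr⟩ := hg a ha
  have h1 : a = g * r * g⁻¹ := by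
    change (r : X) = g⁻¹ * a * g at hr
    rw [hr]; group
  rw [h1]
  exact hS.conj_mem _ r.2 g

/-- `|A| ≤ 4` if the elementary abelian subgroups of `R` have order at most 4. -/
theorem card_le [Finite X] (h : AS S T A) {z : S} {P R : Subgroup S} (hz : SheetX z P R) {n : ℕ}
    (hR : ∀ B ≤ R, (∀ b ∈ B, b * b = 1) → Nat.card B ≤ n) : Nat.card A ≤ n := by
  obtain ⟨g, hg⟩ := le_conj h hz
  have h1 : A.map (MulAut.conj g⁻¹).toMonoidHom ≤ R.map S.subtype := by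
    rintro _ ⟨a, ha, rfl⟩
    have h2 := hg a ha
    rw [MulEquiv.toMonoidHom_eq_coe, MonoidHom.coe_coe, MulAut.conj_apply, inv_inv]
    exact h2
  obtain ⟨B, hB, hBA⟩ : ∃ B ≤ R, B.map S.subtype = A.map (MulAut.conj g⁻¹).toMonoidHom := by
    refine ⟨(A.map (MulAut.conj g⁻¹).toMonoidHom).comap S.subtype, ?_, ?_⟩
    · intro x hx
      obtain ⟨r, hr, hrx⟩ := h1 hx
      rwa [← S.subtype_injective hrx]
    · refine map_comap_eq_self ?_
      rw [range_subtype]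
      exact h1.trans (map_subtype_le _)
  have h3 : Nat.card B = Nat.card A := by
    rw [← card_map_of_injective S.subtype_injective, hBA, card_map_of_injective (MulAut.conj g⁻¹).injective]
  rw [← h3]
  refine hR B hB fun b hb => ?_
  have h4 : (b : X) ∈ A.map (MulAut.conj g⁻¹).toMonoidHom := by
    rw [← hBA]; exact ⟨b, hb, rfl⟩
  obtain ⟨a, ha, hab⟩ := h4
  apply Subtype.ext
  rw [Subgroup.coe_mul, Subgroup.coe_one, ← hab, ← map_mul, h.el a ha, map_one]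

/-- **The row of a class of groups with a sheet of type (E), `R` of rank at most 2.** -/
theorem deadG_of {𝒮 : ∀ (S : Type u) [Group S], Prop}
    (hs : ∀ (S : Type u) [Group S], Finite S → 𝒮 S → ∃ (z : S) (P R : Subgroup S), SheetX z P R ∧
      ∀ B ≤ R, (∀ b ∈ B, b * b = 1) → Nat.card B ≤ 4) : DeadG.{u} 𝒮 := by
  intro X _ _ S T A h hS
  obtain ⟨z, P, R, hz, hR⟩ := hs S inferInstance hS
  exact card_le h hz hR

end Cfsg.Agent.Omega.ML.ShE
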