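import Cfsg.Agent.Omega.ML.RowsCent
import Cfsg.Agent.Omega.ML.ShE

/-!
# (ML), the K-list end: `R = C_X(z)`, `Z(S₀) = ⟨z⟩` for a Sylow 2-subgroup `S₀` of `S` (helper809)

* `conj_o2_mem` : `O₂` of conjugate subgroups;
* `AS.conj_of_syl` : a conjugate of `A` lies in `O₂(C_X(z))`;
* `AS.card_le_of_syl` : `|A| ≤ n` if the elementary abelian subgroups of `O₂(C_X(z))` have order at most `n`.
-/

set_option autoImplicit false

namespace Cfsg.Agent.Omega.ML.Rows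

open Subgroup Cfsg Cfsg.Agent.ZN Cfsg.Agent.Omega.TwoF
open Cfsg.Agent.MinSimple.VModule (o2_isPGroup o2_le le_o2 le_normalizer_o2)

universe u

variable {X : Type u} [Group X] {S T A : Subgroup X}

/-- Conjugate subgroups. -/
theorem conj_o2_mem {R R' : Subgroup X} (g : X) (h : ∀ x, x ∈ R ↔ g * x * g⁻¹ ∈ R') :
    (o2 R').comap (MulAut.conj g).toMonoidHom ≤ o2 R := by
  refine le_o2 (fun x hx => (h x).2 (o2_le R' hx)) ((o2_isPGroup R').comap_of_injective _ (MulAut.conj g).injective) ?_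
  intro r hr
  have h5 := mem_normalizer_iff.1 (le_normalizer_o2 R' ((h r).1 hr))
  rw [mem_normalizer_iff]
  intro y
  rw [mem_comap, mem_comap, map_mul, map_mul, map_inv]
  exact h5 _

/-- **A conjugate of `A` lies in `O₂(C_X(z))`.** -/
theorem AS.conj_of_syl [Finite X] (h : AS S T A) {z : S} (hz1 : z ≠ 1)
    (hz : ∃ S₀ : Sylow 2 S, z ∈ S₀ ∧ (∀ x ∈ S₀, x * z = z * x) ∧ ∀ y ∈ S₀, (∀ x ∈ S₀, x * y = y * x) → y = 1 ∨ y = z) :
    ∃ g : X, ∀ a ∈ A, g⁻¹ * a * g ∈ o2 (centralizer ({(z : X)} : Set X)) := by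
  obtain ⟨g, hg⟩ := ShE.exists_conj h.norm h.two h.syl hz
  have hgz : (g : X) * z * (g : X)⁻¹ ≠ 1 := by
    intro h1
    apply hz1
    apply Subtype.ext
    calc (z : X) = (g : X)⁻¹ * ((g : X) * z * (g : X)⁻¹) * g := by group
      _ = 1 := by rw [h1]; group
  have h1 := h.low _ hg (h.cent_ne_top hgz)
  refine ⟨g, fun a ha => ?_⟩
  apply conj_o2_mem (R := centralizer ({(z : X)} : Set X))
    (R' := centralizer ({(g : X) * z * (g : X)⁻¹} : Set X)) (g : X)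
  · intro x
    rw [mem_centralizer_singleton_iff, mem_centralizer_singleton_iff]
    constructor
    · intro h2
      calc g * x * (g : X)⁻¹ * (g * z * (g : X)⁻¹) = g * (x * z) * (g : X)⁻¹ := by group
        _ = g * (z * x) * (g : X)⁻¹ := by rw [h2]
        _ = _ := by group
    · intro h2
      calc x * z = (g : X)⁻¹ * (g * x * (g : X)⁻¹ * (g * z * (g : X)⁻¹)) * g := by group
        _ = (g : X)⁻¹ * (g * z * (g : X)⁻¹ * (g * x * (g : X)⁻¹)) * g := by rw [h2]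
        _ = _ := by group
  · rw [mem_comap]
    show (g : X) * ((g : X)⁻¹ * a * g) * (g : X)⁻¹ ∈ _
    have h2 : (g : X) * ((g : X)⁻¹ * a * g) * (g : X)⁻¹ = a := by group
    rw [h2]
    exact h1 ha

/-- **Elementary abelian subgroups of `O₂(C_X(z))`.** -/
theorem AS.card_le_of_syl [Finite X] (h : AS S T A) {z : S} (hz1 : z ≠ 1)
    (hz : ∃ S₀ : Sylow 2 S, z ∈ S₀ ∧ (∀ x ∈ S₀, x * z = z * x) ∧ ∀ y ∈ S₀, (∀ x ∈ S₀, x * y = y * x) → y = 1 ∨ y = z)
    {n : ℕ} (hn : ∀ B ≤ o2 (centralizer ({(z : X)} : Set X)), (∀ b ∈ B, b * b = 1) → Nat.card B ≤ n) :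
    Nat.card A ≤ n := by
  obtain ⟨g, hg⟩ := h.conj_of_syl hz1 hz
  have h1 : A.map (MulAut.conj g⁻¹).toMonoidHom ≤ o2 (centralizer ({(z : X)} : Set X)) := by
    rintro _ ⟨a, ha, rfl⟩
    have h2 := hg a ha
    rw [MulEquiv.toMonoidHom_eq_coe, MonoidHom.coe_coe, MulAut.conj_apply, inv_inv]
    exact h2
  have h2 := hn _ h1 (by
    rintro _ ⟨a, ha, rfl⟩
    rw [← map_mul, h.el a ha, map_one])
  rwa [card_map_of_injective (MulAut.conj g⁻¹).injective] at h2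

end Cfsg.Agent.Omega.ML.Rows
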