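import Cfsg.Agent.Omega.ML.RowsRk
import Cfsg.Agent.Lib.SylowNormalInf
import Cfsg.Agent.Involutions.NormalFour

/-!
# (ML), the K-list end: the overgroup `R = C_X(z)` of `T` (helper809)

In the situation `AS S T A` with `|S|` even:

* `AS.exists_inv` : an involution `z ∈ S` with `T ≤ C_X(z) ≠ X`;
* `AS.index_le` : `|X : S| ≤ |Aut(S) : Inn(S)|`;
* `AS.card_le_mul_index` : `|Q| ≤ |Q ∩ S| |X : S|`;
* `AS.card_le_of_inv` : if for every involution `z` of `S` the 2-subgroups normal in `C_S(z)` have order at most `n`,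
  and `|Aut(S) : Inn(S)| ≤ k`, then `|A| ≤ n * k`.
-/

set_option autoImplicit false

namespace Cfsg.Agent.Omega.ML.Rows

open Subgroup Cfsg Cfsg.Agent.ZN Cfsg.Agent.Omega.TwoF
open Cfsg.Agent.MinSimple.VModule (o2_isPGroup o2_le le_o2 le_normalizer_o2)

universe u

variable {X : Type u} [Group X] {S T A : Subgroup X}

/-- The centraliser of a nontrivial element is proper. -/
theorem AS.cent_ne_top (h : AS S T A) {z : X} (hz1 : z ≠ 1) : centralizer ({z} : Set X) ≠ ⊤ := by
  intro h1
  have h2 : z ∈ centralizer (S : Set X) := mem_centralizer_iff.2 fun y _ =>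
    mem_centralizer_singleton_iff.1 (h1 ▸ mem_top y)
  rw [h.cen] at h2
  exact hz1 (mem_bot.1 h2)

/-- **An involution of `S` centralised by `T`.** -/
theorem AS.exists_inv [Finite X] (h : AS S T A) (h2 : 2 ∣ Nat.card S) :
    ∃ z ∈ S, z * z = 1 ∧ z ≠ 1 ∧ T ≤ centralizer ({z} : Set X) := by
  have hp : Fact (Nat.Prime 2) := ⟨Nat.prime_two⟩
  have hn := h.norm
  have h3 : S.subgroupOf T ≠ ⊥ := by
    intro h4
    rw [subgroupOf_eq_bot, disjoint_iff] at h4
    let T' : Sylow 2 X := h.two.toSylow h.syl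
    have h5 : ¬ 2 ∣ (T' : Subgroup X).relIndex S := Cfsg.Agent.Lib.SylowNormalInf.not_dvd_relIndex T' S
    have h6 : (T' : Subgroup X).relIndex S = Nat.card S := by
      show T.relIndex S = _
      rw [← inf_relIndex_right, inf_comm, h4, relIndex_bot_left]
    exact h5 (h6 ▸ h2)
  obtain ⟨z, hz, hzc, hzo⟩ := Cfsg.Agent.Involutions.NormalFour.exists_mem_center_of_normal h.two (S.subgroupOf T) h3
  have h4 : z * z = 1 := by rw [← pow_two, ← hzo, pow_orderOf_eq_one]
  have h5 : z ≠ 1 := by
    rintro rfl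
    rw [orderOf_one] at hzo
    omega
  refine ⟨z, hz, congrArg Subtype.val h4, fun h6 => h5 (Subtype.ext h6), fun t ht => ?_⟩
  exact mem_centralizer_singleton_iff.2 (congrArg Subtype.val (mem_center_iff.1 hzc ⟨t, ht⟩))

/-- `|X : S| ≤ |Aut(S) : Inn(S)|`. -/
theorem AS.index_le [Finite X] (h : AS S T A) : S.index ≤ (MulAut.conj : S →* MulAut S).range.index := by
  have hn := h.norm
  have h1 : S = ((MulAut.conj : S →* MulAut S).range).comap (MulAut.conjNormal : X →* MulAut S) := by
    ext x
    rw [mem_comap]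
    constructor
    · intro hx
      refine ⟨⟨x, hx⟩, ?_⟩
      ext s
      rw [MulAut.conjNormal_apply, MulAut.conj_apply]
      simp
    · rintro ⟨v, hv⟩
      have h1 : x = v := by
        apply h.conj_inj
        rw [← hv]
        ext s
        rw [MulAut.conjNormal_apply, MulAut.conj_apply]
        simp
      rw [h1]
      exact v.2
  have hfin : Finite (MulAut S) := Finite.of_injective (fun φ => (φ : S → S)) DFunLike.coe_injective
  have h2 : S.index = ((MulAut.conj : S →* MulAut S).range).relIndex (MulAut.conjNormal : X →* MulAut S).range := by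
    rw [← index_comap, ← h1]
  have hI : ((MulAut.conj : S →* MulAut S).range).Normal := by
    refine ⟨?_⟩
    rintro _ ⟨x, rfl⟩ φ
    refine ⟨φ x, ?_⟩
    ext y
    simp [MulAut.conj_apply]
  rw [h2]
  exact Nat.le_of_dvd (Nat.pos_of_ne_zero FiniteIndex.index_ne_zero) (relIndex_dvd_index_of_normal _ _)

theorem AS.card_le_mul_index [Finite X] (h : AS S T A) (Q : Subgroup X) :
    Nat.card Q ≤ Nat.card (Q.subgroupOf S) * S.index := by
  have hn := h.norm
  have h1 : Nat.card (S.subgroupOf Q) * (S.subgroupOf Q).index = Nat.card Q := (S.subgroupOf Q).card_mul_index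
  have h2 : (S.subgroupOf Q).index ≤ S.index :=
    Nat.le_of_dvd (Nat.pos_of_ne_zero FiniteIndex.index_ne_zero) (relIndex_dvd_index_of_normal _ _)
  have h3 : Nat.card (S.subgroupOf Q) = Nat.card (Q.subgroupOf S) := by
    have h4 : Nat.card (S.subgroupOf Q) = Nat.card (Q ⊓ S : Subgroup X) := by
      rw [← card_map_of_injective Q.subtype_injective, subgroupOf_map_subtype, inf_comm]
    have h5 : Nat.card (Q.subgroupOf S) = Nat.card (Q ⊓ S : Subgroup X) := by
      rw [← card_map_of_injective S.subtype_injective, subgroupOf_map_subtype]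
    rw [h4, h5]
  rw [← h1, h3]
  exact Nat.mul_le_mul_left _ h2

/-- **Centralisers of involutions of `S`.** -/
theorem AS.card_le_of_inv [Finite X] (h : AS S T A) (h2 : 2 ∣ Nat.card S) {n k : ℕ}
    (hO : ∀ z : S, z * z = 1 → z ≠ 1 → ∀ Q : Subgroup S, Q ≤ centralizer ({z} : Set S) → IsPGroup 2 Q →
      centralizer ({z} : Set S) ≤ normalizer (Q : Set S) → Nat.card Q ≤ n)
    (hk : (MulAut.conj : S →* MulAut S).range.index ≤ k) : Nat.card A ≤ n * k := by
  obtain ⟨z, hz, hzz, hz1, hT⟩ := h.exists_inv h2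
  have hR := h.cent_ne_top hz1
  set R := centralizer ({z} : Set X) with hRd
  have h3 : Nat.card ((o2 R).subgroupOf S) ≤ n := by
    refine hO ⟨z, hz⟩ (Subtype.ext hzz) (fun h4 => hz1 (congrArg Subtype.val h4)) _ ?_ ?_ ?_
    · intro x hx
      exact mem_centralizer_singleton_iff.2 (Subtype.ext (mem_centralizer_singleton_iff.1 (o2_le R hx)))
    · exact (o2_isPGroup R).comap_subtype
    · intro c hc
      have h4 : (c : X) ∈ R := mem_centralizer_singleton_iff.2
        (congrArg Subtype.val (mem_centralizer_singleton_iff.1 hc))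
      have h5 := mem_normalizer_iff.1 (le_normalizer_o2 R h4)
      rw [mem_normalizer_iff]
      intro y
      exact h5 (y : X)
  refine (card_le_of_le (h.low R hT hR)).trans ((h.card_le_mul_index _).trans ?_)
  exact Nat.mul_le_mul h3 (h.index_le.trans hk)

end Cfsg.Agent.Omega.ML.Rows
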