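import Mathlib

/-!
# (ML), the K-list end: chains of Frobenius groups and their lifts through odd central extensions (helper226)

* `Chain w m` : `w` is of odd prime order; either `2 ^ j - 1` (`0 < j < m`) is prime to its order, or `⟨u⟩⟨w⟩` is a
  Frobenius group of order `p r` and `Chain u m₀` with `m r < m₀ (r - 1) + r`.  For a faithful `F_2`-module
  `dim [M, w] ≥ m` (#17288).
* `InvAt x n` : `x` inverts some `w` with `Chain w m`, `2 n ≤ m + 1`; so `dim [M, x] ≥ n` for involutions `x`.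
* `InvAt.lift`, `Chain.lift` : through central extensions of odd order.
-/

set_option autoImplicit false

namespace Cfsg.Agent.Omega.ML.InvChain

/-- chains of Frobenius groups of order `p r` -/
inductive Chain {G : Type*} [Group G] : G → ℕ → Prop
  | base (u : G) (m : ℕ) (hp : (orderOf u).Prime) (h2 : orderOf u ≠ 2)
      (hm : ∀ j, 0 < j → j < m → ¬ orderOf u ∣ 2 ^ j - 1) : Chain u m
  | step (u w : G) (m m' k : ℕ) (hu : Chain u m) (hp : (orderOf w).Prime) (h2 : orderOf w ≠ 2)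
      (hk : w * u * w⁻¹ = u ^ k) (hne : w * u ≠ u * w)
      (hm : orderOf w * m' < m * (orderOf w - 1) + orderOf w) : Chain w m'

theorem Chain.prime {G : Type*} [Group G] {w : G} {m : ℕ} (h : Chain w m) : (orderOf w).Prime := by
  cases h <;> assumption

theorem Chain.ne_two {G : Type*} [Group G] {w : G} {m : ℕ} (h : Chain w m) : orderOf w ≠ 2 := by
  cases h <;> assumption

theorem Chain.map {G G' : Type*} [Group G] [Group G'] (f : G →* G') (hf : Function.Injective f) {w : G} {m : ℕ}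
    (h : Chain w m) : Chain (f w) m := by
  induction h with
  | base u m hp h2 hm =>
    have e := orderOf_injective f hf u
    exact Chain.base _ m (e ▸ hp) (e ▸ h2) (by rwa [e])
  | step u w m m' k hu hp h2 hk hne hm ih =>
    have e := orderOf_injective f hf w
    refine Chain.step (f u) (f w) m m' k ih (e ▸ hp) (e ▸ h2) ?_ ?_ (by rwa [e])
    · rw [← map_mul, ← map_inv, ← map_mul, hk, map_pow]
    · intro h
      rw [← map_mul, ← map_mul] at h
      exact hne (hf h)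

/-- `x` inverts some `w` with `Chain w m`, `2 n ≤ m + 1` -/
def InvAt {G : Type*} [Group G] (x : G) (n : ℕ) : Prop :=
  ∃ (w : G) (m : ℕ), Chain w m ∧ x * w * x⁻¹ = w⁻¹ ∧ 2 * n ≤ m + 1

theorem InvAt.map {G G' : Type*} [Group G] [Group G'] (f : G →* G') (hf : Function.Injective f) {x : G} {n : ℕ}
    (h : InvAt x n) : InvAt (f x) n := by
  obtain ⟨w, m, hw, hx, hn⟩ := h
  exact ⟨f w, m, hw.map f hf, by rw [← map_mul, ← map_inv, ← map_mul, hx, map_inv], hn⟩

theorem InvAt.mono {G : Type*} [Group G] {x : G} {n n' : ℕ} (h : InvAt x n) (hn : n' ≤ n) : InvAt x n' := by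
  obtain ⟨w, m, hw, hx, h2⟩ := h
  exact ⟨w, m, hw, hx, by omega⟩

/-- conjugates -/
theorem InvAt.conj {G : Type*} [Group G] {x : G} {n : ℕ} (h : InvAt x n) (g : G) : InvAt (g * x * g⁻¹) n := by
  have := h.map (MulAut.conj g).toMonoidHom (MulAut.conj g).injective
  exact this

section lift

variable {G G' : Type*} [Group G] [Group G'] [Finite G] (π : G →* G')

/-- a central element of odd order with `c * c = 1` -/
theorem eq_one_of_sq {c : G} (hodd : Odd (Nat.card π.ker)) (hc : c ∈ π.ker) (h : c * c = 1) : c = 1 := by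
  have h1 : orderOf (⟨c, hc⟩ : π.ker) ∣ 2 := orderOf_dvd_of_pow_eq_one (by
    rw [pow_two]; exact Subtype.ext h)
  have h2 : orderOf (⟨c, hc⟩ : π.ker) ∣ Nat.card π.ker := orderOf_dvd_natCard _
  have h3 : orderOf (⟨c, hc⟩ : π.ker) ∣ 1 := by
    have := Nat.dvd_gcd h1 h2
    rwa [Nat.coprime_two_left.2 hodd] at this
  have h4 := orderOf_eq_one_iff.1 (Nat.dvd_one.1 h3)
  exact congrArg Subtype.val h4

/-- lifting an inverted element -/
theorem lift_inv (hπ : Function.Surjective π) (hcen : ∀ c ∈ π.ker, ∀ g : G, c * g = g * c)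
    (hodd : Odd (Nat.card π.ker)) {x : G} (hx : x * x = 1) {w' : G'} (hp : (orderOf w').Prime)
    (h2 : orderOf w' ≠ 2) (hinv : π x * w' * (π x)⁻¹ = w'⁻¹) :
    ∃ w : G, π w = w' ∧ orderOf w = orderOf w' ∧ x * w * x⁻¹ = w⁻¹ := by
  obtain ⟨s, hs⟩ : ∃ s, orderOf w' + 1 = 2 * s := by
    have := hp.eq_two_or_odd'.resolve_left h2
    obtain ⟨t, ht⟩ := this
    exact ⟨t + 1, by omega⟩
  obtain ⟨v, hv⟩ := hπ (w' ^ s)
  have hx' : π x * π x = 1 := by rw [← map_mul, hx, map_one]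
  have hxi : x⁻¹ = x := inv_eq_of_mul_eq_one_right hx
  have hxi' : (π x)⁻¹ = π x := inv_eq_of_mul_eq_one_right hx'
  have h3 : π x * (w' ^ s)⁻¹ * π x = w' ^ s := by
    have h4 : (π x * w' * (π x)⁻¹) ^ s = (w' ^ s)⁻¹ := by rw [hinv, inv_pow]
    rw [conj_pow] at h4
    rw [← h4, hxi']
    have : π x * (π x * w' ^ s * π x) * π x = (π x * π x) * w' ^ s * (π x * π x) := by group
    rw [this, hx', one_mul, mul_one]
  refine ⟨v * x * v⁻¹ * x, ?_, ?_, ?_⟩
  · rw [map_mul, map_mul, map_mul, map_inv, hv]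
    have : w' ^ s * π x * (w' ^ s)⁻¹ * π x = w' ^ s * (π x * (w' ^ s)⁻¹ * π x) := by group
    rw [this, h3, ← pow_add, ← two_mul, ← hs, pow_succ, pow_orderOf_eq_one, one_mul]
  · set w : G := v * x * v⁻¹ * x with hw
    have hπw : π w = w' := by
      rw [hw, map_mul, map_mul, map_mul, map_inv, hv]
      have : w' ^ s * π x * (w' ^ s)⁻¹ * π x = w' ^ s * (π x * (w' ^ s)⁻¹ * π x) := by group
      rw [this, h3, ← pow_add, ← two_mul, ← hs, pow_succ, pow_orderOf_eq_one, one_mul]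
    have hxw : x * w * x⁻¹ = w⁻¹ := by
      rw [hw, hxi]
      have e1 : x * (v * x * v⁻¹ * x) * x = x * v * x * v⁻¹ * (x * x) := by group
      have e2 : (v * x * v⁻¹ * x)⁻¹ = x⁻¹ * v * x⁻¹ * v⁻¹ := by group
      rw [e1, e2, hx, hxi, mul_one]
    have hk : w ^ orderOf w' ∈ π.ker := by
      rw [MonoidHom.mem_ker, map_pow, hπw, pow_orderOf_eq_one]
    have h5 : x * w ^ orderOf w' * x⁻¹ = (w ^ orderOf w')⁻¹ := by
      rw [← conj_pow, hxw, inv_pow]
    have h6 : x * w ^ orderOf w' * x⁻¹ = w ^ orderOf w' := by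
      rw [← hcen _ hk x, mul_inv_cancel_right]
    have h7 : w ^ orderOf w' = 1 := by
      apply eq_one_of_sq π hodd hk
      rw [h6] at h5
      nth_rw 1 [h5]
      exact inv_mul_cancel _
    have h8 : orderOf w ∣ orderOf w' := orderOf_dvd_of_pow_eq_one h7
    have h9 : orderOf w' ∣ orderOf w := by
      rw [← hπw]
      exact orderOf_map_dvd π w
    exact Nat.dvd_antisymm h8 h9
  · rw [hxi]
    have e1 : x * (v * x * v⁻¹ * x) * x = x * v * x * v⁻¹ * (x * x) := by group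
    have e2 : (v * x * v⁻¹ * x)⁻¹ = x⁻¹ * v * x⁻¹ * v⁻¹ := by group
    rw [e1, e2, hx, hxi, mul_one]

/-- lifting the kernel of a Frobenius group of order `p r` -/
theorem lift_frob (hπ : Function.Surjective π) (hcen : ∀ c ∈ π.ker, ∀ g : G, c * g = g * c)
    {w : G} {u' : G'} {k : ℕ} (hp : (orderOf u').Prime) (hk : π w * u' * (π w)⁻¹ = u' ^ k)
    (hne : π w * u' ≠ u' * π w) :
    ∃ u : G, π u = u' ∧ orderOf u = orderOf u' ∧ w * u * w⁻¹ = u ^ k := by
  set p := orderOf u' with hpd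
  have hu1 : u' ≠ 1 := by
    intro h
    rw [hpd, h, orderOf_one] at hp
    exact Nat.not_prime_one hp
  -- `k ≢ 1`
  have hk0 : k ≠ 0 := by
    rintro rfl
    rw [pow_zero, mul_inv_eq_one] at hk
    exact hu1 (mul_eq_left.1 hk)
  obtain ⟨l, rfl⟩ := Nat.exists_eq_succ_of_ne_zero hk0
  have hl : ¬ p ∣ l := by
    rintro ⟨t, rfl⟩
    apply hne
    rw [Nat.succ_eq_add_one, pow_succ, pow_mul, hpd, pow_orderOf_eq_one, one_pow, one_mul, mul_inv_eq_iff_eq_mul] at hk
    exact hk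
  -- the `p`-part of a lift
  obtain ⟨u₀, hu₀⟩ := hπ u'
  have hG : Nat.card G ≠ 0 := Nat.card_pos.ne'
  set n := p ^ (Nat.card G).factorization p with hn
  set m := Nat.card G / n with hm
  have hnm : n * m = Nat.card G := Nat.ordProj_mul_ordCompl_eq_self _ _
  have hcop : Nat.Coprime p m := Nat.coprime_ordCompl hp hG
  obtain ⟨j, hj1, hj2⟩ : ∃ j, j ≡ 1 [MOD p] ∧ j ≡ 0 [MOD m] :=
    ⟨_, (Nat.chineseRemainder hcop 1 0).2⟩
  obtain ⟨u₁, hπ1, hu₁n⟩ : ∃ u₁ : G, π u₁ = u' ∧ u₁ ^ n = 1 := by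
    refine ⟨u₀ ^ j, ?_, ?_⟩
    · rw [map_pow, hu₀]
      have : u' ^ j = u' ^ 1 := by
        rw [pow_eq_pow_iff_modEq]
        exact hj1
      rw [this, pow_one]
    · obtain ⟨t, ht⟩ := (Nat.modEq_zero_iff_dvd).1 hj2
      rw [← pow_mul, ht, show m * t * n = Nat.card G * t by rw [← hnm]; ring, pow_mul, pow_card_eq_one', one_pow]
  -- the defect
  set c := w * u₁ * w⁻¹ * (u₁ ^ (l + 1))⁻¹ with hc
  have hcker : c ∈ π.ker := by
    rw [MonoidHom.mem_ker, hc, map_mul, map_mul, map_mul, map_inv, map_inv, map_pow, hπ1, hk, mul_inv_cancel]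
  have hcc : ∀ g : G, c * g = g * c := hcen c hcker
  have hwu : w * u₁ * w⁻¹ = c * u₁ ^ (l + 1) := by rw [hc]; group
  have hcn : c ^ n = 1 := by
    have h1 : (w * u₁ * w⁻¹) ^ n = 1 := by rw [conj_pow, hu₁n, mul_one, mul_inv_cancel]
    have h2 : Commute c (u₁ ^ (l + 1)) := hcc _
    rw [hwu, h2.mul_pow, ← pow_mul, mul_comm (l + 1) n, pow_mul, hu₁n, one_pow, mul_one] at h1
    exact h1
  -- the correction
  have hcopl : Nat.Coprime l n := (Nat.Coprime.pow_left _ ((Nat.Prime.coprime_iff_not_dvd hp).2 hl)).symm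
  obtain ⟨t, ht⟩ : ∃ t, (c ^ l) ^ t = c :=
    exists_pow_eq_self_of_coprime (hcopl.coprime_dvd_right (orderOf_dvd_of_pow_eq_one hcn))
  set d := c ^ t with hd
  have hdc : ∀ g : G, d * g = g * d := fun g => ((show Commute c g from hcc g).pow_left t).eq
  have hdl : d ^ l = c := by rw [hd, ← pow_mul, mul_comm t l, pow_mul, ht]
  have hdker : d ∈ π.ker := by rw [hd]; exact Subgroup.pow_mem _ hcker t
  have hwu2 : w * (u₁ * d) * w⁻¹ = (u₁ * d) ^ (l + 1) := by
    have h2 : Commute u₁ d := (hdc u₁).symm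
    have e1 : w * (u₁ * d) * w⁻¹ = (w * u₁ * w⁻¹) * d := by
      rw [mul_assoc w, mul_assoc u₁, hdc w⁻¹]
      group
    rw [e1, hwu, h2.mul_pow, pow_succ d, hdl, hcc (u₁ ^ (l + 1)), mul_assoc]
  have hπ2 : π (u₁ * d) = u' := by rw [map_mul, hπ1, MonoidHom.mem_ker.1 hdker, mul_one]
  refine ⟨u₁ * d, hπ2, ?_, hwu2⟩
  set u := u₁ * d with hu
  have hun : u ^ n = 1 := by
    have h2 : Commute u₁ d := (hdc u₁).symm
    rw [hu, h2.mul_pow, hu₁n, one_mul, hd, ← pow_mul, mul_comm t n, pow_mul, hcn, one_pow]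
  have hker : u ^ p ∈ π.ker := by rw [MonoidHom.mem_ker, map_pow, hπ2, hpd, pow_orderOf_eq_one]
  have h3 : w * u ^ p * w⁻¹ = (u ^ p) ^ (l + 1) := by
    rw [← conj_pow, hwu2, ← pow_mul, ← pow_mul, mul_comm]
  have h4 : w * u ^ p * w⁻¹ = u ^ p := by rw [← hcen _ hker w, mul_inv_cancel_right]
  have h5 : (u ^ p) ^ l = 1 := by
    rw [h4, pow_succ] at h3
    exact mul_eq_right.1 h3.symm
  have h6 : u ^ p = 1 := by
    have h7 : orderOf (u ^ p) ∣ l := orderOf_dvd_of_pow_eq_one h5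
    have h8 : orderOf (u ^ p) ∣ n := orderOf_dvd_of_pow_eq_one (by
      rw [← pow_mul, mul_comm, pow_mul, hun, one_pow])
    have h9 := Nat.dvd_gcd h7 h8
    rw [hcopl] at h9
    exact orderOf_eq_one_iff.1 (Nat.dvd_one.1 h9)
  apply Nat.dvd_antisymm
  · exact orderOf_dvd_of_pow_eq_one h6
  · have := orderOf_map_dvd π u
    rwa [hπ2] at this

/-- **Chains lift through odd central extensions.** -/
theorem Chain.lift (hπ : Function.Surjective π) (hcen : ∀ c ∈ π.ker, ∀ g : G, c * g = g * c) {w' : G'} {m : ℕ}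
    (h : Chain w' m) : ∀ w : G, π w = w' → orderOf w = orderOf w' → Chain w m := by
  induction h with
  | base u' m hp h2 hm =>
    intro u _ e
    exact Chain.base u m (e ▸ hp) (e ▸ h2) (by rwa [e])
  | step u' w' m m' k hu hp h2 hk hne hm ih =>
    intro w hw e
    obtain ⟨u, hu1, hu2, hu3⟩ := lift_frob π hπ hcen (w := w) hu.prime (by rw [hw]; exact hk) (by rw [hw]; exact hne)
    refine Chain.step u w m m' k (ih u hu1 hu2) (e ▸ hp) (e ▸ h2) hu3 ?_ (by rwa [e])
    intro h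
    apply hne
    rw [← hw, ← hu1, ← map_mul, ← map_mul, h]

/-- **`InvAt` lifts through odd central extensions.** -/
theorem InvAt.lift (hπ : Function.Surjective π) (hcen : ∀ c ∈ π.ker, ∀ g : G, c * g = g * c)
    (hodd : Odd (Nat.card π.ker)) {x : G} (hx : x * x = 1) {n : ℕ} (h : InvAt (π x) n) : InvAt x n := by
  obtain ⟨w', m, hw, hinv, hn⟩ := h
  obtain ⟨w, h1, h2, h3⟩ := lift_inv π hπ hcen hodd hx hw.prime hw.ne_two hinv
  exact ⟨w, m, hw.lift π hπ hcen w h1 h2, h3, hn⟩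

end lift

end Cfsg.Agent.Omega.ML.InvChain
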