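import Cfsg.Agent.Omega.ML.CD
import Mathlib.LinearAlgebra.Vandermonde

/-!
# (ML), the K-list end: inverted elements and Frobenius groups (helper763, #17288)

`H` acts on the finite group `M` of exponent 2 (written multiplicatively).

* `inv_index` : `x² = 1`, `x w x⁻¹ = w⁻¹`, `w` of odd order ⟹ `|M : C_M(w)| ≤ |M : C_M(x)|²`;
* `frob_index` : `u^r = 1`, `r` an odd prime, `w u w⁻¹ = u^s`, `1, s, .., s^(p-1)` distinct modulo `r` ⟹
  `|M : C_M(u)|^(p-1) ≤ |M : C_M(w)|^p`;
* `ord_index` : `u^r = 1`, `u` nontrivial on `M` ⟹ `2^k ≤ |M : C_M(u)|`, `k = ord_r(2)`;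
* `lt_card` : `A` strict, `1 ≠ x ∈ A` ⟹ `|M : C_M(x)| < |A|`;
* `kill` : the combination.
-/

set_option autoImplicit false

namespace Cfsg.Agent.Omega.ML.InvFrob

open Subgroup Cfsg.Agent.ClassTwoFusion.Quad Cfsg.Agent.Omega.NOThree.NoOver Cfsg.Agent.Omega.ML.CD

/-! ### The Vandermonde argument, additive form -/

section add

variable {V : Type*} [AddCommGroup V]

theorem mul_app (f g : AddMonoid.End V) (v : V) : (f * g) v = f (g v) := rfl

theorem sum_app {ι : Type*} (S : Finset ι) (F : ι → AddMonoid.End V) (v : V) : (∑ i ∈ S, F i) v = ∑ i ∈ S, F i v := by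
  classical
  induction S using Finset.induction_on with
  | empty => rfl
  | insert a S ha ih =>
    rw [Finset.sum_insert ha, Finset.sum_insert ha, ← ih]
    rfl

theorem comm_pow {u w : AddMonoid.End V} {s : ℕ} (h : w * u = u ^ s * w) (k : ℕ) : w * u ^ k = u ^ (s * k) * w := by
  induction k with
  | zero => simp
  | succ k ih =>
    rw [pow_succ, ← mul_assoc, ih, mul_assoc, h, ← mul_assoc, ← pow_add, Nat.mul_succ]

theorem pow_comm_pow {u w : AddMonoid.End V} {s : ℕ} (h : w * u = u ^ s * w) (j k : ℕ) :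
    w ^ j * u ^ k = u ^ (s ^ j * k) * w ^ j := by
  induction j with
  | zero => simp
  | succ j ih =>
    rw [pow_succ', mul_assoc, ih, ← mul_assoc, comm_pow h, mul_assoc, pow_succ' s, mul_assoc]

open Polynomial in
/-- The independence of the conjugates of `C_N(w)` under the powers of `u`. -/
theorem vand {u w : AddMonoid.End V} {s r p : ℕ} (N : AddSubgroup V) (hN : ∀ v ∈ N, u v ∈ N)
    (h : w * u = u ^ s * w) (hs1 : 1 ≤ s) (hr0 : 0 < r) (hr : u ^ r = 1)
    (hinj : ∀ m : ℕ, ¬ r ∣ m → ∀ v ∈ N, (u ^ m) v = v → v = 0)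
    (hs : ∀ i j : ℕ, i < j → j < p → ¬ r ∣ s ^ j - s ^ i)
    (c : Fin p → V) (hcN : ∀ i, c i ∈ N) (hc : ∀ i, w (c i) = c i)
    (h0 : ∑ i : Fin p, (u ^ (i : ℕ)) (c i) = 0) : c = 0 := by
  have hw : ∀ (j : ℕ) (i : Fin p), (w ^ j) (c i) = c i := by
    intro j i
    induction j with
    | zero => simp
    | succ j ih => rw [pow_succ, mul_app, hc, ih]
  have h1 : ∀ j : Fin p, ∑ i : Fin p, (u ^ (s ^ (j : ℕ) * (i : ℕ))) (c i) = 0 := by
    intro j
    have h2 := congrArg (w ^ (j : ℕ)) h0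
    rw [map_sum, map_zero] at h2
    rw [← h2]
    refine Finset.sum_congr rfl fun i _ => ?_
    rw [← mul_app, pow_comm_pow h, mul_app, hw]
  -- the Vandermonde matrix
  let y : Fin p → ℤ[X] := fun j => X ^ (s ^ (j : ℕ))
  let A : Matrix (Fin p) (Fin p) ℤ[X] := Matrix.vandermonde y
  have hA : ∀ j i, aeval u (A j i) = u ^ (s ^ (j : ℕ) * (i : ℕ)) := by
    intro j i
    change aeval u ((X ^ (s ^ (j : ℕ))) ^ (i : ℕ)) = _
    rw [← pow_mul, map_pow, aeval_X]
  have h3 : ∀ k : Fin p, (aeval u A.det) (c k) = 0 := by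
    intro k
    have h4 : ∑ j, (aeval u (A.adjugate k j)) (∑ i, (aeval u (A j i)) (c i)) = 0 := by
      refine Finset.sum_eq_zero fun j _ => ?_
      have h5 : ∑ i, (aeval u (A j i)) (c i) = 0 := by
        rw [← h1 j]
        exact Finset.sum_congr rfl fun i _ => by rw [hA]
      rw [h5, map_zero]
    have h6 : ∑ j, (aeval u (A.adjugate k j)) (∑ i, (aeval u (A j i)) (c i)) =
        ∑ i, (aeval u ((A.adjugate * A) k i)) (c i) := by
      simp_rw [map_sum, Matrix.mul_apply, map_sum, map_mul]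
      rw [Finset.sum_comm]
      refine Finset.sum_congr rfl fun i _ => ?_
      rw [sum_app]
      rfl
    rw [h6, Matrix.adjugate_mul] at h4
    rw [← h4]
    rw [Finset.sum_eq_single k]
    · simp
    · intro b _ hb
      simp [Matrix.smul_apply, Matrix.one_apply_ne hb.symm]
    · intro hk
      exact absurd (Finset.mem_univ k) hk
  have hu : ∀ v, u v = 0 → v = 0 := by
    intro v hv
    obtain ⟨n, rfl⟩ : ∃ n, r = n + 1 := ⟨r - 1, by omega⟩
    have h7 : (u ^ (n + 1)) v = 0 := by rw [pow_succ, mul_app, hv, map_zero]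
    rw [hr] at h7
    exact h7
  have hun : ∀ (n : ℕ) (v : V), (u ^ n) v = 0 → v = 0 := by
    intro n
    induction n with
    | zero => intro v hv; exact hv
    | succ n ih =>
      intro v hv
      rw [pow_succ, mul_app] at hv
      exact hu v (ih _ hv)
  have hNn : ∀ (n : ℕ), ∀ v ∈ N, (u ^ n) v ∈ N := by
    intro n
    induction n with
    | zero => intro v hv; exact hv
    | succ n ih =>
      intro v hv
      rw [pow_succ, mul_app]
      exact ih _ (hN v hv)
  have h8 : ∀ v ∈ N, (aeval u A.det) v ∈ N ∧ ((aeval u A.det) v = 0 → v = 0) := by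
    have h9 : A.det = ∏ i : Fin p, ∏ j ∈ Finset.Ioi i, (y j - y i) := Matrix.det_vandermonde y
    rw [h9]
    refine Finset.prod_induction _ (fun q : ℤ[X] => ∀ v ∈ N, (aeval u q) v ∈ N ∧ ((aeval u q) v = 0 → v = 0))
      ?_ ?_ fun i _ => ?_
    · intro a b ha hb v hv
      rw [map_mul, mul_app]
      refine ⟨(ha _ (hb v hv).1).1, fun h10 => (hb v hv).2 ((ha _ (hb v hv).1).2 h10)⟩
    · intro v hv
      rw [map_one]
      exact ⟨hv, fun h10 => h10⟩
    · refine Finset.prod_induction _ (fun q : ℤ[X] => ∀ v ∈ N, (aeval u q) v ∈ N ∧ ((aeval u q) v = 0 → v = 0))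
        ?_ ?_ fun j hj => ?_
      · intro a b ha hb v hv
        rw [map_mul, mul_app]
        refine ⟨(ha _ (hb v hv).1).1, fun h10 => (hb v hv).2 ((ha _ (hb v hv).1).2 h10)⟩
      · intro v hv
        rw [map_one]
        exact ⟨hv, fun h10 => h10⟩
      · intro v hv
        have hij0 : i < j := Finset.mem_Ioi.1 hj
        have hij : (i : ℕ) < (j : ℕ) := hij0
        have h11 : (aeval u (y j - y i)) v = (u ^ (s ^ (j : ℕ))) v - (u ^ (s ^ (i : ℕ))) v := by
          change (aeval u (X ^ (s ^ (j : ℕ)) - X ^ (s ^ (i : ℕ)) : ℤ[X])) v = _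
          rw [map_sub, map_pow, map_pow, aeval_X]
          rfl
        rw [h11]
        refine ⟨N.sub_mem (hNn _ v hv) (hNn _ v hv), fun h12 => ?_⟩
        have hle : s ^ (i : ℕ) ≤ s ^ (j : ℕ) := Nat.pow_le_pow_right hs1 hij.le
        obtain ⟨m, hm⟩ := Nat.exists_eq_add_of_le hle
        have h13 : ¬ r ∣ m := by
          have := hs i j hij j.2
          rwa [hm, Nat.add_sub_cancel_left] at this
        refine hinj m h13 v hv ?_
        rw [hm, pow_add, mul_app, ← map_sub] at h12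
        exact sub_eq_zero.1 (hun _ _ h12)
  funext k
  exact (h8 _ (hcN k)).2 (h3 k)

/-- `|C_N(w)|^p ≤ |N|`. -/
theorem card_pow_le [Finite V] {u w : AddMonoid.End V} {s r p : ℕ} (N : AddSubgroup V) (hN : ∀ v ∈ N, u v ∈ N)
    (h : w * u = u ^ s * w) (hs1 : 1 ≤ s) (hr0 : 0 < r) (hr : u ^ r = 1)
    (hinj : ∀ m : ℕ, ¬ r ∣ m → ∀ v ∈ N, (u ^ m) v = v → v = 0)
    (hs : ∀ i j : ℕ, i < j → j < p → ¬ r ∣ s ^ j - s ^ i) (C : AddSubgroup V)
    (hCN : C ≤ N) (hC : ∀ v ∈ C, w v = v) : Nat.card C ^ p ≤ Nat.card N := by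
  have hNn : ∀ (n : ℕ), ∀ v ∈ N, (u ^ n) v ∈ N := by
    intro n
    induction n with
    | zero => intro v hv; exact hv
    | succ n ih =>
      intro v hv
      rw [pow_succ, mul_app]
      exact ih _ (hN v hv)
  let f : (Fin p → C) → N := fun c => ⟨∑ i : Fin p, (u ^ (i : ℕ)) (c i : V),
    N.sum_mem fun i _ => hNn _ _ (hCN (c i).2)⟩
  have hf : Function.Injective f := by
    intro c c' hcc
    have h1 : ∑ i : Fin p, (u ^ (i : ℕ)) (c i : V) = ∑ i : Fin p, (u ^ (i : ℕ)) (c' i : V) := congrArg Subtype.val hcc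
    have h2 : ∑ i : Fin p, (u ^ (i : ℕ)) ((c i : V) - (c' i : V)) = 0 := by
      simp_rw [map_sub]
      rw [Finset.sum_sub_distrib, h1, sub_self]
    have h3 := vand N hN h hs1 hr0 hr hinj hs (fun i => (c i : V) - (c' i : V))
      (fun i => N.sub_mem (hCN (c i).2) (hCN (c' i).2))
      (fun i => by rw [map_sub, hC _ (c i).2, hC _ (c' i).2]) h2
    funext i
    exact Subtype.ext (sub_eq_zero.1 (congrFun h3 i))
  have h4 := Nat.card_le_card_of_injective f hf
  rwa [Nat.card_fun, Nat.card_eq_fintype_card (α := Fin p), Fintype.card_fin] at h4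

end add

/-! ### The action of `H` on `M`, additively -/

section mul

variable {H : Type*} [Group H] {M : Type*} [CommGroup M] [MulDistribMulAction H M]

/-- The endomorphism of `Additive M` given by `h`. -/
def rho : H →* AddMonoid.End (Additive M) where
  toFun h := MonoidHom.toAdditive (MulDistribMulAction.toMonoidHom M h)
  map_one' := by
    ext v
    exact one_smul H (Additive.toMul v)
  map_mul' g h := by
    ext v
    exact mul_smul g h (Additive.toMul v)

theorem rho_apply (h : H) (v : Additive M) : rho (M := M) h v = Additive.ofMul (h • Additive.toMul v) := rfl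

/-- `h - 1`. -/
def dl (M : Type*) [CommGroup M] [MulDistribMulAction H M] (h : H) : AddMonoid.End (Additive M) := rho (M := M) h - 1

/-- `[M, h]`. -/
def rg (M : Type*) [CommGroup M] [MulDistribMulAction H M] (h : H) : AddSubgroup (Additive M) :=
  AddMonoidHom.range (dl M h)

/-- `C_M(h)`. -/
def kr (M : Type*) [CommGroup M] [MulDistribMulAction H M] (h : H) : AddSubgroup (Additive M) :=
  AddMonoidHom.ker (dl M h)

theorem mem_kr {h : H} {v : Additive M} : v ∈ kr M h ↔ rho (M := M) h v = v := by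
  constructor
  · intro hv
    have h1 : rho (M := M) h v - v = 0 := hv
    exact sub_eq_zero.1 h1
  · intro hv
    exact (sub_eq_zero.2 hv : rho (M := M) h v - v = 0)

theorem card_kr (h : H) : Nat.card (kr M h) = Nat.card (cv M ({h} : Set H)) := by
  have h1 : ∀ m : M, m ∈ cv M ({h} : Set H) ↔ Additive.ofMul m ∈ kr M h := fun m =>
    (mem_cv_singleton (V := M) (a := h) (v := m)).trans (mem_kr (v := Additive.ofMul m)).symm
  exact (Nat.card_congr (Equiv.subtypeEquiv Additive.ofMul h1)).symm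

theorem index_kr [Finite M] (h : H) : (kr M h).index = (cv M ({h} : Set H)).index := by
  have h1 := (kr M h).card_mul_index
  have h2 := (cv M ({h} : Set H)).card_mul_index
  rw [card_kr] at h1
  have h3 : Nat.card (Additive M) = Nat.card M := rfl
  rw [h3, ← h2] at h1
  exact Nat.eq_of_mul_eq_mul_left Nat.card_pos h1

theorem card_rg [Finite M] (h : H) : Nat.card (rg M h) = (cv M ({h} : Set H)).index := by
  rw [← index_kr]
  exact (AddSubgroup.index_ker _).symm

/-- Coprime action: `C_{[M,u]}(u^m) = 1`. -/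
theorem rg_inj {u : H} {r : ℕ} (sq : ∀ m : M, m * m = 1) (hp : r.Prime) (ho : Odd r) (hr : u ^ r = 1) {m : ℕ}
    (hm : ¬ r ∣ m) (v : Additive M) (hv : v ∈ rg M u) (hf : (rho (M := M) u ^ m) v = v) : v = 0 := by
  have hU : rho (M := M) u ^ r = 1 := by rw [← map_pow, hr, map_one]
  have h1 : Function.IsPeriodicPt (rho (M := M) u) m v := by
    rw [Function.IsPeriodicPt, Function.IsFixedPt, ← AddMonoid.End.coe_pow]
    exact hf
  have h2 : Function.IsPeriodicPt (rho (M := M) u) r v := by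
    rw [Function.IsPeriodicPt, Function.IsFixedPt, ← AddMonoid.End.coe_pow, hU]
    rfl
  have h3 := h1.gcd h2
  have h4 : m.gcd r = 1 := ((Nat.Prime.coprime_iff_not_dvd hp).2 hm).symm
  rw [h4] at h3
  have h5 : rho (M := M) u v = v := h3
  obtain ⟨x, hx⟩ := hv
  have hx' : rho (M := M) u x = x + v := by
    rw [← hx]
    change _ = x + ((rho (M := M) u) x - x)
    abel
  have h6 : ∀ k : ℕ, (rho (M := M) u ^ k) x = x + k • v := by
    intro k
    induction k with
    | zero => rw [pow_zero, zero_smul, add_zero]; rfl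
    | succ k ih =>
      rw [pow_succ', mul_app, ih, map_add, map_nsmul, h5, hx', succ_nsmul]
      abel
  have h7 := h6 r
  rw [hU] at h7
  have h8 : r • v = 0 := by
    have h9 : x = x + r • v := h7
    exact (left_eq_add.1 h9)
  have h10 : 2 • v = 0 := by
    rw [two_nsmul]
    exact sq (Additive.toMul v)
  obtain ⟨n, rfl⟩ := ho
  rw [add_smul, one_smul, mul_comm, mul_smul, h10, smul_zero, zero_add] at h8
  exact h8

/-- (FROB) -/
theorem frob' [Finite M] {u w : H} {s r p : ℕ} (sq : ∀ m : M, m * m = 1) (hp : r.Prime) (ho : Odd r) (hr : u ^ r = 1)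
    (hw : w * u * w⁻¹ = u ^ s) (hs1 : 1 ≤ s) (hs : ∀ i j : ℕ, i < j → j < p → ¬ r ∣ s ^ j - s ^ i) (hp1 : 1 ≤ p) :
    (cv M ({u} : Set H)).index ^ (p - 1) ≤ (cv M ({w} : Set H)).index ^ p := by
  have h : rho (M := M) w * rho u = rho u ^ s * rho w := by
    rw [← map_mul, ← map_pow, ← map_mul, ← hw]
    congr 1
    group
  have hU : rho (M := M) u ^ r = 1 := by rw [← map_pow, hr, map_one]
  have hN : ∀ v ∈ rg M u, rho (M := M) u v ∈ rg M u := by
    rintro v ⟨x, rfl⟩
    exact ⟨rho (M := M) u x, by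
      change rho (M := M) u (rho (M := M) u x) - rho (M := M) u x = rho (M := M) u (rho (M := M) u x - x)
      rw [map_sub]⟩
  have h1 := card_pow_le (rg M u) hN h hs1 hp.pos hU (fun m hm v hv hf => rg_inj sq hp ho hr hm v hv hf) hs
    (kr M w ⊓ rg M u) inf_le_right (fun v hv => mem_kr.1 hv.1)
  have h2 : (kr M w).relIndex (rg M u) * Nat.card ↥(kr M w ⊓ rg M u) = Nat.card (rg M u) := by
    have h3 := AddSubgroup.relIndex_mul_relIndex (⊥ : AddSubgroup (Additive M)) (kr M w ⊓ rg M u) (rg M u) bot_le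
      inf_le_right
    rw [AddSubgroup.relIndex_bot_left, AddSubgroup.relIndex_bot_left, AddSubgroup.inf_relIndex_right, mul_comm] at h3
    exact h3
  have h4 : (kr M w).relIndex (rg M u) ≤ (kr M w).index :=
    Nat.le_of_dvd (Nat.pos_of_ne_zero AddSubgroup.FiniteIndex.index_ne_zero)
      (AddSubgroup.relIndex_dvd_index_of_normal _ _)
  rw [index_kr] at h4
  rw [← card_rg]
  set n := Nat.card (rg M u)
  set c := Nat.card ↥(kr M w ⊓ rg M u)
  set j := (kr M w).relIndex (rg M u)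
  have hn : 0 < n := Nat.card_pos
  obtain ⟨q, rfl⟩ : ∃ q, p = q + 1 := ⟨p - 1, by omega⟩
  rw [Nat.add_sub_cancel]
  have h5 : n ^ q * n ≤ (cv M ({w} : Set H)).index ^ (q + 1) * n := by
    calc n ^ q * n = (j * c) ^ (q + 1) := by rw [h2, pow_succ]
      _ = j ^ (q + 1) * c ^ (q + 1) := mul_pow _ _ _
      _ ≤ (cv M ({w} : Set H)).index ^ (q + 1) * n := Nat.mul_le_mul (Nat.pow_le_pow_left h4 _) h1
  exact Nat.le_of_mul_le_mul_right h5 hn

end mul

/-! ### The statements for a group `M` of exponent two -/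

section main

variable {H : Type*} [Group H] {M : Type*} [Group M] [MulDistribMulAction H M]

theorem comm_of_sq (sq : ∀ m : M, m * m = 1) (a b : M) : a * b = b * a := by
  have h1 : a * b * (a * b) = 1 := sq _
  calc a * b = (b * b) * (a * b) * (a * a) := by rw [sq, sq, one_mul, mul_one]
    _ = b * (b * (a * b) * a) * a := by group
    _ = b * (b * (a * b * (a * b)) * b⁻¹) * a := by group
    _ = b * a := by rw [h1]; group

/-- **(FROB)** `|M : C_M(u)|^(p-1) ≤ |M : C_M(w)|^p`. -/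
theorem frob_index [Finite M] {u w : H} {s r p : ℕ} (sq : ∀ m : M, m * m = 1) (hp : r.Prime) (ho : Odd r)
    (hr : u ^ r = 1) (hw : w * u * w⁻¹ = u ^ s) (hs1 : 1 ≤ s)
    (hs : ∀ i j : ℕ, i < j → j < p → ¬ r ∣ s ^ j - s ^ i) (hp1 : 1 ≤ p) :
    (cv M ({u} : Set H)).index ^ (p - 1) ≤ (cv M ({w} : Set H)).index ^ p := by
  let _ : CommGroup M := { (inferInstance : Group M) with mul_comm := comm_of_sq sq }
  exact frob' sq hp ho hr hw hs1 hs hp1

theorem card_cv_conj (g x : H) : Nat.card (cv M ({g * x * g⁻¹} : Set H)) = Nat.card (cv M ({x} : Set H)) := by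
  refine Nat.card_congr ⟨fun v => ⟨g⁻¹ • (v : M), ?_⟩, fun v => ⟨g • (v : M), ?_⟩, ?_, ?_⟩
  · rw [mem_cv_singleton]
    have h1 := mem_cv_singleton.1 v.2
    rw [mul_smul, mul_smul] at h1
    exact (eq_inv_smul_iff.2 h1)
  · rw [mem_cv_singleton]
    have h1 := mem_cv_singleton.1 v.2
    rw [mul_smul, mul_smul, inv_smul_smul, h1]
  · intro v; exact Subtype.ext (smul_inv_smul g _)
  · intro v; exact Subtype.ext (inv_smul_smul g _)

theorem index_cv_conj [Finite M] (g x : H) : (cv M ({g * x * g⁻¹} : Set H)).index = (cv M ({x} : Set H)).index := by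
  have h1 := (cv M ({g * x * g⁻¹} : Set H)).card_mul_index
  have h2 := (cv M ({x} : Set H)).card_mul_index
  rw [card_cv_conj, ← h2] at h1
  exact Nat.eq_of_mul_eq_mul_left Nat.card_pos h1

/-- **(INV)** `|M : C_M(w)| ≤ |M : C_M(x)|²`. -/
theorem inv_index [Finite M] {x w : H} {n : ℕ} (hx : x * x = 1) (hw : x * w * x⁻¹ = w⁻¹) (ho : Odd n) (hn : w ^ n = 1) :
    (cv M ({w} : Set H)).index ≤ (cv M ({x} : Set H)).index ^ 2 := by
  have h1 : cv M ({x} : Set H) ⊓ cv M ({w * x * w⁻¹} : Set H) ≤ cv M ({w} : Set H) := by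
    rintro v ⟨hv1, hv2⟩
    have h2 := mem_cv_singleton.1 hv1
    have h3 := mem_cv_singleton.1 hv2
    rw [mem_cv_singleton]
    have h4 : x * (w * x * w⁻¹) = w⁻¹ ^ 2 := by
      have hx' : x = x⁻¹ := eq_inv_of_mul_eq_one_left hx
      calc x * (w * x * w⁻¹) = (x * w * x⁻¹) * w⁻¹ := by
            rw [← hx']; group
        _ = w⁻¹ ^ 2 := by rw [hw, pow_two]
    have h5 : (w⁻¹ ^ 2) • v = v := by rw [← h4, mul_smul, h3, h2]
    obtain ⟨k, rfl⟩ := ho
    have h6 : ∀ j : ℕ, ((w⁻¹ ^ 2) ^ j) • v = v := by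
      intro j
      induction j with
      | zero => rw [pow_zero, one_smul]
      | succ j ih => rw [pow_succ, mul_smul, h5, ih]
    have h7 : w = (w⁻¹ ^ 2) ^ k := by
      rw [← pow_mul, inv_pow]
      rw [pow_succ] at hn
      exact eq_inv_of_mul_eq_one_right hn
    rw [h7]
    exact h6 k
  calc (cv M ({w} : Set H)).index ≤ (cv M ({x} : Set H) ⊓ cv M ({w * x * w⁻¹} : Set H)).index :=
        Nat.le_of_dvd (Nat.pos_of_ne_zero Subgroup.FiniteIndex.index_ne_zero) (Subgroup.index_dvd_of_le h1)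
    _ ≤ (cv M ({x} : Set H)).index * (cv M ({w * x * w⁻¹} : Set H)).index := Subgroup.index_inf_le
    _ = (cv M ({x} : Set H)).index ^ 2 := by rw [index_cv_conj, pow_two]

theorem isPGroup_two (sq : ∀ m : M, m * m = 1) : IsPGroup 2 M := fun m => ⟨1, by rw [pow_one, pow_two, sq]⟩

theorem index_pow [Finite M] (sq : ∀ m : M, m * m = 1) (N : Subgroup M) : ∃ k, N.index = 2 ^ k :=
  (isPGroup_two sq).index N

/-- **(ORD)** -/
theorem ord_index [Finite M] {u : H} {r k : ℕ} (sq : ∀ m : M, m * m = 1) (hp : r.Prime) (ho : Odd r)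
    (hr : u ^ r = 1) (hu : ∃ m : M, u • m ≠ m) (hk : ∀ n : ℕ, 0 < n → r ∣ 2 ^ n - 1 → k ≤ n) :
    2 ^ k ≤ (cv M ({u} : Set H)).index := by
  have : Fact r.Prime := ⟨hp⟩
  have h1 : IsPGroup r (zpowers u) := by
    intro g
    obtain ⟨i, hi⟩ := mem_zpowers_iff.1 g.2
    refine ⟨1, Subtype.ext ?_⟩
    rw [pow_one, SubgroupClass.coe_pow, ← hi, ← zpow_natCast, ← zpow_mul, mul_comm, zpow_mul, zpow_natCast, hr,
      one_zpow]
    rfl
  have h2 := h1.card_modEq_card_fixedPoints M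
  have h3 : Nat.card (MulAction.fixedPoints (zpowers u) M) = Nat.card (cv M ({u} : Set H)) := by
    refine Nat.card_congr (Equiv.subtypeEquivRight fun m => ?_)
    constructor
    · intro hm
      exact mem_cv_singleton.2 (hm ⟨u, mem_zpowers u⟩)
    · intro hm g
      have hm' : m ∈ cv M ((zpowers u : Subgroup H) : Set H) := by rwa [← QData.cv_singleton]
      exact hm' g g.2
  rw [h3, ← (cv M ({u} : Set H)).card_mul_index] at h2
  obtain ⟨j, hj⟩ := index_pow sq (cv M ({u} : Set H))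
  obtain ⟨c, hc⟩ := IsPGroup.iff_card.1 ((isPGroup_two sq).to_subgroup (cv M ({u} : Set H)))
  rw [hj]
  refine Nat.pow_le_pow_right (by norm_num) (hk j ?_ ?_)
  · rcases Nat.eq_zero_or_pos j with h4 | h4
    · rw [h4, pow_zero, index_eq_one] at hj
      obtain ⟨m, hm⟩ := hu
      exact absurd (mem_cv_singleton.1 (hj ▸ mem_top m : m ∈ cv M ({u} : Set H))) hm
    · exact h4
  · rw [hc, hj] at h2
    have h5 : 2 ^ c * 1 ≡ 2 ^ c * 2 ^ j [MOD r] := by rw [mul_one]; exact h2.symm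
    have h6 : Nat.gcd r (2 ^ c) = 1 := by
      refine Nat.Coprime.pow_right _ ?_
      exact ho.coprime_two_right
    have h7 : 1 ≡ 2 ^ j [MOD r] := Nat.ModEq.cancel_left_of_coprime h6 h5
    exact (Nat.modEq_iff_dvd' Nat.one_le_two_pow).1 h7

/-- `A` strict, `x ∈ A`: `|M : C_M(x)| < |A|`. -/
theorem lt_card [Finite H] [Finite M] {A : Subgroup H} (hA : Strict (fab M 1 1) A) (h1 : A ≠ ⊥) {x : H} (hx : x ∈ A) :
    (cv M ({x} : Set H)).index < Nat.card A := by
  have h2 := hA ⊥ (bot_lt_iff_ne_bot.2 h1)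
  have h3 : Nat.card M < Nat.card A * Nat.card (cv M (A : Set H)) := by
    have h4 : fab M 1 1 (⊥ : Subgroup H) = Nat.card M := by
      rw [fab, cv_bot, Subgroup.card_bot]
      simp
    have h5 : fab M 1 1 A = Nat.card A * Nat.card (cv M (A : Set H)) := by rw [fab, pow_one, pow_one]
    rwa [h4, h5] at h2
  have h6 : (cv M (A : Set H)).index < Nat.card A := by
    rw [← (cv M (A : Set H)).card_mul_index, mul_comm] at h3
    exact Nat.lt_of_mul_lt_mul_right h3
  refine lt_of_le_of_lt ?_ h6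
  exact Nat.le_of_dvd (Nat.pos_of_ne_zero Subgroup.FiniteIndex.index_ne_zero)
    (Subgroup.index_dvd_of_le (cv_anti (Set.singleton_subset_iff.2 hx)))

/-! ### Numerical forms -/

/-- (INV), exponents: `2c ≤ b + 1`. -/
theorem inv_pow [Finite M] {x w : H} {n b c : ℕ} (sq : ∀ m : M, m * m = 1) (hx : x * x = 1) (hw : x * w * x⁻¹ = w⁻¹)
    (ho : Odd n) (hn : w ^ n = 1) (hb : 2 ^ b ≤ (cv M ({w} : Set H)).index) (hc : 2 * c ≤ b + 1) :
    2 ^ c ≤ (cv M ({x} : Set H)).index := by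
  have h1 := hb.trans (inv_index (M := M) hx hw ho hn)
  obtain ⟨k, hk⟩ := index_pow sq (cv M ({x} : Set H))
  rw [hk] at h1 ⊢
  rw [← pow_mul] at h1
  have h2 := (Nat.pow_le_pow_iff_right (by norm_num : 1 < 2)).1 h1
  exact Nat.pow_le_pow_right (by norm_num) (by omega)

/-- (FROB), exponents: `p b < a (p - 1) + p`. -/
theorem frob_pow [Finite M] {u w : H} {s r p a b : ℕ} (sq : ∀ m : M, m * m = 1) (hp : r.Prime) (ho : Odd r)
    (hr : u ^ r = 1) (hw : w * u * w⁻¹ = u ^ s) (hs1 : 1 ≤ s)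
    (hs : ∀ i j : ℕ, i < j → j < p → ¬ r ∣ s ^ j - s ^ i) (hp1 : 1 ≤ p)
    (ha : 2 ^ a ≤ (cv M ({u} : Set H)).index) (hb : p * b < a * (p - 1) + p) :
    2 ^ b ≤ (cv M ({w} : Set H)).index := by
  have h1 := frob_index (M := M) sq hp ho hr hw hs1 hs hp1
  have h2 : 2 ^ (a * (p - 1)) ≤ (cv M ({w} : Set H)).index ^ p := by
    rw [pow_mul]
    exact (Nat.pow_le_pow_left ha _).trans h1
  obtain ⟨k, hk⟩ := index_pow sq (cv M ({w} : Set H))
  rw [hk] at h2 ⊢
  rw [← pow_mul] at h2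
  have h3 := (Nat.pow_le_pow_iff_right (by norm_num : 1 < 2)).1 h2
  refine Nat.pow_le_pow_right (by norm_num) ?_
  by_contra h4
  have h5 : k + 1 ≤ b := by omega
  have h6 : p * (k + 1) ≤ p * b := Nat.mul_le_mul_left _ h5
  have h7 : p * (k + 1) = k * p + p := by ring
  omega

/-- `A` strict, `x ∈ A`, `2^c ≤ |M : C_M(x)|`: `2^c < |A|`. -/
theorem lt_card_of [Finite H] [Finite M] {A : Subgroup H} (hA : Strict (fab M 1 1) A) (h1 : A ≠ ⊥) {x : H} (hx : x ∈ A)
    {c : ℕ} (hc : 2 ^ c ≤ (cv M ({x} : Set H)).index) : 2 ^ c < Nat.card A := hc.trans_lt (lt_card hA h1 hx)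

end main

/-! ### The orders of 2 modulo small primes -/

theorem ord_5 : ∀ n : ℕ, 0 < n → 5 ∣ 2 ^ n - 1 → 4 ≤ n := by
  intro n h1 h2
  by_contra h3
  interval_cases n <;> revert h2 <;> decide

theorem ord_7 : ∀ n : ℕ, 0 < n → 7 ∣ 2 ^ n - 1 → 3 ≤ n := by
  intro n h1 h2
  by_contra h3
  interval_cases n <;> revert h2 <;> decide

theorem ord_11 : ∀ n : ℕ, 0 < n → 11 ∣ 2 ^ n - 1 → 10 ≤ n := by
  intro n h1 h2
  by_contra h3
  interval_cases n <;> revert h2 <;> decide

theorem ord_13 : ∀ n : ℕ, 0 < n → 13 ∣ 2 ^ n - 1 → 12 ≤ n := by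
  intro n h1 h2
  by_contra h3
  interval_cases n <;> revert h2 <;> decide

theorem ord_17 : ∀ n : ℕ, 0 < n → 17 ∣ 2 ^ n - 1 → 8 ≤ n := by
  intro n h1 h2
  by_contra h3
  interval_cases n <;> revert h2 <;> decide

theorem ord_19 : ∀ n : ℕ, 0 < n → 19 ∣ 2 ^ n - 1 → 18 ≤ n := by
  intro n h1 h2
  by_contra h3
  interval_cases n <;> revert h2 <;> decide

theorem ord_23 : ∀ n : ℕ, 0 < n → 23 ∣ 2 ^ n - 1 → 11 ≤ n := by
  intro n h1 h2
  by_contra h3
  interval_cases n <;> revert h2 <;> decide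

theorem ord_29 : ∀ n : ℕ, 0 < n → 29 ∣ 2 ^ n - 1 → 28 ≤ n := by
  intro n h1 h2
  by_contra h3
  interval_cases n <;> revert h2 <;> decide

theorem ord_31 : ∀ n : ℕ, 0 < n → 31 ∣ 2 ^ n - 1 → 5 ≤ n := by
  intro n h1 h2
  by_contra h3
  interval_cases n <;> revert h2 <;> decide

end Cfsg.Agent.Omega.ML.InvFrob
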