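import Cfsg.Agent.Omega.ML.Rows
import Cfsg.Agent.Omega.ML.InvChain
import Cfsg.Agent.Omega.ML.InvFrob
import Cfsg.Agent.Omega.TwoF.Defs

/-!
# (ML), the K-list end: rows killed by one inverted element (helper226; #17288 of helper763)

* `act h` : `H → Aut(K / Z(K))`;  `card_le` : `|A| ≤ 2 ^ n` for `RK (K / Z(K)) n`;
* `exists_mem` : `A ∩ K ≠ 1` if `|Out(K / Z(K))| < 8`;
* `index_lt` : `|M : C_M(x)| < |A|` for `x ∈ A`.
-/

set_option autoImplicit false

namespace Cfsg.Agent.Omega.ML.InvRow

open Subgroup Cfsg Cfsg.Agent.ZN Cfsg.Agent.Omega.NOThree.NoOver Cfsg.Agent.Omega.ML.CD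
open Cfsg.Agent.Omega.ML.Rows Cfsg.Agent.Omega.ML.InvChain Cfsg.Agent.Omega.TwoF
open Cfsg.Agent.ClassTwoFusion.Quad

universe u v

section act

variable {H : Type u} [Group H] {K : Subgroup H} [K.Normal]

/-- the action on `K / Z(K)` -/
noncomputable def act : H →* MulAut (K ⧸ center K) where
  toFun g := QuotientGroup.congr (center K) (center K) (MulAut.conjNormal g : MulAut K)
    (Subgroup.characteristic_iff_map_eq.1 inferInstance _)
  map_one' := by
    ext x
    induction x using QuotientGroup.induction_on with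
    | H k => simp
  map_mul' g g' := by
    ext x
    induction x using QuotientGroup.induction_on with
    | H k =>
      rw [map_mul]
      rfl

theorem act_mk (g : H) (k : K) :
    (act g : MulAut (K ⧸ center K)) (k : K ⧸ center K) = ((MulAut.conjNormal g k : K) : K ⧸ center K) := rfl

theorem mem_centralizer_of_act (hq : IsQuasisimple K) {g : H} (hg : (act g : MulAut (K ⧸ center K)) = 1) :
    g ∈ centralizer (K : Set H) := by
  have h1 : ∀ k : K, (k : H)⁻¹ * (g * k * g⁻¹) ∈ (center K).map K.subtype := by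
    intro k
    have h2 := congrArg (fun φ : MulAut (K ⧸ center K) => φ (k : K ⧸ center K)) hg
    simp only [act_mk, MulAut.one_apply] at h2
    have h3 := QuotientGroup.eq.1 h2.symm
    exact ⟨_, h3, by simp⟩
  -- the homomorphism `k ↦ k⁻¹ g k g⁻¹`
  have hcen : ∀ c ∈ (center K).map K.subtype, ∀ k ∈ K, c * k = k * c := by
    rintro _ ⟨c, hc, rfl⟩ k hk
    exact (congrArg Subtype.val (mem_center_iff.1 hc ⟨k, hk⟩)).symm
  let ψ : K →* H :=
    { toFun := fun k => (k : H)⁻¹ * (g * k * g⁻¹)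
      map_one' := by simp
      map_mul' := by
        intro a b
        have h2 := hcen _ (h1 a) (b : H)⁻¹ (inv_mem b.2)
        have h3 : ((a * b : K) : H)⁻¹ * (g * ((a * b : K) : H) * g⁻¹) =
            (b : H)⁻¹ * ((a : H)⁻¹ * (g * a * g⁻¹)) * (g * b * g⁻¹) := by
          rw [Subgroup.coe_mul]; group
        rw [h3, ← h2]
        group }
  have hcomm : commutator K ≤ ψ.ker := by
    rw [commutator_def, Subgroup.commutator_le]
    intro a _ b _
    rw [MonoidHom.mem_ker, map_commutatorElement, commutatorElement_eq_one_iff_mul_comm]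
    have h2 : ψ b ∈ K := by
      obtain ⟨c, _, hc⟩ := h1 b
      have h3 : ψ b = (c : H) := hc.symm
      rw [h3]
      exact c.2
    exact hcen _ (h1 a) _ h2
  rw [mem_centralizer_iff]
  intro k hk
  have h4 : (⟨k, hk⟩ : K) ∈ ψ.ker := by
    apply hcomm
    have : commutator K = ⊤ := hq.1.1
    rw [this]
    exact mem_top _
  have h5 : k⁻¹ * (g * k * g⁻¹) = 1 := h4
  rw [inv_mul_eq_one] at h5
  rw [eq_mul_inv_iff_mul_eq] at h5
  exact h5

end act

section main

variable {H : Type u} [Group H] [Finite H] {M : Type v} [Group M] [Finite M] [MulDistribMulAction H M]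
  {K T A : Subgroup H}

omit [Finite H] [Finite M] in
/-- an element of `C_H(K)` of square 1 is 1 -/
theorem eq_one (h : In H M K T A) {g : H} (hg : g ∈ centralizer (K : Set H)) (h2 : g * g = 1) : g = 1 := by
  have hc : (⟨g, h.cen hg⟩ : K) ∈ center K := mem_center_iff.2 fun y =>
    Subtype.ext (mem_centralizer_iff.1 hg y y.2)
  have h1 : orderOf (⟨_, hc⟩ : center K) ∣ 2 := orderOf_dvd_of_pow_eq_one (by
    rw [pow_two]; exact Subtype.ext (Subtype.ext h2))
  have h3 := Nat.dvd_gcd h1 (orderOf_dvd_natCard (⟨_, hc⟩ : center K))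
  rw [Nat.coprime_two_left.2 h.odd] at h3
  have h4 := orderOf_eq_one_iff.1 (Nat.dvd_one.1 h3)
  exact congrArg (fun x : center K => ((x : K) : H)) h4

/-- **`|A| ≤ 2 ^ n`.** -/
theorem card_le (h : In H M K T A) {n : ℕ} (hrk : RK (K ⧸ center K) n) : Nat.card A ≤ 2 ^ n := by
  have hN := h.norm
  refine hrk.card_le_of_injective (act.comp A.subtype) ?_ (fun x => ?_)
  · rw [injective_iff_map_eq_one]
    intro a ha
    exact Subtype.ext (eq_one h (mem_centralizer_of_act h.qs ha) (h.el a a.2))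
  · rw [pow_two]
    exact Subtype.ext (h.el x x.2)

omit [Finite M] in
/-- `|H : K| ≤ |Out(K / Z(K))|` -/
theorem index_le (h : In H M K T A) :
    K.index ≤ (MulAut.conj : K ⧸ center K →* MulAut (K ⧸ center K)).range.index := by
  have hN := h.norm
  have : Finite (MulAut (K ⧸ center K)) :=
    Finite.of_injective (fun φ => (φ : K ⧸ center K → K ⧸ center K)) DFunLike.coe_injective
  set R := (MulAut.conj : K ⧸ center K →* MulAut (K ⧸ center K)).range with hR
  have h1 : R.comap (act : H →* MulAut (K ⧸ center K)) ≤ K := by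
    intro g hg
    obtain ⟨s, hs⟩ := hg
    induction s using QuotientGroup.induction_on with
    | H k =>
      have h2 : (act ((k : H)⁻¹ * g) : MulAut (K ⧸ center K)) = 1 := by
        have h3 : (act (k : H) : MulAut (K ⧸ center K)) = MulAut.conj (k : K ⧸ center K) := by
          ext x
          induction x using QuotientGroup.induction_on with
          | H x => 
            rw [act_mk, MulAut.conj_apply]
            rw [← QuotientGroup.mk_mul, ← QuotientGroup.mk_inv, ← QuotientGroup.mk_mul]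
            congr 1
        rw [map_mul, map_inv, h3, ← hs, inv_mul_cancel]
      have h4 := h.cen (mem_centralizer_of_act h.qs h2)
      have h5 := mul_mem k.2 h4
      rwa [mul_inv_cancel_left] at h5
  calc K.index ≤ (R.comap (act : H →* MulAut (K ⧸ center K))).index :=
        Nat.le_of_dvd (Nat.pos_of_ne_zero index_ne_zero_of_finite) (index_dvd_of_le h1)
    _ = R.relIndex (act : H →* MulAut (K ⧸ center K)).range := by rw [index_comap]
    _ ≤ R.relIndex ⊤ := relIndex_le_of_le_right le_top (by rw [relIndex_top_right]; exact index_ne_zero_of_finite)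
    _ = R.index := relIndex_top_right R

/-- **`A ∩ K ≠ 1`.** -/
theorem exists_mem (h : In H M K T A)
    (hout : (MulAut.conj : K ⧸ center K →* MulAut (K ⧸ center K)).range.index < 8) :
    ∃ x ∈ A, x ∈ K ∧ x ≠ 1 := by
  by_contra hc
  push Not at hc
  have h1 : K ⊓ A = ⊥ := by
    rw [eq_bot_iff]
    rintro x ⟨hx1, hx2⟩
    exact hc x hx2 hx1
  have h2 : K.relIndex A = Nat.card A := by rw [← inf_relIndex_right, h1, relIndex_bot_left]
  have h3 : K.relIndex A ≤ K.relIndex ⊤ :=
    relIndex_le_of_le_right le_top (by rw [relIndex_top_right]; exact index_ne_zero_of_finite)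
  rw [relIndex_top_right, h2] at h3
  have h4 := index_le h
  have h5 := h.eight
  omega

/-- the Frobenius condition -/
theorem frob_cond {G : Type*} [Group G] {u w : G} {k : ℕ} (hp : (orderOf u).Prime) (hq : (orderOf w).Prime)
    (hk : w * u * w⁻¹ = u ^ k) (hne : w * u ≠ u * w) :
    1 ≤ k ∧ ∀ i j : ℕ, i < j → j < orderOf w → ¬ orderOf u ∣ k ^ j - k ^ i := by
  have hu1 : u ≠ 1 := by
    rintro rfl
    rw [orderOf_one] at hp
    exact Nat.not_prime_one hp
  have hk0 : k ≠ 0 := by
    rintro rfl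
    rw [pow_zero, mul_inv_eq_one] at hk
    exact hu1 (mul_eq_left.1 hk)
  refine ⟨Nat.one_le_iff_ne_zero.2 hk0, fun i j hij hj hdvd => hne ?_⟩
  have hpow : ∀ n : ℕ, w ^ n * u * (w ^ n)⁻¹ = u ^ k ^ n := by
    intro n
    induction n with
    | zero => simp
    | succ n ih =>
      have e : w ^ (n + 1) * u * (w ^ (n + 1))⁻¹ = w * (w ^ n * u * (w ^ n)⁻¹) * w⁻¹ := by
        rw [pow_succ']; group
      rw [e, ih, ← conj_pow, hk, ← pow_mul, ← pow_succ']
  have hcop : (orderOf u).Coprime (k ^ i) := by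
    refine Nat.Coprime.pow_right _ ((Nat.Prime.coprime_iff_not_dvd hp).2 fun h => ?_)
    have h1 : u ^ k = 1 := orderOf_dvd_iff_pow_eq_one.1 h
    rw [h1, mul_inv_eq_one] at hk
    exact hu1 (mul_eq_left.1 hk)
  have h1 : k ^ j - k ^ i = k ^ i * (k ^ (j - i) - 1) := by
    rw [Nat.mul_sub, ← pow_add, mul_one]
    congr 2
    omega
  rw [h1] at hdvd
  have h2 : orderOf u ∣ k ^ (j - i) - 1 := hcop.dvd_of_dvd_mul_left hdvd
  have h3 : u ^ k ^ (j - i) = u := by
    have h4 : 1 ≤ k ^ (j - i) := Nat.one_le_pow _ _ (Nat.pos_of_ne_zero hk0)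
    have h5 : u ^ k ^ (j - i) = u ^ (k ^ (j - i) - 1 + 1) := by rw [Nat.sub_add_cancel h4]
    rw [h5, pow_succ, orderOf_dvd_iff_pow_eq_one.1 h2, one_mul]
  have h4 := hpow (j - i)
  rw [h3] at h4
  have h5 : Commute (w ^ (j - i)) u := mul_inv_eq_iff_eq_mul.1 h4
  have h6 : (j - i).Coprime (orderOf w) :=
    ((Nat.Prime.coprime_iff_not_dvd hq).2 (Nat.not_dvd_of_pos_of_lt (by omega) (by omega))).symm
  obtain ⟨t, ht⟩ := exists_pow_eq_self_of_coprime h6
  have h7 := h5.pow_left t
  rw [ht] at h7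
  exact h7

omit [Finite H] in
/-- **`dim [M, w] ≥ m`.** -/
theorem chain_big (sq : ∀ m : M, m * m = 1) (faith : ∀ h : H, (∀ m : M, h • m = m) → h = 1) {w : H} {m : ℕ}
    (h : Chain w m) : 2 ^ m ≤ (cv M ({w} : Set H)).index := by
  induction h with
  | base u m hp h2 hm =>
    refine InvFrob.ord_index sq hp (hp.eq_two_or_odd'.resolve_left h2) (pow_orderOf_eq_one u) ?_ ?_
    · by_contra hc
      push Not at hc
      rw [faith u hc, orderOf_one] at hp
      exact Nat.not_prime_one hp
    · intro n hn hdvd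
      by_contra hc
      exact hm n hn (by omega) hdvd
  | step u w m m' k hu hp h2 hk hne hm ih =>
    obtain ⟨h3, h4⟩ := frob_cond hu.prime hp hk hne
    exact InvFrob.frob_pow sq hu.prime (hu.prime.eq_two_or_odd'.resolve_left hu.ne_two) (pow_orderOf_eq_one u) hk h3 h4
      hp.pos ih hm

omit [Finite H] in
/-- **`dim [M, x] ≥ n`.** -/
theorem inv_big (sq : ∀ m : M, m * m = 1) (faith : ∀ h : H, (∀ m : M, h • m = m) → h = 1) {x : H} (hx : x * x = 1)
    {n : ℕ} (h : InvAt x n) : 2 ^ n ≤ (cv M ({x} : Set H)).index := by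
  obtain ⟨w, m, hw, hinv, hn⟩ := h
  exact InvFrob.inv_pow sq hx hinv (hw.prime.eq_two_or_odd'.resolve_left hw.ne_two) (pow_orderOf_eq_one w)
    (chain_big sq faith hw) hn

/-- **Kill by one inverted element.** -/
theorem false_of_inv (h : In H M K T A) {n : ℕ} (hn : Nat.card A ≤ 2 ^ n) {x : K} (hxA : (x : H) ∈ A)
    (hx : InvAt (x : K ⧸ center K) n) : False := by
  have hxx : (x : H) * x = 1 := h.el _ hxA
  have h1 : InvAt x n := by
    refine InvAt.lift (QuotientGroup.mk' (center K)) (QuotientGroup.mk'_surjective _) ?_ ?_ (Subtype.ext hxx) hx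
    · intro c hc g
      rw [QuotientGroup.ker_mk'] at hc
      exact (mem_center_iff.1 hc g).symm
    · rw [QuotientGroup.ker_mk']
      exact h.odd
  have h2 : InvAt (x : H) n := h1.map K.subtype K.subtype_injective
  have h3 := inv_big h.sq h.faith hxx h2
  have h4 := InvFrob.lt_card h.strict (fun h5 => by have := h.eight; rw [h5, Subgroup.card_bot] at this; omega) hxA
  omega

/-- **The row**: `RK S n`, `|Out S| < 8`, `InvAt x n` for all involutions `x` of `S`. -/
theorem dead {𝒮 : ∀ (S : Type u) [Group S], Prop} (h𝒮 : ∀ (S : Type u) [Group S] [Finite S], 𝒮 S → ∃ n, RK S n ∧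
    (MulAut.conj : S →* MulAut S).range.index < 8 ∧ ∀ x : S, x * x = 1 → x ≠ 1 → InvAt x n) : Dead.{u, v} 𝒮 := by
  intro H _ _ M _ _ _ K T A h hS
  have hN := h.norm
  obtain ⟨n, hrk, hout, hinv⟩ := h𝒮 _ hS
  obtain ⟨x, hxA, hxK, hx1⟩ := exists_mem h hout
  refine false_of_inv h (card_le h hrk) (x := ⟨x, hxK⟩) hxA (hinv _ ?_ ?_)
  · rw [← QuotientGroup.mk_mul]
    have h1 : (⟨x, hxK⟩ : K) * ⟨x, hxK⟩ = 1 := Subtype.ext (h.el x hxA)
    rw [h1]
    rfl
  · intro h1
    have h2 : (⟨x, hxK⟩ : K) ∈ center K := (QuotientGroup.eq_one_iff _).1 h1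
    apply hx1
    refine eq_one h (mem_centralizer_iff.2 fun y hy => ?_) (h.el x hxA)
    exact congrArg Subtype.val (mem_center_iff.1 h2 ⟨y, hy⟩)

end main

end Cfsg.Agent.Omega.ML.InvRow
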