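import Cfsg.Agent.Omega.ML.RowsDead
import Cfsg.Agent.Omega.ML.InvFrob
import Cfsg.Agent.Omega.TwoF.Defs
import Cfsg.Agent.Lib.ElemAbGL

/-!
# (ML), the K-list end: a few conjugates of an involution generate (helper844)

The situation `In H M K T A` of `Omega/ML/Rows.lean`; `S = K / Z(K)`.

* `GenBy S n` : `S` is generated by `n` conjugates of every involution;
* `card_le` : `|M| ≤ |M : C_M(x)|^n` for an involution `x ∈ K`;
* `not_le_nine` : `3⁶ ∣ |S|` ⟹ `|M| > 2⁹` (`3⁶ ∤ |GL₉(2)|`);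
* `card_A_le` : `RK S a` ⟹ `|A| ≤ 2^a`;  `card_A_le_inf` : `|A : A ∩ K| ≤ 2^c` if this holds in `Aut S`;
* `NormEl S` : a normal elementary abelian 2-subgroup of `C_S(z)`, `z` an involution, has order at most 2;
  `inf_le_two` : if `|M : C_M(x)| = |M : C_M(A)|` for some `1 ≠ x ∈ A ∩ K` then `|A ∩ K| ≤ 2`;
* **`dead_of_five`** : `GenBy S 3`, `3⁶ ∣ |S|`, `NormEl S`, `RK S 5`, `|B : B ∩ Inn S| ≤ 4` : the row is dead (`U₄(3)`);
* **`dead_of_four`** : `GenBy S 3`, `3⁶ ∣ |S|`, `RK S 4`, `|B : B ∩ Inn S| ≤ 4` : the row is dead (`G₂(3)`).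
-/

set_option autoImplicit false
set_option linter.unusedVariables false

namespace Cfsg.Agent.Omega.ML.Gen3

open Subgroup Cfsg Cfsg.Agent.ClassTwoFusion.Quad Cfsg.Agent.Omega.NOThree.NoOver Cfsg.Agent.Omega.ML.CD
  Cfsg.Agent.Omega.ML.Rows Cfsg.Agent.Omega.ML.InvFrob Cfsg.Agent.Omega.TwoF

universe u v w

/-- `S` is generated by `n` conjugates of every involution. -/
def GenBy (S : Type w) [Group S] (n : ℕ) : Prop :=
  ∀ x : S, x ≠ 1 → x * x = 1 → ∃ l : Fin n → S, Subgroup.closure (Set.range fun i => l i * x * (l i)⁻¹) = ⊤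

/-- A normal elementary abelian 2-subgroup of the centraliser of an involution has order at most 2. -/
def NormEl (S : Type w) [Group S] : Prop :=
  ∀ z : S, z ≠ 1 → z * z = 1 → ∀ N : Subgroup S, (∀ x ∈ N, x * z = z * x) →
    (∀ c : S, c * z = z * c → ∀ x ∈ N, c * x * c⁻¹ ∈ N) → (∀ x ∈ N, x * x = 1) → Nat.card N ≤ 2

/-- `|B : B ∩ Inn S| ≤ 2^c` for the elementary abelian 2-groups of automorphisms. -/
def OutLe (S : Type w) [Group S] (c : ℕ) : Prop :=
  ∀ B : Subgroup (MulAut S), (∀ b ∈ B, b ^ 2 = 1) →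
    Nat.card B ≤ 2 ^ c * Nat.card (B ⊓ (MulAut.conj : S →* MulAut S).range : Subgroup (MulAut S))

section equiv

variable {S : Type v} {S' : Type w} [Group S] [Group S']

theorem GenBy.equiv (e : S ≃* S') {n : ℕ} (h : GenBy S' n) : GenBy S n := by
  intro x hx hxx
  obtain ⟨l, hl⟩ := h (e x) (fun h1 => hx (e.injective (h1.trans (map_one e).symm))) (by rw [← map_mul, hxx, map_one])
  refine ⟨fun i => e.symm (l i), ?_⟩
  have h1 : (Subgroup.closure (Set.range fun i => e.symm (l i) * x * (e.symm (l i))⁻¹)).map e.toMonoidHom = ⊤ := by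
    rw [MonoidHom.map_closure, ← Set.range_comp, ← hl]
    congr 1
    congr 1
    funext i
    simp
  have h2 := congrArg (Subgroup.comap e.toMonoidHom) h1
  rw [comap_map_eq_self_of_injective e.injective, comap_top] at h2
  exact h2

theorem NormEl.equiv (e : S ≃* S') (h : NormEl S') : NormEl S := by
  intro z hz hzz N h1 h2 h3
  have h4 := h (e z) (fun h1 => hz (e.injective (h1.trans (map_one e).symm))) (by rw [← map_mul, hzz, map_one])
    (N.map e.toMonoidHom) (by
      rintro _ ⟨x, hx, rfl⟩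
      exact (map_mul e x z).symm.trans ((congrArg e (h1 x hx)).trans (map_mul e z x))) (by
      intro c hc
      obtain ⟨c, rfl⟩ := e.surjective c
      rintro _ ⟨x, hx, rfl⟩
      refine ⟨c * x * c⁻¹, h2 c ?_ x hx, ?_⟩
      · apply e.injective
        rw [map_mul, map_mul, hc]
      · simp) (by
      rintro _ ⟨x, hx, rfl⟩
      exact (map_mul e x x).symm.trans ((congrArg e (h3 x hx)).trans (map_one e)))
  rwa [← Nat.card_congr (N.equivMapOfInjective e.toMonoidHom e.injective).toEquiv] at h4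

theorem OutLe.equiv (e : S ≃* S') {c : ℕ} (h : OutLe S' c) : OutLe S c := by
  intro B hB
  have h1 := h (B.map (MulAut.congr e).toMonoidHom) (by
    rintro _ ⟨x, hx, rfl⟩
    rw [← map_pow, hB x hx, map_one])
  have h2 : (B.map (MulAut.congr e).toMonoidHom ⊓ (MulAut.conj : S' →* MulAut S').range) =
      (B ⊓ (MulAut.conj : S →* MulAut S).range).map (MulAut.congr e).toMonoidHom := by
    ext φ
    constructor
    · rintro ⟨⟨b, hb, rfl⟩, ⟨s, hs⟩⟩
      refine ⟨b, ⟨hb, e.symm s, ?_⟩, rfl⟩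
      ext t
      have h3 := congrArg (fun ψ : MulAut S' => ψ (e t)) hs
      simp only [MulAut.conj_apply, MulEquiv.toMonoidHom_eq_coe, MonoidHom.coe_coe, MulAut.congr_apply,
        MulEquiv.trans_apply, MulEquiv.symm_apply_apply] at h3
      rw [MulAut.conj_apply]
      apply e.injective
      rw [← h3]
      simp
    · rintro ⟨b, ⟨hb, s, hs⟩, rfl⟩
      refine ⟨⟨b, hb, rfl⟩, e s, ?_⟩
      ext t
      have h3 := congrArg (fun ψ : MulAut S => e (ψ (e.symm t))) hs
      simp only [MulAut.conj_apply, map_mul, map_inv, MulEquiv.apply_symm_apply] at h3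
      rw [MulAut.conj_apply, h3]
      simp
  rw [h2, ← Nat.card_congr (B.equivMapOfInjective _ (MulAut.congr e).injective).toEquiv,
    ← Nat.card_congr ((B ⊓ (MulAut.conj : S →* MulAut S).range).equivMapOfInjective
      (MulAut.congr e).toMonoidHom (MulAut.congr e).injective).toEquiv] at h1
  exact h1

end equiv

/-! ### Generation -/

/-- A subgroup covering `K / Z(K)`, `K` perfect, is `K`. -/
theorem eq_top_of_sup_center {G : Type*} [Group G] (hp : commutator G = ⊤) {L : Subgroup G} (h : L ⊔ center G = ⊤) :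
    L = ⊤ := by
  rw [eq_top_iff, ← hp, commutator_def, commutator_le]
  intro a _ b _
  have ha : a ∈ L ⊔ center G := h ▸ mem_top a
  have hb : b ∈ L ⊔ center G := h ▸ mem_top b
  obtain ⟨l, hl, z, hz, rfl⟩ := mem_sup_of_normal_right.1 ha
  obtain ⟨m, hm, y, hy, rfl⟩ := mem_sup_of_normal_right.1 hb
  have hz' := mem_center_iff.1 hz
  have hy' := mem_center_iff.1 hy
  have e1 : l * z * (m * y) * (l * z)⁻¹ = l * (m * y) * l⁻¹ := by
    calc l * z * (m * y) * (l * z)⁻¹ = l * (z * (m * y)) * z⁻¹ * l⁻¹ := by group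
      _ = l * ((m * y) * z) * z⁻¹ * l⁻¹ := by rw [hz' (m * y)]
      _ = _ := by group
  have e2 : l * (m * y) * l⁻¹ = l * m * l⁻¹ * y := by
    calc l * (m * y) * l⁻¹ = l * m * (y * l⁻¹) := by group
      _ = l * m * (l⁻¹ * y) := by rw [hy' l⁻¹]
      _ = _ := by group
  have e3 : l * z * (m * y) * (l * z)⁻¹ * (m * y)⁻¹ = l * m * l⁻¹ * m⁻¹ := by
    rw [e1, e2]
    group
  rw [commutatorElement_def, e3]
  exact mul_mem (mul_mem (mul_mem hl hm) (inv_mem hl)) (inv_mem hm)

theorem gen_lift {G : Type*} [Group G] (hp : commutator G = ⊤) {n : ℕ} (hg : GenBy (G ⧸ center G) n) {x : G}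
    (hx : x ∉ center G) (hxx : x * x = 1) :
    ∃ l : Fin n → G, Subgroup.closure (Set.range fun i => l i * x * (l i)⁻¹) = ⊤ := by
  obtain ⟨l, hl⟩ := hg (QuotientGroup.mk x) (fun h => hx ((QuotientGroup.eq_one_iff x).1 h))
    (by rw [← QuotientGroup.mk_mul, hxx, QuotientGroup.mk_one])
  choose k hk using fun i => QuotientGroup.mk_surjective (l i)
  refine ⟨k, eq_top_of_sup_center hp ?_⟩
  have h1 : (Subgroup.closure (Set.range fun i => k i * x * (k i)⁻¹)).map (QuotientGroup.mk' (center G)) = ⊤ := by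
    rw [MonoidHom.map_closure, ← Set.range_comp, ← hl]
    congr 1
    congr 1
    funext i
    show QuotientGroup.mk (k i * x * (k i)⁻¹) = _
    rw [QuotientGroup.mk_mul, QuotientGroup.mk_mul, QuotientGroup.mk_inv, hk]
  have h2 := congrArg (Subgroup.comap (QuotientGroup.mk' (center G))) h1
  rw [comap_map_eq, QuotientGroup.ker_mk', comap_top] at h2
  exact h2

section main

variable {H : Type u} [Group H] {M : Type v} [Group M] [MulDistribMulAction H M] {K T A : Subgroup H}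

/-- An involution of `K` is not central in `K`. -/
theorem not_mem_center [Finite H] (h : In H M K T A) {x : K} (hx : x ≠ 1) (hxx : x * x = 1) : x ∉ center K := by
  intro h1
  have h2 : orderOf x ∣ 2 ^ 1 := orderOf_dvd_of_pow_eq_one (by rw [pow_one, pow_two, hxx])
  have h3 : orderOf x ∣ Nat.card (center K) := by
    have := orderOf_dvd_natCard (⟨x, h1⟩ : center K)
    rwa [orderOf_mk] at this
  have h4 : Nat.Coprime (2 ^ 1) (Nat.card (center K)) := (Nat.coprime_two_left.2 h.odd).pow_left 1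
  exact hx (orderOf_eq_one_iff.1 (Nat.eq_one_of_dvd_coprimes h4 h2 h3))

/-- `C_M(K) = 1`. -/
theorem cv_eq_bot (h : In H M K T A) : cv M (K : Set H) = ⊥ := by
  have hK := h.norm
  rcases h.irr (cv M (K : Set H)) (by
    intro g w hw k hk
    have h1 := hw (g⁻¹ * k * g) (by
      have := hK.conj_mem k hk g⁻¹
      rwa [inv_inv] at this)
    rw [mul_smul, mul_smul, inv_smul_eq_iff] at h1
    exact h1) with h1 | h1
  · exact h1
  · exfalso
    have h2 : K = ⊥ := by
      rw [eq_bot_iff]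
      intro k hk
      exact mem_bot.2 (h.faith k fun m => (h1 ▸ mem_top m : m ∈ cv M (K : Set H)) k hk)
    have h3 : Subsingleton K := by rw [h2]; infer_instance
    have h4 := h.qs.2
    have h5 := h4.toNontrivial
    obtain ⟨a, b, hab⟩ := h5
    obtain ⟨a, rfl⟩ := QuotientGroup.mk_surjective a
    obtain ⟨b, rfl⟩ := QuotientGroup.mk_surjective b
    exact hab (congrArg _ (Subsingleton.elim a b))

/-- **`|M| ≤ |M : C_M(x)|^n`.** -/
theorem card_le [Finite H] [Finite M] (h : In H M K T A) {n : ℕ} (hg : GenBy (K ⧸ center K) n) {x : H} (hxK : x ∈ K)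
    (hx : x ≠ 1) (hxx : x * x = 1) : Nat.card M ≤ (cv M ({x} : Set H)).index ^ n := by
  have h1 : (⟨x, hxK⟩ : K) ∉ center K := not_mem_center h (fun h2 => hx (congrArg Subtype.val h2)) (Subtype.ext hxx)
  obtain ⟨l, hl⟩ := gen_lift h.perf hg h1 (Subtype.ext hxx)
  have h2 : (⨅ i : Fin n, cv M ({(l i : H) * x * (l i : H)⁻¹} : Set H)) ≤ cv M (K : Set H) := by
    intro m hm k hk
    have h3 : ∀ i, ((l i : H) * x * (l i : H)⁻¹) • m = m := fun i => mem_cv_singleton.1 (mem_iInf.1 hm i)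
    let St : Subgroup K := (MulAction.stabilizer H m).comap K.subtype
    have h4 : (⊤ : Subgroup K) ≤ St := by
      rw [← hl, closure_le]
      rintro _ ⟨i, rfl⟩
      exact h3 i
    exact h4 (mem_top (⟨k, hk⟩ : K))
  rw [cv_eq_bot h, le_bot_iff] at h2
  have h5 : (⨅ i : Fin n, cv M ({(l i : H) * x * (l i : H)⁻¹} : Set H)).index ≤
      ∏ i : Fin n, (cv M ({(l i : H) * x * (l i : H)⁻¹} : Set H)).index := Subgroup.index_iInf_le _
  rw [h2, index_bot] at h5
  refine h5.trans (le_of_eq ?_)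
  rw [Finset.prod_congr rfl fun i _ => index_cv_conj (M := M) (l i : H) x, Finset.prod_const, Finset.card_univ,
    Fintype.card_fin]

/-- `3⁶ ∤ |GL_m(2)|` for `m ≤ 9`. -/
theorem not_dvd_GL : ∀ m ≤ 9, ¬ 3 ^ 6 ∣ Nat.card (Matrix.GeneralLinearGroup (Fin m) (ZMod 2)) := by
  intro m hm
  have : Fact (Nat.Prime 2) := ⟨Nat.prime_two⟩
  rw [Matrix.card_GL_field, ZMod.card]
  interval_cases m <;> simp only [Finset.univ_unique, Fin.prod_univ_succ, Finset.univ_eq_empty,
    Finset.prod_empty, Fin.val_zero, Fin.val_succ] <;> decide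

/-- `|M| > 2⁹` if `3⁶` divides `|K / Z(K)|`. -/
theorem not_le_nine [Finite H] [Finite M] (h : In H M K T A) (h3 : 3 ^ 6 ∣ Nat.card (K ⧸ center K)) :
    ¬ Nat.card M ≤ 2 ^ 9 := by
  intro hM
  have : Fact (Nat.Prime 2) := ⟨Nat.prime_two⟩
  let _ : CommGroup M := { (inferInstance : Group M) with mul_comm := comm_of_sq h.sq }
  obtain ⟨m, hm⟩ := IsPGroup.iff_card.1 (isPGroup_two h.sq)
  have hm9 : m ≤ 9 := (Nat.pow_le_pow_iff_right (by norm_num)).1 (hm ▸ hM)
  obtain ⟨e⟩ := Cfsg.Agent.Lib.ElemAbGL.mulAut_equiv_GL (V := M) 2 m (fun x => by rw [pow_two]; exact h.sq x) hm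
  apply not_dvd_GL m hm9
  rw [← Nat.card_congr e.toEquiv]
  have h4 : Nat.card K ∣ Nat.card (MulAut M) := by
    refine Subgroup.card_dvd_of_injective ((MulDistribMulAction.toMulAut H M).comp K.subtype) ?_
    rw [injective_iff_map_eq_one]
    intro k hk
    refine Subtype.ext (h.faith k fun m => ?_)
    exact congrArg (fun φ : MulAut M => φ m) hk
  have h5 : Nat.card (K ⧸ center K) ∣ Nat.card K := (center K).card_quotient_dvd_card
  exact (h3.trans h5).trans h4

/-- `|M : C_M(x)| ≥ 2⁴` for the involutions `x ∈ K`. -/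
theorem four_le [Finite H] [Finite M] (h : In H M K T A) (hg : GenBy (K ⧸ center K) 3)
    (h3 : 3 ^ 6 ∣ Nat.card (K ⧸ center K)) {x : H} (hxK : x ∈ K) (hx : x ≠ 1) (hxx : x * x = 1) :
    2 ^ 4 ≤ (cv M ({x} : Set H)).index := by
  obtain ⟨k, hk⟩ := index_pow h.sq (cv M ({x} : Set H))
  rw [hk]
  refine Nat.pow_le_pow_right (by norm_num) ?_
  by_contra hc
  apply not_le_nine h h3
  refine (card_le h hg hxK hx hxx).trans ?_
  rw [hk, ← pow_mul]
  exact Nat.pow_le_pow_right (by norm_num) (by omega)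

/-! ### The action of `A` on `K / Z(K)` -/

/-- `H → Aut (K / Z(K))` -/
def act (hK : K.Normal) : H →* MulAut (K ⧸ center K) where
  toFun g := QuotientGroup.congr (center K) (center K) (MulAut.conjNormal (H := K) g)
    (Subgroup.characteristic_iff_map_eq.1 (inferInstance : (center K).Characteristic) _)
  map_one' := by
    ext x
    obtain ⟨k, rfl⟩ := QuotientGroup.mk_surjective x
    change (QuotientGroup.mk (MulAut.conjNormal (H := K) (1 : H) k) : K ⧸ center K) = QuotientGroup.mk k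
    rw [map_one]
    rfl
  map_mul' a b := by
    ext x
    obtain ⟨k, rfl⟩ := QuotientGroup.mk_surjective x
    change (QuotientGroup.mk (MulAut.conjNormal (H := K) (a * b) k) : K ⧸ center K) =
      QuotientGroup.mk (MulAut.conjNormal (H := K) a (MulAut.conjNormal (H := K) b k))
    rw [map_mul]
    rfl

theorem act_mk (hK : K.Normal) (g : H) (k : K) :
    act hK g (QuotientGroup.mk k) = QuotientGroup.mk (MulAut.conjNormal (H := K) g k) := rfl

theorem mem_of_center (h : In H M K T A) {k : K} (hk : k ∈ center K) (x : H) : x * (k : H) = (k : H) * x := by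
  refine h.zen (k : H) ?_ x
  exact mem_centralizer_iff.2 fun y hy => congrArg Subtype.val (mem_center_iff.1 hk ⟨y, hy⟩)

/-- An element acting trivially on `K / Z(K)` centralises `K`. -/
theorem mem_centralizer_of_act (h : In H M K T A) {g : H} (hg : act h.norm g = 1) : g ∈ centralizer (K : Set H) := by
  refine commutes_of_central h.perf fun k hk x => ?_
  have := h.norm
  have h1 := congrArg (fun φ : MulAut (K ⧸ center K) => φ (QuotientGroup.mk ⟨k, hk⟩)) hg
  change QuotientGroup.mk (MulAut.conjNormal (H := K) g ⟨k, hk⟩) = (QuotientGroup.mk ⟨k, hk⟩ : K ⧸ center K) at h1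
  have h2 := QuotientGroup.eq.1 h1.symm
  -- `k⁻¹ g k g⁻¹ ∈ Z(K)`
  have h3 := mem_of_center h h2
  have h4 : ((⟨k, hk⟩⁻¹ * MulAut.conjNormal (H := K) g ⟨k, hk⟩ : K) : H) = k⁻¹ * (g * k * g⁻¹) := by
    rw [Subgroup.coe_mul, Subgroup.coe_inv, MulAut.conjNormal_apply]
  rw [h4] at h3
  have h5 : g * k * g⁻¹ * k⁻¹ = k⁻¹ * (g * k * g⁻¹) := by
    have h6 := h3 k
    calc g * k * g⁻¹ * k⁻¹ = (k * (k⁻¹ * (g * k * g⁻¹))) * k⁻¹ := by group
      _ = (k⁻¹ * (g * k * g⁻¹) * k) * k⁻¹ := by rw [h6]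
      _ = _ := by group
  rw [h5]
  exact h3 x

theorem isPGroup_A (h : In H M K T A) : IsPGroup 2 A :=
  fun a => ⟨1, Subtype.ext (by rw [pow_one, pow_two]; exact h.el a a.2)⟩

theorem act_injective [Finite H] (h : In H M K T A) :
    Function.Injective ((act h.norm).comp A.subtype) := by
  rw [injective_iff_map_eq_one]
  intro a ha
  have h1 := mem_centralizer_of_act h (g := (a : H)) ha
  have h2 : (a : H) ∈ A ⊓ centralizer (K : Set H) := ⟨a.2, h1⟩
  rw [h.inf_eq_bot A (isPGroup_A h)] at h2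
  exact Subtype.ext (mem_bot.1 h2)

/-- **`|A| ≤ 2^a`.** -/
theorem card_A_le [Finite H] (h : In H M K T A) {a : ℕ} (hr : RK (K ⧸ center K) a) : Nat.card A ≤ 2 ^ a :=
  hr.card_le_of_injective _ (act_injective h) fun x => Subtype.ext (by rw [pow_two]; exact h.el x x.2)

/-- **`|A : A ∩ K| ≤ 2^c`.** -/
theorem card_A_le_inf [Finite H] (h : In H M K T A) {c : ℕ} (ho : OutLe (K ⧸ center K) c) :
    Nat.card A ≤ 2 ^ c * Nat.card (A ⊓ K : Subgroup H) := by
  have h1 := ho (A.map (act h.norm)) (by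
    rintro _ ⟨a, ha, rfl⟩
    rw [← map_pow, pow_two, h.el a ha, map_one])
  have hinj := act_injective h
  have h2 : Nat.card (A.map (act h.norm)) = Nat.card A := by
    have h6 : ((act h.norm).comp A.subtype).range = A.map (act h.norm) := by
      rw [MonoidHom.range_eq_map, ← Subgroup.map_map, ← MonoidHom.range_eq_map, range_subtype]
    rw [← h6]
    exact (Nat.card_congr (MonoidHom.ofInjective hinj).toEquiv).symm
  have h3 : (A.map (act h.norm) ⊓ (MulAut.conj : K ⧸ center K →* MulAut (K ⧸ center K)).range) ≤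
      (A ⊓ K).map (act h.norm) := by
    rintro _ ⟨⟨a, ha, rfl⟩, ⟨s, hs⟩⟩
    refine ⟨a, ⟨ha, ?_⟩, rfl⟩
    obtain ⟨k, rfl⟩ := QuotientGroup.mk_surjective s
    have h4 : act h.norm (a * (k : H)⁻¹) = 1 := by
      have h5 : act h.norm (k : H) = MulAut.conj (QuotientGroup.mk k : K ⧸ center K) := by
        ext x
        obtain ⟨y, rfl⟩ := QuotientGroup.mk_surjective x
        rw [act_mk, MulAut.conj_apply, ← QuotientGroup.mk_inv, ← QuotientGroup.mk_mul, ← QuotientGroup.mk_mul]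
        rfl
      rw [map_mul, map_inv, ← hs, h5, mul_inv_cancel]
    have h5 := h.cen (mem_centralizer_of_act h h4)
    have h6 := mul_mem h5 k.2
    rwa [inv_mul_cancel_right] at h6
  have h4 : Nat.card ((A ⊓ K).map (act h.norm)) ≤ Nat.card (A ⊓ K : Subgroup H) :=
    Nat.card_le_card_of_surjective _ ((act h.norm).subgroupMap_surjective (A ⊓ K))
  rw [h2] at h1
  exact h1.trans (Nat.mul_le_mul_left _ ((card_le_of_le h3).trans h4))

/-! ### The normal elementary abelian subgroup of `C(x)` -/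

/-- `C_K(x) ∩ C_K(C_M(x))` -/
def nn (M : Type v) [Group M] [MulDistribMulAction H M] (K : Subgroup H) (x : H) : Subgroup K where
  carrier := {k | (k : H) * x = x * k ∧ ∀ m ∈ cv M ({x} : Set H), (k : H) • m = m}
  one_mem' := ⟨by simp, fun m _ => by rw [Subgroup.coe_one, one_smul]⟩
  mul_mem' := by
    rintro a b ⟨ha, ha'⟩ ⟨hb, hb'⟩
    refine ⟨?_, fun m hm => ?_⟩
    · rw [Subgroup.coe_mul, mul_assoc, hb, ← mul_assoc, ha, mul_assoc]
    · rw [Subgroup.coe_mul, mul_smul, hb' m hm, ha' m hm]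
  inv_mem' := by
    rintro a ⟨ha, ha'⟩
    refine ⟨?_, fun m hm => ?_⟩
    · rw [Subgroup.coe_inv, inv_mul_eq_iff_eq_mul, ← mul_assoc, ha, mul_assoc, mul_inv_cancel, mul_one]
    · rw [Subgroup.coe_inv, inv_smul_eq_iff, ha' m hm]

theorem nn_sq (h : In H M K T A) {x : H} (hxx : x * x = 1) {k : K} (hk : k ∈ nn M K x) : k * k = 1 := by
  obtain ⟨h1, h2⟩ := hk
  refine Subtype.ext (h.faith _ fun m => ?_)
  -- `c = m⁻¹ (x • m) ∈ C_M(x)`
  have hcomm := comm_of_sq h.sq
  have hinv : ∀ a : M, a⁻¹ = a := fun a => inv_eq_of_mul_eq_one_left (h.sq a)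
  have h3 : ∀ m : M, m * x • m ∈ cv M ({x} : Set H) := by
    intro m
    rw [mem_cv_singleton, smul_mul', ← mul_smul, hxx, one_smul, hcomm]
  -- `m * (k • m) ∈ C_M(x)`
  have h4 : m * (k : H) • m ∈ cv M ({x} : Set H) := by
    rw [mem_cv_singleton, smul_mul', ← mul_smul, ← h1, mul_smul]
    have h5 := h2 _ (h3 m)
    rw [smul_mul'] at h5
    -- `k • m * k • x • m = m * x • m`
    have h6 : (k : H) • x • m = (k : H) • m * (m * x • m) := by
      rw [← h5, ← mul_assoc, h.sq, one_mul]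
    rw [h6]
    calc x • m * ((k : H) • m * (m * x • m)) = (x • m * x • m) * (m * (k : H) • m) := by
          rw [hcomm ((k : H) • m) (m * x • m), hcomm m (x • m), mul_assoc (x • m) m, ← mul_assoc (x • m) (x • m)]
      _ = m * (k : H) • m := by rw [h.sq, one_mul]
  have h5 := h2 _ h4
  rw [smul_mul'] at h5
  -- `k • m * k • k • m = m * k • m`
  have h6 : (k : H) • (k : H) • m = m := by
    have h7 : (k : H) • (k : H) • m = (k : H) • m * (m * (k : H) • m) := by
      rw [← h5, ← mul_assoc, h.sq, one_mul]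
    rw [h7, hcomm m, ← mul_assoc, h.sq, one_mul]
  rw [Subgroup.coe_mul, mul_smul, h6]

/-- **If `C_M(x) = C_M(A)` then `|A ∩ K| ≤ 2`.** -/
theorem inf_le_two [Finite H] (h : In H M K T A) (hN : NormEl (K ⧸ center K)) {x : H} (hxK : x ∈ K) (hxA : x ∈ A)
    (hx : x ≠ 1) (hc : cv M ({x} : Set H) ≤ cv M (A : Set H)) : Nat.card (A ⊓ K : Subgroup H) ≤ 2 := by
  have hxx := h.el x hxA
  set x' : K := ⟨x, hxK⟩ with hx'
  have hx1 : x' ≠ 1 := fun h1 => hx (congrArg Subtype.val h1)
  have hodd : ∀ y ∈ center K, y * y = 1 → y = 1 := by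
    intro y hy hyy
    by_contra hy1
    exact not_mem_center h hy1 hyy hy
  have h1 := hN (QuotientGroup.mk x') (fun h1 => not_mem_center h hx1 (Subtype.ext hxx)
      ((QuotientGroup.eq_one_iff _).1 h1)) (by rw [← QuotientGroup.mk_mul, (Subtype.ext hxx : x' * x' = 1),
      QuotientGroup.mk_one]) ((nn M K x).map (QuotientGroup.mk' (center K))) (by
      rintro _ ⟨y, hy, rfl⟩
      show QuotientGroup.mk y * QuotientGroup.mk x' = QuotientGroup.mk x' * QuotientGroup.mk y
      rw [← QuotientGroup.mk_mul, ← QuotientGroup.mk_mul]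
      congr 1
      exact Subtype.ext hy.1) (by
      intro c hc'
      obtain ⟨c, rfl⟩ := QuotientGroup.mk_surjective c
      rintro _ ⟨y, hy, rfl⟩
      -- `c` commutes with `x`
      have h2 : c * x' * c⁻¹ = x' := by
        have h3 : (QuotientGroup.mk (x'⁻¹ * (c * x' * c⁻¹)) : K ⧸ center K) = 1 := by
          rw [QuotientGroup.mk_mul, QuotientGroup.mk_mul, QuotientGroup.mk_mul, hc', QuotientGroup.mk_inv,
            QuotientGroup.mk_inv, mul_inv_cancel_right, inv_mul_cancel]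
        have h4 := (QuotientGroup.eq_one_iff _).1 h3
        set ζ := x'⁻¹ * (c * x' * c⁻¹) with hζ
        have h5 : c * x' * c⁻¹ = x' * ζ := by rw [hζ]; group
        have h6 : ζ * ζ = 1 := by
          have h7 : (c * x' * c⁻¹) * (c * x' * c⁻¹) = 1 := by
            calc (c * x' * c⁻¹) * (c * x' * c⁻¹) = c * (x' * x') * c⁻¹ := by group
              _ = 1 := by rw [(Subtype.ext hxx : x' * x' = 1), mul_one, mul_inv_cancel]
          rw [h5] at h7
          calc ζ * ζ = (x' * x') * (ζ * ζ) := by rw [(Subtype.ext hxx : x' * x' = 1), one_mul]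
            _ = x' * (x' * ζ) * ζ := by group
            _ = x' * (ζ * x') * ζ := by rw [mem_center_iff.1 h4 x']
            _ = (x' * ζ) * (x' * ζ) := by group
            _ = 1 := h7
        rw [h5, hodd ζ h4 h6, mul_one]
      have h3 : (c : H) * x = x * c := by
        have h4 := congrArg Subtype.val h2
        rw [Subgroup.coe_mul, Subgroup.coe_mul, Subgroup.coe_inv] at h4
        rwa [mul_inv_eq_iff_eq_mul] at h4
      refine ⟨c * y * c⁻¹, ⟨?_, fun m hm => ?_⟩, rfl⟩
      · have h5 := hy.1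
        have h6 : (c : H)⁻¹ * x = x * (c : H)⁻¹ := by
          rw [inv_mul_eq_iff_eq_mul, ← mul_assoc, h3, mul_assoc, mul_inv_cancel, mul_one]
        rw [Subgroup.coe_mul, Subgroup.coe_mul, Subgroup.coe_inv]
        calc (c : H) * y * (c : H)⁻¹ * x = c * y * ((c : H)⁻¹ * x) := by group
          _ = c * (y * x) * (c : H)⁻¹ := by rw [h6]; group
          _ = c * x * y * (c : H)⁻¹ := by rw [h5]; group
          _ = x * (c * y * (c : H)⁻¹) := by rw [h3]; group
      · have h5 : (c : H)⁻¹ • m ∈ cv M ({x} : Set H) := by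
          have h6 : (c : H)⁻¹ * x = x * (c : H)⁻¹ := by
            rw [inv_mul_eq_iff_eq_mul, ← mul_assoc, h3, mul_assoc, mul_inv_cancel, mul_one]
          rw [mem_cv_singleton, ← mul_smul, ← h6, mul_smul, mem_cv_singleton.1 hm]
        rw [Subgroup.coe_mul, Subgroup.coe_mul, Subgroup.coe_inv, mul_smul, mul_smul, hy.2 _ h5, smul_inv_smul]) (by
      rintro _ ⟨y, hy, rfl⟩
      rw [← map_mul, nn_sq h hxx hy, map_one])
  refine le_trans ?_ h1
  let f : (A ⊓ K : Subgroup H) → (nn M K x).map (QuotientGroup.mk' (center K)) := fun a =>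
    ⟨QuotientGroup.mk' (center K) ⟨a, a.2.2⟩, ⟨⟨a, a.2.2⟩, ⟨by
      have h2 := h.el a a.2.1
      have h3 := h.el (a * x) (mul_mem a.2.1 hxA)
      have e1 : ((a : H))⁻¹ = a := inv_eq_of_mul_eq_one_left h2
      have e2 : x⁻¹ = x := inv_eq_of_mul_eq_one_left hxx
      have e3 : ((a : H) * x)⁻¹ = a * x := inv_eq_of_mul_eq_one_left h3
      rw [mul_inv_rev, e1, e2] at e3
      exact e3.symm, fun m hm => hc hm a a.2.1⟩, rfl⟩⟩
  refine Nat.card_le_card_of_injective f ?_
  intro a b hab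
  have h2 : (QuotientGroup.mk (⟨a, a.2.2⟩ : K) : K ⧸ center K) = QuotientGroup.mk ⟨b, b.2.2⟩ :=
    congrArg Subtype.val hab
  have h3 := QuotientGroup.eq.1 h2
  have h4 : (⟨a, a.2.2⟩ : K)⁻¹ * ⟨b, b.2.2⟩ = 1 := by
    apply hodd _ h3
    apply Subtype.ext
    exact h.el _ (mul_mem (inv_mem a.2.1) b.2.1)
  have h5 := congrArg Subtype.val (inv_mul_eq_one.1 h4)
  exact Subtype.ext h5

/-! ### The rows -/

theorem exists_inv [Finite H] (h : In H M K T A) (ho : OutLe (K ⧸ center K) 2) : ∃ x ∈ A, x ∈ K ∧ x ≠ 1 := by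
  by_contra hc
  push Not at hc
  have h1 : A ⊓ K = ⊥ := by
    rw [eq_bot_iff]
    intro x hx
    exact mem_bot.2 (hc x hx.1 hx.2)
  have h2 := card_A_le_inf h ho
  rw [h1, Subgroup.card_bot] at h2
  have h3 := h.eight
  omega

theorem index_lt [Finite H] [Finite M] (h : In H M K T A) : (cv M (A : Set H)).index < Nat.card A := by
  have h1 : A ≠ ⊥ := by
    intro h1
    have h2 := h.eight
    rw [h1, Subgroup.card_bot] at h2
    omega
  have h2 := h.strict ⊥ (bot_lt_iff_ne_bot.2 h1)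
  have h4 : fab M 1 1 (⊥ : Subgroup H) = Nat.card M := by
    rw [fab, cv_bot, Subgroup.card_bot]
    simp
  have h5 : fab M 1 1 A = Nat.card A * Nat.card (cv M (A : Set H)) := by rw [fab, pow_one, pow_one]
  rw [h4, h5, ← (cv M (A : Set H)).card_mul_index, mul_comm] at h2
  exact Nat.lt_of_mul_lt_mul_right h2

/-- **`a ≤ 4`.** -/
theorem dead_of_four {𝒮 : ∀ (S : Type u) [Group S], Prop} (h𝒮 : ∀ (S : Type u) [Group S], 𝒮 S →
    GenBy S 3 ∧ 3 ^ 6 ∣ Nat.card S ∧ RK S 4 ∧ OutLe S 2) : Dead.{u, v} 𝒮 := by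
  intro H _ _ M _ _ _ K T A h hK
  obtain ⟨hg, h3, hr, ho⟩ := h𝒮 _ hK
  obtain ⟨x, hxA, hxK, hx⟩ := exists_inv h ho
  have h1 := four_le h hg h3 hxK hx (h.el x hxA)
  have h2 := index_lt h
  have h4 : (cv M ({x} : Set H)).index ≤ (cv M (A : Set H)).index :=
    Nat.le_of_dvd (Nat.pos_of_ne_zero Subgroup.FiniteIndex.index_ne_zero)
      (Subgroup.index_dvd_of_le (cv_anti (Set.singleton_subset_iff.2 hxA)))
  have h5 := card_A_le h hr
  omega

/-- **`a ≤ 5`.** -/
theorem dead_of_five {𝒮 : ∀ (S : Type u) [Group S], Prop} (h𝒮 : ∀ (S : Type u) [Group S], 𝒮 S →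
    GenBy S 3 ∧ 3 ^ 6 ∣ Nat.card S ∧ RK S 5 ∧ OutLe S 2 ∧ NormEl S) : Dead.{u, v} 𝒮 := by
  intro H _ _ M _ _ _ K T A h hK
  obtain ⟨hg, h3, hr, ho, hN⟩ := h𝒮 _ hK
  obtain ⟨x, hxA, hxK, hx⟩ := exists_inv h ho
  have h1 := four_le h hg h3 hxK hx (h.el x hxA)
  have h2 := index_lt h
  have hle : cv M (A : Set H) ≤ cv M ({x} : Set H) := cv_anti (Set.singleton_subset_iff.2 hxA)
  have h4 : (cv M ({x} : Set H)).index ≤ (cv M (A : Set H)).index :=
    Nat.le_of_dvd (Nat.pos_of_ne_zero Subgroup.FiniteIndex.index_ne_zero) (Subgroup.index_dvd_of_le hle)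
  have h5 := card_A_le h hr
  obtain ⟨i, hi⟩ := index_pow h.sq (cv M (A : Set H))
  obtain ⟨j, hj⟩ := index_pow h.sq (cv M ({x} : Set H))
  rw [hj] at h1
  rw [hi, hj] at h4
  have h6 : 2 ^ i < 2 ^ 5 := by rw [← hi]; omega
  have e1 := (Nat.pow_le_pow_iff_right (by norm_num : 1 < 2)).1 h1
  have e2 := (Nat.pow_le_pow_iff_right (by norm_num : 1 < 2)).1 h4
  have e3 := (Nat.pow_lt_pow_iff_right (by norm_num : 1 < 2)).1 h6
  have e4 : i = j := by omega
  have hcard : Nat.card (cv M (A : Set H)) = Nat.card (cv M ({x} : Set H)) := by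
    have f1 := (cv M (A : Set H)).card_mul_index
    have f2 := (cv M ({x} : Set H)).card_mul_index
    rw [hi] at f1
    rw [hj, ← e4, ← f1] at f2
    exact (Nat.eq_of_mul_eq_mul_right (Nat.pow_pos (by norm_num)) f2).symm
  have heq : cv M (A : Set H) = cv M ({x} : Set H) := Subgroup.eq_of_le_of_card_ge hle hcard.ge
  have h7 := inf_le_two h hN hxK hxA hx heq.ge
  have h8 := card_A_le_inf h ho
  rw [hi] at h2
  have h9 : 2 ^ 4 ≤ 2 ^ i := Nat.pow_le_pow_right (by norm_num) (by omega)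
  omega

end main

end Cfsg.Agent.Omega.ML.Gen3
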