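import Cfsg.Agent.Omega.TwoF.RowExc
import Cfsg.Agent.Omega.TwoF.RowTwD4
import Cfsg.Agent.Omega.TwoF.RowTwE6
import Cfsg.Agent.Omega.TwoF.RkChevNum
import Cfsg.Agent.Omega.TwoF.RkTwE6
import Cfsg.Agent.S1067

/-!
# (ML), the K-list end: the numbers of `F₄(q)`, `E₆(q)`, `E₇(q)`, `E₈(q)`, `²E₆(q)`, `³D₄(q)`, `q` odd (helper944)

`NumX S` : `LB S n`, `RK S a`, `|S| ≤ 2 ^ N` and `(a - 1) (N + 2 a - 1) < a n`.
-/

set_option autoImplicit false

universe u v w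

namespace Cfsg.Agent.Omega.ML.OddExcNum

open Cfsg Cfsg.Lie Subgroup Cfsg.Agent.Omega.TwoF

/-- `(RK K a)` of `TwoF.Defs` gives `(RK K a)` of `TwoF.Rk`. -/
theorem rk_of_rk {K : Type v} [Group K] {a : ℕ} (h : TwoF.RK K a) : Rk.RK.{u} K a := by
  intro X _ _ N _ ⟨f⟩ hc A hA
  have hinj : Function.Injective (MulAut.conjNormal : X →* MulAut N) := by
    rw [← MonoidHom.ker_eq_bot_iff, eq_bot_iff, ← hc]
    intro g hg
    rw [mem_centralizer_iff]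
    intro n hn
    have h1 := congrArg (fun φ : MulAut N => (φ ⟨n, hn⟩ : X)) (MonoidHom.mem_ker.1 hg)
    simp only [MulAut.conjNormal_apply, MulAut.one_apply] at h1
    exact (mul_inv_eq_iff_eq_mul.1 h1).symm
  let j : X →* MulAut K := (MulAut.congr f).toMonoidHom.comp MulAut.conjNormal
  have hj : Function.Injective j := (MulAut.congr f).injective.comp hinj
  have h1 := h (A.map j) (by
    rintro _ ⟨a, ha, rfl⟩
    rw [← map_pow, pow_two, hA a ha, map_one])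
  rwa [card_map_of_injective hj] at h1

/-- The numerical criterion. -/
def NumX (S : Type u) [Group S] : Prop :=
  ∃ n a N : ℕ, Lie.Heis.LB.{u, u, v} S n ∧ Rk.RK.{u} S a ∧ Nat.card S ≤ 2 ^ N ∧ (a - 1) * (N + 2 * a - 1) < a * n

theorem NumX.congr {S : Type w} [Group S] {S' : Type u} [Group S']
    (h : ∃ n a N : ℕ, Lie.Heis.LB.{w, u, v} S n ∧ Rk.RK.{u} S a ∧ Nat.card S ≤ 2 ^ N ∧
      (a - 1) * (N + 2 * a - 1) < a * n) (e : S ≃* S') : NumX.{u, v} S' := by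
  obtain ⟨n, a, N, h1, h2, h3, h4⟩ := h
  exact ⟨n, a, N, h1.congr e, h2.of_equiv e, by rwa [← Nat.card_congr e.toEquiv], h4⟩

theorem le_two_pow {q : ℕ} (hq : 1 ≤ q) : q ≤ 2 ^ (q - 1) := by
  obtain ⟨m, rfl⟩ : ∃ m, q = m + 1 := ⟨q - 1, by omega⟩
  rw [Nat.add_sub_cancel]
  exact Nat.lt_two_pow_self

theorem pow_le_two_pow {q c : ℕ} (hq : 1 ≤ q) : q ^ c ≤ 2 ^ (c * (q - 1)) := by
  rw [mul_comm, pow_mul]
  exact Nat.pow_le_pow_left (le_two_pow hq) c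

/-- the inequality for the bounds `q ^ c` and `2 q ^ (k + 1)` -/
theorem num {q c a k : ℕ} (hq : 3 ≤ q) (ha : 1 ≤ a) (hc : c + 2 * a ≤ 2 * 3 ^ k) :
    (a - 1) * (c * (q - 1) + 2 * a - 1) < a * (2 * q ^ (k + 1)) := by
  obtain ⟨m, rfl⟩ : ∃ m, q = m + 3 := ⟨q - 3, by omega⟩
  obtain ⟨b, rfl⟩ : ∃ b, a = b + 1 := ⟨a - 1, by omega⟩
  have h0 : m + 3 - 1 = m + 2 := by omega
  have h1 : (3 : ℕ) ^ k ≤ (m + 3) ^ k := Nat.pow_le_pow_left (by omega) k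
  rw [h0, Nat.add_sub_cancel, pow_succ]
  have h2 : c * (m + 2) + 2 * (b + 1) - 1 ≤ (c + 2 * (b + 1)) * (m + 2) := by
    have : 2 * (b + 1) ≤ 2 * (b + 1) * (m + 2) := Nat.le_mul_of_pos_right _ (by omega)
    rw [add_mul]
    omega
  have h3 : (c + 2 * (b + 1)) * (m + 2) ≤ 2 * (m + 3) ^ k * (m + 2) := Nat.mul_le_mul_right _ (by omega)
  have h4 : 2 * (m + 3) ^ k * (m + 2) ≤ 2 * ((m + 3) ^ k * (m + 3)) := by
    rw [mul_assoc]
    exact Nat.mul_le_mul_left _ (Nat.mul_le_mul_left _ (by omega))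
  have h5 : 0 < 2 * ((m + 3) ^ k * (m + 3)) := by positivity
  calc b * (c * (m + 2) + 2 * (b + 1) - 1) ≤ b * (2 * ((m + 3) ^ k * (m + 3))) :=
        Nat.mul_le_mul_left _ (h2.trans (h3.trans h4))
    _ < (b + 1) * (2 * ((m + 3) ^ k * (m + 3))) := Nat.mul_lt_mul_of_pos_right (by omega) h5

section chev

variable {F : Type w} [Field F] [Finite F] (h2 : (2 : F) ≠ 0)

include h2

/-- from `LB (2 q ^ (k + 1))`, `RK a`, `|S| ≤ q ^ c` -/
theorem num_of {S : Type w} [Group S] {c a k : ℕ} (hn : Nat.card S ≤ Nat.card F ^ c)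
    (hlb : Lie.Heis.LB.{w, u, v} S (2 * Nat.card F ^ (k + 1))) (hrk : TwoF.RK S a) (ha : 1 ≤ a)
    (hc : c + 2 * a ≤ 2 * 3 ^ k) {S' : Type u} [Group S'] (e : S ≃* S') : NumX.{u, v} S' :=
  NumX.congr ⟨_, a, c * (Nat.card F - 1), hlb, rk_of_rk hrk,
    hn.trans (pow_le_two_pow (by have := RowExc.three_le h2; omega)), num (RowExc.three_le h2) ha hc⟩ e

theorem f4 {S : Type u} [Group S] (e : chevF4.group F ≃* S) : NumX.{u, v} S :=
  have := (Cfsg.Agent.S1054.result (F := F) chevF4 (by simp)).1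
  num_of h2 (RowExc.card_F4 F) (F4Odd.lb F h2) (RkChev.rk_f4 F h2) (by norm_num) (by norm_num) e

theorem e6 {S : Type u} [Group S] (e : chevE6.group F ≃* S) : NumX.{u, v} S :=
  have := (Cfsg.Agent.S1054.result (F := F) chevE6 (by simp)).1
  num_of h2 (RowExc.card_E6 F) (E6Odd.lb F h2) (RkChev.rk_e6 F h2) (by norm_num) (by norm_num) e

theorem e7 {S : Type u} [Group S] (e : chevE7.group F ≃* S) : NumX.{u, v} S :=
  have := (Cfsg.Agent.S1054.result (F := F) chevE7 (by simp)).1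
  num_of h2 (RowExc.card_E7 F) (E7Odd.lb F h2) (RkChev.rk_e7 F h2) (by norm_num) (by norm_num) e

theorem e8 {S : Type u} [Group S] (e : chevE8.group F ≃* S) : NumX.{u, v} S :=
  have := (Cfsg.Agent.S1054.result (F := F) chevE8 (by simp)).1
  num_of h2 (RowExc.card_E8 F) (E8Odd.lb F h2) (RkChev.rk_e8 F h2) (by norm_num) (by norm_num) e

end chev

section twisted

variable {F : Type w} [Field F] [Fintype F] {q : ℕ} (hq : IsPrimePow q) (h2 : (2 : F) ≠ 0)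

include hq h2

theorem three_le {k : ℕ} (hF : Fintype.card F = q ^ k) : 3 ≤ q := by
  have hq1 := hq.two_le
  by_contra hcon
  have h3 : q = 2 := by omega
  subst h3
  have h4 : ((Fintype.card F : ℕ) : F) = 0 := Nat.cast_card_eq_zero F
  rw [hF] at h4
  push_cast at h4
  exact pow_ne_zero k h2 h4

theorem twE6 (hF : Fintype.card F = q ^ 2) {S : Type u} [Group S] (e : twistedE6 F q ≃* S) : NumX.{u, v} S :=
  NumX.congr ⟨_, 88, 78 * (q - 1), TwE6Odd.lb.{w, u, v} hq hF h2, rk_of_rk (RkTwE6.rk_88 hq hF h2),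
    (RowTwE6.card_le hq hF).trans (pow_le_two_pow (by have := hq.two_le; omega)),
    num (k := 6) (three_le hq h2 hF) (by norm_num) (by norm_num)⟩ e

/-- `|³D₄(q)| ≤ q ^ 29` -/
theorem card_D4 (hF : Fintype.card F = q ^ 3) : Nat.card (twistedD4 F q) ≤ q ^ 29 := by
  have h3 := three_le hq h2 hF
  rw [Cfsg.Agent.S1067.result hq hF]
  have h4 : q ^ 8 + q ^ 4 + 1 ≤ q ^ 9 := by
    have h5 : q ^ 4 + 1 ≤ 2 * q ^ 8 := by
      have h6 : q ^ 4 ≤ q ^ 8 := Nat.pow_le_pow_right (by omega) (by norm_num)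
      have h7 : 1 ≤ q ^ 8 := Nat.one_le_pow _ _ (by omega)
      omega
    have h6 : 3 * q ^ 8 ≤ q ^ 9 := by
      rw [pow_succ q 8, mul_comm]
      exact Nat.mul_le_mul_left _ h3
    omega
  calc q ^ 12 * (q ^ 2 - 1) * (q ^ 6 - 1) * (q ^ 8 + q ^ 4 + 1) ≤ q ^ 12 * q ^ 2 * q ^ 6 * q ^ 9 := by
        gcongr <;> exact Nat.sub_le _ _
    _ = q ^ 29 := by ring

/-- **LB of `³D₄(q)`**: `2 q ^ 4` -/
theorem lb_D4 (hF : Fintype.card F = q ^ 3) : Lie.Heis.LB.{w, u, v} ↥(twistedD4 F q) (2 * q ^ 4) := by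
  have hs := (Cfsg.Agent.S1071.result (K := F) hq hF).1
  obtain ⟨φ, hφ⟩ := ChevalleyStructure.D4Fixed.exists_frob hq hF
  have H : TwD4LB.Fr φ q := ⟨hq.one_lt, hF, h2, ChevalleyStructure.D4U.phi3 hF hφ, hφ,
    ChevalleyStructure.D4Fixed.twisted_le_fix hF hφ⟩
  obtain ⟨p, hp⟩ := CharP.exists F
  have hpp := CharP.char_is_prime F p
  have hp2 : p ≠ 2 := by
    rintro rfl
    apply h2
    exact_mod_cast CharP.cast_eq_zero F 2
  refine (TwD4LB.lb_aux H hpp hp2 hs).mono ?_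
  rw [TwD4LB.card_fq H.one_lt H.card H.pow]
  exact Nat.mul_le_mul_right _ (TwD4LB.two_le_orderOf hpp hp2)

omit [Field F] [Fintype F] hq h2 in
theorem num_D4 (h3 : 3 ≤ q) : (32 - 1) * (29 * (q - 1) + 2 * 32 - 1) < 32 * (2 * q ^ 4) := by
  obtain ⟨m, rfl⟩ : ∃ m, q = m + 3 := ⟨q - 3, by omega⟩
  have h0 : m + 3 - 1 = m + 2 := by omega
  have h1 : 29 * (m + 2) + 2 * 32 - 1 = 29 * m + 121 := by omega
  rw [h0, h1]
  nlinarith [Nat.zero_le (m ^ 4), Nat.zero_le (m ^ 3), Nat.zero_le (m ^ 2)]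

theorem twD4 (hF : Fintype.card F = q ^ 3) {S : Type u} [Group S] (e : twistedD4 F q ≃* S) : NumX.{u, v} S :=
  NumX.congr (S := ↥(twistedD4 F q)) ⟨_, 32, 29 * (q - 1), lb_D4 hq h2 hF,
    rk_of_rk (TwD4Rk.rk (K := F) hq hF h2 inferInstance (Cfsg.Agent.S1071.result (K := F) hq hF).1),
    (card_D4 hq h2 hF).trans (pow_le_two_pow (by have := hq.two_le; omega)),
    num_D4 (three_le hq h2 hF)⟩ e

end twisted

/-! ### The rows -/

/-- **`F₄`, `E₆`, `E₇`, `E₈` over fields of odd order** -/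
theorem exceptional {K : Type u} [Group K] (h : KFacts.OddChar @IsExceptionalChevChar K) :
    (∃ p : ℕ, p.Prime ∧ p ≠ 2 ∧ ∃ (F : Type) (_ : Field F) (_ : Fintype F) (_ : CharP F p),
      3 ≤ Fintype.card F ∧ Nonempty (K ≃* chevG2.group F)) ∨ NumX.{u, v} K := by
  obtain ⟨p, hp, hp2, F, _, _, _, h⟩ := h
  have h2 : (2 : F) ≠ 0 := RowExc.two_ne hp hp2 F
  rcases h with h | ⟨⟨e⟩⟩ | ⟨⟨e⟩⟩ | ⟨⟨e⟩⟩ | ⟨⟨e⟩⟩
  · exact Or.inl ⟨p, hp, hp2, F, inferInstance, inferInstance, inferInstance, h⟩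
  · exact Or.inr (f4 h2 e.symm)
  · exact Or.inr (e6 h2 e.symm)
  · exact Or.inr (e7 h2 e.symm)
  · exact Or.inr (e8 h2 e.symm)

/-- **`²E₆`, `³D₄` over fields of odd order** -/
theorem twisted {K : Type u} [Group K] (h : KFacts.OddChar @IsTwistedE6D4Char K) : NumX.{u, v} K := by
  obtain ⟨p, hp, hp2, F, _, _, _, q, hq, h⟩ := h
  have h2 : (2 : F) ≠ 0 := RowExc.two_ne hp hp2 F
  rcases h with ⟨hF, ⟨e⟩⟩ | ⟨hF, ⟨e⟩⟩
  · exact twE6 hq h2 hF e.symm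
  · exact twD4 hq h2 hF e.symm

end Cfsg.Agent.Omega.ML.OddExcNum
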