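import Cfsg.Agent.Omega.ML.Num
import Cfsg.Agent.Omega.ML.OddExcNum

/-!
# (ML), the K-list end: `F₄`, `E₆`, `E₇`, `E₈`, `²E₆`, `³D₄` over fields of odd order (helper944)
-/

set_option autoImplicit false

universe u v

namespace Cfsg.Agent.Omega.ML.OddExc

open Cfsg Cfsg.Lie

theorem of_numX {K : Type u} [Group K] (h : OddExcNum.NumX.{u, v} K) : Num.NumML.{u, v} K := by
  obtain ⟨n, a, N, h1, h2, h3, h4⟩ := h
  exact Num.NumML.of_card h1 h2 h3 h4

/-- **`F₄`, `E₆`, `E₇`, `E₈` over fields of odd order** (`G₂` is left out) -/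
theorem exceptional {K : Type u} [Group K] (h : KFacts.OddChar @IsExceptionalChevChar K) :
    (∃ p : ℕ, p.Prime ∧ p ≠ 2 ∧ ∃ (F : Type) (_ : Field F) (_ : Fintype F) (_ : CharP F p),
      3 ≤ Fintype.card F ∧ Nonempty (K ≃* chevG2.group F)) ∨ Num.NumML.{u, v} K :=
  (OddExcNum.exceptional.{u, v} h).imp id of_numX

/-- **`²E₆`, `³D₄` over fields of odd order** -/
theorem twisted {K : Type u} [Group K] (h : KFacts.OddChar @IsTwistedE6D4Char K) : Num.NumML.{u, v} K :=
  of_numX (OddExcNum.twisted.{u, v} h)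

end Cfsg.Agent.Omega.ML.OddExc
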