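import Cfsg.Agent.Omega.ML.TorusLift
import Cfsg.Agent.Omega.ML.OddExc
import Cfsg.Agent.Omega.TwoF.RowGTwo
import Cfsg.Agent.FixBN.ChevGood

/-!
# (ML), the K-list end: `G₂(q)`, `q ≥ 7` odd

`LB (G₂(q)) ((q - 1) * q)` (Heisenberg bound with the torus); with `RK 6` (`RK 4` for prime fields) the numerical
criterion `NumML` holds for `q ≥ 7`.
-/

set_option autoImplicit false

universe u v w

namespace Cfsg.Agent.Omega.ML.GTwoTorus

open Cfsg Cfsg.Lie Cfsg.Agent.ChevalleyStructure Cfsg.Agent.ChevalleyStructure.Elts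
  Cfsg.Agent.Omega.Lie.HeisF Cfsg.Agent.Omega.Lie Cfsg.Agent.Omega.TwoF Cfsg.Agent.Omega.TwoF.GTwoLB
  Cfsg.Agent.Omega.ML.Num

variable {F : Type u} [Field F]

theorem H_comm {i j : ℕ} (hi : i < 2) (hj : j < 2) {a b : F} (ha : a ≠ 0) (hb : b ≠ 0) :
    H i a * H j b = H j b * H i a := by
  obtain ⟨χ, hχ⟩ := HMatDiagAll.mem_torus.1 (HMatDiagAll.diagonalSubgroup_le_torus inG2 (GTwoOut.H_mem hi ha))
  obtain ⟨ψ, hψ⟩ := HMatDiagAll.mem_torus.1 (HMatDiagAll.diagonalSubgroup_le_torus inG2 (GTwoOut.H_mem hj hb))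
  have hχ' : ((H i a : GL chevG2.Idx F) : Matrix chevG2.Idx chevG2.Idx F) = _ := hχ
  have hψ' : ((H j b : GL chevG2.Idx F) : Matrix chevG2.Idx chevG2.Idx F) = _ := hψ
  apply Subtype.ext
  apply Units.ext
  show ((H i a : GL chevG2.Idx F) : Matrix chevG2.Idx chevG2.Idx F) * (H j b : GL chevG2.Idx F) =
    ((H j b : GL chevG2.Idx F) : Matrix chevG2.Idx chevG2.Idx F) * (H i a : GL chevG2.Idx F)
  rw [hχ', hψ', Matrix.diagonal_mul_diagonal, Matrix.diagonal_mul_diagonal]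
  congr 1
  funext k
  exact mul_comm _ _

/-- **The lower bound** `q (q - 1)` for `G₂(q)` in all odd covers. -/
theorem lb [Finite F] {p : ℕ} [Fact p.Prime] [CharP F p] (hp2 : p ≠ 2) [IsSimpleGroup ↥(chevG2.group F)] :
    Heis.LB.{u, v, w} ↥(chevG2.group F) ((Nat.card F - 1) * Nat.card F) := by
  have hH : FH p 1 (X (F := F) 11) (fun _ => X 6) (fun _ => X 10) (fun _ => (-1 : F)) :=
    { add := X_add 11
      A_pow := fun _ t => by rw [GTwoLB.X_pow, CharP.cast_eq_zero, zero_mul, GTwoLB.X_zero]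
      XA := fun _ t u => c11_6 t u
      XB := fun _ t u => c11_10 t u
      AA := fun _ _ t u => X_comm 6 t u
      BA := fun i j hij => absurd (Subsingleton.elim i j) hij
      conj := fun _ t u => conj10_6 t u
      c_ne := fun _ => neg_ne_zero.2 one_ne_zero }
  have h := TorusLift.LB.fh_torus.{u, v, w} hp2 hH (s := T F 0 * T F 1)
    (fun t => by
      have e : T F 0 * T F 1 * X 11 t * (T F 0 * T F 1)⁻¹ = T F 0 * (T F 1 * X 11 t * (T F 1)⁻¹) * (T F 0)⁻¹ := by
        group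
      rw [e, T_inv (by norm_num) (by norm_num) (by decide), ← X_neg, T_fix (by norm_num) (by norm_num) (by decide)])
    (fun _ t => by
      have e : T F 0 * T F 1 * X 6 t * (T F 0 * T F 1)⁻¹ = T F 0 * (T F 1 * X 6 t * (T F 1)⁻¹) * (T F 0)⁻¹ := by
        group
      show T F 0 * T F 1 * X 6 t * (T F 0 * T F 1)⁻¹ = (X 6 t)⁻¹
      rw [e, T_fix (by norm_num) (by norm_num) (by decide), T_inv (by norm_num) (by norm_num) (by decide)])
    (fun _ t => by
      have e : T F 0 * T F 1 * X 10 t * (T F 0 * T F 1)⁻¹ = T F 0 * (T F 1 * X 10 t * (T F 1)⁻¹) * (T F 0)⁻¹ := by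
        group
      show T F 0 * T F 1 * X 10 t * (T F 0 * T F 1)⁻¹ = X 10 t
      rw [e, T_inv (by norm_num) (by norm_num) (by decide), ← X_neg,
        T_inv (by norm_num) (by norm_num) (by decide), ← X_neg, neg_neg])
    lc11_11 (fun _ => lc11_6) (fun _ _ => lc6_6) ⟨1, fun h => one_ne_zero ((X_eq_one (by norm_num)).1 h)⟩
    (T := fun c => H 1 c)
    (fun c hc => by
      have h0 : H 1 c * T F 0 = T F 0 * H 1 c := H_comm (by norm_num) (by norm_num) hc (neg_ne_zero.2 one_ne_zero)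
      have h1 : H 1 c * T F 1 = T F 1 * H 1 c := H_comm (by norm_num) (by norm_num) hc (neg_ne_zero.2 one_ne_zero)
      rw [← mul_assoc, h0, mul_assoc, h1, mul_assoc])
    (fun c hc t => by
      have e : chevG2.cartan 1 11 = 1 := by decide
      show H 1 c * X 11 t * (H 1 c)⁻¹ = X 11 (c * t)
      rw [H_conj (by norm_num) (by norm_num) hc, e, zpow_one])
  rwa [pow_one] at h

theorem card_le {F : Type} [Field F] [Fintype F] : Nat.card ↥(chevG2.group F) ≤ Fintype.card F ^ 14 := by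
  rw [Cfsg.Agent.S1059.result (F := F) rfl]
  generalize Fintype.card F = q
  calc q ^ 6 * (q ^ 2 - 1) * (q ^ 6 - 1) ≤ q ^ 6 * q ^ 2 * q ^ 6 := by
        gcongr <;> exact Nat.sub_le _ _
    _ = q ^ 14 := by ring

theorem sq_le_two_pow {q : ℕ} (hq : 4 ≤ q) : q ^ 2 ≤ 2 ^ q := by
  induction q, hq using Nat.le_induction with
  | base => norm_num
  | succ n hn ih =>
    calc (n + 1) ^ 2 ≤ 2 * n ^ 2 := by nlinarith
      _ ≤ 2 * 2 ^ n := by omega
      _ = 2 ^ (n + 1) := by rw [pow_succ]; ring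

/-- **`G₂(q)`, `q ≥ 7` odd.** -/
theorem numML {K : Type u} [Group K] {F : Type} [Field F] [Fintype F] {p : ℕ} [Fact p.Prime] [CharP F p]
    (hp2 : p ≠ 2) (h7 : 7 ≤ Fintype.card F) (e : K ≃* ↥(chevG2.group F)) : NumML.{u, v} K := by
  have h2 : (2 : F) ≠ 0 := RowGTwo.two_ne (p := p) Fact.out hp2
  have hs := (RowGTwo.simple' h2).1
  have hlb := lb.{0, u, v} (F := F) (p := p) hp2
  rw [Nat.card_eq_fintype_card] at hlb
  obtain ⟨hr6, hr4⟩ := RowGTwo.rk (F := F) (p := p) Fact.out hp2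
  apply OddExc.of_numX
  by_cases h9 : 9 ≤ Fintype.card F
  · refine OddExcNum.NumX.congr ⟨_, 6, 7 * Fintype.card F, hlb, OddExcNum.rk_of_rk hr6, ?_, ?_⟩ e.symm
    · refine card_le.trans ?_
      calc Fintype.card F ^ 14 = (Fintype.card F ^ 2) ^ 7 := by rw [← pow_mul]
        _ ≤ (2 ^ Fintype.card F) ^ 7 := Nat.pow_le_pow_left (sq_le_two_pow (by omega)) 7
        _ = 2 ^ (7 * Fintype.card F) := by rw [← pow_mul, mul_comm]
    · obtain ⟨m, hm⟩ : ∃ m, Fintype.card F = m + 9 := ⟨Fintype.card F - 9, by omega⟩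
      rw [hm]
      have e1 : m + 9 - 1 = m + 8 := by omega
      have e2 : 7 * (m + 9) + 2 * 6 - 1 = 7 * m + 74 := by omega
      rw [e1, e2]
      nlinarith
  · have ho := RowGTwo.odd_card (F := F) (p := p) hp2
    have hq : Fintype.card F = 7 := by
      obtain ⟨k, hk⟩ := ho
      omega
    have hσ : ∀ σ : RingAut F, σ = 1 := by
      rcases RowGTwo.card_cases (F := F) (p := p) hp2 with h | h
      · exact h
      · exact absurd h h9
    refine OddExcNum.NumX.congr ⟨_, 4, 40, hlb, OddExcNum.rk_of_rk (hr4 hσ), ?_, ?_⟩ e.symm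
    · refine card_le.trans ?_
      rw [hq]
      norm_num
    · rw [hq]
      norm_num

end Cfsg.Agent.Omega.ML.GTwoTorus
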