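import Cfsg.Agent.Omega.ML.GTwoTorus
import Cfsg.Agent.Omega.ML.LocRow

/-!
# (ML), the K-list end: `G₂(5)` (helper232)

Both pairs of the Heisenberg group of the root 11, `(X 6, X 10)` and `(X 9, X 8)`, and the torus: `LB (G₂(5)) 100`.
-/

set_option autoImplicit false

universe u v w

namespace Cfsg.Agent.Omega.ML.RowGTwoFive

open Cfsg Cfsg.Lie Cfsg.Agent.ChevalleyStructure Cfsg.Agent.ChevalleyStructure.Elts
  Cfsg.Agent.Omega.Lie.HeisF Cfsg.Agent.Omega.Lie Cfsg.Agent.Omega.TwoF Cfsg.Agent.Omega.TwoF.GTwoLB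
  Cfsg.Agent.Omega.ML.Num Cfsg.Agent.Omega.ML.GTwoTorus

variable {F : Type u} [Field F]

theorem c11_9 (t u : F) : X 11 t * X 9 u = X 9 u * X 11 t :=
  rel0 (r := 9) (s := 11) (by norm_num) (by norm_num) (by decide) (by decide) (by decide +kernel) u t

theorem c11_8 (t u : F) : X 11 t * X 8 u = X 8 u * X 11 t :=
  rel0 (r := 8) (s := 11) (by norm_num) (by norm_num) (by decide) (by decide) (by decide +kernel) u t

theorem c6_9 (t u : F) : X 6 t * X 9 u = X 9 u * X 6 t :=
  rel0 (r := 9) (s := 6) (by norm_num) (by norm_num) (by decide) (by decide) (by decide +kernel) u t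

theorem c10_9 (t u : F) : X 10 t * X 9 u = X 9 u * X 10 t :=
  rel0 (r := 9) (s := 10) (by norm_num) (by norm_num) (by decide) (by decide) (by decide +kernel) u t

theorem c8_6 (t u : F) : X 8 t * X 6 u = X 6 u * X 8 t :=
  rel0 (r := 6) (s := 8) (by norm_num) (by norm_num) (by decide) (by decide) (by decide +kernel) u t

/-- `[x_8(t), x_9(u)] = x_11(3 t u)` -/
theorem conj8_9 (t u : F) : X 8 t * X 9 u * (X 8 t)⁻¹ = X 9 u * X 11 (3 * t * u) := by
  have h := rel1 (r := 8) (s := 9) (k := 11) (c := 3) (by norm_num) (by norm_num) (by decide) (by decide)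
    (by decide +kernel) t u
  rw [mul_inv_eq_iff_eq_mul, mul_assoc, c11_8, ← mul_assoc, h]
  rw [mul_assoc (X 8 t * X 9 u), ← X_add]
  have e : ((3 : ℤ) : F) * -t * u + 3 * t * u = 0 := by push_cast; ring
  rw [e, GTwoLB.X_zero, mul_one]

/-- A commuting pair of powers of one element. -/
theorem lc_self {K : Type u} [Group K] (g : K) : LC.{u, v} g g := by
  intro L _ π hπ a b ha hb
  have h1 : π (a⁻¹ * b) = 1 := by rw [map_mul, map_inv, ha, hb, inv_mul_cancel]
  have h2 := hπ.comm h1 a
  calc a * b = a * (a * (a⁻¹ * b)) := by group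
    _ = a * ((a⁻¹ * b) * a) := by rw [h2]
    _ = b * a := by group

theorem lc_pow {K : Type u} [Group K] (g : K) (m n : ℕ) : LC.{u, v} (g ^ m) (g ^ n) := by
  have h1 : g ^ n ∈ cenLC.{u, v} g := pow_mem (mem_cenLC.2 (lc_self g)) n
  have h2 : g ∈ cenLC.{u, v} (g ^ n) := mem_cenLC.2 (mem_cenLC.1 h1).symm
  exact mem_cenLC.1 (pow_mem h2 m)

theorem lc9_9 [Finite F] (h5 : Nat.card F = 5) (t u : F) : LC.{u, v} (X 9 t) (X 9 u) := by
  have key : ∀ t : F, ∃ n : ℕ, X 9 t = X 9 1 ^ n := by
    intro t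
    obtain ⟨n, hn⟩ : ∃ n : ℕ, (n : F) = t := by
      have hc : Nat.card (AddSubgroup.zmultiples (1 : F)) = Nat.card F := by
        have h1 : Nat.card (AddSubgroup.zmultiples (1 : F)) ∣ 5 := h5 ▸ AddSubgroup.card_addSubgroup_dvd_card _
        rcases (Nat.dvd_prime (by norm_num)).1 h1 with h2 | h2
        · exfalso
          rw [AddSubgroup.card_eq_one, AddSubgroup.zmultiples_eq_bot] at h2
          exact one_ne_zero h2
        · rw [h2, h5]
      have ht : t ∈ AddSubgroup.zmultiples (1 : F) := by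
        rw [AddSubgroup.eq_top_of_card_eq _ hc]
        exact AddSubgroup.mem_top t
      obtain ⟨n, hn⟩ := mem_multiples_iff_mem_zmultiples.2 ht
      exact ⟨n, by simpa using hn⟩
    exact ⟨n, by rw [GTwoLB.X_pow, mul_one, hn]⟩
  obtain ⟨m, hm⟩ := key t
  obtain ⟨n, hn⟩ := key u
  rw [hm, hn]
  exact lc_pow _ _ _

theorem lc6_9 {c : F} (hc : c * c = -1) (t u : F) : LC.{u, v} (X 6 t) (X 9 u) := by
  have hc0 : c ≠ 0 := by
    rintro rfl
    have : (1 : F) = 0 := by linear_combination hc
    exact one_ne_zero this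
  refine LC.of_inv (s := H 1 c) (c6_9 t u) ?_ ?_
  · have e : chevG2.cartan 1 6 = 2 := by decide
    rw [H_conj (by norm_num) (by norm_num) hc0, e, ← X_neg]
    congr 1
    rw [show (2 : ℤ) = (2 : ℕ) by norm_num, zpow_natCast, pow_two, hc]
    ring
  · have e : chevG2.cartan 1 9 = 0 := by decide
    rw [H_conj (by norm_num) (by norm_num) hc0, e, zpow_zero, one_mul]

theorem lc11_9 (t u : F) : LC.{u, v} (X 11 t) (X 9 u) :=
  LC.of_inv (s := T F 1) (c11_9 t u) (T_inv (by norm_num) (by norm_num) (by decide) t)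
    (T_fix (by norm_num) (by norm_num) (by decide) u)

/-- **The lower bound** `100`. -/
theorem lb [Finite F] (h5 : Nat.card F = 5) [CharP F 5] [IsSimpleGroup ↥(chevG2.group F)] :
    Heis.LB.{u, v, w} ↥(chevG2.group F) ((Nat.card F - 1) * Nat.card F ^ 2) := by
  have hp : Fact (Nat.Prime 5) := ⟨by norm_num⟩
  have h50 : (5 : F) = 0 := by exact_mod_cast CharP.cast_eq_zero F 5
  have hc : (2 : F) * 2 = -1 := by linear_combination h50
  have h3 : (3 : F) ≠ 0 := by
    intro h
    have : (1 : F) = 0 := by linear_combination 2 * h - h50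
    exact one_ne_zero this
  have hH : FH 5 2 (X (F := F) 11) ![X 6, X 9] ![X 10, X 8] ![(-1 : F), 3] :=
    { add := X_add 11
      A_pow := by
        intro j t
        have h0 : ∀ r, (X r t : ↥(chevG2.group F)) ^ 5 = 1 := fun r => by
          rw [GTwoLB.X_pow, CharP.cast_eq_zero, zero_mul, GTwoLB.X_zero]
        fin_cases j
        · exact h0 6
        · exact h0 9
      XA := by
        intro j t u
        fin_cases j
        · exact c11_6 t u
        · exact c11_9 t u
      XB := by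
        intro j t u
        fin_cases j
        · exact c11_10 t u
        · exact c11_8 t u
      AA := by
        intro i j t u
        fin_cases i <;> fin_cases j
        · exact X_comm 6 t u
        · exact c6_9 t u
        · exact (c6_9 u t).symm
        · exact X_comm 9 t u
      BA := by
        intro i j hij t u
        fin_cases i <;> fin_cases j
        · exact absurd rfl hij
        · exact c10_9 t u
        · exact c8_6 t u
        · exact absurd rfl hij
      conj := by
        intro j t u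
        fin_cases j
        · exact conj10_6 t u
        · exact conj8_9 t u
      c_ne := by
        intro j
        fin_cases j
        · exact neg_ne_zero.2 one_ne_zero
        · exact h3 }
  have hinv : ∀ r : ℕ, r < 12 → (Odd (chevG2.cartan 0 r) ∧ Even (chevG2.cartan 1 r) ∨
      Even (chevG2.cartan 0 r) ∧ Odd (chevG2.cartan 1 r)) → ∀ t : F,
      T F 0 * T F 1 * X r t * (T F 0 * T F 1)⁻¹ = (X r t)⁻¹ := by
    intro r hr h t
    have e : T F 0 * T F 1 * X r t * (T F 0 * T F 1)⁻¹ = T F 0 * (T F 1 * X r t * (T F 1)⁻¹) * (T F 0)⁻¹ := by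
      group
    rw [e]
    rcases h with ⟨h0, h1⟩ | ⟨h0, h1⟩
    · rw [T_fix (by norm_num) hr h1, T_inv (by norm_num) hr h0]
    · rw [T_inv (by norm_num) hr h1, ← X_neg, T_fix (by norm_num) hr h0]
  have hfix : ∀ r : ℕ, r < 12 → (Odd (chevG2.cartan 0 r) ∧ Odd (chevG2.cartan 1 r)) → ∀ t : F,
      T F 0 * T F 1 * X r t * (T F 0 * T F 1)⁻¹ = X r t := by
    intro r hr h t
    have e : T F 0 * T F 1 * X r t * (T F 0 * T F 1)⁻¹ = T F 0 * (T F 1 * X r t * (T F 1)⁻¹) * (T F 0)⁻¹ := by
      group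
    rw [e, T_inv (by norm_num) hr h.2, ← X_neg, T_inv (by norm_num) hr h.1, ← X_neg, neg_neg]
  refine TorusLift.LB.fh_torus.{u, v, w} (by norm_num) hH (s := T F 0 * T F 1)
    (hinv 11 (by norm_num) (by decide)) ?_ ?_ lc11_11 ?_ ?_
    ⟨1, fun h => one_ne_zero ((X_eq_one (by norm_num)).1 h)⟩
    (T := fun c => H 1 c)
    (fun c hc => by
      have h0 : H 1 c * T F 0 = T F 0 * H 1 c := H_comm (by norm_num) (by norm_num) hc (neg_ne_zero.2 one_ne_zero)
      have h1 : H 1 c * T F 1 = T F 1 * H 1 c := H_comm (by norm_num) (by norm_num) hc (neg_ne_zero.2 one_ne_zero)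
      rw [← mul_assoc, h0, mul_assoc, h1, mul_assoc])
    (fun c hc t => by
      have e : chevG2.cartan 1 11 = 1 := by decide
      show H 1 c * X 11 t * (H 1 c)⁻¹ = X 11 (c * t)
      rw [H_conj (by norm_num) (by norm_num) hc, e, zpow_one])
  · intro j t
    fin_cases j
    · exact hinv 6 (by norm_num) (by decide) t
    · exact hinv 9 (by norm_num) (by decide) t
  · intro j t
    fin_cases j
    · exact hfix 10 (by norm_num) (by decide) t
    · exact hfix 8 (by norm_num) (by decide) t
  · intro j t u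
    fin_cases j
    · exact lc11_6 t u
    · exact lc11_9 t u
  · intro i j t u
    fin_cases i <;> fin_cases j
    · exact lc6_6 t u
    · exact lc6_9 hc t u
    · exact (lc6_9 hc u t).symm
    · exact lc9_9 h5 t u

/-- **`G₂(5)`.** -/
theorem numML {K : Type u} [Group K] {F : Type} [Field F] [Fintype F] (h5 : Fintype.card F = 5)
    (e : K ≃* ↥(chevG2.group F)) : NumML.{u, v} K := by
  have hp : Fact (Nat.Prime 5) := ⟨by norm_num⟩
  have hch : CharP F 5 := by
    have h1 : ((5 : ℕ) : F) = 0 := by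
      rw [← h5]
      exact FiniteField.cast_card_eq_zero F
    exact (CharP.charP_iff_prime_eq_zero (by norm_num)).2 h1
  have h2 : (2 : F) ≠ 0 := RowGTwo.two_ne (p := 5) Fact.out (by norm_num)
  have hs := (RowGTwo.simple' h2).1
  have hlb := lb.{0, u, v} (F := F) (by rw [Nat.card_eq_fintype_card, h5])
  rw [Nat.card_eq_fintype_card, h5] at hlb
  obtain ⟨hr6, hr4⟩ := RowGTwo.rk (F := F) (p := 5) Fact.out (by norm_num)
  apply OddExc.of_numX
  refine OddExcNum.NumX.congr ⟨_, 6, 40, hlb, OddExcNum.rk_of_rk hr6, ?_, ?_⟩ e.symm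
  · refine card_le.trans ?_
    rw [h5]
    norm_num
  · norm_num

/-- `G₂(5)` -/
def IsGTwoFive (S : Type u) [Group S] : Prop :=
  ∃ (F : Type) (_ : Field F) (_ : Fintype F), Fintype.card F = 5 ∧ Nonempty (S ≃* ↥(chevG2.group F))

/-- **The row `G₂(5)`.** -/
theorem dead : Rows.Dead.{u, v} (fun S _ => IsGTwoFive S) := by
  rintro H _ _ M _ _ _ K T A hI ⟨F, _, _, h5, ⟨e⟩⟩
  exact Num.dead H M K T A hI (numML h5 e)

theorem deadZ : LocRow.DeadZ.{u, v} @IsGTwoFive := LocRow.Dead.deadZ dead

end Cfsg.Agent.Omega.ML.RowGTwoFive
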