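import Cfsg.Agent.Omega.ML.Num
import Cfsg.Agent.Omega.ML.OddExcNum
import Cfsg.Agent.Omega.TwoF.RowOrth
import Cfsg.Agent.S0292
import Cfsg.Agent.S0293
import Cfsg.Agent.S0294

/-!
# (ML), the K-list end: `PΩ_{2m+1}(q)`, `PΩ⁺_{2m}(q)`, `PΩ⁻_{2m}(q)`, `q` odd (helper548)

`RK`: `2m + 1`, `2m`, `2m` (`TwoF.RkPOm`); `LB`: `2 q ^ (n - 4)`, `n` the dimension (`TwoF.OrthRow`); orders: S0292, S0293,
S0294.
-/

set_option autoImplicit false

universe u v w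

namespace Cfsg.Agent.Omega.ML.RowOm

open Cfsg Cfsg.Agent.Omega.TwoF Cfsg.Agent.LieClassical Cfsg.Agent.LieClassical.OrthCore

/-! ### numbers -/

theorem prod_le (q k : ℕ) : ∏ i ∈ Finset.range k, (q ^ (2 * (i + 1)) - 1) ≤ q ^ (k * (k + 1)) := by
  induction k with
  | zero => simp
  | succ k ih =>
    rw [Finset.prod_range_succ, show (k + 1) * (k + 1 + 1) = k * (k + 1) + 2 * (k + 1) by ring, pow_add]
    exact Nat.mul_le_mul ih (Nat.sub_le _ _)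

theorem bd (k : ℕ) : 2 * (k + 4) ^ 2 + 5 * (k + 4) + 2 ≤ 2 * 3 ^ (2 * k + 4) := by
  induction k with
  | zero => norm_num
  | succ k ih =>
    rw [show 2 * (k + 1) + 4 = (2 * k + 4) + 2 by ring, pow_add]
    nlinarith [ih, Nat.zero_le k]

theorem bd' (k : ℕ) : 2 * (k + 4) ^ 2 + 3 * (k + 4) ≤ 2 * 3 ^ (2 * k + 3) := by
  induction k with
  | zero => norm_num
  | succ k ih =>
    rw [show 2 * (k + 1) + 3 = (2 * k + 3) + 2 by ring, pow_add]
    nlinarith [ih, Nat.zero_le k]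

theorem num_odd {m q : ℕ} (hm : 3 ≤ m) (hq : 3 ≤ q) :
    (2 * m + 1 - 1) * (m * (2 * m + 1) * (q - 1) + 2 * (2 * m + 1) - 1) < (2 * m + 1) * (2 * q ^ (2 * m - 3)) := by
  rcases Nat.lt_or_ge 3 m with h | h
  · obtain ⟨k, rfl⟩ : ∃ k, m = k + 4 := ⟨m - 4, by omega⟩
    have h1 := OddExcNum.num (q := q) (c := (k + 4) * (2 * (k + 4) + 1)) (a := 2 * (k + 4) + 1) (k := 2 * k + 4) hq
      (by omega) (by have := bd k; nlinarith)
    rwa [show 2 * (k + 4) - 3 = 2 * k + 4 + 1 by omega]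
  · obtain rfl : m = 3 := by omega
    obtain ⟨r, rfl⟩ : ∃ r, q = r + 3 := ⟨q - 3, by omega⟩
    norm_num
    nlinarith [Nat.zero_le (r ^ 3), Nat.zero_le (r ^ 2)]

theorem num_even {m q : ℕ} (hm : 4 ≤ m) (hq : 3 ≤ q) :
    (2 * m - 1) * (m * (2 * m - 1) * (q - 1) + 2 * (2 * m) - 1) < 2 * m * (2 * q ^ (2 * m - 4)) := by
  obtain ⟨k, rfl⟩ : ∃ k, m = k + 4 := ⟨m - 4, by omega⟩
  have h1 := OddExcNum.num (q := q) (c := (k + 4) * (2 * (k + 4) - 1)) (a := 2 * (k + 4)) (k := 2 * k + 3) hq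
    (by omega) (by
      have := bd' k
      have h2 : 2 * (k + 4) - 1 = 2 * k + 7 := by omega
      rw [h2]
      nlinarith)
  rwa [show 2 * (k + 4) - 4 = 2 * k + 3 + 1 by omega]

section

variable {F : Type w} [Field F] [Finite F]

theorem odd_card (h2 : (2 : F) ≠ 0) : Odd (Nat.card F) := by
  have := Fintype.ofFinite F
  rw [Nat.card_eq_fintype_card]
  rcases Nat.even_or_odd (Fintype.card F) with h | h
  · exfalso
    obtain ⟨k, hk⟩ := h
    obtain ⟨p, hc, hp, hp2⟩ := RowOrth.exists_char h2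
    obtain ⟨n, -, hn⟩ := FiniteField.card F p
    have h3 : 2 ∣ p ^ (n : ℕ) := ⟨k, by rw [← hn, hk]; ring⟩
    exact hp2 ((Nat.prime_dvd_prime_iff_eq Nat.prime_two hp).1 (Nat.prime_two.dvd_of_dvd_pow h3)).symm
  · exact h

theorem card_odd {m : ℕ} (hm : 3 ≤ m) (h2 : (2 : F) ≠ 0) :
    Nat.card (Cfsg.POmega F (Cfsg.quadFormOdd m F)) ≤ Nat.card F ^ (m * (2 * m + 1)) := by
  have := Fintype.ofFinite F
  have h1 := Cfsg.Agent.S0292.result (F := F) (q := Nat.card F) Nat.card_eq_fintype_card.symm (odd_card h2) m hm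
  have h3 : Nat.card F ^ (m ^ 2) * ∏ i ∈ Finset.range m, (Nat.card F ^ (2 * (i + 1)) - 1) ≤
      Nat.card F ^ (m * (2 * m + 1)) := by
    rw [show m * (2 * m + 1) = m ^ 2 + m * (m + 1) by ring, pow_add]
    exact Nat.mul_le_mul_left _ (prod_le _ _)
  omega

theorem card_plus {m : ℕ} (hm : 4 ≤ m) :
    Nat.card (Cfsg.POmega F (Cfsg.quadFormPlus m F)) ≤ Nat.card F ^ (m * (2 * m - 1)) := by
  have := Fintype.ofFinite F
  have h1 := Cfsg.Agent.S0293.result (F := F) (q := Nat.card F) Nat.card_eq_fintype_card.symm m hm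
  have h3 : Nat.card F ^ (m * (m - 1)) * (Nat.card F ^ m - 1) *
      ∏ i ∈ Finset.range (m - 1), (Nat.card F ^ (2 * (i + 1)) - 1) ≤ Nat.card F ^ (m * (2 * m - 1)) := by
    obtain ⟨k, rfl⟩ : ∃ k, m = k + 1 := ⟨m - 1, by omega⟩
    rw [Nat.add_sub_cancel, show (k + 1) * (2 * (k + 1) - 1) = (k + 1) * k + (k + 1) + k * (k + 1) by
      rw [show 2 * (k + 1) - 1 = 2 * k + 1 by omega]; ring, pow_add _ _ (k * (k + 1)),
      pow_add _ ((k + 1) * k) (k + 1)]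
    exact Nat.mul_le_mul (Nat.mul_le_mul_left _ (Nat.sub_le _ _)) (prod_le _ _)
  rw [← h1] at h3
  exact (Nat.le_mul_of_pos_left _ (Nat.gcd_pos_of_pos_left _ (by norm_num))).trans h3

theorem card_minus {m : ℕ} (hm : 4 ≤ m) (h2 : (2 : F) ≠ 0) (a b : F)
    (hab : ∀ z₁ z₂ : F, z₁ ^ 2 + a * z₁ * z₂ + b * z₂ ^ 2 = 0 → z₁ = 0 ∧ z₂ = 0) :
    Nat.card (Cfsg.POmega F (Cfsg.quadFormMinus (m - 1) F a b)) ≤ Nat.card F ^ (m * (2 * m - 1)) := by
  have := Fintype.ofFinite F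
  have h1 := Cfsg.Agent.S0294.result (F := F) (q := Nat.card F) Nat.card_eq_fintype_card.symm m hm a b hab
  have h0 : 1 ≤ Nat.card F ^ m := Nat.one_le_pow _ _ Nat.card_pos
  have h3 : Nat.card F ^ (m * (m - 1)) * (Nat.card F ^ m + 1) *
      ∏ i ∈ Finset.range (m - 1), (Nat.card F ^ (2 * (i + 1)) - 1) ≤ 2 * Nat.card F ^ (m * (2 * m - 1)) := by
    calc Nat.card F ^ (m * (m - 1)) * (Nat.card F ^ m + 1) *
          ∏ i ∈ Finset.range (m - 1), (Nat.card F ^ (2 * (i + 1)) - 1)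
        ≤ Nat.card F ^ (m * (m - 1)) * (2 * Nat.card F ^ m) * Nat.card F ^ ((m - 1) * (m - 1 + 1)) :=
          Nat.mul_le_mul (Nat.mul_le_mul_left _ (by omega)) (prod_le _ _)
      _ = 2 * Nat.card F ^ (m * (2 * m - 1)) := by
          obtain ⟨k, rfl⟩ : ∃ k, m = k + 1 := ⟨m - 1, by omega⟩
          rw [Nat.add_sub_cancel, show (k + 1) * (2 * (k + 1) - 1) = (k + 1) * k + (k + 1) + k * (k + 1) by
            rw [show 2 * (k + 1) - 1 = 2 * k + 1 by omega]; ring, pow_add _ _ (k * (k + 1)),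
            pow_add _ ((k + 1) * k) (k + 1)]
          ring
  rw [← h1] at h3
  have h4 : 2 ≤ Nat.gcd 4 (Nat.card F ^ m + 1) := by
    have h5 : 2 ∣ Nat.gcd 4 (Nat.card F ^ m + 1) := by
      refine Nat.dvd_gcd (by norm_num) ?_
      have h6 := (odd_card h2).pow (n := m)
      exact (h6.add_one).two_dvd
    exact Nat.le_of_dvd (Nat.gcd_pos_of_pos_left _ (by norm_num)) h5
  have h5 := (Nat.mul_le_mul_right (Nat.card (Cfsg.POmega F (Cfsg.quadFormMinus (m - 1) F a b))) h4).trans h3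
  omega

end

/-- transport of the numerical criterion -/
theorem congr {S : Type w} [Group S] {S' : Type u} [Group S'] {n a N : ℕ} (h1 : Lie.Heis.LB.{w, u, v} S n)
    (h2 : TwoF.RK S a) (h3 : Nat.card S ≤ 2 ^ N) (h4 : (a - 1) * (N + 2 * a - 1) < a * n) (e : S ≃* S') :
    Num.NumML.{u, v} S' :=
  Num.NumML.of_card (h1.congr e) ((OddExcNum.rk_of_rk h2).of_equiv e) (by rwa [← Nat.card_congr e.toEquiv]) h4

section

variable {F : Type w} [Field F] [Finite F] {p : ℕ} [Fact p.Prime] [CharP F p]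

/-- the lower bound in the form `2 q ^ (n - 4)` -/
theorem lb {I : Type} [Fintype I] [DecidableEq I] (hp2 : p ≠ 2) (Q : QuadraticForm F (I → F)) (hQ : Nondeg Q)
    {n : ℕ} (hI : Fintype.card I = n) (hn : 7 ≤ n) :
    Lie.Heis.LB.{w, u, v} (Cfsg.POmega F (⇑Q)) (2 * Nat.card F ^ (n - 4)) := by
  subst hI
  exact (OrthEl.lb_all.{u, v, w} hp2 Q (OrthEl.nondeg_polarBilin hQ) hn).mono
    (Nat.mul_le_mul_right _ (RowOrth.two_le_orderOf Fact.out hp2))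

/-- **`PΩ_{2m+1}(q)`, `q` odd, `m ≥ 3`** -/
theorem odd (hp2 : p ≠ 2) {m : ℕ} (hm : 3 ≤ m) {S : Type u} [Group S]
    (e : Cfsg.POmega F (Cfsg.quadFormOdd m F) ≃* S) : Num.NumML.{u, v} S := by
  have h2 : (2 : F) ≠ 0 := OrthEl.two_ne hp2
  have h3 : 3 ≤ Nat.card F := RowOrth.three_le_card Fact.out hp2
  have h1 := lb.{u, v} hp2 (OrthForms.oddForm m F) (OrthForms.nondeg_oddForm m F h2) (n := 2 * m + 1)
    (by rw [Fintype.card_sum, Fintype.card_sum, Fintype.card_fin, Fintype.card_unit]; omega) (by omega)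
  rw [show 2 * m + 1 - 4 = 2 * m - 3 by omega, OrthForms.coe_oddForm] at h1
  exact congr h1 (RkPOm.odd hm h2)
    ((card_odd hm h2).trans (OddExcNum.pow_le_two_pow Nat.card_pos)) (num_odd hm h3) e

/-- **`PΩ⁺_{2m}(q)`, `q` odd, `m ≥ 4`** -/
theorem plus (hp2 : p ≠ 2) {m : ℕ} (hm : 4 ≤ m) {S : Type u} [Group S]
    (e : Cfsg.POmega F (Cfsg.quadFormPlus m F) ≃* S) : Num.NumML.{u, v} S := by
  have h2 : (2 : F) ≠ 0 := OrthEl.two_ne hp2
  have h3 : 3 ≤ Nat.card F := RowOrth.three_le_card Fact.out hp2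
  have h1 := lb.{u, v} hp2 (OrthForms.plusForm m F) (OrthForms.nondeg_plusForm m F) (n := 2 * m)
    (by rw [Fintype.card_sum, Fintype.card_fin]; omega) (by omega)
  rw [OrthForms.coe_plusForm] at h1
  exact congr h1 (RkPOm.plus hm h2)
    ((card_plus hm).trans (OddExcNum.pow_le_two_pow Nat.card_pos)) (num_even hm h3) e

/-- **`PΩ⁻_{2m}(q)`, `q` odd, `m ≥ 4`** -/
theorem minus (hp2 : p ≠ 2) {m : ℕ} (hm : 4 ≤ m) (a b : F)
    (hab : ∀ z₁ z₂ : F, z₁ ^ 2 + a * z₁ * z₂ + b * z₂ ^ 2 = 0 → z₁ = 0 ∧ z₂ = 0) {S : Type u} [Group S]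
    (e : Cfsg.POmega F (Cfsg.quadFormMinus (m - 1) F a b) ≃* S) : Num.NumML.{u, v} S := by
  have h2 : (2 : F) ≠ 0 := OrthEl.two_ne hp2
  have h3 : 3 ≤ Nat.card F := RowOrth.three_le_card Fact.out hp2
  have h1 := lb.{u, v} hp2 (OrthForms.minusForm (m - 1) F a b) (OrthForms.nondeg_minusForm (m - 1) F a b hab)
    (n := 2 * m) (by rw [Fintype.card_sum, Fintype.card_sum, Fintype.card_fin, Fintype.card_fin]; omega) (by omega)
  rw [OrthForms.coe_minusForm] at h1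
  exact congr h1 (RkPOm.minus hm h2 a b hab)
    ((card_minus hm h2 a b hab).trans (OddExcNum.pow_le_two_pow Nat.card_pos)) (num_even hm h3) e

end

/-! ### The rows -/

/-- **row `PΩ_{2m+1}(q)`, `q` odd** -/
theorem omOdd (K : Type u) [Group K] (h : KFacts.OddChar @Cfsg.IsPOmegaOddChar K) : Num.NumML.{u, v} K := by
  obtain ⟨p, hp, hp2, F, _, _, _, m, hm, -, ⟨e⟩⟩ := h
  have : Fact p.Prime := ⟨hp⟩
  exact odd hp2 hm e.symm

/-- **row `PΩ⁺_{2m}(q)`, `q` odd** -/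
theorem omPlus (K : Type u) [Group K] (h : KFacts.OddChar @Cfsg.IsPOmegaPlusChar K) : Num.NumML.{u, v} K := by
  obtain ⟨p, hp, hp2, F, _, _, _, m, hm, ⟨e⟩⟩ := h
  have : Fact p.Prime := ⟨hp⟩
  exact plus hp2 hm e.symm

/-- **row `PΩ⁻_{2m}(q)`, `q` odd** -/
theorem omMinus (K : Type u) [Group K] (h : KFacts.OddChar @Cfsg.IsPOmegaMinusChar K) : Num.NumML.{u, v} K := by
  obtain ⟨p, hp, hp2, F, _, _, _, m, a, b, hm, hab, ⟨e⟩⟩ := h
  have : Fact p.Prime := ⟨hp⟩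
  exact minus hp2 hm a b hab e.symm

end Cfsg.Agent.Omega.ML.RowOm
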