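import Cfsg.Agent.Omega.ML.Num
import Cfsg.Agent.Omega.ML.PslLB
import Cfsg.Agent.Omega.TwoF.RowPsl
import Cfsg.Agent.Omega.KFacts
import Cfsg.Agent.S0243

/-!
# (ML), the K-list end: `PSL_n(q)`, `q` odd, `n ≥ 3`, `(n, q) ≠ (3, 3)`

`LB = q^(n-1) - 1`, `RK = rk n + 2` (`5` for `PSL_4(3)`), `|PSL_n(q)| ≤ q^(n²-1)`.
-/

set_option autoImplicit false

universe u v w

namespace Cfsg.Agent.Omega.ML.OddPsl

open Cfsg Matrix Cfsg.Agent.Omega.Lie Cfsg.Agent.Omega.TwoF Cfsg.Agent.Omega.KFacts Cfsg.Agent.Omega.ML.Num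
open Cfsg.Agent.ClassicalGeometry.AutPSL.Root (pr_surjective)

section card

variable {F : Type*} [Field F] [Fintype F]

/-- `|PSL_n(q)| ≤ q^(n²-1)`, `n = k + 1` -/
theorem card_le (k : ℕ) (hk : 1 ≤ k) :
    Nat.card (Matrix.ProjectiveSpecialLinearGroup (Fin (k + 1)) F) ≤ Nat.card F ^ (k * k + 2 * k) := by
  have h := Cfsg.Agent.S0243.result (F := F) (q := Nat.card F) Nat.card_eq_fintype_card.symm (k + 1) (by omega)
  have hq : 1 < Nat.card F := Finite.one_lt_card
  set q := Nat.card F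
  set c := Nat.card (Matrix.ProjectiveSpecialLinearGroup (Fin (k + 1)) F)
  have hg : 1 ≤ Nat.gcd (k + 1) (q - 1) := Nat.gcd_pos_of_pos_left _ (by omega)
  have h1 : (q - 1) * c ≤ (q - 1) * q ^ (k * k + 2 * k) := by
    calc (q - 1) * c ≤ Nat.gcd (k + 1) (q - 1) * ((q - 1) * c) := Nat.le_mul_of_pos_left _ hg
      _ = ∏ i : Fin (k + 1), (q ^ (k + 1) - q ^ (i : ℕ)) := h
      _ = (∏ i : Fin k, (q ^ (k + 1) - q ^ ((Fin.castSucc i : Fin (k + 1)) : ℕ))) * (q ^ (k + 1) - q ^ k) := by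
          rw [Fin.prod_univ_castSucc, Fin.val_last]
      _ ≤ (q ^ (k + 1)) ^ k * (q ^ (k + 1) - q ^ k) := by
          refine Nat.mul_le_mul_right _ ?_
          calc (∏ i : Fin k, (q ^ (k + 1) - q ^ ((Fin.castSucc i : Fin (k + 1)) : ℕ)))
              ≤ ∏ _i : Fin k, q ^ (k + 1) := Finset.prod_le_prod' fun i _ => Nat.sub_le _ _
            _ = (q ^ (k + 1)) ^ k := by rw [Finset.prod_const, Finset.card_univ, Fintype.card_fin]
      _ = (q - 1) * q ^ (k * k + 2 * k) := by
          rw [pow_succ q k, ← Nat.mul_sub_one, ← pow_succ, ← pow_mul]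
          rw [show (k + 1) * k = k * k + k by ring, show k * k + 2 * k = (k * k + k) + k by ring, pow_add]
          ring
  exact Nat.le_of_mul_le_mul_left h1 (by omega)

end card

/-- `q ≤ 2 ^ h`, `q = 2 h - 1` -/
theorem le_two_pow (h : ℕ) (h2 : 2 ≤ h) : 2 * h - 1 ≤ 2 ^ h := by
  induction h, h2 using Nat.le_induction with
  | base => norm_num
  | succ h h2 ih =>
    rw [pow_succ]
    omega

/-- the inequality for `n ≥ 5` -/
theorem num_big {h k : ℕ} (h2 : 2 ≤ h) (hk : 4 ≤ k) : (k * k + 2 * k) * h + 2 * k + 4 ≤ (2 * h - 1) ^ k := by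
  obtain ⟨m, rfl⟩ : ∃ m, h = m + 2 := ⟨h - 2, by omega⟩
  rw [show 2 * (m + 2) - 1 = 2 * m + 3 by omega]
  induction k, hk using Nat.le_induction with
  | base =>
    ring_nf
    nlinarith [Nat.zero_le (m ^ 4), Nat.zero_le (m ^ 3), Nat.zero_le (m ^ 2)]
  | succ k hk ih =>
    rw [pow_succ]
    have h3 : (2 * m + 3) ^ k * 3 ≤ (2 * m + 3) ^ k * (2 * m + 3) := Nat.mul_le_mul_left _ (by omega)
    refine le_trans ?_ h3
    have h4 : ((k + 1) * (k + 1) + 2 * (k + 1)) * (m + 2) + 2 * (k + 1) + 4 ≤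
        ((k * k + 2 * k) * (m + 2) + 2 * k + 4) * 3 := by
      nlinarith [Nat.zero_le (k * k * m), Nat.zero_le (k * m), Nat.mul_le_mul hk hk,
        Nat.mul_le_mul_right m (Nat.mul_le_mul hk hk), Nat.mul_le_mul_right m hk]
    exact h4.trans (Nat.mul_le_mul_right _ ih)

section main

variable {F : Type} [Field F] [Fintype F]

theorem ne_of_two (h2 : (2 : F) ≠ 0) : ∃ h, 2 ≤ h ∧ Nat.card F = 2 * h - 1 := by
  obtain ⟨p, hp⟩ := CharP.exists F
  obtain ⟨k, hpp, hk⟩ := FiniteField.card F p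
  have hodd : ¬ 2 ∣ Nat.card F := by
    rw [Nat.card_eq_fintype_card, hk]
    intro h
    have h3 : 2 ∣ p := Nat.prime_two.dvd_of_dvd_pow h
    have h4 : p = 2 := ((Nat.prime_dvd_prime_iff_eq Nat.prime_two hpp).1 h3).symm
    subst h4
    exact h2 (by exact_mod_cast CharP.cast_eq_zero F 2)
  have hq : 1 < Nat.card F := Finite.one_lt_card
  exact ⟨(Nat.card F + 1) / 2, by omega, by omega⟩

theorem numML_of_equiv {K : Type u} [Group K] {k : ℕ} (hk : 2 ≤ k) (h2 : (2 : F) ≠ 0)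
    (hx : ¬ (k = 2 ∧ Nat.card F = 3)) (e : K ≃* Matrix.ProjectiveSpecialLinearGroup (Fin (k + 1)) F) :
    NumML.{u, v} K := by
  obtain ⟨h, hh2, hq⟩ := ne_of_two h2
  have hlb : Heis.LB.{u, u, v} K (Nat.card F ^ k - 1) :=
    (PslLB.lb.{u, v} h2 (n := k + 1) (by omega) (m := Nat.card F ^ k - 1) (by simp)).congr e.symm
  have hrk : Rk.RK.{u} K (RkLin.rk (k + 1) + 2) :=
    ((RkPSL.rkAut h2 (n := k + 1) (by omega)).rk).of_equiv e.symm
  have hcard : Nat.card K ≤ 2 ^ ((k * k + 2 * k) * h) := by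
    rw [Nat.card_congr e.toEquiv]
    refine (card_le k (by omega)).trans ?_
    rw [hq, mul_comm (k * k + 2 * k) h, pow_mul]
    exact Nat.pow_le_pow_left (le_two_pow h hh2) _
  rcases Nat.lt_or_ge k 4 with hk4 | hk4
  · obtain rfl | rfl : k = 2 ∨ k = 3 := by omega
    · have hr : RkLin.rk 3 = 2 := by decide
      rw [hr] at hrk
      have hh3 : 3 ≤ h := by
        by_contra hlt
        exact hx ⟨rfl, by omega⟩
      refine NumML.of_card hlb hrk hcard ?_
      obtain ⟨m, rfl⟩ : ∃ m, h = m + 3 := ⟨h - 3, by omega⟩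
      rw [hq, show 2 * (m + 3) - 1 = 2 * m + 5 by omega]
      have h5 : (2 * m + 5) ^ 2 - 1 = 4 * m * m + 20 * m + 24 := by
        rw [show (2 * m + 5) ^ 2 = 4 * m * m + 20 * m + 24 + 1 by ring]
        exact Nat.add_sub_cancel _ _
      rw [h5]
      norm_num
      nlinarith [Nat.zero_le (m * m)]
    · by_cases h3 : h = 2
      · subst h3
        have hq3 : Nat.card F = 3 := by omega
        have hrk' : Rk.RK.{u} K 5 := by
          have h6 := (RkPSL.rkAut_odd h2 (n := 4) (by omega) (F := F) (by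
            intro σ _
            have e3 : ZMod 3 ≃+* F := FiniteField.ringEquivOfCardEq (by
              rw [ZMod.card, ← hq3, Nat.card_eq_fintype_card])
            have : Subsingleton (ZMod 3 ≃+* ZMod 3) := by
              refine ⟨fun a b => ?_⟩
              have := Subsingleton.elim (a : ZMod 3 →+* ZMod 3) (b : ZMod 3 →+* ZMod 3)
              exact RingEquiv.ext fun x => congrFun (congrArg (fun f : ZMod 3 →+* ZMod 3 => (f : ZMod 3 → ZMod 3)) this) x
            have h7 : (e3.trans (σ.trans e3.symm)) = RingEquiv.refl _ := Subsingleton.elim _ _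
            refine RingEquiv.ext fun x => ?_
            have h8 := congrArg (fun f : ZMod 3 ≃+* ZMod 3 => f (e3.symm x)) h7
            have h9 : e3.symm (σ (e3 (e3.symm x))) = e3.symm x := h8
            rw [e3.apply_symm_apply] at h9
            exact e3.symm.injective h9)).rk
          exact (h6.of_equiv e.symm).mono (by decide)
        refine NumML.of_card (N := 23) hlb hrk' ?_ (by rw [hq3]; norm_num)
        rw [Nat.card_congr e.toEquiv]
        have h := Cfsg.Agent.S0243.result (F := F) (q := 3) (by rw [← hq3, Nat.card_eq_fintype_card]) 4 (by norm_num)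
        have h1 : Nat.gcd 4 (3 - 1) = 2 := by decide
        have h2 : ∏ i : Fin 4, (3 ^ 4 - 3 ^ (i : ℕ)) = 24261120 := by decide
        rw [h1, h2] at h
        change Nat.card (Matrix.ProjectiveSpecialLinearGroup (Fin 4) F) ≤ _
        omega
      · have hr : RkLin.rk 4 = 4 := by decide
        rw [hr] at hrk
        refine NumML.of_card hlb hrk hcard ?_
        obtain ⟨m, rfl⟩ : ∃ m, h = m + 3 := ⟨h - 3, by omega⟩
        rw [hq, show 2 * (m + 3) - 1 = 2 * m + 5 by omega]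
        have h5 : (2 * m + 5) ^ 3 - 1 = 8 * m * m * m + 60 * m * m + 150 * m + 124 := by
          rw [show (2 * m + 5) ^ 3 = 8 * m * m * m + 60 * m * m + 150 * m + 124 + 1 by ring]
          exact Nat.add_sub_cancel _ _
        rw [h5]
        norm_num
        nlinarith [Nat.zero_le (m * m), Nat.zero_le (m * m * m)]
  · have hr : RkLin.rk (k + 1) = k := by
      unfold RkLin.rk
      rw [if_neg (by omega)]
      omega
    rw [hr] at hrk
    refine NumML.of_card hlb hrk hcard ?_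
    have h5 := num_big hh2 hk4
    rw [← hq] at h5
    set X := Nat.card F ^ k
    set Y := (k * k + 2 * k) * h
    have h6 : Y + 2 * (k + 2) - 1 ≤ X - 1 := by omega
    calc (k + 2 - 1) * (Y + 2 * (k + 2) - 1) ≤ (k + 1) * (X - 1) := Nat.mul_le_mul (by omega) h6
      _ < (k + 2) * (X - 1) := Nat.mul_lt_mul_of_pos_right (by omega) (by omega)

end main

/-- **`PSL_n(q)`, `q` odd**: `n = 2`, or `(n, q) = (3, 3)`, or `NumML` -/
theorem psl {K : Type u} [Group K] (h : OddChar @IsPSLChar K) :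
    (∃ (F : Type) (_ : Field F) (_ : Fintype F), Odd (Fintype.card F) ∧ 3 < Fintype.card F ∧
      Nonempty (K ≃* Matrix.ProjectiveSpecialLinearGroup (Fin 2) F)) ∨
    (∃ (F : Type) (_ : Field F) (_ : Fintype F), Fintype.card F = 3 ∧
      Nonempty (K ≃* Matrix.ProjectiveSpecialLinearGroup (Fin 3) F)) ∨ NumML.{u, v} K := by
  obtain ⟨p, hp, hp2, F, _, _, _, n, hn, h4, ⟨e⟩⟩ := h
  have h2 : (2 : F) ≠ 0 := by
    intro h0
    have h1 : ((2 : ℕ) : F) = 0 := by exact_mod_cast h0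
    rw [CharP.cast_eq_zero_iff F p] at h1
    exact hp2 ((Nat.prime_dvd_prime_iff_eq hp Nat.prime_two).1 h1)
  rcases Nat.lt_or_ge n 3 with h3 | h3
  · left
    obtain rfl : n = 2 := by omega
    obtain ⟨h, hh, hq⟩ := ne_of_two h2
    rw [Nat.card_eq_fintype_card] at hq
    have h5 := h4 rfl
    refine ⟨F, _, _, ?_, h5, ⟨e⟩⟩
    rw [hq, Nat.odd_iff]
    omega
  · right
    obtain ⟨k, rfl⟩ : ∃ k, n = k + 1 := ⟨n - 1, by omega⟩
    by_cases hx : k = 2 ∧ Nat.card F = 3
    · left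
      obtain ⟨rfl, hF⟩ := hx
      exact ⟨F, _, _, by rw [← hF, Nat.card_eq_fintype_card], ⟨e⟩⟩
    · right
      exact numML_of_equiv (by omega) h2 hx e

end Cfsg.Agent.Omega.ML.OddPsl
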