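import Cfsg.Agent.Omega.ML.PsuLB
import Cfsg.Agent.Omega.ML.Num
import Cfsg.Agent.Omega.KFacts
import Cfsg.Agent.S0280

/-!
# (ML), the K-list end: `PSU_n(q)`, `q` odd: the numbers

* `card_le : |PSU_n(q)| ≤ q ^ (n² - 1)`;
* `numML` : `NumML` for all `PSU_n(q)`, `n ≥ 3`, `q` odd, `(n, q) ≠ (3, 3), (4, 3), (3, 9)`;
* `psu` : the row.
-/

set_option autoImplicit false
set_option linter.unusedSectionVars false

universe u v

namespace Cfsg.Agent.Omega.ML.PsuNum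

open Cfsg Cfsg.Agent.Omega.TwoF Cfsg.Agent.Omega.KFacts Cfsg.Agent.Omega.ML.Num
open Cfsg.Agent.Omega.Lie
open Cfsg.Agent.LieClassical.HermBasic

/-- The product in the order of `SU_n(q)`. -/
def P (q n : ℕ) : ℕ := ∏ i ∈ Finset.range n, (if Even i then q ^ (i + 1) + 1 else q ^ (i + 1) - 1)

theorem P_succ (q n : ℕ) : P q (n + 1) = P q n * (if Even n then q ^ (n + 1) + 1 else q ^ (n + 1) - 1) :=
  Finset.prod_range_succ _ _

theorem pair_le {q a : ℕ} (hq : 1 ≤ q) : (q ^ a - 1) * (q ^ (a + 1) + 1) ≤ q ^ (2 * a + 1) := by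
  have h1 : 1 ≤ q ^ a := Nat.one_le_pow _ _ hq
  obtain ⟨x, hx⟩ : ∃ x, q ^ a = x + 1 := ⟨q ^ a - 1, by omega⟩
  have h2 : q ^ (2 * a + 1) = q * (q ^ a * q ^ a) := by ring
  have h3 : q ^ (a + 1) = q * q ^ a := by ring
  rw [h2, h3, hx, Nat.add_sub_cancel]
  nlinarith [Nat.mul_le_mul_right (x + 1) hq]

theorem P_odd {q : ℕ} (hq : 1 ≤ q) (m : ℕ) : P q (2 * m + 1) ≤ (q + 1) * q ^ (2 * m ^ 2 + 3 * m) := by
  induction m with
  | zero => simp [P]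
  | succ m ih =>
    have h1 : ¬ Even (2 * m + 1) := by
      rw [Nat.not_even_iff_odd]
      exact ⟨m, rfl⟩
    have h2 : Even (2 * m + 1 + 1) := ⟨m + 1, by ring⟩
    rw [show 2 * (m + 1) + 1 = 2 * m + 1 + 1 + 1 by ring, P_succ, P_succ, if_neg h1, if_pos h2, mul_assoc]
    calc P q (2 * m + 1) * ((q ^ (2 * m + 1 + 1) - 1) * (q ^ (2 * m + 1 + 1 + 1) + 1))
        ≤ ((q + 1) * q ^ (2 * m ^ 2 + 3 * m)) * q ^ (2 * (2 * m + 1 + 1) + 1) :=
          Nat.mul_le_mul ih (pair_le hq)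
      _ = (q + 1) * q ^ (2 * (m + 1) ^ 2 + 3 * (m + 1)) := by
          rw [mul_assoc, ← pow_add]
          congr 2
          ring

theorem P_even {q : ℕ} (hq : 1 ≤ q) (m : ℕ) : P q (2 * m + 2) ≤ (q + 1) * q ^ (2 * m ^ 2 + 5 * m + 2) := by
  have h1 : ¬ Even (2 * m + 1) := by
    rw [Nat.not_even_iff_odd]
    exact ⟨m, rfl⟩
  rw [show 2 * m + 2 = 2 * m + 1 + 1 by ring, P_succ, if_neg h1]
  calc P q (2 * m + 1) * (q ^ (2 * m + 1 + 1) - 1)
      ≤ ((q + 1) * q ^ (2 * m ^ 2 + 3 * m)) * q ^ (2 * m + 1 + 1) :=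
        Nat.mul_le_mul (P_odd hq m) (Nat.sub_le _ _)
    _ = (q + 1) * q ^ (2 * m ^ 2 + 5 * m + 2) := by
        rw [mul_assoc, ← pow_add]
        congr 2
        ring

theorem P_le {q : ℕ} (hq : 1 ≤ q) {n : ℕ} (hn : 1 ≤ n) :
    q ^ (n * (n - 1) / 2) * P q n ≤ (q + 1) * q ^ (n ^ 2 - 1) := by
  obtain ⟨m, rfl | rfl⟩ : ∃ m, n = 2 * m + 1 ∨ n = 2 * m + 2 := ⟨(n - 1) / 2, by omega⟩
  · have h1 : (2 * m + 1) * (2 * m + 1 - 1) / 2 = 2 * m ^ 2 + m := by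
      rw [Nat.add_sub_cancel]
      apply Nat.div_eq_of_eq_mul_right (by norm_num)
      ring
    have h2 : (2 * m + 1) ^ 2 - 1 = (2 * m ^ 2 + m) + (2 * m ^ 2 + 3 * m) := by
      have : (2 * m + 1) ^ 2 = (2 * m ^ 2 + m) + (2 * m ^ 2 + 3 * m) + 1 := by ring
      rw [this, Nat.add_sub_cancel]
    rw [h1, h2]
    calc q ^ (2 * m ^ 2 + m) * P q (2 * m + 1)
        ≤ q ^ (2 * m ^ 2 + m) * ((q + 1) * q ^ (2 * m ^ 2 + 3 * m)) := Nat.mul_le_mul_left _ (P_odd hq m)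
      _ = (q + 1) * q ^ (2 * m ^ 2 + m + (2 * m ^ 2 + 3 * m)) := by rw [pow_add q (2 * m ^ 2 + m)]; ring
  · have h1 : (2 * m + 2) * (2 * m + 2 - 1) / 2 = 2 * m ^ 2 + 3 * m + 1 := by
      rw [show 2 * m + 2 - 1 = 2 * m + 1 by omega]
      apply Nat.div_eq_of_eq_mul_right (by norm_num)
      ring
    have h2 : (2 * m + 2) ^ 2 - 1 = (2 * m ^ 2 + 3 * m + 1) + (2 * m ^ 2 + 5 * m + 2) := by
      have : (2 * m + 2) ^ 2 = (2 * m ^ 2 + 3 * m + 1) + (2 * m ^ 2 + 5 * m + 2) + 1 := by ring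
      rw [this, Nat.add_sub_cancel]
    rw [h1, h2]
    calc q ^ (2 * m ^ 2 + 3 * m + 1) * P q (2 * m + 2)
        ≤ q ^ (2 * m ^ 2 + 3 * m + 1) * ((q + 1) * q ^ (2 * m ^ 2 + 5 * m + 2)) :=
          Nat.mul_le_mul_left _ (P_even hq m)
      _ = (q + 1) * q ^ (2 * m ^ 2 + 3 * m + 1 + (2 * m ^ 2 + 5 * m + 2)) := by
          rw [pow_add q (2 * m ^ 2 + 3 * m + 1)]; ring

/-- **The order of `PSU_n(q)`.** -/
theorem card_le {F : Type*} [Field F] [Fintype F] {n q : ℕ} (hF : Fintype.card F = q ^ 2) (hn : 2 ≤ n) :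
    Nat.card (PSU n F q) ≤ q ^ (n ^ 2 - 1) := by
  have h1 := Cfsg.Agent.S0280.result hF n hn
  have hq := two_le hF
  have h2 : (q + 1) * Nat.card (PSU n F q) ≤ (q + 1) * q ^ (n ^ 2 - 1) := by
    calc (q + 1) * Nat.card (PSU n F q)
        ≤ Nat.gcd n (q + 1) * ((q + 1) * Nat.card (PSU n F q)) :=
          Nat.le_mul_of_pos_left _ (Nat.gcd_pos_of_pos_left _ (by omega))
      _ = q ^ (n * (n - 1) / 2) * P q n := h1
      _ ≤ _ := P_le (by omega) (by omega)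
  exact Nat.le_of_mul_le_mul_left h2 (by omega)

/-- `q ≤ 2 ^ (q / 4 + 2)`. -/
theorem le_two_pow (q : ℕ) : q ≤ 2 ^ (q / 4 + 2) := by
  have key : ∀ m r : ℕ, r < 4 → 4 * m + r ≤ 2 ^ (m + 2) := by
    intro m r hr
    induction m with
    | zero => omega
    | succ m ih =>
      have h1 : 2 ^ (m + 1 + 2) = 2 * 2 ^ (m + 2) := by ring
      have h2 : 2 ^ (m + 2) = 4 * 2 ^ m := by ring
      have h3 : 1 ≤ 2 ^ m := Nat.one_le_two_pow
      omega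
  have h1 := key (q / 4) (q % 4) (Nat.mod_lt _ (by norm_num))
  omega

theorem card_le_two_pow {F : Type*} [Field F] [Fintype F] {n q l : ℕ} (hF : Fintype.card F = q ^ 2) (hn : 2 ≤ n)
    (hl : q ≤ 2 ^ l) : Nat.card (PSU n F q) ≤ 2 ^ (l * (n ^ 2 - 1)) := by
  rw [pow_mul]
  exact (card_le hF hn).trans (Nat.pow_le_pow_left hl _)

theorem ineq_a (j : ℕ) : (j + 5) ^ 2 - 1 ≤ 24 * 2 ^ j := by
  induction j with
  | zero => norm_num
  | succ j ih =>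
    have h2 : (j + 1 + 5) ^ 2 - 1 ≤ 2 * ((j + 5) ^ 2 - 1) := by
      have h3 : (j + 1 + 5) ^ 2 = (j ^ 2 + 12 * j + 35) + 1 := by ring
      have h4 : (j + 5) ^ 2 = (j ^ 2 + 10 * j + 24) + 1 := by ring
      rw [h3, h4, Nat.add_sub_cancel, Nat.add_sub_cancel]
      nlinarith
    have h5 : 2 ^ (j + 1) = 2 * 2 ^ j := by ring
    omega

theorem ineq_b (j : ℕ) : 2 * (j + 5) - 1 ≤ 9 * 2 ^ j := by
  induction j with
  | zero => norm_num
  | succ j ih =>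
    have h5 : 2 ^ (j + 1) = 2 * 2 ^ j := by ring
    omega

theorem ineq_c (j l : ℕ) : ((j + 5) ^ 2 - 1) * l + 2 * (j + 5) - 1 ≤ (24 * l + 9) * 2 ^ j := by
  calc ((j + 5) ^ 2 - 1) * l + 2 * (j + 5) - 1 ≤ ((j + 5) ^ 2 - 1) * l + (2 * (j + 5) - 1) := by omega
    _ ≤ (24 * 2 ^ j) * l + 9 * 2 ^ j := Nat.add_le_add (Nat.mul_le_mul_right _ (ineq_a j)) (ineq_b j)
    _ = (24 * l + 9) * 2 ^ j := by ring

/-- The inequality for `n = j + 5`, `q ≥ 5`. -/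
theorem ineq_five {q j l : ℕ} (hq : 2 ≤ q) (h : 24 * l + 9 ≤ 2 * q ^ 3) :
    ((j + 5) ^ 2 - 1) * l + 2 * (j + 5) - 1 ≤ 2 * q ^ (j + 3) := by
  calc ((j + 5) ^ 2 - 1) * l + 2 * (j + 5) - 1 ≤ (24 * l + 9) * 2 ^ j := ineq_c j l
    _ ≤ (2 * q ^ 3) * q ^ j := Nat.mul_le_mul h (Nat.pow_le_pow_left hq _)
    _ = 2 * q ^ (j + 3) := by ring

/-- The inequality for `n = j + 6`, `q = 3`. -/
theorem ineq_three (j : ℕ) : ((j + 6) ^ 2 - 1) * 2 + 2 * (j + 6) - 1 ≤ 2 * 3 ^ (j + 4) := by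
  have h1 := ineq_c (j + 1) 2
  calc ((j + 6) ^ 2 - 1) * 2 + 2 * (j + 6) - 1 ≤ (24 * 2 + 9) * 2 ^ (j + 1) := h1
    _ = 114 * 2 ^ j := by ring
    _ ≤ 162 * 3 ^ j := Nat.mul_le_mul (by norm_num) (Nat.pow_le_pow_left (by norm_num) _)
    _ = 2 * 3 ^ (j + 4) := by ring

/-- From `X ≤ 2 q ^ k` to the criterion. -/
theorem crit {n X Y c : ℕ} (hn : 2 ≤ n) (h0 : 1 ≤ X) (h : X ≤ 2 * Y) (hc : 2 ≤ c) : (n - 1) * X < n * (c * Y) := by
  obtain ⟨m, rfl⟩ : ∃ m, n = m + 1 := ⟨n - 1, by omega⟩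
  rw [Nat.add_sub_cancel]
  calc m * X < m * X + X := by omega
    _ = (m + 1) * X := by ring
    _ ≤ (m + 1) * (2 * Y) := Nat.mul_le_mul_left _ h
    _ ≤ (m + 1) * (c * Y) := Nat.mul_le_mul_left _ (Nat.mul_le_mul_right _ hc)

theorem rk_psu {F : Type*} [Field F] [Fintype F] {n q : ℕ} (hF : Fintype.card F = q ^ 2) (h2 : (2 : F) ≠ 0)
    (hn : 3 ≤ n) : Rk.RK.{u} (PSU n F q) (RkLin.rk n + 1) := by
  intro X _ _ N _ ⟨e⟩ hc A hA
  exact RkPSL.RkAut.of_normal (RkPSU.rkAut hF h2 hn) e hc A hA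

theorem NumML.congr {S : Type*} [Group S] {K : Type u} [Group K] (e : S ≃* K) {n a N : ℕ}
    (h1 : Heis.LB.{_, u, v} S n) (h2 : Rk.RK.{u} S a) (h4 : Nat.card S ≤ 2 ^ N)
    (h5 : (a - 1) * (N + 2 * a - 1) < a * n) : NumML.{u, v} K :=
  NumML.of_card (h1.congr e) (h2.of_equiv e) (by rwa [← Nat.card_congr e.toEquiv]) h5

/-- `ord_p(2) ≥ 3` for `p ≥ 5`. -/
theorem three_le_order {p : ℕ} (hp : p.Prime) (h5 : 5 ≤ p) : 3 ≤ orderOf (2 : ZMod p) := by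
  apply RowPsl.le_orderOf hp (by omega)
  intro d h0 h1 h
  have h6 : ((2 ^ d : ℕ) : ZMod p) = ((1 : ℕ) : ZMod p) := by push_cast; exact h
  rw [ZMod.natCast_eq_natCast_iff] at h6
  have h7 : (2 ^ d) % p = 1 % p := h6
  have hd : d = 1 ∨ d = 2 := by omega
  rcases hd with rfl | rfl
  · rw [Nat.mod_eq_of_lt (by omega), Nat.mod_eq_of_lt (by omega)] at h7
    omega
  · rw [Nat.mod_eq_of_lt (by omega), Nat.mod_eq_of_lt (by omega)] at h7
    omega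

/-- **`NumML` for `PSU_n(q)`, `q` odd.** -/
theorem numML {F : Type*} [Field F] [Fintype F] {n q p : ℕ} (hF : Fintype.card F = q ^ 2) (h2 : (2 : F) ≠ 0)
    (hp : p.Prime) [CharP F p] (hn : 3 ≤ n) (h33 : ¬ (n = 3 ∧ q = 3)) (h43 : ¬ (n = 4 ∧ q = 3))
    (h39 : ¬ (n = 3 ∧ q = 9)) {K : Type u} [Group K] (e : PSU n F q ≃* K) : NumML.{u, v} K := by
  have hlb := PsuLB.lb.{u, _, v} hF h2 hp hn h43
  have hrk := rk_psu.{u} hF h2 hn
  have hp2 : p ≠ 2 := by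
    rintro rfl
    exact h2 (by exact_mod_cast CharP.cast_eq_zero F 2)
  have hc := RowPsl.two_le_order hp hp2
  have hpq := PsuLB.p_dvd hF hp
  have hq1 := two_le hF
  obtain ⟨f, hf⟩ : ∃ f, q = p ^ f := by
    obtain ⟨a, _, ha⟩ := FiniteField.card F p
    have h6 : q ∣ p ^ (a : ℕ) := by
      rw [← ha, hF]
      exact dvd_pow_self q (by norm_num)
    obtain ⟨f, _, hf⟩ := (Nat.dvd_prime_pow hp).1 h6
    exact ⟨f, hf⟩
  have hodd : Odd q := by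
    rw [hf]
    exact (hp.odd_of_ne_two hp2).pow
  have hq3 : 3 ≤ q := by
    obtain ⟨m, hm⟩ := hodd
    omega
  have hl := le_two_pow q
  by_cases hn3 : n = 3
  · subst hn3
    have hr : RkLin.rk 3 + 1 = 3 := by decide
    rw [hr] at hrk
    have hq5 : 5 ≤ q := by
      obtain ⟨m, hm⟩ := hodd
      omega
    refine NumML.congr e hlb hrk (card_le_two_pow hF (by norm_num) hl) ?_
    have h10 : (orderOf (2 : ZMod p) * q ^ (3 - 2)) = orderOf (2 : ZMod p) * q := by norm_num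
    rw [h10]
    by_cases hp3 : p = 3
    · subst hp3
      have h27 : 27 ≤ q := by
        have hf3 : 3 ≤ f := by
          by_contra hlt
          have h6 : f = 0 ∨ f = 1 ∨ f = 2 := by omega
          rcases h6 with rfl | rfl | rfl
          · rw [hf] at hq3
            norm_num at hq3
          · exact h33 ⟨rfl, by rw [hf]; norm_num⟩
          · exact h39 ⟨rfl, by rw [hf]; norm_num⟩
        rw [hf]
        exact (show 27 = 3 ^ 3 by norm_num) ▸ Nat.pow_le_pow_right (by norm_num) hf3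
      have h9 : 2 * q ≤ orderOf (2 : ZMod 3) * q := Nat.mul_le_mul_right _ hc
      omega
    · have hp5 : 5 ≤ p := by
        have := hp.two_le
        by_contra hlt
        have h6 : p = 4 := by omega
        subst h6
        exact absurd hp (by norm_num)
      have h9 : 3 * q ≤ orderOf (2 : ZMod p) * q := Nat.mul_le_mul_right _ (three_le_order hp hp5)
      by_cases h5 : q = 5
      · obtain rfl : p = 5 := (Nat.prime_dvd_prime_iff_eq hp (by norm_num)).1 (h5 ▸ hpq)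
        subst h5
        have h11 : 4 * 5 ≤ orderOf (2 : ZMod 5) * 5 := Nat.mul_le_mul_right _ RowPsl.order_five
        omega
      · by_cases h7 : q = 7
        · subst h7
          omega
        · have h9' : 9 ≤ q := by
            obtain ⟨m, hm⟩ := hodd
            omega
          omega
  by_cases hn4 : n = 4
  · subst hn4
    have hr : RkLin.rk 4 + 1 = 5 := by decide
    rw [hr] at hrk
    have hq5 : 5 ≤ q := by
      obtain ⟨m, hm⟩ := hodd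
      omega
    refine NumML.congr e hlb hrk (card_le_two_pow hF (by norm_num) hl) ?_
    have h8 : (5 - 1) * ((q / 4 + 2) * (4 ^ 2 - 1) + 2 * 5 - 1) ≤ 15 * q + 156 := by omega
    refine lt_of_le_of_lt h8 ?_
    show 15 * q + 156 < 5 * (orderOf (2 : ZMod p) * q ^ 2)
    have h9 : 10 * q ^ 2 ≤ 5 * (orderOf (2 : ZMod p) * q ^ 2) := by
      have := Nat.mul_le_mul_right (q ^ 2) hc
      omega
    refine lt_of_lt_of_le ?_ h9
    nlinarith
  obtain ⟨j, rfl⟩ : ∃ j, n = j + 5 := ⟨n - 5, by omega⟩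
  have hr : RkLin.rk (j + 5) + 1 = j + 5 := by
    rw [RkLin.rk, if_neg (by omega)]
    omega
  rw [hr] at hrk
  have hlb' : Heis.LB.{_, u, v} (PSU (j + 5) F q) (orderOf (2 : ZMod p) * q ^ (j + 3)) := hlb
  by_cases hq5 : 5 ≤ q
  · refine NumML.congr e hlb' hrk (card_le_two_pow hF (by omega) hl) ?_
    have h8 : 24 * (q / 4 + 2) + 9 ≤ 2 * q ^ 3 := by
      have h9 : 24 * (q / 4 + 2) + 9 ≤ 6 * q + 57 := by omega
      nlinarith [Nat.mul_le_mul hq5 hq5, Nat.mul_le_mul (Nat.mul_le_mul hq5 hq5) hq5]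
    have h9 := ineq_five (j := j) (by omega) h8
    rw [mul_comm ((j + 5) ^ 2 - 1)] at h9
    exact crit (by omega) (by omega) h9 hc
  · obtain rfl : q = 3 := by
      obtain ⟨m, hm⟩ := hodd
      omega
    have hl2 : 3 ≤ 2 ^ 2 := by norm_num
    refine NumML.congr e hlb' hrk (card_le_two_pow hF (by omega) hl2) ?_
    rcases Nat.eq_zero_or_pos j with rfl | hj
    · have h9 : 2 * 27 ≤ orderOf (2 : ZMod p) * 27 := Nat.mul_le_mul_right _ hc
      show (5 - 1) * (2 * (5 ^ 2 - 1) + 2 * 5 - 1) < 5 * (orderOf (2 : ZMod p) * 27)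
      omega
    · obtain ⟨i, rfl⟩ : ∃ i, j = i + 1 := ⟨j - 1, by omega⟩
      have h9 := ineq_three i
      rw [mul_comm ((i + 6) ^ 2 - 1)] at h9
      exact crit (by omega) (by omega) h9 hc

/-- `K ≅ PSU_n(q)`. -/
def IsU (n q : ℕ) (K : Type u) [Group K] : Prop :=
  ∃ (F : Type) (_ : Field F) (_ : Fintype F), Fintype.card F = q ^ 2 ∧ Nonempty (K ≃* PSU n F q)

/-- **The row `PSU_n(q)`, `q` odd.** -/
theorem psu (K : Type u) [Group K] (h : OddChar @IsPSUChar K) (h33 : ¬ IsU 3 3 K) (h43 : ¬ IsUFourThree K)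
    (h39 : ¬ IsU 3 9 K) : NumML.{u, v} K := by
  obtain ⟨p, hp, hp2, F, _, _, _, n, q, hF, hn, h32, ⟨e⟩⟩ := h
  have h2 : (2 : F) ≠ 0 := by
    intro h0
    have h1 : ((2 : ℕ) : F) = 0 := by exact_mod_cast h0
    rw [CharP.cast_eq_zero_iff F p] at h1
    exact hp2 ((Nat.prime_dvd_prime_iff_eq hp Nat.prime_two).1 h1)
  refine numML hF h2 hp hn ?_ ?_ ?_ e.symm
  · rintro ⟨rfl, rfl⟩
    exact h33 ⟨F, _, _, hF, ⟨e⟩⟩
  · rintro ⟨rfl, rfl⟩
    exact h43 ⟨F, _, _, by rw [hF]; norm_num, ⟨e⟩⟩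
  · rintro ⟨rfl, rfl⟩
    exact h39 ⟨F, _, _, hF, ⟨e⟩⟩

end Cfsg.Agent.Omega.ML.PsuNum
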