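import Cfsg.Agent.Omega.ML.PsuTorus
import Cfsg.Agent.Omega.ML.PsuNum

/-!
# (ML), the K-list end: `U₃(9)` and the full row `PSU_n(q)`, `q` odd (helper351)

`nine` : `NumML K` for `K ≅ PSU₃(9)` (the bound 72 by the torus); `psu` : the row without the exception `U₃(9)`.
-/

set_option autoImplicit false

universe u v

namespace Cfsg.Agent.Omega.ML.UThreeNine

open Cfsg Cfsg.Agent.Omega.TwoF Cfsg.Agent.Omega.KFacts Cfsg.Agent.Omega.ML.Num Cfsg.Agent.Omega.ML.PsuNum
open Cfsg.Agent.Omega.Lie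
open Cfsg.Agent.LieClassical.HermBasic

theorem two_ne {F : Type*} [Field F] [Fintype F] (hF : Fintype.card F = 9 ^ 2) : (2 : F) ≠ 0 := by
  intro h
  have h1 := Nat.cast_card_eq_zero F
  rw [hF] at h1
  have h2 : ((9 ^ 2 : ℕ) : F) = 2 * 40 + 1 := by norm_num
  rw [h2, h, zero_mul, zero_add] at h1
  exact one_ne_zero h1

/-- **`U₃(9)`.** -/
theorem nine {K : Type u} [Group K] (h : IsU 3 9 K) : NumML.{u, v} K := by
  obtain ⟨F, _, _, hF, ⟨e⟩⟩ := h
  have h2 := two_ne hF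
  have hlb := PsuTorus.lb.{u, _, v} (n := 3) hF h2 le_rfl (by norm_num) (fun _ => by norm_num)
  have hrk := rk_psu.{u} (n := 3) hF h2 le_rfl
  have hr : RkLin.rk 3 + 1 = 3 := by decide
  rw [hr] at hrk
  refine PsuNum.NumML.congr e.symm hlb hrk (card_le_two_pow (l := 4) hF (by norm_num) (by norm_num)) ?_
  norm_num

/-- **The row `PSU_n(q)`, `q` odd.** -/
theorem psu (K : Type u) [Group K] (h : OddChar @IsPSUChar K) (h33 : ¬ IsU 3 3 K) (h43 : ¬ IsUFourThree K) :
    NumML.{u, v} K := by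
  by_cases h39 : IsU 3 9 K
  · exact nine h39
  · exact PsuNum.psu K h h33 h43 h39

end Cfsg.Agent.Omega.ML.UThreeNine
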