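import Cfsg.Agent.Omega.ML.RowPsp
import Cfsg.Agent.Omega.ML.RowsList
import Cfsg.Agent.S0822

/-!
# (ML), the K-list end: the field `psp` of `RowsML` from `PSp_4(7)`, `PSp_4(9)`, `PSp_6(3)` (helper532)
-/

set_option autoImplicit false

namespace Cfsg.Agent.Omega.ML.RowPsp

open Cfsg Cfsg.Agent.Omega.ML.Rows Cfsg.Agent.Omega.ML.LocRow Cfsg.Agent.Omega.ML.Num

universe u v

/-- `PSp_4(7)`, `PSp_4(9)`. -/
def IsPSpFour (K : Type u) [Group K] : Prop :=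
  ∃ (F : Type) (_ : Field F) (_ : Fintype F), (Fintype.card F = 7 ∨ Fintype.card F = 9) ∧ Nonempty (K ≃* PSp 2 F)

/-- `PSp_6(3)`. -/
def IsPSpSixThree (K : Type u) [Group K] : Prop :=
  ∃ (F : Type) (_ : Field F) (_ : Fintype F), Fintype.card F = 3 ∧ Nonempty (K ≃* PSp 3 F)

theorem lie_of_three {F : Type} [Field F] [Fintype F] (hF : Fintype.card F = 3) {K : Type u} [Group K]
    (e : K ≃* PSp 2 F) : IsLieTypeChar 2 K := by
  have : Fact (Nat.Prime 2) := ⟨Nat.prime_two⟩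
  let _ : Fintype (GaloisField 2 2) := Fintype.ofFinite _
  have hc : Fintype.card (GaloisField 2 2) = 2 ^ 2 := by
    rw [← Nat.card_eq_fintype_card, GaloisField.card 2 2 (by norm_num)]
  obtain ⟨f⟩ := S0822.result (F := GaloisField 2 2) (K := F) (by rw [hc]; norm_num) hF
  exact Or.inr (Or.inr (Or.inl ⟨GaloisField 2 2, inferInstance, inferInstance, inferInstance, 4, 2, hc,
    by norm_num, by omega, ⟨e.trans f.symm⟩⟩))

/-- **The field `psp` of `RowsML`** from the two small rows. -/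
theorem psp_of (h4 : DeadZ.{u, v} @IsPSpFour) (h6 : DeadZ.{u, v} @IsPSpSixThree) :
    DeadZ.{u, v} fun S _ => KFacts.OddChar @IsPSpChar S ∧ ¬ IsLieTypeChar 2 S := by
  intro H _ _ M _ _ _ K T Q A z hI h
  rcases row.{u, v} _ h.1 with h1 | ⟨F, _, _, ⟨h1, ⟨e⟩⟩ | ⟨h1, ⟨e⟩⟩⟩
  · exact Dead.deadZ Num.dead H M K T Q A z hI h1
  · rcases h1 with h1 | h1
    · exact h.2 (lie_of_three h1 e)
    · exact h4 H M K T Q A z hI ⟨F, _, _, h1, ⟨e⟩⟩
  · exact h6 H M K T Q A z hI ⟨F, _, _, h1, ⟨e⟩⟩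

end Cfsg.Agent.Omega.ML.RowPsp
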