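import Cfsg.Agent.Omega.ML.RowsRk
import Cfsg.Agent.Omega.ML.ShE
import Cfsg.Agent.Omega.ML.RowsList
import Cfsg.Agent.KFacts.Co3.Sheet
import Cfsg.Agent.Lib.ComponentSolvable

/-!
# (ML), the K-list end: quasisimple centralisers, the row `Co3` (helper232)

* `o2_central` : `O₂(C)` is central if `C` is quasisimple;
* `card_le_of_quasi` : `S = X`, `z` 2-central, `Z(C_S(z)) = ⟨z⟩`, `C_S(z)` quasisimple: `|A| ≤ 2`;
* `deadG`, `deadZ` : the row `Co3` (`Out(Co3) = 1`, `C(z) = 2·Sp₆(2)`).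
-/

set_option autoImplicit false

namespace Cfsg.Agent.Omega.ML.RowCo3

open Subgroup Cfsg Cfsg.Agent.OddHalf.D8.Sheet Cfsg.Agent.Omega.ML.Rows
open Cfsg.Agent.ZN Cfsg.Agent.Omega.ML.LocRow
open Cfsg.Agent.MinSimple.VModule (o2_isPGroup o2_le le_o2 le_normalizer_o2)

universe u v

/-- `O₂` of a quasisimple subgroup is central. -/
theorem o2_central {X : Type*} [Group X] [Finite X] {C : Subgroup X} (hq : IsQuasisimple C) :
    ∀ x ∈ o2 C, ∀ y ∈ C, y * x = x * y := by
  have hp : Fact (Nat.Prime 2) := ⟨Nat.prime_two⟩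
  have h1 : (((o2 C).subgroupOf C)).Normal := by
    refine ⟨fun x hx g => ?_⟩
    exact (mem_normalizer_iff.1 (le_normalizer_o2 C g.2) x).1 hx
  have h2 : IsPGroup 2 ((o2 C).subgroupOf C) := (o2_isPGroup C).comap_subtype
  have h3 : Group.IsSolvable ((o2 C).subgroupOf C) :=
    have := h2.isNilpotent
    inferInstance
  intro x hx y hy
  have h4 : (⟨x, o2_le C hx⟩ : C) ∈ center C :=
    Cfsg.Agent.Lib.ComponentSolvable.quasisimple_solvable_normal_le_center hq h1 h3 hx
  exact congrArg Subtype.val (mem_center_iff.1 h4 ⟨y, hy⟩)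

/-- `S = X`, `z` 2-central, `C_S(z)` quasisimple with centre `⟨z⟩`. -/
theorem card_le_of_quasi {X : Type*} [Group X] [Finite X] {S T A : Subgroup X} (h : AS S T A) (hS : S = ⊤) {z : S}
    (hz1 : z ≠ 1)
    (hz : ∃ S₀ : Sylow 2 S, z ∈ S₀ ∧ (∀ x ∈ S₀, x * z = z * x) ∧ ∀ y ∈ S₀, (∀ x ∈ S₀, x * y = y * x) → y = 1 ∨ y = z)
    (hq : ∀ x ∈ o2 (centralizer ({z} : Set S)), x = 1 ∨ x = z) : Nat.card A ≤ 2 := by
  classical
  obtain ⟨g, hg⟩ := ShE.exists_conj h.norm h.two h.syl hz
  set w : S := g * z * g⁻¹ with hw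
  have hw' : ((g : X) * z * ((g⁻¹ : S) : X)) = (w : X) := rfl
  rw [hw'] at hg
  have hne : centralizer ({(w : X)} : Set X) ≠ ⊤ := by
    intro h1
    have h2 : (w : X) ∈ centralizer (S : Set X) := by
      rw [mem_centralizer_iff]
      intro y _
      exact mem_centralizer_singleton_iff.1 (h1 ▸ mem_top y)
    rw [h.cen, mem_bot] at h2
    have h3 : w = 1 := Subtype.ext h2
    apply hz1
    calc z = g⁻¹ * w * g := by rw [hw]; group
      _ = 1 := by rw [h3]; group
  have hle := h.low _ hg hne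
  -- every element of `A` is `1` or `w`
  have key : ∀ a ∈ A, a = 1 ∨ a = (w : X) := by
    intro a ha
    have haS : a ∈ S := hS ▸ mem_top a
    let N : Subgroup S := (o2 (centralizer ({(w : X)} : Set X))).comap (S.subtype.comp (MulAut.conj g).toMonoidHom)
    have hmem : ∀ x : S, x ∈ N ↔ ((g * x * g⁻¹ : S) : X) ∈ o2 (centralizer ({(w : X)} : Set X)) := fun x => Iff.rfl
    have hN : N ≤ o2 (centralizer ({z} : Set S)) := by
      refine le_o2 ?_ ?_ ?_
      · intro x hx
        rw [hmem] at hx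
        have h1 := mem_centralizer_singleton_iff.1 (o2_le _ hx)
        rw [mem_centralizer_singleton_iff]
        have h2 : (g * x * g⁻¹) * w = w * (g * x * g⁻¹) := Subtype.ext h1
        calc x * z = g⁻¹ * ((g * x * g⁻¹) * w) * g := by rw [hw]; group
          _ = g⁻¹ * (w * (g * x * g⁻¹)) * g := by rw [h2]
          _ = z * x := by rw [hw]; group
      · exact (o2_isPGroup _).comap_of_injective _ (S.subtype_injective.comp (MulAut.conj g).injective)
      · have hk : ∀ x ∈ centralizer ({z} : Set S), ∀ y ∈ N, x * y * x⁻¹ ∈ N := by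
          intro x hx y hy
          rw [hmem] at hy ⊢
          have h1 : ((g * x * g⁻¹ : S) : X) ∈ centralizer ({(w : X)} : Set X) := by
            rw [mem_centralizer_singleton_iff] at hx ⊢
            refine congrArg (Subtype.val (p := (· ∈ S))) (?_ : (g * x * g⁻¹) * w = w * (g * x * g⁻¹))
            calc (g * x * g⁻¹) * w = g * (x * z) * g⁻¹ := by rw [hw]; group
              _ = g * (z * x) * g⁻¹ := by rw [hx]
              _ = _ := by rw [hw]; group
          have h2 := (mem_normalizer_iff.1 (le_normalizer_o2 _ h1) _).1 hy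
          have h3 : ((g * (x * y * x⁻¹) * g⁻¹ : S) : X) = ((g * x * g⁻¹ : S) : X) * ((g * y * g⁻¹ : S) : X) *
              ((g * x * g⁻¹ : S) : X)⁻¹ := by
            rw [← Subgroup.coe_inv, ← Subgroup.coe_mul, ← Subgroup.coe_mul]
            congr 1
            group
          rwa [h3]
        intro x hx
        rw [mem_normalizer_iff]
        intro y
        refine ⟨fun hy => hk x hx y hy, fun hy => ?_⟩
        have h3 := hk x⁻¹ (inv_mem hx) _ hy
        have h4 : x⁻¹ * (x * y * x⁻¹) * x⁻¹⁻¹ = y := by group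
        rwa [h4] at h3
    have h1 : (g⁻¹ * ⟨a, haS⟩ * g) ∈ N := by
      rw [hmem]
      have h2 : ((g * (g⁻¹ * ⟨a, haS⟩ * g) * g⁻¹ : S) : X) = a := by
        have h3 : (g * (g⁻¹ * ⟨a, haS⟩ * g) * g⁻¹ : S) = ⟨a, haS⟩ := by group
        rw [h3]
      rw [h2]
      exact hle ha
    have h5 : (⟨a, haS⟩ : S) = g * (g⁻¹ * ⟨a, haS⟩ * g) * g⁻¹ := by group
    rcases hq _ (hN h1) with h2 | h2
    · left
      rw [h2, mul_one, mul_inv_cancel] at h5
      exact congrArg Subtype.val h5
    · right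
      rw [h2] at h5
      exact congrArg Subtype.val h5
  have h1 : (A : Set X) ⊆ ({1, (w : X)} : Finset X) := by
    intro a ha
    rcases key a ha with h1 | h1 <;> simp [h1]
  calc Nat.card A = (A : Set X).ncard := rfl
    _ ≤ ((({1, (w : X)} : Finset X) : Set X)).ncard := Set.ncard_le_ncard h1 (Finset.finite_toSet _)
    _ = (({1, (w : X)} : Finset X)).card := Set.ncard_coe_finset _
    _ ≤ 2 := Finset.card_le_two

theorem iso : IsoClosed.{u} (fun S _ => Spor.IsoCo3 S) := by
  rintro S S' _ _ e ⟨f⟩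
  exact ⟨e.symm.trans f⟩

/-- **The row `Co3`.** -/
theorem deadG : DeadG.{u} (fun S _ => Spor.IsoCo3 S) := by
  intro X _ _ S T A h hS
  obtain ⟨z, hz⟩ := Cfsg.Agent.KFacts.Co3.Sheet.exists_facts hS
  have htop : S = ⊤ := h.top_of_inner fun α _ => hz.inner α
  refine (card_le_of_quasi h htop hz.basic.z1 hz.basic.syl fun x hx => ?_).trans (by norm_num)
  exact hz.center x (o2_le _ hx) (o2_central hz.quasi x hx)

theorem dead : Dead.{u, v} (fun S _ => Spor.IsoCo3 S) := deadG.dead iso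

theorem deadZ : DeadZ.{u, v} @Spor.IsoCo3 := deadG.deadZ iso

end Cfsg.Agent.Omega.ML.RowCo3
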