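import Cfsg.Agent.Omega.ML.RowsRk
import Cfsg.Agent.Omega.ML.RowsList
import Cfsg.Agent.Omega.Lie.Cen.Fi23

/-!
# (ML), the K-list end: the row `Fi23` (helper702)

* `card_le_of_sub`, `deadG_of_sub` : **one overgroup of odd index**: the involutory automorphisms of `S` are inner and
  `S ≅ Y` has a proper subgroup `C` of odd index such that every normal 2-subgroup `D` of `C` has elementary abelian
  subgroups of order at most 4 only.
* `deadG`, `dead`, `deadZ` : `Fi23`, `C = C(d) = 2.Fi22`.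
-/

set_option autoImplicit false

namespace Cfsg.Agent.Omega.ML.RowFi23

open Subgroup Cfsg Cfsg.Agent.ZN Cfsg.Agent.Omega.ML.Rows
open Cfsg.Agent.MinSimple.VModule (o2_isPGroup o2_le le_o2 le_normalizer_o2)

universe u v w

/-- Sylow: an isomorphism may be chosen such that `T` is mapped into `C`. -/
theorem exists_equiv {X : Type*} [Group X] [Finite X] {Y : Type*} [Group Y] (e : X ≃* Y) {T : Subgroup X}
    (hT : IsPGroup 2 T) {C : Subgroup Y} (hC : ¬ 2 ∣ C.index) :
    ∃ f : X ≃* Y, T ≤ C.comap f.toMonoidHom := by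
  have : Fact (Nat.Prime 2) := ⟨Nat.prime_two⟩
  have h1 : ¬ 2 ∣ (C.comap e.toMonoidHom).index := by
    rwa [index_comap_of_surjective _ e.surjective]
  obtain ⟨S, hS⟩ := Cfsg.Agent.Omega.Lie.CenTwo.exists_sylow_le h1
  obtain ⟨P, hP⟩ := hT.exists_le_sylow
  obtain ⟨g, hg⟩ := MulAction.exists_smul_eq X P S
  refine ⟨(MulAut.conj g).trans e, fun t ht => ?_⟩
  have h2 : g * t * g⁻¹ ∈ (S : Subgroup X) := by
    rw [← hg]
    exact ⟨t, hP ht, rfl⟩
  exact hS h2

/-- **One overgroup of odd index.** -/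
theorem card_le_of_sub {X : Type u} [Group X] [Finite X] {S T A : Subgroup X} (h : AS S T A)
    (hi : ∀ α : MulAut S, α ^ 2 = 1 → ∃ v : S, α = MulAut.conj v) {Y : Type w} [Group Y] (e : S ≃* Y) {C : Subgroup Y}
    (hC : ¬ 2 ∣ C.index) (hC1 : C ≠ ⊤)
    (hD : ∀ D : Subgroup Y, D ≤ C → IsPGroup 2 D → (∀ c ∈ C, ∀ d ∈ D, c * d * c⁻¹ ∈ D) → ∀ B ≤ D,
      (∀ b ∈ B, b * b = 1) → Nat.card B ≤ 4) : Nat.card A ≤ 4 := by
  have h1 : S = ⊤ := h.top_of_inner hi
  have e1 : X ≃* Y := (Subgroup.topEquiv.symm.trans (MulEquiv.subgroupCongr h1.symm)).trans e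
  obtain ⟨f, hf⟩ := exists_equiv e1 h.two hC
  have h2 : C.comap f.toMonoidHom ≠ ⊤ := by
    intro h3
    apply hC1
    have h4 : (C.comap f.toMonoidHom).map f.toMonoidHom = C :=
      map_comap_eq_self_of_surjective (f := f.toMonoidHom) f.surjective C
    rw [← h4, h3]
    exact map_top_of_surjective f.toMonoidHom f.surjective
  have h3 := h.low _ hf h2
  rw [← card_map_of_injective (K := A) (f := f.toMonoidHom) f.injective]
  refine hD ((o2 (C.comap f.toMonoidHom)).map f.toMonoidHom) ?_ ((o2_isPGroup _).map _) ?_ _ (map_mono h3) ?_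
  · rw [map_le_iff_le_comap]
    exact o2_le _
  · rintro c hc _ ⟨d, hd, rfl⟩
    obtain ⟨x, rfl⟩ := f.surjective c
    have h4 := le_normalizer_o2 (C.comap f.toMonoidHom) (show x ∈ C.comap f.toMonoidHom from hc)
    exact ⟨x * d * x⁻¹, (mem_normalizer_iff.1 h4 d).1 hd, by simp⟩
  · rintro _ ⟨a, ha, rfl⟩
    rw [← map_mul, h.el a ha, map_one]

theorem deadG_of_sub {𝒮 : ∀ (S : Type u) [Group S], Prop}
    (hs : ∀ (S : Type u) [Group S], Finite S → 𝒮 S →
      (∀ α : MulAut S, α ^ 2 = 1 → ∃ v : S, α = MulAut.conj v) ∧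
      ∃ (Y : Type w) (_ : Group Y) (_ : S ≃* Y) (C : Subgroup Y), ¬ 2 ∣ C.index ∧ C ≠ ⊤ ∧
        ∀ D : Subgroup Y, D ≤ C → IsPGroup 2 D → (∀ c ∈ C, ∀ d ∈ D, c * d * c⁻¹ ∈ D) → ∀ B ≤ D,
          (∀ b ∈ B, b * b = 1) → Nat.card B ≤ 4) : DeadG.{u} 𝒮 := by
  intro X _ _ S T A h hS
  obtain ⟨hi, Y, _, e, C, hC, hC1, hD⟩ := hs S inferInstance hS
  exact card_le_of_sub h hi e hC hC1 hD

/-- A normal 2-subgroup of a quasisimple group lies in the centre. -/
theorem le_center_of_quasi {G : Type*} [Group G] [Finite G] (h : IsQuasisimple G) {D : Subgroup G} [hn : D.Normal]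
    (h2 : IsPGroup 2 D) : D ≤ center G := by
  have : Fact (Nat.Prime 2) := ⟨Nat.prime_two⟩
  have hs : IsSimpleGroup (G ⧸ center G) := h.2
  have h3 : (D.map (QuotientGroup.mk' (center G))).Normal := hn.map _ (QuotientGroup.mk'_surjective _)
  rcases h3.eq_bot_or_eq_top with h4 | h4
  · rwa [Subgroup.map_eq_bot_iff, QuotientGroup.ker_mk'] at h4
  · exfalso
    have h5 : IsPGroup 2 (⊤ : Subgroup (G ⧸ center G)) := h4 ▸ h2.map _
    have h6 : IsPGroup 2 (G ⧸ center G) := h5.of_equiv Subgroup.topEquiv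
    have h7 : Nontrivial (center (G ⧸ center G)) := h6.center_nontrivial
    have h8 : center (G ⧸ center G) = ⊤ :=
      (hs.eq_bot_or_eq_top_of_normal _ inferInstance).resolve_left ((nontrivial_iff_ne_bot _).1 h7)
    have h9 : _root_.commutator G ≤ center G := by
      rw [_root_.commutator_def, commutator_le]
      intro a _ b _
      rw [← QuotientGroup.eq_one_iff, ← QuotientGroup.mk'_apply (center G), map_commutatorElement,
        commutatorElement_eq_one_iff_mul_comm]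
      have h10 : (QuotientGroup.mk' (center G)) b ∈ center (G ⧸ center G) := h8 ▸ mem_top _
      exact mem_center_iff.1 h10 _
    rw [h.1.commutator_eq_top] at h9
    obtain ⟨x, hx⟩ := exists_ne (1 : G ⧸ center G)
    obtain ⟨g, rfl⟩ := QuotientGroup.mk_surjective x
    exact hx ((QuotientGroup.eq_one_iff g).2 (h9 (mem_top g)))

/-- The subgroup form of `hD` for a quasisimple subgroup with a centre of order at most 4. -/
theorem card_le_of_quasi {Y : Type*} [Group Y] [Finite Y] {C : Subgroup Y} (h : IsQuasisimple C)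
    (hz : Nat.card (center C) ≤ 4) (D : Subgroup Y) (hDC : D ≤ C) (hD2 : IsPGroup 2 D)
    (hDn : ∀ c ∈ C, ∀ d ∈ D, c * d * c⁻¹ ∈ D) (B : Subgroup Y) (hB : B ≤ D) : Nat.card B ≤ 4 := by
  have h1 : (D.subgroupOf C).Normal := ⟨fun d hd c => hDn c c.2 d hd⟩
  have h2 : IsPGroup 2 (D.subgroupOf C) := hD2.comap_subtype
  have h3 := le_center_of_quasi h h2
  have h4 : Nat.card (D.subgroupOf C) = Nat.card D := Nat.card_congr (subgroupOfEquivOfLe hDC).toEquiv
  calc Nat.card B ≤ Nat.card D := card_le_of_le hB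
    _ = Nat.card (D.subgroupOf C) := h4.symm
    _ ≤ Nat.card (center C) := card_le_of_le h3
    _ ≤ 4 := hz

theorem iso : IsoClosed.{u} (fun S _ => Spor.IsoFi23 S) := by
  rintro S S' _ _ e ⟨f⟩
  exact ⟨e.symm.trans f⟩

open Cfsg.Agent.Fischer Cfsg.Agent.Fischer.Fi23Hom Cfsg.Agent.Fischer.Fi23Class Cfsg.Agent.Fischer.Fi23Z
open Cfsg.Agent.KFacts.FiTTh

/-- **The group-theoretic row `Fi23`.** -/
theorem deadG : DeadG.{u} (fun S _ => Spor.IsoFi23 S) := by
  refine deadG_of_sub.{u, 0} ?_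
  rintro S _ _ ⟨e⟩
  have hf : Finite Spor.Fi23 := Cfsg.Agent.Omega.Lie.Cen.finite_fi23
  refine ⟨fun α _ => ?_, Spor.Fi23, inferInstance, e, K,
    Cfsg.Agent.Omega.Lie.Cen.index_K, ?_, fun D h1 h2 h3 B h4 _ => ?_⟩
  · obtain ⟨g, hg⟩ := Has.inn ((e.symm.trans α).trans e)
    refine ⟨e.symm g, ?_⟩
    ext s
    have h1 := congrArg (fun β : MulAut Spor.Fi23 => e.symm (β (e s))) hg
    simpa using h1
  · intro h1
    have h2 := Cfsg.Agent.SporRec.Fi23Index.index_H
    rw [show Cfsg.Agent.SporRec.Fi23Index.H = ⊤ from h1, index_top] at h2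
    norm_num at h2
  · exact card_le_of_quasi Quasi.qs_K (by rw [Quasi.cover.1]; norm_num) D h1 h2 h3 B h4

/-- **The row `Fi23`.** -/
theorem dead : Dead.{u, v} (fun S _ => Spor.IsoFi23 S) := deadG.dead iso

/-- **field `fi23` of `RowsML`** -/
theorem deadZ : Cfsg.Agent.Omega.ML.LocRow.DeadZ.{u, v} @Spor.IsoFi23 := DeadG.deadZ iso deadG

end Cfsg.Agent.Omega.ML.RowFi23
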