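import Cfsg.Agent.Omega.ML.ShE
import Cfsg.Agent.Omega.ML.InvRow
import Cfsg.Agent.Omega.TwoF.ExtraRank
import Cfsg.Agent.KFacts.HS.Sheet2

/-!
# (ML), the K-list end: the row `HS` (helper926)

`X` with socle `S = HS`: `A ≤ O₂(C_X(z))^g`, `O₂(C_X(z))` acts on `S` as a subgroup of the extraspecial group
`O₂(C_{Aut(HS)}(z)) = 2^{1+6}`, so `|A| ≤ 16`; the elements of `A ∩ S` are conjugate to `z`, which inverts an element
of order 5 of a Frobenius group of order 55, so `dim [M, x] ≥ 4` (helper763, helper226).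
-/

set_option autoImplicit false

namespace Cfsg.Agent.Omega.ML.RowHS

open Subgroup Cfsg Cfsg.Agent.ZN Cfsg.Agent.Omega.ML.Rows Cfsg.Agent.Omega.ML.ShE Cfsg.Agent.Omega.ML.InvChain
open Cfsg.Agent.HN Cfsg.Agent.HN.Pres Cfsg.Agent.HN.HS100 Cfsg.Agent.HN.H0Basic
open Cfsg.Agent.HN.XMat Cfsg.Agent.HN.WMask Cfsg.Agent.KFacts.HS.Cent
open Cfsg.Agent.KFacts.HS (exists_mod index_inn)
open Cfsg.Agent.HN.P1408 (hw hw_append hw_nil eqw okw)
open Cfsg.Agent.MinSimple.VModule (o2_isPGroup o2_le le_o2 le_normalizer_o2)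

universe u v

/-! ### The words -/

/-- an element of order 5 inverted by `b` -/
def ww : List ℕ := [3, 3, 0, 4, 3, 4, 3, 0, 4, 3, 3, 4, 2, 1, 3, 0, 0]
/-- an element of order 11 normalised by it -/
def uw : List ℕ := [2, 2, 0, 2, 2, 0, 3, 3, 0, 4, 3, 3, 4, 1, 3, 1, 2]

theorem ww_mem : hw ww ∈ K := mem_K_of_par (by decide) (by decide)
theorem uw_mem : hw uw ∈ K := mem_K_of_par (by decide) (by decide)

theorem w_one : hw ww ^ 5 = 1 := by
  have h : hw (ww ++ ww ++ ww ++ ww ++ ww) = 1 := by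
    rw [← hw_nil]; exact hw_eq (by decide +kernel)
  rw [hw_append, hw_append, hw_append, hw_append] at h
  rw [← h, pow_succ, pow_succ, pow_succ, pow_succ, pow_one]

theorem u_one : hw uw ^ 11 = 1 := by
  have h : hw (uw ++ uw ++ uw ++ uw ++ uw ++ uw ++ uw ++ uw ++ uw ++ uw ++ uw) = 1 := by
    rw [← hw_nil]; exact hw_eq (by decide +kernel)
  rw [hw_append, hw_append, hw_append, hw_append, hw_append, hw_append, hw_append, hw_append, hw_append, hw_append] at h
  rw [← h, pow_succ, pow_succ, pow_succ, pow_succ, pow_succ, pow_succ, pow_succ, pow_succ, pow_succ, pow_succ, pow_one]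

theorem wu : hw ww * hw uw = hw uw * hw uw * hw uw * hw ww := by
  rw [← hw_append, ← hw_append, ← hw_append, ← hw_append]
  exact hw_eq (by decide +kernel)

theorem bw : b * hw ww * b * hw ww = 1 := by
  rw [b, ← hw_append, ← hw_append, ← hw_append, ← hw_nil]
  exact hw_eq (by decide +kernel)

theorem w_ne : eqw ww [] = false ∧ eqw ww [0, 0] = false := by decide +kernel
theorem u_ne : eqw uw [] = false ∧ eqw uw [0, 0] = false := by decide +kernel

variable {L : Type*} [Group L] (D : KFacts.HS.Mod L)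

theorem π_ne_one {a : List ℕ} (ha : hw a ∈ K) (hok : okw a = true)
    (h : eqw a [] = false ∧ eqw a [0, 0] = false) : D.π ⟨hw a, ha⟩ ≠ 1 := by
  rw [Ne, KFacts.HS.Mod.π_eq_one]
  rintro (h1 | h1)
  · rw [← hw_nil] at h1
    exact Bool.noConfusion ((eqw_of_hw_eq hok (by decide) h1).symm.trans h.1)
  · rw [← hw_τ] at h1
    exact Bool.noConfusion ((eqw_of_hw_eq hok (by decide) h1).symm.trans h.2)

/-- the class of `z` -/
theorem invAt_z : InvAt D.z 4 := by
  set w : L := D.π ⟨hw ww, ww_mem⟩ with hwdef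
  set u : L := D.π ⟨hw uw, uw_mem⟩ with hudef
  have hw5 : w ^ 5 = 1 := by
    rw [hwdef, ← map_pow, KFacts.HS.Mod.π_eq_one]
    exact Or.inl w_one
  have hu11 : u ^ 11 = 1 := by
    rw [hudef, ← map_pow, KFacts.HS.Mod.π_eq_one]
    exact Or.inl u_one
  have how : orderOf w = 5 := by
    have : Fact (Nat.Prime 5) := ⟨by norm_num⟩
    exact orderOf_eq_prime hw5 (π_ne_one D ww_mem (by decide) w_ne)
  have hou : orderOf u = 11 := by
    have : Fact (Nat.Prime 11) := ⟨by norm_num⟩
    exact orderOf_eq_prime hu11 (π_ne_one D uw_mem (by decide) u_ne)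
  have hwu : w * u * w⁻¹ = u ^ 3 := by
    rw [mul_inv_eq_iff_eq_mul]
    have h1 : w * u = u * u * u * w := by
      rw [hwdef, hudef, ← map_mul, ← map_mul, ← map_mul, ← map_mul]
      exact congrArg D.π (Subtype.ext wu)
    rw [h1, pow_succ, pow_succ, pow_one]
  have hzw : D.z * w * D.z⁻¹ = w⁻¹ := by
    have h1 : D.z * w * D.z * w = 1 := by
      rw [hwdef]
      unfold KFacts.HS.Mod.z
      rw [← map_mul, ← map_mul, ← map_mul]
      exact (congrArg D.π (Subtype.ext bw)).trans (map_one D.π)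
    have h2 : D.z⁻¹ = D.z := inv_eq_of_mul_eq_one_left D.zz
    rw [h2, eq_inv_iff_mul_eq_one]
    exact h1
  refine ⟨w, 8, Chain.step u w 10 8 3 (Chain.base u 10 ?_ ?_ ?_) ?_ ?_ hwu ?_ ?_, hzw, by norm_num⟩
  · rw [hou]; norm_num
  · rw [hou]; norm_num
  · rw [hou]
    intro j hj1 hj2
    interval_cases j <;> norm_num
  · rw [how]; norm_num
  · rw [how]; norm_num
  · intro h1
    have h2 : u = u ^ 3 := by rw [← hwu, h1, mul_inv_cancel_right]
    have h3 : u ^ 2 = 1 := by
      have h4 : u * u ^ 2 = u * 1 := by rw [mul_one, ← pow_succ']; exact h2.symm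
      exact mul_left_cancel h4
    have h4 := orderOf_dvd_of_pow_eq_one h3
    rw [hou] at h4
    norm_num at h4
  · rw [how]; norm_num

/-- the involutions of `R` are conjugate to `z` -/
theorem conj_of_R {r : L} (hr : r ∈ D.R) (h2 : r * r = 1) (h1 : r ≠ 1) : ∃ c : L, r = c * D.z * c⁻¹ := by
  rcases D.inv2 r h2 h1 with h | ⟨c, hc⟩
  · exact h
  exfalso
  obtain ⟨⟨k, hk⟩, hkc⟩ := D.surj c
  obtain ⟨h, hhK, hhR, hh⟩ := (D.mem_im).1 hr
  obtain ⟨m, hm, e, hme⟩ := Rt_le_Wt hhR
  -- `h² ∈ {1, b}`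
  have h3 : ∃ e' : Bool, h * h = sg e' := by
    obtain ⟨e1, he1⟩ := R_sq m
    refine ⟨e1, ?_⟩
    rw [hme]
    calc R m * sg e * (R m * sg e) = R m * (sg e * R m) * sg e := by group
      _ = (R m * R m) * (sg e * sg e) := by rw [R_sg]; group
      _ = sg e1 := by rw [he1, sg_mul, Bool.xor_self]; exact mul_one _
  obtain ⟨e', he'⟩ := h3
  -- `h² = τ`
  rw [D.wu_eq, ← hkc, D.π_conj, ← hh, D.π_eq] at hc
  have h4 : (k * (w0 * KFacts.HS.Cent.U) * k⁻¹) * (k * (w0 * KFacts.HS.Cent.U) * k⁻¹) = τ := by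
    calc (k * (w0 * KFacts.HS.Cent.U) * k⁻¹) * (k * (w0 * KFacts.HS.Cent.U) * k⁻¹) = k * (w0 * KFacts.HS.Cent.U * (w0 * KFacts.HS.Cent.U)) * k⁻¹ := by group
      _ = k * τ * k⁻¹ := by rw [KFacts.HS.Mod.w0U_sq]
      _ = τ := by rw [τ_comm, mul_inv_cancel_right]
  have h5 : h * h = τ := by
    rcases hc with hc | hc
    · rw [hc, h4]
    · rw [hc]
      calc k * (w0 * KFacts.HS.Cent.U) * k⁻¹ * τ * (k * (w0 * KFacts.HS.Cent.U) * k⁻¹ * τ)
          = k * (w0 * KFacts.HS.Cent.U) * k⁻¹ * (τ * (k * (w0 * KFacts.HS.Cent.U) * k⁻¹)) * τ := by group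
        _ = (k * (w0 * KFacts.HS.Cent.U) * k⁻¹) * (k * (w0 * KFacts.HS.Cent.U) * k⁻¹) * (τ * τ) := by rw [← τ_comm]; group
        _ = τ := by rw [h4, τ_mul_τ, mul_one]
  exact sg_ne_τ e' (he'.symm.trans h5)

/-! ### The rank of `2^{1+6}` -/

theorem card_Wt_le : Nat.card Wt ≤ 256 := by
  have h := Nat.card_le_card_of_surjective
    (fun p : Fin 128 × Bool => (⟨R p.1 * sg p.2, p.1, p.1.2, p.2, rfl⟩ : Wt)) (by
      rintro ⟨_, m, hm, e, rfl⟩
      exact ⟨(⟨m, hm⟩, e), rfl⟩)
  have h2 : Nat.card (Fin 128 × Bool) = 256 := by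
    rw [Nat.card_eq_fintype_card, Fintype.card_prod, Fintype.card_fin, Fintype.card_bool]
  rwa [h2] at h

theorem τ_mem_Wt : τ ∈ Wt := Rt_le_Wt τ_mem_Rt

theorem card_map_le : Nat.card (Wt.map D.au) ≤ 128 := by
  have hfW : Finite Wt := by
    have := finite_H0
    infer_instance
  let f : Wt →* MulAut L := D.au.comp Wt.subtype
  have h1 : f.range = Wt.map D.au := by rw [MonoidHom.range_comp, range_subtype]
  have h2 : Nat.card f.ker * Nat.card f.range = Nat.card Wt := by
    rw [mul_comm, ← Nat.card_congr (QuotientGroup.quotientKerEquivRange f).toEquiv]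
    exact (card_eq_card_quotient_mul_card_subgroup f.ker).symm
  have h3 : 2 ≤ Nat.card f.ker := by
    have h4 : (⟨τ, τ_mem_Wt⟩ : Wt) ∈ f.ker := by
      rw [MonoidHom.mem_ker]
      exact (D.au_ker τ).2 (Or.inr rfl)
    have h5 : Nontrivial f.ker := ⟨⟨1, ⟨_, h4⟩, fun h => τ_ne_one (congrArg (fun x : f.ker => ((x : Wt) : H0)) h).symm⟩⟩
    have h6 := Finite.one_lt_card_iff_nontrivial.2 h5
    omega
  have h4 := card_Wt_le
  rw [← h1]
  nlinarith

theorem Wt_comm {g h : H0} (hg : g ∈ Wt) (hh : h ∈ Wt) : g * h = h * g ∨ g * h = b * (h * g) := by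
  obtain ⟨m, hm, e, rfl⟩ := hg
  obtain ⟨m', hm', e', rfl⟩ := hh
  obtain ⟨e1, h1⟩ := R_mul m m'
  obtain ⟨e2, h2⟩ := R_mul m' m
  rw [Nat.xor_comm] at h2
  have k1 : R m * sg e * (R m' * sg e') = R (m ^^^ m') * sg ((e1 ^^ e) ^^ e') := by
    calc R m * sg e * (R m' * sg e') = R m * (sg e * R m') * sg e' := by group
      _ = (R m * R m') * sg e * sg e' := by rw [R_sg]; group
      _ = R (m ^^^ m') * (sg e1 * sg e * sg e') := by rw [h1]; group
      _ = _ := by rw [sg_mul, sg_mul]
  have k2 : R m' * sg e' * (R m * sg e) = R (m ^^^ m') * sg ((e2 ^^ e') ^^ e) := by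
    calc R m' * sg e' * (R m * sg e) = R m' * (sg e' * R m) * sg e := by group
      _ = (R m' * R m) * sg e' * sg e := by rw [R_sg]; group
      _ = R (m ^^^ m') * (sg e2 * sg e' * sg e) := by rw [h2]; group
      _ = _ := by rw [sg_mul, sg_mul]
  rw [k1, k2]
  have hb : b = sg true := rfl
  rw [hb, ← mul_assoc, R_sg, mul_assoc, sg_mul]
  cases e1 <;> cases e2 <;> cases e <;> cases e' <;> first | (left; rfl) | (right; rfl)

/-- commutative subgroups of `O₂(C(z))` have order at most 16 -/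
theorem card_le_sixteen (B : Subgroup (MulAut L)) (hB : B ≤ Wt.map D.au) (hBB : ∀ a ∈ B, ∀ c ∈ B, a * c = c * a) :
    Nat.card B ≤ 16 := by
  have hfin := D.finite
  have hfin' : Finite (MulAut L) := Finite.of_injective (fun φ => (φ : L → L)) DFunLike.coe_injective
  have hbb : b * b = 1 := b_sq
  have h1 : Nat.card B * Nat.card B ≤ 2 * Nat.card (Wt.map D.au) := by
    refine TwoF.ExtraRank.card_mul_self_le (z := D.au b) ?_ ?_ ?_ ?_ ?_ hB hBB
    · rintro _ ⟨g, hg, rfl⟩ _ ⟨h, hh, rfl⟩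
      rw [← map_mul, ← map_mul, ← map_mul]
      rcases Wt_comm hg hh with h2 | h2
      · exact Or.inl (congrArg D.au h2)
      · exact Or.inr (congrArg D.au h2)
    · rintro _ ⟨g, hg, rfl⟩
      rw [← map_mul, ← map_mul, Wt_b hg]
    · rw [← map_mul, hbb, map_one]
    · rw [Ne, D.au_ker]
      rintro (h2 | h2)
      · exact D.z1 (by
          unfold KFacts.HS.Mod.z
          rw [KFacts.HS.Mod.π_eq_one]
          exact Or.inl h2)
      · exact sg_ne_τ true h2
    · rintro _ ⟨g, hg, rfl⟩ hc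
      -- `g` commutes with `Wt`
      have h2 : ∀ h ∈ Wt, g * h = h * g := by
        intro h hh
        rcases Wt_comm hg hh with h3 | h3
        · exact h3
        · exfalso
          have h4 := hc _ ⟨h, hh, rfl⟩
          rw [← map_mul, ← map_mul, D.au_eq_iff, h3] at h4
          rcases h4 with h4 | h4
          · exact D.z1 (by
              unfold KFacts.HS.Mod.z
              rw [KFacts.HS.Mod.π_eq_one]
              exact Or.inl (mul_eq_right.1 h4))
          · rw [τ_comm] at h4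
            exact sg_ne_τ true (mul_right_cancel h4)
      have hb := Wt_b hg
      obtain ⟨e, h3⟩ := fixR hb (fun r hr => Or.inl (by rw [h2 r (Rt_le_Wt hr), mul_inv_cancel_right]))
      -- `U` is excluded by an outer element
      have h4 : R 4 ∈ Wt := ⟨4, by norm_num, false, (mul_one _).symm⟩
      have h4K : R 4 ∉ K := by
        rw [R_mem_K_iff (by norm_num)]
        decide +kernel
      have h5 : ∀ g' : H0, (g' = KFacts.HS.Cent.U * sg e ∨ g' = KFacts.HS.Cent.U * τ * sg e) → g' * R 4 = R 4 * g' → False := by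
        intro g' hg' h6
        have h7 := Wt_inv h4 h4K
        have h8 : KFacts.HS.Cent.U * R 4 = R 4 * KFacts.HS.Cent.U := by
          rcases hg' with rfl | rfl
          · have h9 : KFacts.HS.Cent.U * R 4 * sg e = R 4 * KFacts.HS.Cent.U * sg e := by
              rw [mul_assoc, ← R_sg, ← mul_assoc, h6, mul_assoc]
            exact mul_right_cancel h9
          · have h9 : KFacts.HS.Cent.U * R 4 * (τ * sg e) = R 4 * KFacts.HS.Cent.U * (τ * sg e) := by
              calc KFacts.HS.Cent.U * R 4 * (τ * sg e) = KFacts.HS.Cent.U * (R 4 * τ) * sg e := by group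
                _ = KFacts.HS.Cent.U * τ * (R 4 * sg e) := by rw [τ_comm]; group
                _ = KFacts.HS.Cent.U * τ * sg e * R 4 := by rw [← R_sg]; group
                _ = R 4 * (KFacts.HS.Cent.U * τ * sg e) := h6
                _ = _ := by group
            exact mul_right_cancel h9
        rw [h8, ← mul_assoc] at h7
        exact D.z1 (by
          unfold KFacts.HS.Mod.z
          rw [KFacts.HS.Mod.π_eq_one]
          exact Or.inl (mul_eq_left.1 h7.symm))
      rcases h3 with h3 | h3 | h3 | h3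
      · cases e
        · left; rw [h3]; exact map_one D.au
        · right; rw [h3]; rfl
      · have h6 : D.au g = D.au (sg e) := by
          rw [D.au_eq_iff]; right; rw [h3, τ_comm]
        cases e
        · left; rw [h6]; exact map_one D.au
        · right; rw [h6]; rfl
      · exact absurd (h2 _ h4) (fun h6 => h5 g (Or.inl h3) h6)
      · exact absurd (h2 _ h4) (fun h6 => h5 g (Or.inr h3) h6)
  have h2 := card_map_le D
  by_contra hcon
  push Not at hcon
  nlinarith

/-! ### The group-theoretic part -/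

section

variable {X : Type u} [Group X] {S T A : Subgroup X}

theorem key [Finite X] (h : AS S T A) (D : KFacts.HS.Mod S) :
    Nat.card A ≤ 2 ^ 4 ∧ ∀ x : S, (x : X) ∈ A → x ≠ 1 → InvAt x 4 := by
  have hS := h.norm
  obtain ⟨g, hg⟩ := le_o2_conj h D.z1 D.syl
  set Dz := o2 (centralizer ({(D.z : X)} : Set X)) with hDz
  have hD2 : IsPGroup 2 Dz := o2_isPGroup _
  have hDzz : ∀ d ∈ Dz, d * (D.z : X) = D.z * d := fun d hd => mem_centralizer_singleton_iff.1 (o2_le _ hd)
  -- `P` normalises `Dz`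
  have hPn : ∀ x ∈ D.P, ∀ d ∈ Dz, (x : X) * d * (x : X)⁻¹ ∈ Dz := by
    intro x hx d hd
    have h1 : (x : X) ∈ centralizer ({(D.z : X)} : Set X) :=
      mem_centralizer_singleton_iff.2 (congrArg Subtype.val (D.Pcomm hx))
    exact (mem_normalizer_iff.1 (le_normalizer_o2 _ h1) d).1 hd
  have hB : Dz.comap S.subtype ≤ D.R := by
    apply D.core
    · intro x hx
      rw [mem_centralizer_singleton_iff]
      exact Subtype.ext (hDzz _ hx)
    · exact hD2.comap_of_injective S.subtype S.subtype_injective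
    · intro x hx c hc
      exact hPn x hx _ hc
  have hact : ∀ d ∈ Dz, (MulAut.conjNormal d : MulAut S) ∈ Wt.map D.au := by
    intro d hd
    obtain ⟨h0, hh0⟩ := D.au_surj (MulAut.conjNormal d : MulAut S)
    have hαx : ∀ x : S, (((MulAut.conjNormal d : MulAut S) x : S) : X) = d * x * d⁻¹ := fun x => MulAut.conjNormal_apply d x
    have hz : D.au h0 D.z = D.z := by
      rw [hh0]
      exact Subtype.ext (by rw [hαx, hDzz d hd, mul_inv_cancel_right])
    refine ⟨h0, D.mem_Wt_of (D.au_z hz) (fun x hx => ?_), hh0⟩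
    apply hB
    rw [hh0]
    show ((x⁻¹ * (MulAut.conjNormal d : MulAut S) x : S) : X) ∈ Dz
    rw [Subgroup.coe_mul, Subgroup.coe_inv, hαx]
    have h1 : (x : X)⁻¹ * (d * x * d⁻¹) = ((x : X)⁻¹ * d * x) * d⁻¹ := by group
    rw [h1]
    refine Dz.mul_mem ?_ (Dz.inv_mem hd)
    have h2 := hPn x⁻¹ (D.P.inv_mem hx) d hd
    rwa [Subgroup.coe_inv, inv_inv] at h2
  have hcomm : ∀ a ∈ A, ∀ c ∈ A, a * c = c * a := by
    intro a ha c hc
    have h1 := h.el _ (A.mul_mem ha hc)
    have h2 : a = a⁻¹ := eq_inv_of_mul_eq_one_left (h.el a ha)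
    have h3 : c = c⁻¹ := eq_inv_of_mul_eq_one_left (h.el c hc)
    have h4 : a * c = (a * c)⁻¹ := eq_inv_of_mul_eq_one_left h1
    rw [mul_inv_rev, ← h2, ← h3] at h4
    exact h4
  constructor
  · let f : A →* MulAut S := (MulAut.conjNormal : X →* MulAut S).comp ((MulAut.conj (g : X)⁻¹).toMonoidHom.comp A.subtype)
    have hfx : ∀ a : A, f a = (MulAut.conjNormal ((g : X)⁻¹ * a * g) : MulAut S) := by
      intro a
      show (MulAut.conjNormal ((g : X)⁻¹ * (a : X) * ((g : X)⁻¹)⁻¹) : MulAut S) = _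
      rw [inv_inv]
    have hinj : Function.Injective f := by
      rw [injective_iff_map_eq_one]
      intro a ha
      rw [hfx] at ha
      have h1 : (g : X)⁻¹ * a * g ∈ centralizer (S : Set X) := by
        rw [mem_centralizer_iff]
        intro y hy
        have h2 := congrArg (fun β : MulAut S => ((β ⟨y, hy⟩ : S) : X)) ha
        simp only [MulAut.conjNormal_apply, MulAut.one_apply] at h2
        have h3 : ((g : X)⁻¹ * a * g) * y * ((g : X)⁻¹ * a * g)⁻¹ = y := h2
        rw [mul_inv_eq_iff_eq_mul] at h3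
        exact h3.symm
      rw [h.cen, mem_bot] at h1
      apply Subtype.ext
      have h2 : (a : X) = g * ((g : X)⁻¹ * a * g) * (g : X)⁻¹ := by group
      rw [h2, h1]
      show (g : X) * 1 * (g : X)⁻¹ = 1
      group
    have h1 : Nat.card A = Nat.card f.range := Nat.card_congr (MonoidHom.ofInjective hinj).toEquiv
    rw [h1]
    refine card_le_sixteen D f.range ?_ ?_
    · rintro _ ⟨a, rfl⟩
      rw [hfx]
      exact hact _ (hg a a.2)
    · rintro _ ⟨a, rfl⟩ _ ⟨c, rfl⟩
      rw [← map_mul, ← map_mul]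
      exact congrArg f (Subtype.ext (hcomm a a.2 c c.2))
  · intro x hxA hx1
    have h1 : g⁻¹ * x * g ∈ D.R := hB (hg x hxA)
    obtain ⟨c, hc⟩ := conj_of_R D h1 (by
      have h2 : x * x = 1 := Subtype.ext (h.el _ hxA)
      calc g⁻¹ * x * g * (g⁻¹ * x * g) = g⁻¹ * (x * x) * g := by group
        _ = 1 := by rw [h2]; group) (by
      intro h2
      apply hx1
      have h3 : x = g * (g⁻¹ * x * g) * g⁻¹ := by group
      rw [h3, h2]; group)
    have h2 : x = (g * c) * D.z * (g * c)⁻¹ := by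
      have h3 : x = g * (g⁻¹ * x * g) * g⁻¹ := by group
      rw [h3, hc]; group
    rw [h2]
    exact (invAt_z D).conj _

end

theorem equivZ_mk {H : Type u} [Group H] {M : Type v} [Group M] [MulDistribMulAction H M] {K' T A : Subgroup H}
    (h : In H M K' T A) (hZ : (centralizer (K' : Set H)).Normal) (x : K') :
    ((equivZ (K := K') hZ (x : K' ⧸ center K') :
      (K'.map (QuotientGroup.mk' (centralizer (K' : Set H))) : Subgroup _)) : H ⧸ centralizer (K' : Set H)) =
      QuotientGroup.mk' (centralizer (K' : Set H)) (x : H) := rfl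

/-- **The row `HS`.** -/
theorem dead_HS : Dead.{u, v} (fun S _ => Spor.IsoHS S) := by
  intro H _ _ M _ _ _ K' T A h hS
  have hN := h.norm
  have hZ := h.normalZ
  obtain ⟨D⟩ := exists_mod hS
  let e := equivZ (K := K') hZ
  obtain ⟨h1, h2⟩ := key (h.as hZ) (D.map e)
  rw [h.card_map hZ] at h1
  obtain ⟨x, hxA, hxK, hx1⟩ := InvRow.exists_mem h (by rw [index_inn hS]; norm_num)
  refine InvRow.false_of_inv h h1 (x := ⟨x, hxK⟩) hxA ?_
  have hex : ((e ((⟨x, hxK⟩ : K') : K' ⧸ center K') : (K'.map (QuotientGroup.mk' (centralizer (K' : Set H))) : Subgroup _)) :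
      H ⧸ centralizer (K' : Set H)) = QuotientGroup.mk' (centralizer (K' : Set H)) x := equivZ_mk h hZ ⟨x, hxK⟩
  have h3 : InvAt (e ((⟨x, hxK⟩ : K') : K' ⧸ center K')) 4 := by
    apply h2
    · rw [hex]
      exact mem_map_of_mem _ hxA
    · intro h4
      apply hx1
      have h5 : ((⟨x, hxK⟩ : K') : K' ⧸ center K') = 1 := e.injective (h4.trans (map_one e).symm)
      have h6 : (⟨x, hxK⟩ : K') ∈ center K' := (QuotientGroup.eq_one_iff _).1 h5
      refine InvRow.eq_one h (mem_centralizer_iff.2 fun y hy => ?_) (h.el x hxA)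
      exact congrArg Subtype.val (mem_center_iff.1 h6 ⟨y, hy⟩)
  have h4 := h3.map e.symm.toMonoidHom e.symm.injective
  have h5 : e.symm.toMonoidHom (e ((⟨x, hxK⟩ : K') : K' ⧸ center K')) = ((⟨x, hxK⟩ : K') : K' ⧸ center K') :=
    e.symm_apply_apply _
  rwa [h5] at h4

end Cfsg.Agent.Omega.ML.RowHS
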