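import Cfsg.Agent.Omega.ML.ExRow

/-!
# (ML), the K-list end: `TrivC` from the lower bound `LB` (helper987)

* `trivC_of_lb` : `P ≤ C` perfect, `R` a normal 2-subgroup of `P`, `ρ : P → L` onto with kernel central modulo `R` and
  containing `R` with odd index: `LB L (n + 1)` implies `TrivC C P n`.
-/

set_option autoImplicit false

namespace Cfsg.Agent.Omega.ML.ExTriv

open Subgroup Cfsg
open Cfsg.Agent.ZN (o2)
open Cfsg.Agent.Omega.ML.ExCore Cfsg.Agent.Omega.ML.ExRec Cfsg.Agent.Omega.ML.ExRow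
open Cfsg.Agent.MinSimple.VModule (o2_isPGroup o2_le le_o2 le_normalizer_o2)

open scoped commutatorElement

universe u v w u'

/-- a perfect subgroup is perfect as a group -/
theorem commutator_coe_eq_top {G : Type*} [Group G] {E : Subgroup G} (h : ⁅E, E⁆ = E) :
    _root_.commutator E = ⊤ := by
  rw [eq_top_iff]
  rintro ⟨x, hx⟩ -
  have h1 : (_root_.commutator E).map E.subtype = E := by
    rw [_root_.commutator_def, map_commutator, ← MonoidHom.range_eq_map, range_subtype, h]
  have h2 : x ∈ (_root_.commutator E).map E.subtype := by rw [h1]; exact hx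
  obtain ⟨y, hy, hyx⟩ := h2
  have h3 : y = ⟨x, hx⟩ := Subtype.ext hyx
  rwa [← h3]

/-- Grün: an element of the second centre of a perfect group is central (modulo the normal subgroup `Q`). -/
theorem gruen {E : Type*} [Group E] (hE : _root_.commutator E = ⊤) {Q : Subgroup E} (hQ : Q.Normal) {x : E}
    (h : ∀ y : E, ∃ z ∈ center E, x * y * x⁻¹ * y⁻¹ * z ∈ Q) (y : E) : x * y * x⁻¹ * y⁻¹ ∈ Q := by
  have hcen : ∀ y g : E, (QuotientGroup.mk (x * y * x⁻¹ * y⁻¹) : E ⧸ Q) * QuotientGroup.mk g =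
      QuotientGroup.mk g * QuotientGroup.mk (x * y * x⁻¹ * y⁻¹) := by
    intro y g
    obtain ⟨z, hz, h1⟩ := h y
    have h2 : (QuotientGroup.mk (x * y * x⁻¹ * y⁻¹) : E ⧸ Q) = QuotientGroup.mk z⁻¹ := by
      rw [eq_comm, QuotientGroup.eq, inv_inv]
      have h3 := hQ.conj_mem _ h1 z
      have h4 : z * (x * y * x⁻¹ * y⁻¹ * z) * z⁻¹ = z * (x * y * x⁻¹ * y⁻¹) := by group
      rwa [h4] at h3
    rw [h2, ← QuotientGroup.mk_mul, ← QuotientGroup.mk_mul, mem_center_iff.1 ((center E).inv_mem hz) g]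
  let f : E →* E ⧸ Q :=
    { toFun := fun y => QuotientGroup.mk (x * y * x⁻¹ * y⁻¹)
      map_one' := by
        change (QuotientGroup.mk (x * 1 * x⁻¹ * 1⁻¹) : E ⧸ Q) = 1
        rw [mul_one, mul_inv_cancel, inv_one, mul_one, QuotientGroup.mk_one]
      map_mul' := fun a b => by
        have h1 : x * (a * b) * x⁻¹ * (a * b)⁻¹ = (x * a * x⁻¹ * a⁻¹) * (a * (x * b * x⁻¹ * b⁻¹) * a⁻¹) := by group
        have h2 : (QuotientGroup.mk (a * (x * b * x⁻¹ * b⁻¹) * a⁻¹) : E ⧸ Q) = QuotientGroup.mk (x * b * x⁻¹ * b⁻¹) := by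
          change (QuotientGroup.mk a : E ⧸ Q) * QuotientGroup.mk (x * b * x⁻¹ * b⁻¹) * (QuotientGroup.mk a)⁻¹ = _
          rw [← hcen b a, mul_inv_cancel_right]
        rw [h1, QuotientGroup.mk_mul, h2] }
  have hk : _root_.commutator E ≤ f.ker := by
    rw [_root_.commutator_def, commutator_le]
    intro a _ b _
    rw [MonoidHom.mem_ker, map_commutatorElement, commutatorElement_eq_one_iff_mul_comm]
    obtain ⟨c, hc⟩ := QuotientGroup.mk_surjective (f b)
    rw [← hc]
    exact hcen a c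
  have h1 : y ∈ f.ker := hk (hE ▸ mem_top y)
  exact (QuotientGroup.eq_one_iff _).1 h1

/-- **`TrivC` from `LB`** -/
theorem trivC_of_lb {X : Type w} [Group X] {C P R : Subgroup X} {n : ℕ} (hPC : P ≤ C) (hR2 : IsPGroup 2 R)
    [Finite R] (hRn : ∀ x ∈ P, ∀ r ∈ R, x * r * x⁻¹ ∈ R) (hP : ⁅P, P⁆ = P) {L : Type u'} [Group L] (ρ : P →* L)
    (hρ : Function.Surjective ρ) (hρR : ∀ x : P, (x : X) ∈ R → ρ x = 1)
    (hcen : ∀ x : P, ρ x = 1 → ∀ y : P, (x * y * x⁻¹ * y⁻¹ : X) ∈ R)
    (hodd : Odd ((R.subgroupOf P).relIndex ρ.ker)) (hlb : Cfsg.Agent.Omega.Lie.Heis.LB.{u', u, v} L (n + 1)) :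
    TrivC.{u, v, w} C P n := by
  intro G _ _ p hp hc ho V _ _ _ sq hV l hl x
  obtain ⟨Ph, hPh⟩ : ∃ Ph : Subgroup G, Ph = (P.subgroupOf C).comap p := ⟨_, rfl⟩
  rw [← hPh] at hl
  obtain ⟨E, hE⟩ : ∃ E : Subgroup G, E = ⁅Ph, Ph⁆ := ⟨_, rfl⟩
  rw [← hE] at hl
  have hEP : E ≤ Ph := by rw [hE]; exact commutator_le_self Ph
  have hEp : E.map p = P.subgroupOf C := by
    have h1 : (E.map p).map C.subtype = P := by
      rw [hE, map_commutator, hPh, map_comap_eq_self_of_surjective hp, map_commutator, subgroupOf_map_subtype,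
        inf_eq_left.2 hPC, hP]
    have h2 := congrArg (comap C.subtype) h1
    rwa [comap_map_eq_self_of_injective C.subtype_injective] at h2
  -- `E` is perfect
  have hEE : ⁅E, E⁆ = E := by
    refine le_antisymm (commutator_le_self E) ?_
    conv_lhs => rw [hE]
    rw [commutator_le]
    have key : ∀ y ∈ Ph, ∃ e ∈ E, ∃ z ∈ center G, y = e * z := by
      intro y hy
      have h1 : p y ∈ E.map p := by
        rw [hEp]
        rw [hPh] at hy
        exact hy
      obtain ⟨e, he, hey⟩ := h1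
      exact ⟨e, he, e⁻¹ * y, hc (by rw [MonoidHom.mem_ker, map_mul, map_inv, hey, inv_mul_cancel]), by group⟩
    intro a ha b hb
    obtain ⟨e, he, z, hz, rfl⟩ := key a ha
    obtain ⟨e', he', z', hz', rfl⟩ := key b hb
    have h1 : ⁅e * z, e' * z'⁆ = ⁅e, e'⁆ := by
      have hz1 := mem_center_iff.1 hz
      have hz2 := mem_center_iff.1 hz'
      have hz3 := mem_center_iff.1 ((center G).inv_mem hz)
      have hz4 := mem_center_iff.1 ((center G).inv_mem hz')
      rw [commutatorElement_def, commutatorElement_def, mul_inv_rev, mul_inv_rev]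
      calc e * z * (e' * z') * (z⁻¹ * e⁻¹) * (z'⁻¹ * e'⁻¹)
          = e * (z * (e' * z')) * (z⁻¹ * e⁻¹) * (z'⁻¹ * e'⁻¹) := by group
        _ = e * (e' * z' * z) * (z⁻¹ * e⁻¹) * (z'⁻¹ * e'⁻¹) := by rw [hz1 (e' * z')]
        _ = e * e' * (z' * (e⁻¹ * z'⁻¹)) * e'⁻¹ := by group
        _ = e * e' * (e⁻¹ * z'⁻¹ * z') * e'⁻¹ := by rw [hz2 (e⁻¹ * z'⁻¹)]
        _ = _ := by group
    rw [h1]
    exact commutator_mem_commutator he he'
  have hEc := commutator_coe_eq_top hEE
  -- `E → P`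
  let f : E →* P :=
    { toFun := fun e => ⟨(p e : X), by
        have h1 := hEP e.2
        rw [hPh] at h1
        exact h1⟩
      map_one' := Subtype.ext (by
        change ((p (1 : G) : C) : X) = 1
        rw [map_one]; rfl)
      map_mul' := fun a b => Subtype.ext (by
        change ((p ((a : G) * b) : C) : X) = (p a : X) * (p b : X)
        rw [map_mul]; rfl) }
  have hfp : ∀ e : E, ((f e : P) : X) = (p e : X) := fun _ => rfl
  have hfk : ∀ {e : E}, f e = 1 → (e : G) ∈ p.ker := by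
    intro e he
    have h1 : ((p e : C) : X) = 1 := congrArg Subtype.val he
    exact Subtype.ext h1
  have hf : Function.Surjective f := by
    rintro ⟨y, hy⟩
    have h1 : (⟨y, hPC hy⟩ : C) ∈ E.map p := by rw [hEp]; exact hy
    obtain ⟨e, he, hey⟩ := h1
    exact ⟨⟨e, he⟩, Subtype.ext (show (p e : X) = y from congrArg Subtype.val hey)⟩
  have hfc : f.ker ≤ center E := by
    intro e he
    rw [mem_center_iff]
    intro y
    exact Subtype.ext (mem_center_iff.1 (hc (hfk he)) y)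
  have hfo : Odd (Nat.card f.ker) := by
    have h4 : f.ker.map E.subtype ≤ p.ker := by
      rintro _ ⟨y, hy, rfl⟩
      exact hfk hy
    have h5 := card_dvd_of_le h4
    rw [card_map_of_injective E.subtype_injective] at h5
    exact Odd.of_dvd_nat ho h5
  -- the lift of `R`
  have hR' : IsPGroup 2 (R.subgroupOf P) := hR2.comap_of_injective _ P.subtype_injective
  have hRf : Finite (R.subgroupOf P) := Finite.of_injective (fun x => (⟨((x : P) : X), x.2⟩ : R)) fun a b hab =>
    Subtype.ext (Subtype.ext (show ((a : P) : X) = ((b : P) : X) from congrArg (fun r : R => (r : X)) hab))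
  obtain ⟨Q, hQ⟩ : ∃ Q : Subgroup E, Q = o2 ((R.subgroupOf P).comap f) := ⟨_, rfl⟩
  have hQR : ∀ q ∈ Q, f q ∈ R.subgroupOf P := fun q hq => by
    rw [hQ] at hq
    exact o2_le ((R.subgroupOf P).comap f) hq
  have hQn : Q.Normal := ⟨fun q hq g => by
    rw [hQ] at hq ⊢
    exact conj_lift2 hfc hR' (fun r hr => hRn _ (f g).2 _ hr) hq⟩
  have hQm : Q.map f = R.subgroupOf P := by rw [hQ]; exact map_lift2 hf hfc hfo hR'
  have hQk : Q ≤ (ρ.comp f).ker := fun q hq => hρR _ (hQR q hq)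
  have h1 := trivOn_of_lb (K := L) (L := E) hlb (Nat.lt_succ_self n) hEc hQn (by rw [hQ]; exact o2_isPGroup _) (ρ.comp f)
    (hρ.comp hf) hQk ?_ ?_
  · exact h1 V sq hV ⟨l, hl⟩ (mem_top _) x
  · intro y hy e
    refine gruen hEc hQn (fun e => ?_) e
    have h2 : f (y * e * y⁻¹ * e⁻¹) ∈ Q.map f := by
      rw [hQm, map_mul, map_mul, map_mul, map_inv, map_inv]
      exact hcen (f y) hy (f e)
    obtain ⟨q, hq, hq'⟩ := h2
    refine ⟨(y * e * y⁻¹ * e⁻¹)⁻¹ * q, hfc ?_, ?_⟩
    · rw [MonoidHom.mem_ker, map_mul, map_inv, hq', inv_mul_cancel]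
    · rwa [mul_inv_cancel_left]
  · have hQle : Q ≤ (R.subgroupOf P).comap f := hQR
    have hle : (R.subgroupOf P).comap f ≤ (ρ.comp f).ker := fun e he => hρR _ he
    rw [← relIndex_mul_relIndex _ _ _ hQle hle]
    refine Odd.mul ?_ ?_
    · have hk : f.ker ≤ (R.subgroupOf P).comap f := fun e he => by
        rw [mem_comap, MonoidHom.mem_ker.1 he]; exact one_mem _
      have h2 : Nat.card f.ker * f.ker.relIndex ((R.subgroupOf P).comap f) = Nat.card ((R.subgroupOf P).comap f) := by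
        rw [← relIndex_bot_left, ← relIndex_bot_left ((R.subgroupOf P).comap f)]
        exact relIndex_mul_relIndex _ _ _ bot_le hk
      have h3 : Nat.card Q * Q.relIndex ((R.subgroupOf P).comap f) = Nat.card ((R.subgroupOf P).comap f) := by
        rw [← relIndex_bot_left, ← relIndex_bot_left ((R.subgroupOf P).comap f)]
        exact relIndex_mul_relIndex _ _ _ bot_le hQle
      have h4 : f.ker.relIndex ((R.subgroupOf P).comap f) = Nat.card Q := by
        rw [relIndex_ker, map_comap_eq_self_of_surjective hf, hQ, card_lift2 hf hfc hfo hR']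
      rw [h4, ← h3, mul_comm] at h2
      have h5 := Nat.eq_of_mul_eq_mul_left Nat.card_pos h2
      rw [← h5]
      exact hfo
    · have h2 : (ρ.comp f).ker = ρ.ker.comap f := by
        ext e
        rfl
      rw [h2, relIndex_comap, map_comap_eq_self_of_surjective hf]
      exact hodd

end Cfsg.Agent.Omega.ML.ExTriv
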