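import Cfsg.Agent.SmallSimple.S1000.TwoModule
import Cfsg.Agent.ClassTwoFusion.Quad

/-!
# The exact K-list, `|A| = 4` (helper512): products of involutions with large fixed space

`X` finite, faithful on the elementary abelian 2-group `V`; `s`, `t` involutions of `X` with `|V : C_V(s)| ≤ 4`,
`|V : C_V(t)| ≤ 4`.

* `order_of` : **every odd power of `s t` has order 1, 3 or 5**;
* `dvd_of` : every odd divisor of the order of `s t` is 1, 3 or 5;
* `dvd_of_smul` : the same for `MulDistribMulAction`, `cv`.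
-/

set_option autoImplicit false

namespace Cfsg.Agent.Omega.ML.FourOrd

open Subgroup Cfsg.Agent.SmallSimple.S1000.TwoModule

variable {X V : Type*} [Group X] [CommGroup V] (φ : X →* MulAut V)

theorem D_mem_range (g : X) (v : V) : D φ g v ∈ (D φ g).range := ⟨v, rfl⟩

/-- `D` commutes with commuting elements -/
theorem map_D {y g : X} (h : y * g = g * y) (v : V) : φ y (D φ g v) = D φ g (φ y v) := by
  rw [conj_D φ y g v, h, mul_inv_cancel_right]

section two

variable (hV : ∀ v : V, v * v = 1)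
include hV

/-- an element of odd order has no fixed points on its commutator -/
theorem eq_one_of_odd {y : X} (hy : Odd (orderOf y)) {w : V} (hw : w ∈ (D φ y).range) (hf : φ y w = w) :
    w = 1 := by
  obtain ⟨v, rfl⟩ := hw
  have h1 : D φ y (D φ y v) = 1 := by
    rw [D_apply φ y (D φ y v), hf, hV]
  rw [D_D φ hV, ← pow_two, ← MonoidHom.mem_ker, ker_D φ hV, fe_pow_eq φ (Nat.coprime_two_left.mpr hy),
    ← ker_D φ hV] at h1
  exact h1

/-- `z` acts freely on `[V, x]`, `x ∈ ⟨z⟩` of odd order, if `x` is a power of every nontrivial power of `z` -/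
theorem orderOf_dvd [Finite X] [Finite V] {z x : X} (hx : Odd (orderOf x)) (hxz : x ∈ zpowers z)
    (hall : ∀ k : ℤ, z ^ k ≠ 1 → x ∈ zpowers (z ^ k)) : orderOf z ∣ (fe φ x).index - 1 := by
  rw [← card_range_D φ hV x]
  have hc : z * x = x * z := by
    obtain ⟨k, rfl⟩ := hxz
    exact (Commute.refl z).zpow_right k
  refine orderOf_dvd_card_sub_one φ z _ ?_ ?_
  · rintro _ ⟨v, rfl⟩
    rw [map_D φ hc]
    exact D_mem_range φ x _
  · intro k hk v hv hfix
    exact eq_one_of_odd φ hV hx hv (fe_le_of_mem_zpowers φ (hall k hk) hfix)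

theorem exists_two_pow [Finite V] (x : X) : ∃ n, (fe φ x).index = 2 ^ n := by
  obtain ⟨n, hn⟩ := card_eq_two_pow hV (D φ x).range
  exact ⟨n, by rw [← card_range_D φ hV, hn]⟩

omit hV in
/-- the powers of an element of order `m`: decidable form of `hall` -/
theorem mem_zpowers_of {z : X} {m c : ℕ} (hz : orderOf z = m) (hm : 0 < m)
    (hdec : ∀ r < m, r ≠ 0 → ∃ j < m, (r * j) % m = c) (k : ℤ) (hk : z ^ k ≠ 1) : z ^ c ∈ zpowers (z ^ k) := by
  obtain ⟨r, hr⟩ : ∃ r : ℕ, (r : ℤ) = k % m := ⟨(k % m).toNat, Int.toNat_of_nonneg (Int.emod_nonneg _ (by omega))⟩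
  have hrm : r < m := by
    have := Int.emod_lt_of_pos k (show (0 : ℤ) < m by exact_mod_cast hm)
    rw [← hr] at this
    exact_mod_cast this
  have h1 : z ^ k = z ^ r := by
    rw [← zpow_mod_orderOf, hz, ← hr, zpow_natCast]
  have hr0 : r ≠ 0 := by
    rintro rfl
    exact hk (by rw [h1, pow_zero])
  obtain ⟨j, -, hj⟩ := hdec r hrm hr0
  refine ⟨j, ?_⟩
  show (z ^ k) ^ (j : ℤ) = z ^ c
  rw [h1, zpow_natCast, ← pow_mul, ← pow_mod_orderOf, hz, hj]

/-- **The transitive case**: `z` of order `m`, inverted by the involution `s`, transitive on `W \ 1`. -/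
theorem transitive_false [Finite V] {z s : X} {m : ℕ} (hs : s * s = 1) (hsz : s * z * s⁻¹ = z⁻¹)
    (hm0 : 0 < m) (hm : ¬ m ∣ 3) {W : Subgroup V} (hW1 : Nat.card W = m + 1) (hWz : ∀ v ∈ W, φ z v ∈ W)
    (hWs : ∀ v ∈ W, φ s v ∈ W)
    (hfree : ∀ k : ℕ, ∀ v ∈ W, v ≠ 1 → φ (z ^ k) v = v → m ∣ k) : False := by
  classical
  have mu : ∀ (a b : X) (v : V), φ (a * b) v = φ a (φ b v) := fun a b v => by rw [map_mul, MulAut.mul_apply]
  have inv' : ∀ (a : X) (v : V), φ a⁻¹ (φ a v) = v := fun a v => by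
    rw [← mu, inv_mul_cancel, map_one, MulAut.one_apply]
  have inv'' : ∀ (a : X) (v : V), φ a (φ a⁻¹ v) = v := fun a v => by
    rw [← mu, mul_inv_cancel, map_one, MulAut.one_apply]
  have hWzk : ∀ k : ℕ, ∀ v ∈ W, φ (z ^ k) v ∈ W := by
    intro k
    induction k with
    | zero => intro v hv; rw [pow_zero, map_one, MulAut.one_apply]; exact hv
    | succ k ih => intro v hv; rw [pow_succ, mu]; exact ih _ (hWz v hv)
  -- a vector fixed by `s`
  obtain ⟨v, hv, hv1, hsv⟩ : ∃ v ∈ W, v ≠ 1 ∧ φ s v = v := by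
    have hne : W ≠ ⊥ := by
      intro h
      rw [← card_eq_one, hW1] at h
      omega
    obtain ⟨⟨w, hw⟩, hw1⟩ := W.ne_bot_iff_exists_ne_one.1 hne
    have hw1 : w ≠ 1 := fun e => hw1 (Subtype.ext e)
    by_cases h1 : D φ s w = 1
    · refine ⟨w, hw, hw1, ?_⟩
      rw [D_apply] at h1
      exact (mul_eq_one_iff hV _ _).1 h1
    · refine ⟨D φ s w, ?_, h1, ?_⟩
      · rw [D_apply]
        exact mul_mem (hWs w hw) hw
      · have h2 : D φ s (D φ s w) = 1 := by
          rw [D_D φ hV, hs, D_apply, map_one, MulAut.one_apply, hV]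
        rw [D_apply φ s (D φ s w)] at h2
        exact (mul_eq_one_iff hV _ _).1 h2
  -- transitivity
  have htr : ∀ u ∈ W, u ≠ 1 → ∃ i : ℕ, φ (z ^ i) v = u := by
    let f : Fin m → {w : W // w ≠ 1} := fun i => ⟨⟨φ (z ^ (i : ℕ)) v, hWzk _ v hv⟩, fun h => hv1 (by
      have h1 : φ (z ^ (i : ℕ)) v = 1 := congrArg Subtype.val h
      exact (φ (z ^ (i : ℕ))).map_eq_one_iff.1 h1)⟩
    have hinj : Function.Injective f := by
      have key : ∀ i j : ℕ, i ≤ j → j < m → φ (z ^ i) v = φ (z ^ j) v → i = j := by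
        intro i j hij hj h
        obtain ⟨d, rfl⟩ := Nat.exists_eq_add_of_le hij
        have h1 : φ (z ^ d) v = v := by
          rw [pow_add, mu] at h
          exact ((φ (z ^ i)).injective h).symm
        have h2 := hfree d v hv hv1 h1
        have h3 : d = 0 := Nat.eq_zero_of_dvd_of_lt h2 (by omega)
        omega
      intro i j h
      have h1 : φ (z ^ (i : ℕ)) v = φ (z ^ (j : ℕ)) v := congrArg (fun x => ((x.1 : W) : V)) h
      rcases le_total (i : ℕ) j with h2 | h2
      · exact Fin.ext (key _ _ h2 j.2 h1)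
      · exact Fin.ext (key _ _ h2 i.2 h1.symm).symm
    have hcard : Nat.card {w : W // w ≠ 1} ≤ Nat.card (Fin m) := by
      have := Fintype.ofFinite W
      rw [Nat.card_eq_fintype_card, Fintype.card_subtype_compl, Fintype.card_subtype_eq,
        ← Nat.card_eq_fintype_card, hW1, Nat.card_eq_fintype_card, Fintype.card_fin]
      omega
    have hb := hinj.bijective_of_nat_card_le hcard
    intro u hu hu1
    obtain ⟨i, hi⟩ := hb.2 ⟨⟨u, hu⟩, fun h => hu1 (congrArg Subtype.val h)⟩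
    exact ⟨i, congrArg (fun x => ((x.1 : W) : V)) hi⟩
  have hD1 : D φ z v ≠ 1 := by
    intro h
    rw [D_apply] at h
    have h1 : φ (z ^ 1) v = v := by rw [pow_one]; exact (mul_eq_one_iff hV _ _).1 h
    have h2 := hfree 1 v hv hv1 h1
    exact hm (h2.trans (one_dvd _))
  obtain ⟨j, hj⟩ := htr (D φ z v) (by rw [D_apply]; exact mul_mem (hWz v hv) hv) hD1
  have hcz : z ^ j * z = z * z ^ j := (Commute.refl z).pow_left j
  -- apply `s`
  have hszj : s * z ^ j * s⁻¹ = (z ^ j)⁻¹ := by rw [← conj_pow, hsz, inv_pow]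
  have e1 : φ (z ^ j)⁻¹ v = φ z⁻¹ (φ (z ^ j) v) := by
    have h1 : φ s (φ (z ^ j) v) = φ (z ^ j)⁻¹ v := by
      rw [← hszj, mu, mu]
      have h2 : φ s⁻¹ v = v := by
        have : s⁻¹ = s := inv_eq_of_mul_eq_one_right hs
        rw [this, hsv]
      rw [h2]
    have h2 : φ s (D φ z v) = D φ z⁻¹ v := by rw [conj_D φ s z v, hsz, hsv]
    rw [← h1, hj, h2, D_apply, D_apply, map_mul, inv', mul_comm]
  have e2 : φ (z ^ (2 * j)) v = φ z v := by
    have h1 : φ z (φ (z ^ j)⁻¹ v) = φ (z ^ j) v := by rw [e1, inv'']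
    have h2 : φ (z ^ j) (φ z (φ (z ^ j)⁻¹ v)) = φ z v := by
      rw [← mu, hcz, mu, inv'']
    rw [two_mul, pow_add, mu, ← h1, h2]
  have e3 : φ (z * z) v * v = φ z v := by
    have h1 : D φ z (D φ z v) = φ (z ^ (2 * j)) v := by
      rw [← hj, ← map_D φ hcz, ← hj, ← mu, ← pow_add, ← two_mul]
    rw [← e2, ← h1, D_D φ hV, D_apply]
  have e5 : φ (z * z) v = φ z v * v := by
    calc φ (z * z) v = φ (z * z) v * (v * v) := by rw [hV, mul_one]
      _ = φ z v * v := by rw [← mul_assoc, e3]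
  have e4 : φ (z ^ 3) v = v := by
    calc φ (z ^ 3) v = φ z (φ (z * z) v) := by
          rw [← mu]; congr 2; rw [pow_succ', pow_two]
      _ = φ (z * z) v * φ z v := by rw [e5, map_mul, ← mu, e5]
      _ = φ z v * v * φ z v := by rw [e5]
      _ = v * (φ z v * φ z v) := by ac_rfl
      _ = v := by rw [hV, mul_one]
  exact hm (hfree 3 v hv hv1 e4)

omit hV in
/-- `[V, z⁻¹] ≤ [V, z]` -/
theorem D_inv_mem (z : X) (v : V) : D φ z⁻¹ v ∈ (D φ z).range := by
  refine ⟨φ z⁻¹ v, ?_⟩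
  have h1 : φ z (φ z⁻¹ v) = v := by
    rw [← MulAut.mul_apply, ← map_mul, mul_inv_cancel, map_one, MulAut.one_apply]
  rw [D_apply, D_apply, h1, mul_comm]

/-- **Every odd power of `s t` has order 1, 3 or 5.** -/
theorem order_of [Finite X] [Finite V] (hinj : ∀ x : X, φ x = 1 → x = 1) {s t : X} (hs : s * s = 1)
    (ht : t * t = 1) (h4s : (fe φ s).index ≤ 4) (h4t : (fe φ t).index ≤ 4) (k : ℕ)
    (ho : Odd (orderOf ((s * t) ^ k))) :
    orderOf ((s * t) ^ k) = 1 ∨ orderOf ((s * t) ^ k) = 3 ∨ orderOf ((s * t) ^ k) = 5 := by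
  classical
  set y := (s * t) ^ k with hy
  have hinvy : s * y * s⁻¹ = y⁻¹ := by
    have h1 : s⁻¹ = s := inv_eq_of_mul_eq_one_right hs
    have h2 : t⁻¹ = t := inv_eq_of_mul_eq_one_right ht
    rw [hy, ← conj_pow, ← inv_pow]
    congr 1
    rw [mul_inv_rev, h2, h1]
    calc s * (s * t) * s = (s * s) * (t * s) := by group
      _ = t * s := by rw [hs, one_mul]
  have hy16 : (fe φ y).index ≤ 16 := by
    have h1 : fe φ s ⊓ fe φ t ≤ fe φ y := (fe_mul φ s t).trans (fe_pow φ _ k)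
    calc (fe φ y).index ≤ (fe φ s ⊓ fe φ t).index :=
          Nat.le_of_dvd (Nat.pos_of_ne_zero index_ne_zero_of_finite) (index_dvd_of_le h1)
      _ ≤ (fe φ s).index * (fe φ t).index := index_inf_le
      _ ≤ 4 * 4 := Nat.mul_le_mul h4s h4t
      _ = 16 := by norm_num
  have hidx : ∀ x ∈ zpowers y, (fe φ x).index ≤ 16 := fun x hx =>
    (Nat.le_of_dvd (Nat.pos_of_ne_zero index_ne_zero_of_finite)
      (index_dvd_of_le (fe_le_of_mem_zpowers φ hx))).trans hy16
  have hne : ∀ x : X, x ≠ 1 → (fe φ x).index ≠ 1 := by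
    intro x hx h1
    rw [index_eq_one] at h1
    apply hx
    apply hinj
    ext v
    have h2 : v ∈ fe φ x := h1 ▸ mem_top v
    rw [MulAut.one_apply]
    exact h2
  have hodd : ∀ x ∈ zpowers y, Odd (orderOf x) := fun x hx =>
    ho.of_dvd_nat (orderOf_dvd_of_mem_zpowers hx)
  have hpow : ∀ x ∈ zpowers y, x ≠ 1 → ∃ e, 1 ≤ e ∧ e ≤ 4 ∧ (fe φ x).index = 2 ^ e := by
    intro x hx hx1
    obtain ⟨e, he⟩ := exists_two_pow φ hV x
    refine ⟨e, ?_, ?_, he⟩
    · rw [Nat.one_le_iff_ne_zero]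
      rintro rfl
      exact hne x hx1 he
    · have h1 := hidx x hx
      rw [he, show 16 = 2 ^ 4 by norm_num] at h1
      exact (Nat.pow_le_pow_iff_right (by norm_num)).1 h1
  -- prime orders
  have hprime : ∀ p : ℕ, p.Prime → p ∣ orderOf y → ∃ z ∈ zpowers y, orderOf z = p ∧
      (∀ k : ℤ, z ^ k ≠ 1 → z ∈ zpowers (z ^ k)) ∧ ∃ e, 1 ≤ e ∧ e ≤ 4 ∧ (fe φ z).index = 2 ^ e ∧ p ∣ 2 ^ e - 1 := by
    intro p hp hpn
    have hpos : 0 < orderOf y := orderOf_pos y
    obtain ⟨d, hd⟩ := hpn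
    have hd0 : d ≠ 0 := by rintro rfl; omega
    have hz : orderOf (y ^ d) = p := by
      rw [orderOf_pow_of_dvd hd0 ⟨p, by rw [hd, mul_comm]⟩, hd, Nat.mul_div_cancel _ (Nat.pos_of_ne_zero hd0)]
    have hzy : y ^ d ∈ zpowers y := ⟨d, zpow_natCast y d⟩
    have hall : ∀ k : ℤ, (y ^ d) ^ k ≠ 1 → y ^ d ∈ zpowers ((y ^ d) ^ k) := by
      intro k hk
      have h2 : orderOf ((y ^ d) ^ k) = p := by
        have h3 : orderOf ((y ^ d) ^ k) ∣ p := by
          rw [← hz]
          exact orderOf_dvd_of_mem_zpowers ⟨k, rfl⟩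
        rcases (Nat.dvd_prime hp).mp h3 with h4 | h4
        · exact absurd (orderOf_eq_one_iff.mp h4) hk
        · exact h4
      have h3 : zpowers ((y ^ d) ^ k) = zpowers (y ^ d) := by
        refine eq_of_le_of_card_ge ?_ ?_
        · rw [zpowers_le]; exact ⟨k, rfl⟩
        · rw [Nat.card_zpowers, Nat.card_zpowers, h2, hz]
      rw [h3]
      exact mem_zpowers _
    have hz1 : y ^ d ≠ 1 := by
      intro h
      rw [h, orderOf_one] at hz
      exact hp.one_lt.ne hz
    obtain ⟨e, h1, h2, h3⟩ := hpow _ hzy hz1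
    refine ⟨_, hzy, hz, hall, e, h1, h2, h3, ?_⟩
    have h4 := orderOf_dvd φ hV (hodd _ hzy) (mem_zpowers _) hall
    rwa [hz, h3] at h4
  have hset : ∀ p : ℕ, p.Prime → p ∣ orderOf y → p = 3 ∨ p = 5 := by
    intro p hp hpn
    obtain ⟨z, hzy, hz, hall, e, h1, h2, h3, h4⟩ := hprime p hp hpn
    have hcase : p = 3 ∨ p = 5 ∨ (p = 7 ∧ e = 3) := by
      have he : e = 1 ∨ e = 2 ∨ e = 3 ∨ e = 4 := by omega
      rcases he with rfl | rfl | rfl | rfl
      · exact absurd (Nat.dvd_one.1 (by simpa using h4)) hp.one_lt.ne'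
      · left
        exact (Nat.prime_dvd_prime_iff_eq hp Nat.prime_three).1 (by simpa using h4)
      · right; right
        exact ⟨(Nat.prime_dvd_prime_iff_eq hp (by norm_num)).1 (by simpa using h4), rfl⟩
      · have h5 : p ∣ 3 * 5 := by simpa using h4
        rcases (Nat.Prime.dvd_mul hp).1 h5 with h6 | h6
        · left; exact (Nat.prime_dvd_prime_iff_eq hp Nat.prime_three).1 h6
        · right; left; exact (Nat.prime_dvd_prime_iff_eq hp Nat.prime_five).1 h6
    rcases hcase with h | h | ⟨rfl, rfl⟩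
    · exact Or.inl h
    · exact Or.inr h
    exfalso
    obtain ⟨i, rfl⟩ := hzy
    refine transitive_false φ hV (z := y ^ i) (m := 7) (W := (D φ (y ^ i)).range) hs ?_ (by norm_num)
      (by norm_num) ?_ ?_ ?_ ?_
    · show s * y ^ i * s⁻¹ = (y ^ i)⁻¹
      rw [← conj_zpow, hinvy, inv_zpow]
    · rw [card_range_D φ hV]
      exact h3
    · rintro _ ⟨v, rfl⟩
      rw [map_D φ rfl]
      exact D_mem_range φ _ _
    · rintro _ ⟨v, rfl⟩
      rw [conj_D φ s _ v, ← conj_zpow, hinvy, inv_zpow]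
      exact D_inv_mem φ _ _
    · intro k v hv hv1 hf
      rw [← hz]
      apply orderOf_dvd_of_pow_eq_one
      by_contra hk
      have h5 := hall k (by rw [zpow_natCast]; exact hk)
      refine hv1 (eq_one_of_odd φ hV (hodd _ ⟨i, rfl⟩) hv (fe_le_of_mem_zpowers φ h5 ?_))
      rw [zpow_natCast]
      exact hf
  -- prime squares
  have hsquare : ∀ m c : ℕ, 1 < m → ¬ m ∣ c → (∀ r < m, r ≠ 0 → ∃ j < m, (r * j) % m = c) →
      (∀ e, 1 ≤ e → e ≤ 4 → ¬ m ∣ 2 ^ e - 1) → ¬ m ∣ orderOf y := by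
    rintro m c hm hmc hdec he ⟨d, hd⟩
    have hpos : 0 < orderOf y := orderOf_pos y
    have hd0 : d ≠ 0 := by rintro rfl; omega
    have hz : orderOf (y ^ d) = m := by
      rw [orderOf_pow_of_dvd hd0 ⟨m, by rw [hd, mul_comm]⟩, hd, Nat.mul_div_cancel _ (Nat.pos_of_ne_zero hd0)]
    have hzy : y ^ d ∈ zpowers y := ⟨d, zpow_natCast y d⟩
    have hxy : (y ^ d) ^ c ∈ zpowers y := pow_mem hzy c
    have hx1 : (y ^ d) ^ c ≠ 1 := by
      intro h
      exact hmc (hz ▸ orderOf_dvd_of_pow_eq_one h)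
    obtain ⟨e, h1, h2, h3⟩ := hpow _ hxy hx1
    have h4 := orderOf_dvd φ hV (z := y ^ d) (hodd _ hxy) ⟨c, zpow_natCast _ c⟩
      (mem_zpowers_of hz (by omega) hdec)
    rw [hz, h3] at h4
    exact he e h1 h2 h4
  have h9 : ¬ 9 ∣ orderOf y := by
    refine hsquare 9 3 (by norm_num) (by norm_num) (by decide) ?_
    intro e h1 h2
    interval_cases e <;> decide
  have h25 : ¬ 25 ∣ orderOf y := by
    refine hsquare 25 5 (by norm_num) (by norm_num) (by decide) ?_
    intro e h1 h2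
    interval_cases e <;> decide
  -- order 15
  have h15 : ¬ 15 ∣ orderOf y := by
    rintro ⟨d, hd⟩
    have hpos : 0 < orderOf y := orderOf_pos y
    have hd0 : d ≠ 0 := by rintro rfl; omega
    set z := y ^ d with hzd
    have hz : orderOf z = 15 := by
      rw [hzd, orderOf_pow_of_dvd hd0 ⟨15, by rw [hd, mul_comm]⟩, hd, Nat.mul_div_cancel _ (Nat.pos_of_ne_zero hd0)]
    have hzy : z ∈ zpowers y := ⟨d, zpow_natCast y d⟩
    have hx5 : orderOf (z ^ 3) = 5 := by
      rw [orderOf_pow_of_dvd (by norm_num) (by rw [hz]; norm_num), hz]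
    have hx3 : orderOf (z ^ 5) = 3 := by
      rw [orderOf_pow_of_dvd (by norm_num) (by rw [hz]; norm_num), hz]
    have hx5y : z ^ 3 ∈ zpowers y := pow_mem hzy 3
    have hx3y : z ^ 5 ∈ zpowers y := pow_mem hzy 5
    -- `[V, z ^ 3]` has order 16
    have hall5 : ∀ k : ℤ, (z ^ 3) ^ k ≠ 1 → z ^ 3 ∈ zpowers ((z ^ 3) ^ k) := by
      intro k hk
      have := mem_zpowers_of (c := 1) hx5 (by norm_num) (by decide) k hk
      rwa [pow_one] at this
    have hW16 : (fe φ (z ^ 3)).index = 16 := by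
      obtain ⟨e, h1, h2, h3⟩ := hpow _ hx5y (by intro h; rw [h, orderOf_one] at hx5; omega)
      have h4 := orderOf_dvd φ hV (hodd _ hx5y) (mem_zpowers _) hall5
      rw [hx5, h3] at h4
      have he : e = 1 ∨ e = 2 ∨ e = 3 ∨ e = 4 := by omega
      rcases he with rfl | rfl | rfl | rfl
      · exact absurd h4 (by decide)
      · exact absurd h4 (by decide)
      · exact absurd h4 (by decide)
      · rw [h3]; norm_num
    have hfe : fe φ y = fe φ (z ^ 3) := by
      have hle : fe φ y ≤ fe φ (z ^ 3) := fe_le_of_mem_zpowers φ hx5y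
      refine eq_of_le_of_card_ge hle ?_
      have h1 := (fe φ y).card_mul_index
      have h2 := (fe φ (z ^ 3)).card_mul_index
      rw [hW16] at h2
      have h3 : Nat.card (fe φ y) * (fe φ y).index ≤ Nat.card (fe φ y) * 16 := Nat.mul_le_mul_left _ hy16
      omega
    set W := (D φ (z ^ 3)).range with hW
    have hWz : ∀ v ∈ W, φ z v ∈ W := by
      rintro _ ⟨v, rfl⟩
      rw [map_D φ ((Commute.refl z).pow_right 3)]
      exact D_mem_range φ _ _
    have hWx3 : ∀ v ∈ W, φ (z ^ 5) v ∈ W := by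
      rintro _ ⟨v, rfl⟩
      rw [map_D φ (((Commute.refl z).pow_right 3).pow_left 5)]
      exact D_mem_range φ _ _
    have hcardW : Nat.card W = 16 := by rw [hW, card_range_D φ hV, hW16]
    -- `z ^ 5` is fixed-point-free on `W`
    have hfree3 : ∀ v ∈ W, φ (z ^ 5) v = v → v = 1 := by
      set U : Subgroup V := W ⊓ fe φ (z ^ 5) with hU
      have hUx : ∀ v ∈ U, φ (z ^ 3) v ∈ U := by
        rintro v ⟨hv1, hv2⟩
        refine ⟨?_, ?_⟩
        · have h1 : φ (z ^ 3) v = φ z (φ z (φ z v)) := by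
            rw [pow_succ, pow_two, map_mul, map_mul, MulAut.mul_apply, MulAut.mul_apply]
          rw [h1]
          exact hWz _ (hWz _ (hWz _ hv1))
        · have hv2 : φ (z ^ 5) v = v := hv2
          show φ (z ^ 5) (φ (z ^ 3) v) = φ (z ^ 3) v
          rw [← MulAut.mul_apply, ← map_mul, ((Commute.refl z).pow_pow 5 3).eq, map_mul, MulAut.mul_apply, hv2]
      have hd := orderOf_dvd_card_sub_one φ (z ^ 3) U hUx (fun k hk v hv hf =>
        eq_one_of_odd φ hV (hodd _ hx5y) hv.1 (fe_le_of_mem_zpowers φ (hall5 k hk) hf))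
      rw [hx5] at hd
      obtain ⟨n, hn⟩ := card_eq_two_pow hV U
      have hn4 : n ≤ 4 := by
        have h1 := card_le_of_le (show U ≤ W from inf_le_left)
        rw [hn, hcardW, show 16 = 2 ^ 4 by norm_num] at h1
        exact (Nat.pow_le_pow_iff_right (by norm_num)).1 h1
      rw [hn] at hd
      have hn' : n = 0 ∨ n = 4 := by
        interval_cases n
        · left; rfl
        · revert hd; decide
        · revert hd; decide
        · revert hd; decide
        · right; rfl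
      rcases hn' with rfl | rfl
      · intro v hv hf
        have h1 : v ∈ U := ⟨hv, hf⟩
        have h2 : U = ⊥ := by rw [← card_eq_one, hn, pow_zero]
        rw [h2] at h1
        exact mem_bot.1 h1
      · exfalso
        have hUW : U = W := eq_of_le_of_card_ge inf_le_left (by rw [hn, hcardW]; norm_num)
        have hfix : ∀ v ∈ W, φ (z ^ 5) v = v := fun v hv => by
          rw [← hUW] at hv
          exact hv.2
        have hall : ∀ v : V, v ∈ fe φ (z ^ 5) := by
          intro v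
          have h1 : D φ (z ^ 5) (D φ (z ^ 3) v) = 1 := by
            rw [D_apply φ (z ^ 5), hfix _ (D_mem_range φ _ v), hV]
          have h2 : D φ (z ^ 3) (D φ (z ^ 5) v) = 1 := by
            rw [D_apply φ (z ^ 5) v, map_mul, ← map_D φ (((Commute.refl z).pow_right 3).pow_left 5), ← D_apply, h1]
          rw [← MonoidHom.mem_ker, ker_D φ hV, ← hfe] at h2
          have h3 : φ (z ^ 5) (D φ (z ^ 5) v) = D φ (z ^ 5) v := fe_le_of_mem_zpowers φ hx3y h2
          have h4 := eq_one_of_odd φ hV (hodd _ hx3y) (D_mem_range φ _ v) h3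
          rw [← MonoidHom.mem_ker, ker_D φ hV] at h4
          exact h4
        refine hne (z ^ 5) (by intro h; rw [h, orderOf_one] at hx3; omega) ?_
        rw [index_eq_one, eq_top_iff]
        exact fun v _ => hall v
    obtain ⟨i, hi⟩ := hzy
    have hi' : y ^ i = z := hi
    have hsz : s * z * s⁻¹ = z⁻¹ := by rw [← hi', ← conj_zpow, hinvy, inv_zpow]
    refine transitive_false φ hV (z := z) (m := 15) (W := W) hs hsz (by norm_num)
      (by norm_num) (by rw [hcardW]) hWz ?_ ?_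
    · rintro _ ⟨v, rfl⟩
      rw [conj_D φ s _ v, ← conj_pow, hsz, inv_pow]
      exact D_inv_mem φ _ _
    · intro k v hv hv1 hf
      rw [← hz]
      apply orderOf_dvd_of_pow_eq_one
      by_contra hk
      have hk' : z ^ (k : ℤ) ≠ 1 := by rw [zpow_natCast]; exact hk
      have hf' : v ∈ fe φ (z ^ (k : ℤ)) := by rw [zpow_natCast]; exact hf
      -- `z ^ 3` or `z ^ 5` is a power of `z ^ k`
      have key : z ^ 3 ∈ zpowers (z ^ (k : ℤ)) ∨ z ^ 5 ∈ zpowers (z ^ (k : ℤ)) := by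
        have hdec : ∀ r < 15, r ≠ 0 → (∃ j < 15, (r * j) % 15 = 3) ∨ (∃ j < 15, (r * j) % 15 = 5) := by decide
        have hr0 : k % 15 ≠ 0 := by
          intro h
          apply hk
          rw [← pow_mod_orderOf, hz, h, pow_zero]
        have h1 : z ^ k = z ^ (k % 15) := by rw [← pow_mod_orderOf, hz]
        rcases hdec (k % 15) (Nat.mod_lt _ (by norm_num)) hr0 with ⟨j, -, hj⟩ | ⟨j, -, hj⟩
        · left
          refine ⟨j, ?_⟩
          show (z ^ (k : ℤ)) ^ (j : ℤ) = z ^ 3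
          rw [zpow_natCast, zpow_natCast, h1, ← pow_mul, ← pow_mod_orderOf, hz, hj]
        · right
          refine ⟨j, ?_⟩
          show (z ^ (k : ℤ)) ^ (j : ℤ) = z ^ 5
          rw [zpow_natCast, zpow_natCast, h1, ← pow_mul, ← pow_mod_orderOf, hz, hj]
      rcases key with h1 | h1
      · exact hv1 (eq_one_of_odd φ hV (hodd _ hx5y) hv (fe_le_of_mem_zpowers φ h1 hf'))
      · exact hv1 (hfree3 v hv (fe_le_of_mem_zpowers φ h1 hf'))
  -- the end
  have hp3 : ∀ m : ℕ, orderOf y = 3 * m → m = 1 := by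
    intro m hm
    by_contra h1
    obtain ⟨p, hp, hpm⟩ := Nat.exists_prime_and_dvd h1
    rcases hset p hp (hm ▸ (hpm.mul_left 3)) with rfl | rfl
    · exact h9 (hm ▸ (Nat.mul_dvd_mul_left 3 hpm))
    · exact h15 (hm ▸ (Nat.mul_dvd_mul_left 3 hpm))
  have hp5 : ∀ m : ℕ, orderOf y = 5 * m → m = 1 := by
    intro m hm
    by_contra h1
    obtain ⟨p, hp, hpm⟩ := Nat.exists_prime_and_dvd h1
    rcases hset p hp (hm ▸ (hpm.mul_left 5)) with rfl | rfl
    · exact h15 (hm ▸ (Nat.mul_dvd_mul_left 5 hpm))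
    · exact h25 (hm ▸ (Nat.mul_dvd_mul_left 5 hpm))
  by_cases h1 : orderOf y = 1
  · exact Or.inl h1
  obtain ⟨p, hp, m, hm⟩ := Nat.exists_prime_and_dvd h1
  rcases hset p hp ⟨m, hm⟩ with rfl | rfl
  · right; left
    rw [hm, hp3 m hm]
  · right; right
    rw [hm, hp5 m hm]

/-- **Every odd divisor of the order of `s t` is 1, 3 or 5.** -/
theorem dvd_of [Finite X] [Finite V] (hinj : ∀ x : X, φ x = 1 → x = 1) {s t : X} (hs : s * s = 1)
    (ht : t * t = 1) (h4s : (fe φ s).index ≤ 4) (h4t : (fe φ t).index ≤ 4) {n : ℕ}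
    (hn : n ∣ orderOf (s * t)) (ho : Odd n) : n = 1 ∨ n = 3 ∨ n = 5 := by
  obtain ⟨d, hd⟩ := hn
  have hpos : 0 < orderOf (s * t) := orderOf_pos _
  have hd0 : d ≠ 0 := by rintro rfl; omega
  have h1 : orderOf ((s * t) ^ d) = n := by
    rw [orderOf_pow_of_dvd hd0 ⟨n, by rw [hd, mul_comm]⟩, hd, Nat.mul_div_cancel _ (Nat.pos_of_ne_zero hd0)]
  rw [← h1] at ho ⊢
  exact order_of φ hV hinj hs ht h4s h4t d ho

end two

end Cfsg.Agent.Omega.ML.FourOrd

namespace Cfsg.Agent.Omega.ML.FourOrd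

open Subgroup Cfsg.Agent.SmallSimple.S1000.TwoModule Cfsg.Agent.ClassTwoFusion.Quad

/-- **LEMMA 35** for `MulDistribMulAction`: every odd divisor of the order of `s t` is 1, 3 or 5. -/
theorem dvd_of_smul {H M : Type*} [Group H] [Group M] [MulDistribMulAction H M] [Finite H] [Finite M]
    (sq : ∀ m : M, m * m = 1) (faith : ∀ h : H, (∀ m : M, h • m = m) → h = 1) {s t : H} (hs : s * s = 1)
    (ht : t * t = 1) (h4s : (cv M ({s} : Set H)).index ≤ 4) (h4t : (cv M ({t} : Set H)).index ≤ 4) {n : ℕ}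
    (hn : n ∣ orderOf (s * t)) (ho : Odd n) : n = 1 ∨ n = 3 ∨ n = 5 := by
  have hcomm : ∀ x y : M, x * y = y * x := by
    intro x y
    have h1 : ∀ z : M, z⁻¹ = z := fun z => inv_eq_of_mul_eq_one_right (sq z)
    calc x * y = (x * y)⁻¹ := (h1 _).symm
      _ = y⁻¹ * x⁻¹ := mul_inv_rev _ _
      _ = y * x := by rw [h1, h1]
  let _ : CommGroup M := { (inferInstance : Group M) with mul_comm := hcomm }
  let φ : H →* MulAut M := MulDistribMulAction.toMulAut H M
  have key : ∀ g : H, fe φ g = cv M ({g} : Set H) := by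
    intro g
    ext v
    rw [mem_fe, mem_cv_singleton]
    rfl
  refine dvd_of φ sq ?_ hs ht (by rw [key]; exact h4s) (by rw [key]; exact h4t) hn ho
  intro x hx
  apply faith
  intro m
  have h1 : φ x m = m := by rw [hx]; rfl
  exact h1

end Cfsg.Agent.Omega.ML.FourOrd
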