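import Cfsg.Agent.Omega.ML.InvTool
import Cfsg.Agent.Omega.TwoF.RowM12
import Cfsg.Agent.CoThreeStd.InvTwo

/-!
# (ML), the K-list end: the row M12 (helper226)

`u` of order 11, `w₀ u w₀⁻¹ = u ^ 5`, `w₀` of order 5; the involutions `y` (2A), `p r` (2B) and their conjugates under
`b` have products of order 5.  So `dim [M, x] ≥ 4` for all involutions, `m_2(Aut M12) ≤ 4`.
-/

set_option autoImplicit false

namespace Cfsg.Agent.Omega.ML.RowM12

open Subgroup Cfsg Cfsg.Agent.Omega.ML.Rows Cfsg.Agent.Omega.ML.InvChain Cfsg.Agent.Omega.ML.InvTool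
open Cfsg.Agent.Omega.TwoF Cfsg.Agent.CoThreeStd.MTwelve Cfsg.Agent.CoThreeStd.InvTwo

universe u v

theorem wd_rep (l : List ℕ) (k : ℕ) : wd (List.replicate k l).flatten = wd l ^ k := by
  induction k with
  | zero => rfl
  | succ k ih => rw [List.replicate_succ, List.flatten_cons, wd_append, ih, pow_succ']

theorem order_wd {l : List ℕ} {n : ℕ} (hn : n.Prime) (h : eqW (List.replicate n l).flatten [] = true)
    (h1 : act l 0 ≠ 0) : orderOf (wd l) = n := by
  have : Fact n.Prime := ⟨hn⟩
  apply orderOf_eq_prime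
  · rw [← wd_rep, wd_eq h, wd_nil]
  · intro h2
    apply h1
    have h3 := (act_spec l 0 (by norm_num)).1
    rw [h2] at h3
    rw [← h3]
    exact enc_dec 0 (by norm_num)

theorem ord_u : orderOf (wd [2, 5, 1, 0]) = 11 := order_wd (by norm_num) (by decide +kernel) (by decide +kernel)

theorem ord_w : orderOf (wd [1, 5]) = 5 := order_wd (by norm_num) (by decide +kernel) (by decide +kernel)

theorem chain_u : Chain (wd [2, 5, 1, 0]) 10 := by
  refine Chain.base _ 10 (by rw [ord_u]; norm_num) (by rw [ord_u]; norm_num) ?_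
  intro j hj hj'
  rw [ord_u]
  interval_cases j <;> norm_num

theorem inv_w : (wd [1, 5])⁻¹ = wd [5, 1] := by
  rw [inv_eq_iff_mul_eq_one, ← wd_append]
  exact (wd_eq (by decide +kernel : eqW ([1, 5] ++ [5, 1]) [] = true)).trans wd_nil

theorem chain5 {w : Spor.M12} (hw : orderOf w = 5) : Chain w 8 := by
  refine chain_of_sylow (w₀ := wd [1, 5]) (k := 5) chain_u (by rw [ord_w]; norm_num) (by rw [ord_w]; norm_num) ?_ ?_
    (by rw [ord_w]; norm_num) (by rw [ord_w, TwoF.RowM12.card_M12]; norm_num) (by rw [hw, ord_w])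
  · rw [inv_w, ← wd_append, ← wd_append]
    rw [← wd_rep]
    exact wd_eq (by decide +kernel)
  · rw [← wd_append, ← wd_append]
    exact wd_ne 0 (by norm_num) (by decide +kernel)

theorem invAt_y : InvAt y 4 := by
  have h1 : y * y = 1 := (inv2.invA y isA_y).1
  refine invAt_of_mul (h := b) (m := 8) h1 (chain5 ?_) (by norm_num)
  have h2 : y * (b * y * b⁻¹) = wd [0, 5, 0, 5] := by
    have h3 : b⁻¹ = b := by
      rw [inv_eq_iff_mul_eq_one]
      have := wd_eq (by decide +kernel : eqW [5, 5] [] = true)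
      simpa [wd, gen] using this
    rw [h3]
    simp [wd, gen, mul_assoc]
  rw [h2]
  exact order_wd (by norm_num) (by decide +kernel) (by decide +kernel)

theorem invAt_pr : InvAt (p * r) 4 := by
  have h1 : p * r * (p * r) = 1 := (inv2.invB _ isB_pr).1
  refine invAt_of_mul (h := b) (m := 8) h1 (chain5 ?_) (by norm_num)
  have h2 : p * r * (b * (p * r) * b⁻¹) = wd [1, 3, 5, 1, 3, 5] := by
    have h3 : b⁻¹ = b := by
      rw [inv_eq_iff_mul_eq_one]
      have := wd_eq (by decide +kernel : eqW [5, 5] [] = true)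
      simpa [wd, gen] using this
    rw [h3]
    simp [wd, gen, mul_assoc]
  rw [h2]
  exact order_wd (by norm_num) (by decide +kernel) (by decide +kernel)

theorem invAt {x : Spor.M12} (h2 : x * x = 1) (h1 : x ≠ 1) : InvAt x 4 := by
  rcases inv2.cases x h2 h1 with ⟨c, rfl⟩ | ⟨c, rfl⟩
  · have := invAt_y.conj c⁻¹
    rwa [inv_inv] at this
  · have := invAt_pr.conj c⁻¹
    rwa [inv_inv] at this

theorem out_lt : (MulAut.conj : Spor.M12 →* MulAut Spor.M12).range.index < 8 :=
  lt_of_le_of_lt (Nat.le_of_dvd (by norm_num) TwoF.RowM12.index_dvd) (by norm_num)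

/-- **The row M12.** -/
theorem dead : Dead.{u, v} (fun S _ => Spor.IsoM12 S) := dead_of_model TwoF.RowM12.rk out_lt fun _ h2 h1 => invAt h2 h1

end Cfsg.Agent.Omega.ML.RowM12
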