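import Mathlib

/-!
# (ML), K-list end: lifting an element of prime order to a perfect central extension (helper907)

`exists_lift_of_perfect`: `π : H → B` surjective with central kernel, `H` finite perfect, `p² ∤ |B|`, `x ∈ B` of order
`p`: there is `x' ∈ H` of order `p` with `π x' = x`. [A Sylow `p`-subgroup `P` of `H` is abelian; the transfer `H → P`
is trivial and raises the elements of `ker π ∩ P` to the power `|H : P|`: so `p ∤ |ker π|`.]
-/

set_option autoImplicit false

namespace Cfsg.Agent.Omega.ML.LocTr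

open Subgroup

variable {H B : Type*} [Group H] [Group B] [Finite H] {π : H →* B} {p : ℕ}

theorem not_dvd_card_ker (hker : π.ker ≤ center H) (perf : commutator H = ⊤) (hp : p.Prime)
    (surj : Function.Surjective π) (hsq : ¬ p ^ 2 ∣ Nat.card B) : ¬ p ∣ Nat.card π.ker := by
  intro hd
  have hpf : Fact p.Prime := ⟨hp⟩
  obtain ⟨z, hz⟩ := exists_prime_orderOf_dvd_card' p hd
  have hzp : (z : H) ^ p = 1 := by
    have h1 : z ^ p = 1 := by rw [← hz]; exact pow_orderOf_eq_one z
    exact_mod_cast congrArg Subtype.val h1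
  have hz1 : (z : H) ≠ 1 := by
    intro h1
    have h2 : z = 1 := Subtype.ext h1
    rw [h2, orderOf_one] at hz
    exact hp.one_lt.ne hz
  have hzc : (z : H) ∈ center H := hker z.2
  obtain ⟨P⟩ : Nonempty (Sylow p H) := inferInstance
  have hle : zpowers (z : H) ≤ center H := by rw [zpowers_le]; exact hzc
  have hn : (zpowers (z : H)).Normal := ⟨fun y hy g => by
    rwa [mem_center_iff.1 (hle hy) g, mul_inv_cancel_right]⟩
  have hpg : IsPGroup p (zpowers (z : H)) := by
    intro y
    obtain ⟨k, hk⟩ := y.2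
    refine ⟨1, Subtype.ext ?_⟩
    rw [pow_one]
    change (y : H) ^ p = 1
    rw [← hk]
    change ((z : H) ^ k) ^ p = 1
    rw [← zpow_natCast, ← zpow_mul, mul_comm, zpow_mul, zpow_natCast, hzp, one_zpow]
  have hzP : (z : H) ∈ (P : Subgroup H) := hpg.le_sylow_of_normal P (mem_zpowers _)
  -- `P` is commutative
  have hB : Finite B := Finite.of_surjective π surj
  set f : (P : Subgroup H) →* B := π.comp (P : Subgroup H).subtype with hf
  have hr : IsPGroup p f.range := by
    rintro ⟨_, y, rfl⟩
    obtain ⟨k, hk⟩ := P.2 y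
    refine ⟨k, Subtype.ext ?_⟩
    change f y ^ p ^ k = 1
    rw [← map_pow, hk, map_one]
  obtain ⟨k, hk⟩ := IsPGroup.iff_card.1 hr
  have hk1 : k ≤ 1 := by
    by_contra hcon
    apply hsq
    have h1 : p ^ 2 ∣ Nat.card f.range := by rw [hk]; exact pow_dvd_pow p (by omega)
    exact h1.trans (card_subgroup_dvd_card _)
  have hcyc : IsCyclic f.range := by
    interval_cases k
    · rw [pow_zero] at hk
      have := (Nat.card_eq_one_iff_unique.1 hk).1
      exact isCyclic_of_subsingleton
    · rw [pow_one] at hk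
      exact isCyclic_of_prime_card hk
  have hcomm : ∀ a b : (P : Subgroup H), a * b = b * a := by
    suffices h : IsMulCommutative (P : Subgroup H) from h.is_comm.comm
    refine MonoidHom.isMulCommutative_of_isCyclic_of_ker_le_center f.rangeRestrict ?_
    intro y hy
    rw [MonoidHom.ker_rangeRestrict] at hy
    rw [mem_center_iff]
    intro w
    exact Subtype.ext (mem_center_iff.1 (hker (show (y : H) ∈ π.ker from hy)) w)
  let _ : CommGroup (P : Subgroup H) := { (inferInstance : Group (P : Subgroup H)) with mul_comm := hcomm }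
  have key : ∀ (k : ℕ) (g₀ : H), g₀⁻¹ * (z : H) ^ k * g₀ ∈ (P : Subgroup H) → g₀⁻¹ * (z : H) ^ k * g₀ = (z : H) ^ k := by
    intro k g _
    rw [mul_assoc, ← mem_center_iff.1 (Subgroup.pow_mem _ hzc k) g, inv_mul_cancel_left]
  have h1 := MonoidHom.transfer_eq_pow (MonoidHom.id (P : Subgroup H)) (z : H) key
  have h2 : (z : H) ∈ (MonoidHom.transfer (MonoidHom.id (P : Subgroup H))).ker := by
    have h3 := Abelianization.commutator_subset_ker (MonoidHom.transfer (MonoidHom.id (P : Subgroup H)))
    rw [perf] at h3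
    exact h3 (mem_top _)
  rw [MonoidHom.mem_ker, h1] at h2
  have h4 : (z : H) ^ (P : Subgroup H).index = 1 := congrArg Subtype.val h2
  have h5 : ¬ p ∣ (P : Subgroup H).index := P.not_dvd_index' index_ne_zero_of_finite
  have h6 : Nat.Coprime p (P : Subgroup H).index := (Nat.Prime.coprime_iff_not_dvd hp).2 h5
  have h7 : orderOf (z : H) ∣ Nat.gcd p (P : Subgroup H).index :=
    Nat.dvd_gcd (orderOf_dvd_of_pow_eq_one hzp) (orderOf_dvd_of_pow_eq_one h4)
  rw [h6, Nat.dvd_one, orderOf_eq_one_iff] at h7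
  exact hz1 h7

omit [Finite H] in
/-- **Lift of an element of prime order.** -/
theorem exists_lift_of_not_dvd (hp : p.Prime) (surj : Function.Surjective π) (hnd : ¬ p ∣ Nat.card π.ker) {x : B}
    (hx : orderOf x = p) : ∃ x' : H, π x' = x ∧ orderOf x' = p := by
  have hpf : Fact p.Prime := ⟨hp⟩
  obtain ⟨h, rfl⟩ := surj x
  have hc : Nat.Coprime (Nat.card π.ker) p := ((Nat.Prime.coprime_iff_not_dvd hp).2 hnd).symm
  obtain ⟨m, -, hm⟩ := Nat.exists_mul_mod_eq_one_of_coprime hc hp.one_lt
  have h1 : h ^ p ∈ π.ker := by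
    rw [MonoidHom.mem_ker, map_pow, ← hx, pow_orderOf_eq_one]
  have h2 : (h ^ p) ^ Nat.card π.ker = 1 := by
    have h3 : (⟨h ^ p, h1⟩ : π.ker) ^ Nat.card π.ker = 1 := pow_card_eq_one'
    exact congrArg Subtype.val h3
  have h3 : π (h ^ (Nat.card π.ker * m)) = π h := by
    rw [map_pow]
    conv_rhs => rw [← pow_one (π h)]
    rw [pow_eq_pow_iff_modEq, hx]
    change _ % p = 1 % p
    rw [hm, Nat.mod_eq_of_lt hp.one_lt]
  refine ⟨h ^ (Nat.card π.ker * m), h3, ?_⟩
  apply orderOf_eq_prime
  · rw [← pow_mul, show Nat.card π.ker * m * p = p * Nat.card π.ker * m by ring, pow_mul, pow_mul, h2, one_pow]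
  · intro h4
    rw [h4, map_one] at h3
    rw [← h3, orderOf_one] at hx
    exact hp.one_lt.ne hx

/-- **Lift of an element of prime order to a perfect central extension.** -/
theorem exists_lift_of_perfect (hker : π.ker ≤ center H) (perf : commutator H = ⊤) (hp : p.Prime)
    (surj : Function.Surjective π) (hsq : ¬ p ^ 2 ∣ Nat.card B) {x : B} (hx : orderOf x = p) :
    ∃ x' : H, π x' = x ∧ orderOf x' = p :=
  exists_lift_of_not_dvd hp surj (not_dvd_card_ker hker perf hp surj hsq) hx

end Cfsg.Agent.Omega.ML.LocTr
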