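import Cfsg.Agent.Omega.ML.LocK
import Cfsg.Agent.Omega.ML.LocTr
import Cfsg.Agent.Omega.ML.LocRow
import Cfsg.Agent.Omega.ML.RowsDead

/-!
# (ML), the K-list end: from the K-fact `LocK.Loc` to the row (helper907)

* `In.false_of_loc` : the K-fact for the almost simple group `X = H / C_H(K)` and a prime `p` with `p² ∤ |X|`
  excludes the situation `In`;
* `In.eq_top` : `H = K` if all automorphisms of `K / Z(K)` are inner;
* `dead_of_loc` : the row of a class of simple groups with the K-fact and without outer automorphisms;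
* `dead_of_locX` : the row from the K-fact for the almost simple groups `X` of the situation `Rows.AS`.
-/

set_option autoImplicit false

namespace Cfsg.Agent.Omega.ML.LocRow

open Subgroup Cfsg Cfsg.Agent.ClassTwoFusion.Quad Cfsg.Agent.Omega.NOThree.NoOver Cfsg.Agent.Omega.ML.CD
open Cfsg.Agent.ZN Cfsg.Agent.Omega.ML.Rows Cfsg.Agent.Omega.ML.Loc

universe u v w

/-! ### Sylow -/

section sylow

variable {X : Type*} [Group X] [Finite X]

/-- A subgroup of odd index contains a conjugate of the Sylow 2-subgroup `T`. -/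
theorem exists_conj_le {T N : Subgroup X} (hT : IsPGroup 2 T) (hTi : ¬ 2 ∣ T.index) (hN : ¬ 2 ∣ N.index) :
    ∃ g : X, ∀ t ∈ T, g * t * g⁻¹ ∈ N := by
  have hf : Fact (Nat.Prime 2) := ⟨Nat.prime_two⟩
  obtain ⟨P⟩ : Nonempty (Sylow 2 N) := inferInstance
  have hP : IsPGroup 2 ((P : Subgroup N).map N.subtype) := P.2.map _
  have hPi : ¬ 2 ∣ ((P : Subgroup N).map N.subtype).index := by
    rw [index_map_subtype]
    intro h
    rcases (Nat.prime_two.dvd_mul).1 h with h | h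
    · exact P.not_dvd_index' index_ne_zero_of_finite h
    · exact hN h
  obtain ⟨g, hg⟩ := MulAction.exists_smul_eq X (hT.toSylow hTi) (hP.toSylow hPi)
  refine ⟨g, fun t ht => ?_⟩
  have h1 : ((g • hT.toSylow hTi : Sylow 2 X) : Subgroup X) = (P : Subgroup N).map N.subtype := by
    rw [hg]; rfl
  have h2 : g * t * g⁻¹ ∈ ((g • hT.toSylow hTi : Sylow 2 X) : Subgroup X) := ⟨t, ht, rfl⟩
  rw [h1] at h2
  obtain ⟨y, -, hy⟩ := h2
  rw [← hy]
  exact y.2

omit [Finite X] in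
/-- A 2-subgroup normalised by the Sylow 2-subgroup `T` lies in `T`. -/
theorem le_of_norm {T E : Subgroup X} (hT : IsPGroup 2 T) (hTi : ¬ 2 ∣ T.index) (hE : IsPGroup 2 E)
    (hn : T ≤ normalizer (E : Set X)) : E ≤ T := by
  have hf : Fact (Nat.Prime 2) := ⟨Nat.prime_two⟩
  have h1 : IsPGroup 2 (T ⊔ E : Subgroup X) := IsPGroup.to_sup_of_normal_right' hT hE hn
  have h2 : (T ⊔ E : Subgroup X) = T := (hT.toSylow hTi).is_maximal' h1 le_sup_left
  exact le_sup_right.trans h2.le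

end sylow

variable {H : Type u} [Group H] [Finite H] {M : Type v} [Group M] [Finite M]
  [MulDistribMulAction H M] {K T A : Subgroup H}

omit [Finite H] [Finite M] in
/-- The square of every element of `H` lies in `K`. -/
theorem sq_mem (h : In H M K T A) (g : H) : g * g ∈ K := by
  have hK := h.norm
  have hg : g ∈ K ⊔ A := h.gen ▸ mem_top g
  obtain ⟨k, hk, a, ha, rfl⟩ := mem_sup_of_normal_left.1 hg
  have h1 : k * a * (k * a) = k * (a * k * a⁻¹) * (a * a) := by group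
  rw [h1, h.el a ha, mul_one]
  exact K.mul_mem hk (hK.conj_mem k hk a)

/-- **THEOREM LOC from the K-fact of the almost simple group `X`.** -/
theorem _root_.Cfsg.Agent.Omega.ML.Rows.In.false_of_loc (h : In H M K T A) {X : Type w} [Group X] {π : H →* X} (surj : Function.Surjective π)
    (hker : π.ker = centralizer (K : Set H)) {E : Subgroup X} {x : X} {p n : ℕ} (L : LocK.Loc X E x p n)
    (hsq : ¬ p ^ 2 ∣ Nat.card X) : False := by
  have hX : Finite X := Finite.of_surjective π surj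
  have hf : Fact (Nat.Prime 2) := ⟨Nat.prime_two⟩
  have hT' : IsPGroup 2 (T.map π) := h.two.map π
  have hTi' : ¬ 2 ∣ (T.map π).index := fun h1 => h.syl (h1.trans (index_map_dvd T surj))
  -- WLOG `π(T)` normalises `E`
  obtain ⟨g, hg⟩ := exists_conj_le hT' hTi' L.odd
  obtain ⟨F, y, L', hTF⟩ : ∃ (F : Subgroup X) (y : X), LocK.Loc X F y p n ∧ T.map π ≤ normalizer (F : Set X) := by
    refine ⟨_, _, L.map (MulAut.conj g⁻¹), fun t ht => ?_⟩
    have key : ∀ s ∈ T.map π, ∀ a ∈ E.map (MulAut.conj g⁻¹).toMonoidHom,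
        s * a * s⁻¹ ∈ E.map (MulAut.conj g⁻¹).toMonoidHom := by
      rintro s hs _ ⟨e, he, rfl⟩
      have h1 := (mem_normalizer_iff.1 (hg s hs) e).1 he
      refine ⟨_, h1, ?_⟩
      change g⁻¹ * (g * s * g⁻¹ * e * (g * s * g⁻¹)⁻¹) * g⁻¹⁻¹ = s * (g⁻¹ * e * g⁻¹⁻¹) * s⁻¹
      group
    refine LocK.mem_normalizer_of (fun a ha => key t ht a ha) fun a ha => ?_
    have h2 := key t⁻¹ ((T.map π).inv_mem ht) a ha
    rwa [inv_inv] at h2
  clear hg L
  have hF2 : IsPGroup 2 F := fun a => ⟨1, Subtype.ext (by rw [pow_one, pow_two]; exact L'.sq a a.2)⟩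
  have hFT : F ≤ T.map π := le_of_norm hT' hTi' hF2 hTF
  have hbot := h.inf_eq_bot T h.two
  have hinj : ∀ t ∈ T, π t = 1 → t = 1 := by
    intro t ht h1
    have h2 : t ∈ T ⊓ centralizer (K : Set H) := ⟨ht, by rw [← hker]; exact h1⟩
    rw [hbot] at h2
    exact mem_bot.1 h2
  have hsqT : ∀ t ∈ T, π t ∈ F → t * t = 1 := fun t ht h1 =>
    hinj _ (T.mul_mem ht ht) (by rw [map_mul]; exact L'.sq _ h1)
  -- the lift of `x`
  have hpr := L'.prime
  have hodd : p % 2 = 1 := hpr.eq_two_or_odd.resolve_left L'.p2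
  have hyS : y ∈ K.map π := by
    obtain ⟨g, hg⟩ := surj y
    have h1 : y ^ 2 ∈ K.map π := by
      rw [pow_two]
      exact ⟨g * g, sq_mem h g, by rw [map_mul, hg]⟩
    have h2 : y = (y ^ 2) ^ ((p + 1) / 2) := by
      rw [← pow_mul, show 2 * ((p + 1) / 2) = p + 1 by omega, pow_succ, ← L'.ord, pow_orderOf_eq_one, one_mul]
    rw [h2]
    exact Subgroup.pow_mem _ h1 _
  obtain ⟨x', hx1, hx2⟩ : ∃ x' : H, π x' = y ∧ x' ^ p = 1 := by
    have h1 := LocTr.exists_lift_of_perfect (π := π.subgroupMap K) (p := p) (x := ⟨y, hyS⟩) ?_ h.perf hpr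
      (MonoidHom.subgroupMap_surjective _ _) (fun h1 => hsq (h1.trans (card_subgroup_dvd_card _))) ?_
    · obtain ⟨k, hk1, hk2⟩ := h1
      refine ⟨k, congrArg Subtype.val hk1, ?_⟩
      have h3 : k ^ p = 1 := by rw [← hk2]; exact pow_orderOf_eq_one k
      exact_mod_cast congrArg Subtype.val h3
    · intro k hk
      rw [mem_center_iff]
      intro l
      have h2 : π (k : H) = 1 := congrArg Subtype.val hk
      have h3 : (k : H) ∈ centralizer (K : Set H) := by rw [← hker]; exact h2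
      exact Subtype.ext (mem_centralizer_iff.1 h3 l l.2)
    · rw [← L'.ord, ← orderOf_submonoid]
  -- the subgroup of `T`
  refine h.false_of_prime (E := T ⊓ F.comap π) (x := x') (p := p) (n := n) inf_le_left ?_ ?_ ?_ ?_ hpr L'.p2 L'.nd hx2
    ?_ ?_
  · rintro t ht e ⟨he, he'⟩
    refine ⟨T.mul_mem (T.mul_mem ht he) (T.inv_mem ht), ?_⟩
    change π (t * e * t⁻¹) ∈ F
    rw [map_mul, map_mul, map_inv]
    exact (mem_normalizer_iff.1 (hTF ⟨t, ht, rfl⟩) _).1 he'
  · rintro e ⟨he, he'⟩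
    exact hsqT e he he'
  · rw [← L'.card]
    refine Nat.card_le_card_of_injective (fun e : (T ⊓ F.comap π : Subgroup H) => (⟨π e, e.2.2⟩ : F)) ?_
    intro a b hab
    have h1 : π a = π b := congrArg Subtype.val hab
    have h2 : (a : H) * (b : H)⁻¹ = 1 := hinj _ (T.mul_mem a.2.1 (T.inv_mem b.2.1)) (by
      rw [map_mul, map_inv, h1, mul_inv_cancel])
    exact Subtype.ext (mul_inv_eq_one.1 h2)
  · intro t ht hc
    refine ⟨ht, L'.cent _ fun a ha => ?_⟩
    obtain ⟨e, he, rfl⟩ := hFT ha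
    rw [← map_mul, hc e ⟨he, ha⟩, map_mul]
  · rintro e ⟨he, he'⟩
    have h1 : π (x' * e * x'⁻¹) ∈ F := by
      rw [map_mul, map_mul, map_inv, hx1]
      exact L'.norm _ he'
    obtain ⟨t, ht, ht'⟩ := hFT h1
    have hζ : t⁻¹ * (x' * e * x'⁻¹) ∈ centralizer (K : Set H) := by
      rw [← hker, MonoidHom.mem_ker, map_mul, map_inv, ht', inv_mul_cancel]
    have hcom := h.zen _ hζ
    have ht2 : t * t = 1 := hsqT t ht (by rw [ht']; exact h1)
    have he2 : e * e = 1 := hsqT e he he'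
    have h2 : (t⁻¹ * (x' * e * x'⁻¹)) * (t⁻¹ * (x' * e * x'⁻¹)) = 1 := by
      have h3 : t⁻¹ = t := inv_eq_of_mul_eq_one_left ht2
      calc (t⁻¹ * (x' * e * x'⁻¹)) * (t⁻¹ * (x' * e * x'⁻¹))
          = (t⁻¹ * (x' * e * x'⁻¹)) * t⁻¹ * (x' * e * x'⁻¹) := by group
        _ = t⁻¹ * (t⁻¹ * (x' * e * x'⁻¹)) * (x' * e * x'⁻¹) := by rw [hcom]
        _ = (t * t)⁻¹ * (x' * (e * e) * x'⁻¹) := by group
        _ = 1 := by rw [ht2, he2]; group
    have h3 : t⁻¹ * (x' * e * x'⁻¹) = 1 := by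
      have h4 : orderOf (t⁻¹ * (x' * e * x'⁻¹)) ∣ 2 := orderOf_dvd_of_pow_eq_one (by rw [pow_two]; exact h2)
      have h5 : orderOf (t⁻¹ * (x' * e * x'⁻¹)) ∣ Nat.card (center K) := by
        rw [← h.card_centralizer]
        have := orderOf_dvd_natCard (⟨_, hζ⟩ : centralizer (K : Set H))
        rwa [orderOf_mk] at this
      have h6 : Nat.Coprime 2 (Nat.card (center K)) := Nat.coprime_two_left.2 h.odd
      exact orderOf_eq_one_iff.1 (Nat.eq_one_of_dvd_coprimes h6 h4 h5)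
    have h4 : x' * e * x'⁻¹ = t := by
      rw [inv_mul_eq_one] at h3
      exact h3.symm
    exact ⟨by rw [h4]; exact ht, h1⟩
  · obtain ⟨a, ha, hne⟩ := L'.ne
    obtain ⟨e, he, rfl⟩ := hFT ha
    refine ⟨e, ⟨he, ha⟩, fun h1 => hne ?_⟩
    rw [← hx1, ← map_mul, h1, map_mul]

omit [Finite H] [Finite M] in
/-- `H = K` if all the automorphisms of `K / Z(K)` are inner. -/
theorem _root_.Cfsg.Agent.Omega.ML.Rows.In.eq_top (h : In H M K T A)
    (inn : ∀ α : MulAut (K ⧸ center K), ∃ k, α = MulAut.conj k) : K = ⊤ := by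
  rw [eq_top_iff]
  intro g _
  have hK := h.norm
  -- the action of `g` on `K / Z(K)`
  let φ : MulAut K := MulAut.conjNormal g
  have hφ : (center K).map φ.toMonoidHom = center K := by
    exact characteristic_iff_map_eq.1 inferInstance φ
  let α : MulAut (K ⧸ center K) := QuotientGroup.congr (center K) (center K) φ hφ
  obtain ⟨q, hq⟩ := inn α
  obtain ⟨k, rfl⟩ := QuotientGroup.mk_surjective q
  have h1 : (k : H)⁻¹ * g ∈ centralizer (K : Set H) := by
    refine commutes_of_central h.perf fun l hl x => ?_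
    have h2 : α (QuotientGroup.mk ⟨l, hl⟩) = MulAut.conj (QuotientGroup.mk k) (QuotientGroup.mk ⟨l, hl⟩) := by rw [hq]
    have h3 : (QuotientGroup.mk (φ ⟨l, hl⟩) : K ⧸ center K) = QuotientGroup.mk (k * ⟨l, hl⟩ * k⁻¹) := h2
    rw [QuotientGroup.eq] at h3
    have h5 : (g * l * g⁻¹)⁻¹ * ((k : H) * l * (k : H)⁻¹) ∈ centralizer (K : Set H) :=
      mem_centralizer_iff.2 fun w hw => congrArg Subtype.val (mem_center_iff.1 h3 ⟨w, hw⟩)
    have h6 : l * (k : H)⁻¹ ∈ K := K.mul_mem hl (K.inv_mem k.2)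
    have h7 := mem_centralizer_iff.1 ((centralizer (K : Set H)).inv_mem h5) _ h6
    have h4 : (k : H)⁻¹ * g * l * ((k : H)⁻¹ * g)⁻¹ * l⁻¹ = ((g * l * g⁻¹)⁻¹ * ((k : H) * l * (k : H)⁻¹))⁻¹ := by
      calc (k : H)⁻¹ * g * l * ((k : H)⁻¹ * g)⁻¹ * l⁻¹
          = (l * (k : H)⁻¹ * ((g * l * g⁻¹)⁻¹ * ((k : H) * l * (k : H)⁻¹))⁻¹) * (l * (k : H)⁻¹)⁻¹ := by group
        _ = _ := by rw [h7, mul_inv_cancel_right]
    rw [h4]
    exact h.zen _ ((centralizer (K : Set H)).inv_mem h5) x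
  have h2 := K.mul_mem k.2 (h.cen h1)
  rwa [mul_inv_cancel_left] at h2

/-- **The row of a class of simple groups with the K-fact and without outer automorphisms.** -/
theorem dead_of_loc {𝒮 : ∀ (S : Type u) [Group S], Prop}
    (hS : ∀ (S : Type u) [Group S] [Finite S], 𝒮 S → (∃ (E : Subgroup S) (x : S) (p n : ℕ),
      LocK.Loc S E x p n ∧ ¬ p ^ 2 ∣ Nat.card S) ∧ ∀ α : MulAut S, ∃ k, α = MulAut.conj k) :
    Dead.{u, v} 𝒮 := by
  intro H _ _ M _ _ _ K T A h hK
  obtain ⟨⟨E, x, p, n, L, hsq⟩, inn⟩ := hS _ hK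
  have htop := h.eq_top inn
  subst htop
  -- `H → K / Z(K)`
  let π : H →* ((⊤ : Subgroup H) ⧸ center (⊤ : Subgroup H)) :=
    (QuotientGroup.mk' (center (⊤ : Subgroup H))).comp (topEquiv (G := H)).symm.toMonoidHom
  refine h.false_of_loc (π := π) ?_ ?_ L hsq
  · exact (QuotientGroup.mk'_surjective _).comp (topEquiv (G := H)).symm.surjective
  · ext g
    rw [MonoidHom.mem_ker, mem_centralizer_iff]
    constructor
    · intro h1 k _
      have h2 : ((topEquiv (G := H)).symm g) ∈ center (⊤ : Subgroup H) := (QuotientGroup.eq_one_iff _).1 h1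
      exact congrArg Subtype.val (mem_center_iff.1 h2 ⟨k, mem_top k⟩)
    · intro h1
      refine (QuotientGroup.eq_one_iff _).2 (mem_center_iff.2 fun k => Subtype.ext ?_)
      exact h1 k (mem_top _)

/-- **The row from the K-fact for the almost simple groups.** -/
theorem dead_of_locX {𝒮 : ∀ (S : Type u) [Group S], Prop} (h𝒮 : IsoClosed.{u} 𝒮)
    (hS : ∀ (X : Type u) [Group X] [Finite X] (S T A : Subgroup X), AS S T A → 8 ≤ Nat.card A → 𝒮 S →
      ∃ (E : Subgroup X) (x : X) (p n : ℕ), LocK.Loc X E x p n ∧ ¬ p ^ 2 ∣ Nat.card X) :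
    Dead.{u, v} 𝒮 := by
  intro H _ _ M _ _ _ K T A h hK
  have hZ := h.normalZ
  have h8 := h.eight
  rw [← h.card_map hZ] at h8
  obtain ⟨E, x, p, n, L, hsq⟩ := hS _ _ _ _ (h.as hZ) h8 (h𝒮 _ _ (equivZ hZ) hK)
  exact h.false_of_loc (QuotientGroup.mk'_surjective _) (QuotientGroup.ker_mk' _) L hsq

end Cfsg.Agent.Omega.ML.LocRow
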