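import Cfsg.Agent.Omega.ML.LocM22

/-!
# (ML), THEOREM LOC: the K-fact of `M23`: `2⁴:A7` on an octad missing the point, an element of order 5 (helper278)
-/

set_option autoImplicit false

namespace Cfsg.Agent.Omega.ML.LocM23

open Subgroup Cfsg
open Cfsg.Agent.SporadicA.GolayBase Cfsg.Agent.SporadicA.GolayPerm
open Cfsg.Agent.SporadicStructure.MonoCounts Cfsg.Agent.SporadicStructure.MonoPerms
open Cfsg.Agent.SporadicA.OctadFix
open Cfsg.Agent.Omega.ML.LocK
open scoped Pointwise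

/-- The octads through `none`. -/
theorem ncard_octads_none : {O : Finset GolayPt | O ∈ octads ∧ none ∈ O}.ncard = 253 := by
  have h := ncard_octads (fun m => m.testBit 23)
  have h2 : cnt 12 0 (fun i => force (enc i) fun m => Nat.beq (popcount m) 8 && m.testBit 23) = 253 := by
    decide +kernel
  rw [h2] at h
  rw [← h]
  congr 1
  ext O
  simp only [Set.mem_ofPred_eq, mem_iff_testBit]
  exact Iff.rfl

theorem exists_ne {O : Finset GolayPt} (hO : O ∈ octads) (h0 : none ∈ O) : ∃ q ∈ O, (none : GolayPt) ≠ q := by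
  by_contra hcon
  push Not at hcon
  have h1 : O = {none} := Finset.eq_singleton_iff_unique_mem.2 ⟨h0, fun x hx => (hcon x hx).symm⟩
  have h2 : O.card = 8 := hO.2
  rw [h1, Finset.card_singleton] at h2
  omega

theorem index_stab {O : Finset GolayPt} (hO : O ∈ octads) (h0 : none ∈ O) :
    (MulAction.stabilizer Spor.M23 O).index = 253 := by
  rw [MulAction.index_stabilizer, ← ncard_octads_none]
  congr 1
  ext O'
  rw [MulAction.mem_orbit_iff]
  constructor
  · rintro ⟨g, rfl⟩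
    obtain ⟨hM, g0⟩ := (Cfsg.Agent.SporadicA.MathieuRecog.mem_M23_iff (g : Equiv.Perm GolayPt)).1 g.2
    refine ⟨(GolayOrbit.Walk.smul_mem_octads_iff hM O).2 hO, ?_⟩
    have := Finset.smul_mem_smul_finset (a := (g : Equiv.Perm GolayPt)) h0
    rwa [Equiv.Perm.smul_def, g0] at this
  · rintro ⟨hO', k0⟩
    obtain ⟨q, hq, hne⟩ := exists_ne hO h0
    obtain ⟨q', hq', hne'⟩ := exists_ne hO' k0
    obtain ⟨g, hg, e, g0, -⟩ := Cfsg.Agent.J4Type.HexStab.exists_flag hO hO' h0 hq hne k0 hq' hne'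
    exact ⟨⟨g, (Cfsg.Agent.SporadicA.MathieuRecog.mem_M23_iff g).2 ⟨hg, g0⟩⟩, e⟩

theorem exists_loc_M23 : ∃ (E : Subgroup Spor.M23) (x : Spor.M23), Loc Spor.M23 E x 5 4 := by
  have hne : {O : Finset GolayPt | O ∈ octads ∧ none ∈ O}.Nonempty := by
    rw [Set.nonempty_iff_ne_empty]
    intro e
    have := ncard_octads_none
    rw [e, Set.ncard_empty] at this
    omega
  obtain ⟨O, hO, h0⟩ := hne
  have hi := index_stab hO h0
  have hK : Spor.M23 ≤ M24 := fun g hg => ((Cfsg.Agent.SporadicA.MathieuRecog.mem_M23_iff g).1 hg).1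
  refine LocM22.exists_loc_of hK hO ?_ ?_ ?_
  · intro g hg
    rw [mem_fixOct] at hg
    exact (Cfsg.Agent.SporadicA.MathieuRecog.mem_M23_iff g).2 ⟨hg.1, hg.2 _ h0⟩
  · rw [hi]; omega
  · have h2 := card_mul_index (MulAction.stabilizer Spor.M23 O)
    rw [hi, Cfsg.Agent.SporadicA.MathieuRecog.card_M23] at h2
    omega

theorem hasLoc_M23 : HasLoc Spor.M23 := by
  obtain ⟨E, x, h⟩ := exists_loc_M23
  exact ⟨E, x, 5, 4, h⟩

/-- **The K-fact of `M23`.** -/
theorem hasLoc {K : Type*} [Group K] (h : Spor.IsoM23 K) : HasLoc K := by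
  obtain ⟨e⟩ := h
  exact HasLoc.congr e.symm hasLoc_M23

end Cfsg.Agent.Omega.ML.LocM23
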