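import Cfsg.Agent.Omega.ML.LocExt
import Cfsg.Agent.Omega.ML.LocM23
import Cfsg.Agent.J4Type.Aut22

/-!
# (ML), THEOREM LOC: the K-fact of the almost simple groups `M22`, `M22:2`, `M23` (helper278)
-/

set_option autoImplicit false

namespace Cfsg.Agent.Omega.ML.LocM22X

open Subgroup Cfsg
open Cfsg.Agent.SporadicA.OctadFix
open Cfsg.Agent.J4Type.Aut22
open Cfsg.Agent.Omega.ML.LocK Cfsg.Agent.Omega.ML.LocExt
open scoped Pointwise

theorem mem_of_D22 {g : Equiv.Perm GolayPt} (hg : g ∈ D22) {O : Finset GolayPt} (h0 : none ∈ O) (h1 : some 0 ∈ O) :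
    none ∈ g • O ∧ some 0 ∈ g • O := by
  have e0 := Finset.smul_mem_smul_finset (a := g) h0
  have e1 := Finset.smul_mem_smul_finset (a := g) h1
  rw [Equiv.Perm.smul_def] at e0 e1
  rcases ((mem_D22_iff g).1 hg).2 with ⟨g0, g1⟩ | ⟨g0, g1⟩
  · rw [g0] at e0
    rw [g1] at e1
    exact ⟨e0, e1⟩
  · rw [g0] at e0
    rw [g1] at e1
    exact ⟨e1, e0⟩

theorem index_stab {K : Subgroup (Equiv.Perm GolayPt)} (hK : Spor.M22 ≤ K) (hK' : K ≤ D22) {O : Finset GolayPt}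
    (hO : O ∈ octads) (h0 : none ∈ O) (h1 : some 0 ∈ O) : (MulAction.stabilizer K O).index = 77 := by
  rw [MulAction.index_stabilizer, ← Cfsg.Agent.SporadicStructure.MonoCounts.ncard_octads_in]
  congr 1
  ext O'
  rw [MulAction.mem_orbit_iff]
  constructor
  · rintro ⟨g, rfl⟩
    have hg := hK' g.2
    exact ⟨(GolayOrbit.Walk.smul_mem_octads_iff ((mem_D22_iff _).1 hg).1 O).2 hO, mem_of_D22 hg h0 h1⟩
  · rintro ⟨hO', k0, k1⟩
    obtain ⟨g, hg, e, g0, g1⟩ := Cfsg.Agent.J4Type.HexStab.exists_flag hO hO' h0 h1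
      Cfsg.Agent.J4Type.HexStab.none_ne_zero k0 k1 Cfsg.Agent.J4Type.HexStab.none_ne_zero
    exact ⟨⟨g, hK ((Cfsg.Agent.SporadicA.MathieuRecog.mem_M22_iff g).2 ⟨hg, g0, g1⟩)⟩, e⟩

/-- the two groups `M22`, `M22:2` -/
theorem exists_loc_of_between {K : Subgroup (Equiv.Perm GolayPt)} (hK : Spor.M22 ≤ K) (hK' : K ≤ D22) :
    (∃ (E : Subgroup K) (x : K), Loc K E x 5 4) ∧ ¬ 5 ^ 2 ∣ Nat.card K := by
  have hne : {O : Finset GolayPt | O ∈ octads ∧ (none ∈ O ∧ some 0 ∈ O)}.Nonempty := by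
    rw [Set.nonempty_iff_ne_empty]
    intro e
    have := Cfsg.Agent.SporadicStructure.MonoCounts.ncard_octads_in
    rw [e, Set.ncard_empty] at this
    omega
  obtain ⟨O, hO, h0, h1⟩ := hne
  have hi := index_stab hK hK' hO h0 h1
  constructor
  · refine LocM22.exists_loc_of (fun g hg => ((mem_D22_iff g).1 (hK' hg)).1) hO ?_ ?_ ?_
    · intro g hg
      rw [mem_fixOct] at hg
      exact hK ((Cfsg.Agent.SporadicA.MathieuRecog.mem_M22_iff g).2 ⟨hg.1, hg.2 _ h0, hg.2 _ h1⟩)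
    · rw [hi]; omega
    · have h2 := card_mul_index (MulAction.stabilizer K O)
      have h3 := card_dvd_of_le hK
      rw [hi] at h2
      rw [Cfsg.Agent.SporadicA.MathieuRecog.card_M22] at h3
      omega
  · intro h
    have h2 := h.trans (card_dvd_of_le hK')
    rw [card_D22] at h2
    omega

/-- **The K-fact of `M22` and `M22:2`**: `S ⊴ X`, `C_X(S) = 1`, `S ≅ M22`. -/
theorem exists_loc {X : Type*} [Group X] {S : Subgroup X} [S.Normal]
    (hS : ∀ x : X, (∀ s ∈ S, x * s * x⁻¹ = s) → x = 1) (h : Spor.IsoM22 S) :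
    (∃ (E : Subgroup X) (x : X), Loc X E x 5 4) ∧ ¬ 5 ^ 2 ∣ Nat.card X := by
  obtain ⟨e⟩ := h
  obtain ⟨φ, hφ, h1, h2⟩ := exists_embed M22_le_D22 e hS exists_conj fun g hg hm => eq_one_of_centralizes hg hm
  obtain ⟨⟨E, x, hE⟩, h5⟩ := exists_loc_of_between h1 h2
  refine ⟨⟨_, _, hE.map (MonoidHom.ofInjective hφ).symm⟩, ?_⟩
  rwa [Nat.card_congr (MonoidHom.ofInjective hφ).toEquiv]

end Cfsg.Agent.Omega.ML.LocM22X
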