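import Cfsg.Agent.Omega.ML.RowsOdd
import Cfsg.Agent.Omega.TwoF.RowM23

/-!
# (ML), the K-list end: the row M23 (helper809)

`Aut(M23) = M23` and `M22` is a simple subgroup of index 23.
-/

set_option autoImplicit false

namespace Cfsg.Agent.Omega.ML.RowM23

open Subgroup Cfsg Cfsg.Agent.ZN Cfsg.Agent.Omega.TwoF Cfsg.Agent.Omega.ML.Rows

universe u v

theorem exists_M22 : ∃ R : Subgroup Spor.M23, IsSimpleGroup R ∧ R.index = 23 ∧ Nat.card R = 443520 := by
  have hle : Spor.M22 ≤ Spor.M23 := Cfsg.Agent.SporadicA.MathieuRecog.M22_le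
  have e := subgroupOfEquivOfLe hle
  have hs : IsSimpleGroup Spor.M22 := Cfsg.Agent.SporadicA.MathieuRecog.simple_M22
  have hc : Nat.card (Spor.M22.subgroupOf Spor.M23) = 443520 := by
    rw [Nat.card_congr e.toEquiv]
    exact Cfsg.Agent.SporadicA.MathieuRecog.card_M22
  refine ⟨Spor.M22.subgroupOf Spor.M23, e.isSimpleGroup, ?_, hc⟩
  have h1 := (Spor.M22.subgroupOf Spor.M23).card_mul_index
  rw [hc, Cfsg.Agent.SporadicA.MathieuRecog.card_M23] at h1
  omega

/-- **The row `M23`.** -/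
theorem deadG : DeadG.{u} (fun S _ => Spor.IsoM23 S) := by
  intro X _ _ S T A h hS
  have hp : Fact (Nat.Prime 2) := ⟨Nat.prime_two⟩
  have htop : S = ⊤ := h.top_of_inner fun α _ => by
    obtain ⟨k, hk⟩ := Cfsg.Agent.KFacts.M23.OutOne.exists_conj' hS α
    exact ⟨k, MulEquiv.ext fun x => hk x⟩
  obtain ⟨e⟩ := hS
  obtain ⟨R, hs, hi, hc⟩ := exists_M22
  have e' : R.comap e.toMonoidHom ≃* R :=
    ((R.comap e.toMonoidHom).equivMapOfInjective _ e.injective).trans
      (MulEquiv.subgroupCongr (map_comap_eq_self_of_surjective e.surjective R))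
  refine (h.card_le_of_odd_index_simple htop (R := R.comap e.toMonoidHom) ?_ ?_ e'.isSimpleGroup ?_).trans (by norm_num)
  · rw [index_comap_of_surjective _ e.surjective, hi]
    norm_num
  · intro h1
    have h2 := index_comap_of_surjective R (f := e.toMonoidHom) e.surjective
    rw [h1, index_top, hi] at h2
    omega
  · intro h1
    obtain ⟨n, hn⟩ := IsPGroup.iff_card.1 h1
    rw [Nat.card_congr e'.toEquiv, hc] at hn
    have h3 : (3 : ℕ) ∣ 2 ^ n := hn ▸ by norm_num
    have h4 := Nat.Prime.dvd_of_dvd_pow Nat.prime_three h3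
    omega

theorem dead : Dead.{u, v} (fun S _ => Spor.IsoM23 S) :=
  deadG.dead fun _ _ _ _ e ⟨f⟩ => ⟨e.symm.trans f⟩

end Cfsg.Agent.Omega.ML.RowM23
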