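import Cfsg.Agent.Omega.ML.LocK
import Cfsg.Agent.KFacts.M24Two.Octad
import Cfsg.Agent.KFacts.M24Two.Syl
import Cfsg.Prelude.Def_Spor_Mathieu

/-!
# (ML), THEOREM LOC: the K-fact of `M24`: `2⁴:A8`, an element of order 5 (helper917)
-/

set_option autoImplicit false

namespace Cfsg.Agent.Omega.ML.LocM24

open Subgroup Cfsg
open Cfsg.Agent.KFacts.M24Two.CentZ Cfsg.Agent.KFacts.M24Two.Octad
open Cfsg.Agent.KFacts.M24Pair.Letters
open Cfsg.Agent.Omega.ML.LocK

/-- the element of order 5 of `N(E1)` -/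
noncomputable def x5 : M24 := ev [5, 10, 11, 15]

theorem x5_pow : x5 ^ 5 = 1 := by
  have h := weq (u := [5, 10, 11, 15, 5, 10, 11, 15, 5, 10, 11, 15, 5, 10, 11, 15, 5, 10, 11, 15]) (v := [])
    (by decide +kernel)
  rw [ev_nil] at h
  rw [← h]
  have e : ([5, 10, 11, 15, 5, 10, 11, 15, 5, 10, 11, 15, 5, 10, 11, 15, 5, 10, 11, 15] : List ℕ) =
    [5, 10, 11, 15] ++ ([5, 10, 11, 15] ++ ([5, 10, 11, 15] ++ ([5, 10, 11, 15] ++ [5, 10, 11, 15]))) := rfl
  rw [e]
  simp only [ev_append]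
  change x5 ^ 5 = x5 * (x5 * (x5 * (x5 * x5)))
  simp only [pow_succ, pow_zero, one_mul, mul_assoc]

theorem x5_ne : x5 ≠ 1 := by
  have h := ne_of_wneb (u := [5, 10, 11, 15]) (v := []) (by decide +kernel)
  rwa [ev_nil] at h

theorem orderOf_x5 : orderOf x5 = 5 := by
  have : Fact (Nat.Prime 5) := ⟨by norm_num⟩
  exact orderOf_eq_prime x5_pow x5_ne

theorem x5_mem_N : x5 ∈ N := ev_mem_N (by decide)

theorem letters_comm : ∀ r ∈ [0, 1, 2, 3], ∀ s ∈ [0, 1, 2, 3], xx r * xx s = xx s * xx r := by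
  have key : ∀ r ∈ [0, 1, 2, 3], ∀ s ∈ [0, 1, 2, 3], weqb [r, s] [s, r] = true := by decide +kernel
  intro r hr s hs
  have h := weq (key r hr s hs)
  simpa only [ev_cons, ev_nil, mul_one] using h

theorem E1_comm (a : M24) (ha : a ∈ E1) (b : M24) (hb : b ∈ E1) : a * b = b * a := by
  have h1 : E1 ≤ centralizer (E1 : Set M24) := by
    refine cl_le fun r hr => ?_
    rw [mem_centralizer_iff]
    have h2 : E1 ≤ centralizer ({xx r} : Set M24) := by
      refine cl_le fun s hs => ?_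
      rw [mem_centralizer_singleton_iff]
      exact letters_comm s hs r hr
    intro y hy
    exact mem_centralizer_singleton_iff.1 (h2 hy)
  exact (mem_centralizer_iff.1 (h1 ha) b hb).symm

theorem E1_sq (a : M24) (ha : a ∈ E1) : a * a = 1 := by
  rcases eq_or_ne a 1 with rfl | h
  · rw [mul_one]
  · obtain ⟨k, hk⟩ := factsE.EC a ha h
    rw [← hk]
    calc k * z * k⁻¹ * (k * z * k⁻¹) = k * (z * z) * k⁻¹ := by group
      _ = 1 := by rw [zz]; group

theorem odd_index : ¬ 2 ∣ (normalizer (E1 : Set M24)).index := by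
  intro h
  have h1 := h.trans (index_dvd_of_le C_le_N)
  have h2 : Nat.card C * C.index = Nat.card M24 := C.card_mul_index
  rw [card_C, SporadicA.M24Trans.card_M24] at h2
  omega

/-- **The K-fact of `M24`.** -/
theorem loc : Loc M24 E1 x5 5 4 where
  comm := E1_comm
  sq := E1_sq
  card := by rw [card_E1]; norm_num
  odd := odd_index
  cent := fun g hg => factsE.cen g hg
  prime := by norm_num
  p2 := by norm_num
  ord := orderOf_x5
  nd := by
    intro k h0 h1
    interval_cases k <;> omega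
  norm := fun a ha => N_conj x5_mem_N ha
  ne := by
    by_contra hcon
    push Not at hcon
    have h1 := factsE.cen _ hcon
    have h2 := E1_sq _ h1
    have h3 := orderOf_dvd_of_pow_eq_one (show x5 ^ 2 = 1 by rw [pow_two, h2])
    rw [orderOf_x5] at h3
    omega

theorem hasLoc {K : Type*} [Group K] (h : Spor.IsoM24 K) : HasLoc K := by
  obtain ⟨e⟩ := h
  exact HasLoc.congr e.symm ⟨_, _, _, _, loc⟩

end Cfsg.Agent.Omega.ML.LocM24
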