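import Cfsg.Agent.Omega.ML.LocLift
import Cfsg.Agent.Omega.ML.LocM24
import Cfsg.Agent.KFacts.M24Two.Out

/-!
# (ML), the K-list end: the row `M24` (THEOREM LOC with `2⁴:A8`, `p = 5`; helper917)
-/

set_option autoImplicit false

namespace Cfsg.Agent.Omega.ML.RowM24

open Subgroup Cfsg Cfsg.Agent.Omega.ML.Rows

universe u v

/-- `5²` does not divide the order of `M24`. -/
theorem not_dvd_card : ¬ 5 ^ 2 ∣ Nat.card M24 := by
  rw [SporadicA.M24Trans.card_M24]
  norm_num

/-- All automorphisms of groups isomorphic to `M24` are inner. -/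
theorem inner {S : Type*} [Group S] (h : Spor.IsoM24 S) (α : MulAut S) : ∃ k, α = MulAut.conj k := by
  obtain ⟨e⟩ := h
  obtain ⟨k, hk⟩ := Cfsg.Agent.KFacts.M24Two.Out.exists_conj ((MulAut.congr e) α)
  refine ⟨e.symm k, ?_⟩
  ext x
  have h1 := congrArg (fun f : MulAut M24 => f (e x)) hk
  change e (α (e.symm (e x))) = k * e x * k⁻¹ at h1
  rw [e.symm_apply_apply] at h1
  rw [MulAut.conj_apply]
  apply e.injective
  rw [h1, map_mul, map_mul, map_inv, e.apply_symm_apply]

/-- **The row `M24`.** -/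
theorem dead : Dead.{u, v} (fun S _ => Spor.IsoM24 S) := by
  refine LocRow.dead_of_loc fun S _ _ h => ⟨?_, inner h⟩
  obtain ⟨e⟩ := h
  refine ⟨_, _, _, _, LocM24.loc.map e.symm, ?_⟩
  rw [Nat.card_congr e.toEquiv]
  exact not_dvd_card

end Cfsg.Agent.Omega.ML.RowM24
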