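import Cfsg.Agent.Omega.ML.RowsSyl
import Cfsg.Agent.KFacts.ON.Sheet
import Cfsg.Agent.Lib.ComponentSolvable

/-!
# (ML), the K-list end: the row O'N (helper809)

`P = C_S(v) = 4.L₃(4)`, `v² = z`; `O₂(C_X(z))` centralises `P`, so it lies in `⟨v⟩` (`SheetON.autP`), and `|A| ≤ 4`.
-/

set_option autoImplicit false

namespace Cfsg.Agent.Omega.ML.RowON

open Subgroup Cfsg Cfsg.Agent.ZN Cfsg.Agent.Omega.TwoF Cfsg.Agent.Omega.ML.Rows
open Cfsg.Agent.OddHalf Cfsg.Agent.OddHalf.D8.Sheet Cfsg.Agent.OddHalf.D8.ON.Sheet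
open Cfsg.Agent.MinSimple.VModule (o2_isPGroup o2_le le_o2 le_normalizer_o2)

universe u v

variable {X : Type u} [Group X] {S T A : Subgroup X}

/-- A normal 2-subgroup of `C_X(z)` centralises the quasisimple group `P = C_S(z)^∞`. -/
theorem cent_P [Finite X] (hS : S.Normal) {z : S} {P : Subgroup S} (hcen : ∀ x ∈ P, x * z = z * x)
    (hperf : ⁅P, P⁆ = P) (hder : ∃ m, TR.dser m (centralizer ({z} : Set S)) ≤ P) (hq : IsQuasisimple P) :
    ∀ d ∈ o2 (centralizer ({(z : X)} : Set X)), ∀ x ∈ P, d * x * d⁻¹ = x := by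
  have hp : Fact (Nat.Prime 2) := ⟨Nat.prime_two⟩
  set D := o2 (centralizer ({(z : X)} : Set X)) with hD
  have hD2 : IsPGroup 2 D := o2_isPGroup _
  have hDz : ∀ d ∈ D, d * (z : X) = z * d := fun d hd => mem_centralizer_singleton_iff.1 (o2_le _ hd)
  -- `P` normalises `D`
  have hPn : ∀ x ∈ P, ∀ d ∈ D, (x : X) * d * (x : X)⁻¹ ∈ D := by
    intro x hx d hd
    have h1 : (x : X) ∈ centralizer ({(z : X)} : Set X) :=
      mem_centralizer_singleton_iff.2 (congrArg Subtype.val (hcen x hx))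
    exact (mem_normalizer_iff.1 (le_normalizer_o2 _ h1) d).1 hd
  -- `D` normalises `P`
  have hDn : ∀ d ∈ D, ∀ x ∈ P, (MulAut.conjNormal d : MulAut S) x ∈ P := by
    intro d hd x hx
    refine map_P hperf hcen hder _ (Subtype.ext ?_) hx
    rw [MulAut.conjNormal_apply, hDz d hd, mul_inv_cancel_right]
  -- `P ∩ D` is central in `P`
  have hZ : ∀ y ∈ P, (y : X) ∈ D → ∀ x ∈ P, x * y = y * x := by
    have hn : ((D.comap S.subtype).subgroupOf P).Normal := by
      refine ⟨fun y hy g => ?_⟩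
      exact hPn g g.2 _ hy
    have h2 : IsPGroup 2 ((D.comap S.subtype).subgroupOf P) :=
      (hD2.comap_of_injective S.subtype S.subtype_injective).comap_subtype
    have h3 : Group.IsSolvable ((D.comap S.subtype).subgroupOf P) := by
      have := h2.isNilpotent
      infer_instance
    have h4 := Cfsg.Agent.Lib.ComponentSolvable.quasisimple_solvable_normal_le_center hq hn h3
    intro y hy hyD x hx
    have h5 : (⟨y, hy⟩ : P) ∈ center P := h4 hyD
    exact congrArg Subtype.val (mem_center_iff.1 h5 ⟨x, hx⟩)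
  -- three subgroups
  set P' : Subgroup X := P.map S.subtype with hP'
  have h1 : ⁅P', D⁆ ≤ P' ⊓ D := by
    rw [commutator_le]
    rintro _ ⟨x, hx, rfl⟩ d hd
    rw [commutatorElement_def]
    refine ⟨?_, ?_⟩
    · have h2 : (x : X) * d * (x : X)⁻¹ * d⁻¹ = ((x * MulAut.conjNormal d x⁻¹ : S) : X) := by
        rw [Subgroup.coe_mul, MulAut.conjNormal_apply, Subgroup.coe_inv]
        group
      show (x : X) * d * (x : X)⁻¹ * d⁻¹ ∈ P'
      rw [h2]
      exact mem_map_of_mem S.subtype (mul_mem hx (hDn d hd _ (inv_mem hx)))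
    · exact D.mul_mem (hPn x hx d hd) (D.inv_mem hd)
  have h2 : ⁅⁅P', D⁆, P'⁆ = ⊥ := by
    rw [eq_bot_iff]
    refine (commutator_mono h1 le_rfl).trans ?_
    rw [commutator_le]
    rintro _ ⟨⟨y, hy, rfl⟩, hyD⟩ _ ⟨x, hx, rfl⟩
    rw [mem_bot, commutatorElement_eq_one_iff_mul_comm]
    exact (congrArg Subtype.val (hZ y hy hyD x hx)).symm
  have h3 : ⁅⁅D, P'⁆, P'⁆ = ⊥ := by rwa [commutator_comm D P']
  have h4 : ⁅⁅P', P'⁆, D⁆ = ⊥ := commutator_commutator_eq_bot_of_rotate h2 h3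
  have h5 : ⁅P', P'⁆ = P' := by rw [hP', ← map_commutator, hperf]
  rw [h5, commutator_eq_bot_iff_le_centralizer] at h4
  intro d hd x hx
  have h6 := mem_centralizer_iff.1 (h4 (mem_map_of_mem S.subtype hx)) d hd
  change d * (x : X) = (x : X) * d at h6
  rw [h6, mul_inv_cancel_right]

/-- **The row `O'N`** (with `O'N:2` and `3.O'N`). -/
theorem deadG : DeadG.{u} (fun S _ => Spor.IsoON S) := by
  intro X _ _ S T A h hS
  have hn := h.norm
  obtain ⟨z, v, P, E, sh⟩ := Cfsg.Agent.KFacts.ON.Sheet.exists_sheet hS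
  refine h.card_le_of_syl sh.basic.z1 sh.basic.syl fun B hB _ => ?_
  have hv : (v : X) ^ 4 = 1 := by
    have h1 : v ^ 4 = 1 := by
      calc v ^ 4 = (v * v) * (v * v) := by rw [← pow_two, ← pow_two, ← pow_mul]
        _ = 1 := by rw [sh.vv, sh.basic.zz]
    exact congrArg Subtype.val h1
  have hle : B ≤ zpowers (v : X) := by
    intro d hd
    have h1 := cent_P hn sh.basic.cen sh.basic.perf sh.basic.der sh.qs d (hB hd)
    obtain ⟨u, hu, hu'⟩ := sh.autP (MulAut.conjNormal d) fun x hx => Subtype.ext (by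
      rw [MulAut.conjNormal_apply]
      exact h1 x hx)
    have h2 : d = u := by
      apply h.conj_inj
      rw [hu']
      ext s
      rw [MulAut.conjNormal_apply, MulAut.conj_apply]
      simp
    rw [h2]
    obtain ⟨k, hk⟩ := hu
    exact ⟨k, by rw [← hk]; rfl⟩
  refine (card_le_of_le hle).trans ?_
  rw [Nat.card_zpowers]
  exact Nat.le_of_dvd (by norm_num) (orderOf_dvd_of_pow_eq_one hv)

theorem dead : Dead.{u, v} (fun S _ => Spor.IsoON S) :=
  deadG.dead fun _ _ _ _ e ⟨f⟩ => ⟨e.symm.trans f⟩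

end Cfsg.Agent.Omega.ML.RowON
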