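import Cfsg.Agent.Omega.ML.InvTool
import Cfsg.Agent.Omega.TwoF.RowRu
import Cfsg.Agent.OddHalf.Table.RuInv

/-!
# (ML), the K-list end: the row Ru (helper226)

`x` of order 29, `f ^ 2` of order 7, `f ^ 2 x f ^ -2 = x ^ 16`: `dim [M, w] ≥ 24` for the elements `w` of order 7. The
involutions `g 13` (2A) and `g 0` (2B) invert elements of order 7 and 29. So `dim [M, x] ≥ 12` for all involutions,
`m_2(Aut Ru) ≤ 11`.
-/

set_option autoImplicit false
set_option maxRecDepth 100000
set_option exponentiation.threshold 5000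

namespace Cfsg.Agent.Omega.ML.RowRu

open Subgroup Cfsg Cfsg.Agent.Omega.ML.Rows Cfsg.Agent.Omega.ML.InvChain Cfsg.Agent.Omega.ML.InvTool
open Cfsg.Agent.Omega.TwoF Cfsg.Agent.SporadicB Cfsg.Agent.OddHalf.Table Cfsg.Agent.Schreier
open Cfsg.Agent.OddHalf.Table.OutRu (x f conj_fx orderOf_x orderOf_f f_pow)

universe u v

instance : Finite RuOrder.H := Nat.finite_of_card_ne_zero (by rw [TwoF.RowRu.card_eq]; norm_num)

theorem chain29 {w : RuOrder.H} (hw : orderOf w = 29) : Chain w 28 := by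
  refine Chain.base _ 28 (by rw [hw]; norm_num) (by rw [hw]; norm_num) ?_
  intro j hj hj'
  rw [hw]
  interval_cases j <;> norm_num

theorem ord_f2 : orderOf (f ^ 2) = 7 := by
  rw [orderOf_pow, orderOf_f]
  norm_num

theorem conj_f2 : f ^ 2 * x * (f ^ 2)⁻¹ = x ^ 16 := by
  have e : f ^ 2 * x * (f ^ 2)⁻¹ = f * (f * x * f⁻¹) * f⁻¹ := by rw [pow_two]; group
  rw [e, conj_fx, ← conj_pow, conj_fx, ← pow_mul]

theorem chain7 {w : RuOrder.H} (hw : orderOf w = 7) : Chain w 24 := by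
  refine chain_of_sylow (u := x) (w₀ := f ^ 2) (m := 28) (k := 16) (chain29 orderOf_x) (by rw [ord_f2]; norm_num)
    (by rw [ord_f2]; norm_num) conj_f2 ?_ (by rw [ord_f2]; norm_num) (by rw [ord_f2, TwoF.RowRu.card_eq]; norm_num)
    (by rw [hw, ord_f2])
  intro h
  have h1 := conj_f2
  rw [h, mul_inv_cancel_right] at h1
  have h2 : x ^ 15 = 1 := by
    rw [pow_succ] at h1
    exact mul_eq_right.1 h1.symm
  have h3 := orderOf_dvd_of_pow_eq_one h2
  rw [orderOf_x] at h3
  norm_num at h3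

/-! ### words -/

open RuInvConj

/-- repeat a word -/
def rep (n : ℕ) (w : List ℕ) : List ℕ := (List.replicate n w).flatten

theorem W_rep (w : List ℕ) : ∀ n, W (rep n w) = W w ^ n
  | 0 => rfl
  | n + 1 => by
    have e : rep (n + 1) w = w ++ rep n w := by rw [rep, List.replicate_succ, List.flatten_cons]; rfl
    rw [e, W_append, W_rep w n, pow_succ']

theorem ne_of_ev {u v : List ℕ} (h : Nat.beq (ev u 0) (ev v 0) = false) : W u ≠ W v := by
  intro e
  have h1 := W_apply RuOrder.b1 u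
  rw [e, W_apply] at h1
  have h2 : ev v 0 = ev u 0 := h1
  rw [h2] at h
  have h3 : Nat.beq (ev u 0) (ev u 0) = true := by simp
  rw [h3] at h
  exact Bool.false_ne_true h.symm

theorem order_W {l : List ℕ} {n : ℕ} (hn : n.Prime) (h : eqw (rep n l) [] = true)
    (h1 : Nat.beq (ev l 0) (ev [] 0) = false) : orderOf (W l) = n := by
  have : Fact n.Prime := ⟨hn⟩
  apply orderOf_eq_prime
  · rw [← W_rep, eqw_sound h]
    rfl
  · exact ne_of_ev h1

theorem g13_eq : RuSyl.g 13 = W [5, 6, 5, 6, 5, 6, 5, 6] := (W_s5 (RuSyl.gwd 13)).symm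

theorem g0_eq : RuSyl.g 0 = W [5] := (W_s5 (RuSyl.gwd 0)).symm

theorem sq_of_eqw {l : List ℕ} (h : eqw (l ++ l) [] = true) : W l * W l = 1 := by
  rw [← W_append, eqw_sound h]
  rfl

theorem inv_of_eqw {l l' : List ℕ} (h : eqw (l ++ l') [] = true) : (W l)⁻¹ = W l' := by
  rw [inv_eq_iff_mul_eq_one, ← W_append, eqw_sound h]
  rfl

theorem invAt_g13 : InvAt (RuSyl.g 13) 12 := by
  rw [g13_eq]
  have h3 : (W [1, 2])⁻¹ = W [3, 0] := inv_of_eqw (by decide +kernel)
  refine invAt_of_mul (h := W [1, 2]) (m := 24) (sq_of_eqw (by decide +kernel)) (chain7 ?_) (by norm_num)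
  rw [h3, ← W_append, ← W_append, ← W_append]
  exact order_W (by norm_num) (by decide +kernel) (by decide +kernel)

theorem invAt_g0 : InvAt (RuSyl.g 0) 12 := by
  rw [g0_eq]
  have h3 : (W [4])⁻¹ = W [4] := inv_of_eqw (by decide +kernel)
  refine invAt_of_mul (h := W [4]) (m := 28) (sq_of_eqw (by decide +kernel)) (chain29 ?_) (by norm_num)
  rw [h3, ← W_append, ← W_append, ← W_append]
  exact order_W (by norm_num) (by decide +kernel) (by decide +kernel)

theorem invAt {t : RuOrder.H} (h2 : t * t = 1) (h1 : t ≠ 1) : InvAt t 12 := by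
  rcases RuInv.isConj_or h2 h1 with h | h
  · obtain ⟨c, rfl⟩ := isConj_iff.1 h
    exact invAt_g13.conj c
  · obtain ⟨c, rfl⟩ := isConj_iff.1 h
    exact invAt_g0.conj c

theorem out_lt : (MulAut.conj : RuOrder.H →* MulAut RuOrder.H).range.index < 8 := by
  rw [TwoF.RowRu.range_eq, index_top]
  norm_num

theorem dead_model : Dead.{u, v} (fun S _ => Nonempty (S ≃* RuOrder.H)) :=
  dead_of_model (RowTool.toRK TwoF.RowRu.center_eq TwoF.RowRu.rk) out_lt fun _ h2 h1 => (invAt h2 h1).mono (by norm_num)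

/-- **The row Ru.** -/
theorem dead : Dead.{u, v} (fun S _ => Spor.IsoRu S) := by
  intro H _ _ M _ _ _ K T A h hS
  obtain ⟨e⟩ := hS
  exact dead_model H M K T A h ⟨e.trans Cfsg.Agent.RuLat.Main.equiv⟩

end Cfsg.Agent.Omega.ML.RowRu
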