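import Cfsg.Agent.Omega.ML.ShInv
import Cfsg.Agent.Omega.TwoF.RowSuz
import Cfsg.Agent.KFacts.SuzSheetE

/-!
# (ML), the K-list end: the row `Suz` (helper667)

`O₂(C_X(z)) ≤ R = 2^{1+6}_-`, whose elementary abelian subgroups have order at most 8; the 54 noncentral involutions of `R`
are conjugate in `C(z)` to the generator `f`, which inverts an element `w` of order 5 in a Frobenius group `11 : 5`.
-/

set_option autoImplicit false
set_option maxRecDepth 100000
set_option Elab.async false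

namespace Cfsg.Agent.Omega.ML.RowSuz

open Cfsg Cfsg.Spor Cfsg.Agent.Lib.PermNet Cfsg.Agent.SporadicRecognition.SuzPhi
  Cfsg.Agent.SporadicRecognition.SuzOrder Cfsg.Agent.SuzThree.Basic Cfsg.Agent.SuzThree.CentA
  Cfsg.Agent.SuzThree.QZero Cfsg.Agent.KFacts.SuzCent Cfsg.Agent.KFacts.SuzR Cfsg.Agent.KFacts.Codes
  Cfsg.Agent.KFacts.Orbits Cfsg.Agent.KFacts.SuzSheet Cfsg.Agent.Omega.ML.InvChain Cfsg.Agent.Omega.ML.Rows
open Cfsg.Agent.OddHalf.D8.JTwo.Sheet

universe u v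

/-! ### the Frobenius group `11 : 5` and the involution `f` -/

/-- a word conjugate to `b` -/
def sw : List Suz.Gen := [.e, .b, .c, .d, .c, .d, .c, .b, .e]
/-- an element of order 5 inverted by `f` -/
def ww : List Suz.Gen := .f :: sw
/-- an element of order 11 -/
def uw : List Suz.Gen :=
  [.b, .g, .c, .d, .c, .b, .c, .d, .c, .g, .b, .f, .e, .b, .c, .d, .c, .d, .c, .b, .e, .b, .g, .c, .d, .c, .b, .c, .d, .c, .g, .b, .e, .b, .c, .d, .c, .d, .c, .b, .e]

theorem u11 : el uw ^ 11 = 1 := pow_one_of 11 (by decide +kernel)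

theorem w5 : el ww ^ 5 = 1 := pow_one_of 5 (by decide +kernel)

theorem rel : el ww * el uw = el uw ^ 3 * el ww := by
  have h : el (ww ++ uw) = el ((uw ++ (uw ++ uw)) ++ ww) := eq_of_reps (Rep.el _) (Rep.el _) (by decide +kernel)
  rw [el_append, el_append, el_append, el_append] at h
  rw [h, pow_succ, pow_two, mul_assoc (el uw) (el uw) (el uw)]

theorem u_ne : el uw ≠ 1 := by
  intro h
  have h1 : φ (el uw) 0 = 1354 := (Rep.el uw).pt (by decide +kernel)
  rw [h, map_one] at h1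
  exact absurd h1 (by decide)

theorem sw_sq : el sw * el sw = 1 := by
  have h : sw = [.e, .b, .c, .d] ++ ([.c] ++ List.reverse [.e, .b, .c, .d]) := rfl
  rw [h, el_append, el_append, el_reverse]
  have h1 := gen_sq Suz.Gen.c
  calc _ = el [.e, .b, .c, .d] * (el [.c] * el [.c]) * (el [.e, .b, .c, .d])⁻¹ := by group
    _ = 1 := by rw [h1]; group

theorem f_inv : el [.f] * el ww * (el [.f])⁻¹ = (el ww)⁻¹ := by
  have h1 : el ww = el [.f] * el sw := el_cons _ _
  have h2 := gen_sq Suz.Gen.f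
  have h3 : (el [.f])⁻¹ = el [.f] := inv_eq_of_mul_eq_one_left h2
  have h4 : (el sw)⁻¹ = el sw := inv_eq_of_mul_eq_one_left sw_sq
  rw [h1, mul_inv_rev, h3, h4, ← mul_assoc, h2, one_mul]

theorem ord_u : orderOf (el uw) = 11 := by
  have : Fact (Nat.Prime 11) := ⟨by norm_num⟩
  exact orderOf_eq_prime u11 u_ne

theorem wu_ne : el ww * el uw ≠ el uw * el ww := by
  intro h
  have h1 := rel
  rw [h, pow_succ, pow_two] at h1
  have h2 : el uw = el uw * el uw * el uw := mul_right_cancel h1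
  have h3 : el uw ^ 2 = 1 := by
    rw [pow_two]
    have h4 : el uw * (el uw * el uw) = el uw * 1 := by rw [mul_one, ← mul_assoc, ← h2]
    exact mul_left_cancel h4
  have h5 := orderOf_dvd_of_pow_eq_one h3
  rw [ord_u] at h5
  exact absurd h5 (by norm_num)

theorem ord_w : orderOf (el ww) = 5 := by
  have : Fact (Nat.Prime 5) := ⟨by norm_num⟩
  refine orderOf_eq_prime w5 ?_
  intro h
  exact wu_ne (by rw [h, one_mul, mul_one])

theorem chain_w : Chain (el ww) 8 := by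
  have e1 := ord_u
  have e2 := ord_w
  refine Chain.step (el uw) (el ww) 10 8 3 (Chain.base _ 10 (by rw [e1]; norm_num) (by rw [e1]; norm_num) ?_)
    (by rw [e2]; norm_num) (by rw [e2]; norm_num) ?_ wu_ne (by rw [e2]; norm_num)
  · rw [e1]
    intro j h1 h2
    interval_cases j <;> norm_num
  · rw [rel, mul_inv_cancel_right]

theorem invAt_f : InvAt (el [.f]) 4 := ⟨el ww, 8, chain_w, f_inv, by norm_num⟩

/-! ### the involutions of `R` -/

/-- words which move the codes of the noncentral involutions to `8` -/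
def tb : List (ℕ × List ℕ) := [
  (1, [3, 0, 2, 0]), (2, [3, 0, 2]), (4, [3, 0, 1, 2]), (8, []), (9, [3, 4]), (10, [3, 0, 4]),
  (12, [3, 0, 4, 1]), (16, [3, 0, 2, 3, 0, 2]), (17, [3, 0, 3, 2, 0]), (18, [3, 0, 3, 2]),
  (20, [3, 0, 1, 3, 2]), (27, [3, 0, 3, 0]), (29, [3, 0, 3, 0, 1]), (30, [3, 0, 1, 3, 0, 1]),
  (31, [3, 0, 1, 3, 0, 2]), (32, [3, 0, 2, 4, 1, 4, 0]), (39, [3, 0, 2, 4, 1, 4]), (40, [3, 0, 1, 4, 0]),
  (47, [3, 0, 1, 4]), (48, [3, 0, 1, 2, 3, 4, 0]), (55, [3, 0, 1, 2, 3, 4]), (57, [3, 0, 1, 3, 4, 4]),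
  (58, [3, 0, 1, 4, 3, 0]), (59, [3, 0, 1, 3, 4, 0, 2]), (60, [3, 0, 1, 3, 0, 2, 4]),
  (61, [3, 0, 1, 3, 0, 4]), (62, [3, 0, 1, 4, 3]), (65, [3, 0, 2, 0, 4]), (66, [3, 0, 2, 4]),
  (68, [3, 0, 2, 4, 1]), (72, [3, 4, 3]), (73, [3]), (74, [3, 0]), (76, [3, 0, 1]), (80, [3, 0, 3, 2, 0, 2]),
  (81, [3, 0, 2, 3, 0]), (82, [3, 0, 2, 3]), (84, [3, 0, 1, 2, 3]), (91, [3, 0, 3]), (93, [3, 0, 1, 3]),
  (94, [3, 0, 1, 3, 0]), (95, [3, 0, 1, 3, 0, 1, 2]), (96, [3, 0, 1, 2, 4, 0]), (103, [3, 0, 1, 2, 4]),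
  (104, [3, 0, 4, 1, 4, 0]), (111, [3, 0, 4, 1, 4]), (112, [3, 0, 1, 3, 2, 4, 0]), (119, [3, 0, 1, 3, 2, 4]),
  (121, [3, 0, 1, 3, 4, 1]), (122, [3, 0, 1, 3, 4, 0]), (123, [3, 0, 1, 3, 4, 0, 1]),
  (124, [3, 0, 1, 3, 0, 4, 1]), (125, [3, 0, 1, 3, 0, 1, 4]), (126, [3, 0, 1, 3, 4])]

theorem tb_ok : ∀ e ∈ tb, actw AA e.2 e.1 = 8 := by decide +kernel

theorem tb_all : ((List.range 128).all fun c => c == 0 || c == 64 || mulc BB 6 c c != 0 ||
    (tb.map Prod.fst).contains c) = true := by decide +kernel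

theorem tb_mem (c : ℕ) (hc : c < 128) (h0 : c ≠ 0) (h1 : c ≠ 64) (h2 : mulc BB 6 c c = 0) : c ∈ tb.map Prod.fst := by
  have h := tb_all
  rw [List.all_eq_true] at h
  have h3 := h c (List.mem_range.2 hc)
  have e0 : (c == 0) = false := by simpa using h0
  have e1 : (c == 64) = false := by simpa using h1
  have e2 : (mulc BB 6 c c != 0) = false := by simpa using h2
  rw [e0, e1, e2, Bool.false_or, Bool.false_or, Bool.false_or, List.contains_iff_mem] at h3
  exact h3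

theorem C_eight : C 8 = el [.f] := by
  have h1 : C 8 = xx 3 := cod_pow (n := 6) (i := 3) (by norm_num)
  rw [h1]
  rfl

/-- the noncentral involutions of `R` -/
theorem invAt_R {y : Suz} (hy : y ∈ Q0) (hyy : y * y = 1) (h1 : y ≠ 1) (hz : y ≠ z0) : InvAt y 4 := by
  have hy' : y ∈ RG 6 z0 xx := by rw [← Q0_eq]; exact hy
  obtain ⟨c, hc, rfl⟩ := (mem_RG rels tri).1 hy'
  have hc0 : c ≠ 0 := by
    rintro rfl
    exact h1 cod_zero
  have hc1 : c ≠ 64 := by
    rintro rfl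
    exact hz (cod_z (n := 6))
  have hc2 : mulc BB 6 c c = 0 := by
    have hlt : mulc BB 6 c c < 2 ^ 7 := by
      have h2 : ∀ d < 128, mulc BB 6 d d < 128 := by decide +kernel
      exact h2 c hc
    refine cod_injOn rels tri nondeg z_ne hlt (by norm_num) ?_
    rw [cod_zero, ← cod_mul rels tri]
    exact hyy
  obtain ⟨e, he, rfl⟩ := List.mem_map.1 (tb_mem c hc hc0 hc1 hc2)
  have h2 := conj_word (C := C) conj_AA e.2 e.1
  rw [tb_ok e he] at h2
  have h3 : InvAt (C 8) 4 := by rw [C_eight]; exact invAt_f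
  have h4 := h3.conj (gw gg e.2)⁻¹
  have h5 : (gw gg e.2)⁻¹ * C 8 * (gw gg e.2)⁻¹⁻¹ = C e.1 := by
    rw [← h2]; group
  rwa [h5] at h4

theorem iso : IsoClosed.{u} (fun S _ => IsoSuz S) := by
  rintro S S' _ _ e ⟨f⟩
  exact ⟨e.symm.trans f⟩

/-- **The row `Suz`** (with `Suz.2`, `3.Suz`, `3.Suz.2`). -/
theorem dead : Dead.{u, v} (fun S _ => IsoSuz S) := by
  refine ShInv.dead_of iso ?_
  rintro S _ _ ⟨e⟩
  refine ⟨e.symm z0, _, _, 3, of_sheetE (KFacts.SheetIso.sheetE_map e.symm KFacts.SuzSheetE.sheetE), ?_, ?_⟩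
  · intro B hB hBe
    have h1 : B.map e.toMonoidHom ≤ Q0 := by
      rintro _ ⟨b, hb, rfl⟩
      have h2 := (KFacts.SheetIso.mem_map' e.symm).1 (hB hb)
      exact h2
    have h2 := Omega.TwoF.RowSuz.card_le_eight h1 (by
      rintro _ ⟨b, hb, rfl⟩
      rw [← map_mul, hBe b hb, map_one])
    rwa [Subgroup.card_map_of_injective e.injective] at h2
  · intro y hy hyy h1 hz
    have h2 : e y ∈ Q0 := (KFacts.SheetIso.mem_map' e.symm).1 hy
    have h3 : InvAt (e y) 4 := invAt_R h2 (by rw [← map_mul, hyy, map_one]) (by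
      intro h3
      exact h1 (by rwa [map_eq_one_iff e e.injective] at h3)) (by
      intro h3
      exact hz (by rw [← h3, e.symm_apply_apply]))
    have h4 := (h3.map e.symm.toMonoidHom e.symm.injective).mono (n' := 3) (by norm_num)
    have h5 : e.symm.toMonoidHom (e y) = y := e.symm_apply_apply y
    rwa [h5] at h4

end Cfsg.Agent.Omega.ML.RowSuz
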