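import Cfsg.Agent.Omega.ML.ExRec

/-!
# (ML), the K-list end: THEOREM EX (helper987)

* `Dat H M G E Q n` : the situation in `H`;  `Dat.false` : **THEOREM EX**: no strict subgroup `A ≤ Q` with `|A| > 2`;
* `lift2` : the 2-part of the preimage of a 2-group under a cover with central kernel of odd order;
* `false_of_rec` : the record `Rec` (in a central quotient of `H`) excludes the strict group `A`;
* `dead_of_rec`, `dead_of_sheet` : the rows.
-/

set_option autoImplicit false

namespace Cfsg.Agent.Omega.ML.ExRow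

open Subgroup Cfsg Cfsg.Agent.ClassTwoFusion.Quad Cfsg.Agent.Omega.NOThree.NoOver Cfsg.Agent.Omega.ML.CD
open Cfsg.Agent.ZN (o2)
open Cfsg.Agent.Omega.ML.Rows Cfsg.Agent.Omega.ML.ExCore Cfsg.Agent.Omega.ML.ExRec
open Cfsg.Agent.MinSimple.VModule (o2_isPGroup o2_le le_o2 le_normalizer_o2)

universe u v w

/-- The situation in `H`. -/
structure Dat (H : Type u) [Group H] (G E Q : Subgroup H) (n : ℕ) : Prop where
  QG : Q ≤ G
  EG : E ≤ G
  nQ : ∀ g ∈ G, ∀ q ∈ Q, g * q * g⁻¹ ∈ Q
  card : Nat.card Q = 2 ^ (2 * n + 1)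
  nab : ∃ a ∈ Q, ∃ b ∈ Q, a * b ≠ b * a
  irr : ∀ D : Subgroup H, D ≤ Q → (∀ l ∈ E, ∀ x ∈ D, l * x * l⁻¹ ∈ D) → Nat.card D ≤ 2 ∨ D = Q
  triv : TrivOn.{u, v} G (E.subgroupOf G) (2 ^ n)

section

variable {H : Type u} [Group H] [Finite H] {M : Type v} [Group M] [Finite M] [MulDistribMulAction H M]
  {G E Q A : Subgroup H} {n : ℕ}

omit [Finite H] in
theorem Dat.two (D : Dat.{u, v} H G E Q n) : IsPGroup 2 Q := IsPGroup.of_card D.card

omit [Finite H] in
/-- subgroups of order at most 2 have index at least `2 ^ (2n)` -/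
theorem Dat.le_relIndex (D : Dat.{u, v} H G E Q n) {B : Subgroup H} (hB : B ≤ Q) (h2 : Nat.card B ≤ 2) :
    2 ^ (2 * n) ≤ B.relIndex Q := by
  have h1 : Nat.card B * B.relIndex Q = Nat.card Q := by
    rw [← relIndex_bot_left, ← relIndex_bot_left Q]
    exact relIndex_mul_relIndex _ _ _ bot_le hB
  rw [D.card, pow_succ] at h1
  by_contra hc
  rw [not_le] at hc
  have h3 : Nat.card B * B.relIndex Q < 2 * 2 ^ (2 * n) := by
    calc Nat.card B * B.relIndex Q ≤ 2 * B.relIndex Q := Nat.mul_le_mul_right _ h2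
      _ < 2 * 2 ^ (2 * n) := by omega
  omega

/-- **THEOREM EX** -/
theorem Dat.false (D : Dat.{u, v} H G E Q n) (sq : ∀ m : M, m * m = 1) (faith : ∀ h : H, (∀ m : M, h • m = m) → h = 1)
    (hAQ : A ≤ Q) (hs : Strict (fab M 1 1) A) (h2 : 2 < Nat.card A) : False := by
  have hf := ls_fab (H := H) M 1 1
  have hcomm := ExCore.comm_of_sq (N := M) sq
  -- `Q` is strict
  have hlo : lo (fab M 1 1) Q = Q := by
    have h3 : A ≤ lo (fab M 1 1) Q := hs.le_lo hf hAQ
    have h4 : G ≤ normalizer (Q : Set H) := by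
      intro g hg
      rw [mem_normalizer_iff]
      intro x
      refine ⟨fun hx => D.nQ g hg x hx, fun hx => ?_⟩
      have h5 := D.nQ g⁻¹ (G.inv_mem hg) _ hx
      have h6 : g⁻¹ * (g * x * g⁻¹) * g⁻¹⁻¹ = x := by group
      rwa [h6] at h5
    have h5 := h4.trans (hf.normalizer_le_lo Q)
    refine (D.irr _ (hf.lo_le_self Q) fun l hl x hx => ?_).resolve_left fun h6 => ?_
    · exact (mem_normalizer_iff.1 (h5 (D.EG hl)) x).1 hx
    · have h7 := card_le_of_le h3
      omega
  have hQs : Strict (fab M 1 1) Q := by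
    have := hf.strict_lo Q
    rwa [hlo] at this
  have hQne : Q ≠ ⊥ := by
    rintro rfl
    obtain ⟨a, ha, b, hb, hab⟩ := D.nab
    rw [mem_bot.1 ha, mem_bot.1 hb] at hab
    exact hab rfl
  obtain ⟨F, hF⟩ : ∃ F : Subgroup M, F = cv M (Q : Set H) := ⟨_, rfl⟩
  have hmF : ∀ {m : M}, m ∈ F ↔ ∀ q ∈ Q, q • m = m := by
    intro m
    rw [hF]
    exact Iff.rfl
  have hidx : F.index < 2 ^ (2 * n + 1) := by
    have h1 := hQs ⊥ (bot_lt_iff_ne_bot.2 hQne)
    rwa [fab_lt_iff bot_le, pow_one, pow_one, relIndex_bot_left, cv_bot, relIndex_top_right, ← hF, D.card] at h1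
  have hFn : F.Normal := normal_of_sq sq F
  have hMp : IsPGroup 2 (M ⧸ F) := by
    intro x
    obtain ⟨m, rfl⟩ := QuotientGroup.mk_surjective x
    refine ⟨1, ?_⟩
    rw [pow_one, pow_two]
    exact congrArg (QuotientGroup.mk (s := F)) (sq m)
  have hidx' : Nat.card (M ⧸ F) ≤ 2 ^ (2 * n) := by
    obtain ⟨k, hk⟩ := (IsPGroup.iff_card (p := 2)).1 hMp
    have h1 : F.index = 2 ^ k := hk
    rw [h1] at hidx
    have h2 : k < 2 * n + 1 := (Nat.pow_lt_pow_iff_right (by norm_num)).1 hidx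
    rw [hk]
    exact Nat.pow_le_pow_right (by norm_num) (by omega)
  -- `G` acts on `M / F`
  have hFG : ∀ (g : G), ∀ x ∈ F, g • x ∈ F := by
    intro g x hx
    rw [hmF] at hx ⊢
    intro q hq
    have h1 := D.nQ _ (G.inv_mem g.2) q hq
    rw [inv_inv] at h1
    have h2 := hx _ h1
    change q • (g : H) • x = (g : H) • x
    rw [mul_smul, mul_smul, inv_smul_eq_iff] at h2
    exact h2
  let _ : MulDistribMulAction G (M ⧸ F) := quoA (L := G) F hFG
  have hQn : (Q.subgroupOf G).Normal := ⟨fun q hq g => D.nQ g g.2 q hq⟩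
  have hcore := core (L := G) (N := M ⧸ F) (fun x => by
      obtain ⟨m, rfl⟩ := QuotientGroup.mk_surjective x
      exact congrArg (QuotientGroup.mk (s := F)) (sq m)) (Q := Q.subgroupOf G) (E := E.subgroupOf G) hQn
    (D.two.comap_of_injective _ G.subtype_injective) hidx' (by
      intro B hB hBE
      have h1 : B.map G.subtype ≤ Q := by
        rintro _ ⟨b, hb, rfl⟩
        exact hB hb
      have h3 : Nat.card (B.map G.subtype) = Nat.card B := card_map_of_injective G.subtype_injective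
      have h4 : B.relIndex (Q.subgroupOf G) = (B.map G.subtype).relIndex Q := by
        have h5 : (Q.subgroupOf G).map G.subtype = Q := by rw [subgroupOf_map_subtype, inf_eq_left.2 D.QG]
        rw [← relIndex_map_map_of_injective B (Q.subgroupOf G) G.subtype_injective, h5]
      rcases D.irr _ h1 (by
        rintro l hl _ ⟨b, hb, rfl⟩
        exact ⟨⟨l, D.EG hl⟩ * b * ⟨l, D.EG hl⟩⁻¹, hBE ⟨l, D.EG hl⟩ hl b hb, rfl⟩) with h6 | h6
      · left
        rw [h4]
        exact D.le_relIndex h1 h6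
      · right
        ext x
        rw [mem_subgroupOf, ← h6]
        constructor
        · intro hx
          exact ⟨x, hx, rfl⟩
        · rintro ⟨y, hy, hyx⟩
          rwa [← Subtype.ext hyx]) D.triv
  have hQF : ∀ q ∈ Q, ∀ m : M, q • m * m⁻¹ ∈ F := by
    intro q hq m
    have h1 := hcore ⟨q, D.QG hq⟩ hq (QuotientGroup.mk m)
    have h2 : (QuotientGroup.mk (q • m) : M ⧸ F) = QuotientGroup.mk m := h1
    rw [eq_comm, QuotientGroup.eq] at h2
    rwa [hcomm] at h2
  obtain ⟨a, ha, b, hb, hab⟩ := D.nab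
  apply hab
  have key : ∀ a ∈ Q, ∀ b ∈ Q, ∀ m : M, (a * b) • m = (b • m * m⁻¹) * ((a • m * m⁻¹) * m) := by
    intro a ha b hb m
    have h1 := hmF.1 (hQF b hb m) a ha
    have h3 : b • m = (b • m * m⁻¹) * m := by rw [inv_mul_cancel_right]
    rw [mul_smul]
    conv_lhs => rw [h3, smul_mul', h1]
    rw [inv_mul_cancel_right]
  have h1 : (b * a)⁻¹ * (a * b) = 1 := by
    apply faith
    intro m
    rw [mul_smul, inv_smul_eq_iff, key a ha b hb, key b hb a ha, ← mul_assoc (b • m * m⁻¹),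
      hcomm (b • m * m⁻¹) (a • m * m⁻¹), mul_assoc]
  exact (inv_mul_eq_one.1 h1).symm

end

/-! ### The 2-part of the preimage of a 2-group -/

section lift2

variable {G : Type*} [Group G] [Finite G]

/-- in a nilpotent subgroup the 2-elements lie in `O₂` -/
theorem mem_o2_of_nilp {N : Subgroup G} (hN : Group.IsNilpotent N) {x : G} (hx : x ∈ N) {k : ℕ} (hk : x ^ 2 ^ k = 1) :
    x ∈ o2 N := by
  have : Fact (Nat.Prime 2) := ⟨Nat.prime_two⟩
  have h1 : IsPGroup 2 (zpowers (⟨x, hx⟩ : N)) := by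
    intro y
    refine ⟨k, ?_⟩
    obtain ⟨y, hy⟩ := y
    obtain ⟨m, rfl⟩ := mem_zpowers_iff.1 hy
    apply Subtype.ext
    apply Subtype.ext
    change ((x ^ m) ^ 2 ^ k : G) = 1
    rw [← zpow_natCast, ← zpow_mul, mul_comm, zpow_mul, zpow_natCast, hk, one_zpow]
  obtain ⟨P, hP⟩ := h1.exists_le_sylow
  have hPn : (P : Subgroup N).Normal := inferInstance
  have h2 : (P : Subgroup N).map N.subtype ≤ o2 N := by
    refine le_o2 (map_subtype_le _) (P.2.map _) ?_
    intro n hn
    rw [mem_normalizer_iff]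
    intro y
    constructor
    · rintro ⟨z, hz, rfl⟩
      exact ⟨⟨n, hn⟩ * z * ⟨n, hn⟩⁻¹, hPn.conj_mem z hz _, rfl⟩
    · rintro ⟨z, hz, hzy⟩
      refine ⟨⟨n, hn⟩⁻¹ * z * ⟨n, hn⟩⁻¹⁻¹, hPn.conj_mem z hz _, ?_⟩
      change n⁻¹ * (z : G) * n⁻¹⁻¹ = y
      have h3 : (z : G) = n * y * n⁻¹ := hzy
      rw [h3]
      group
  exact h2 ⟨⟨x, hx⟩, hP (mem_zpowers _), rfl⟩

omit [Finite G] in
theorem exists_pow_of_mem_o2 {N : Subgroup G} {x : G} (hx : x ∈ o2 N) : ∃ k : ℕ, x ^ 2 ^ k = 1 := by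
  obtain ⟨k, hk⟩ := o2_isPGroup N ⟨x, hx⟩
  exact ⟨k, congrArg Subtype.val hk⟩

variable {X : Type*} [Group X] {f : G →* X}

omit [Finite G] in
theorem nilp_comap (hc : f.ker ≤ center G) {R : Subgroup X} (hR : IsPGroup 2 R) [Finite R] :
    Group.IsNilpotent (R.comap f) := by
  have : Fact (Nat.Prime 2) := ⟨Nat.prime_two⟩
  have hRn := hR.isNilpotent
  refine Subgroup.isNilpotent_of_ker_le_center (f.subgroupComap R) ?_
  intro x hx
  have h1 : (x : G) ∈ f.ker := congrArg Subtype.val hx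
  rw [mem_center_iff]
  intro y
  exact Subtype.ext (mem_center_iff.1 (hc h1) y)

/-- membership in the lift of `R` -/
theorem mem_lift2 (hc : f.ker ≤ center G) {R : Subgroup X} (hR : IsPGroup 2 R) [Finite R] {x : G} :
    x ∈ o2 (R.comap f) ↔ f x ∈ R ∧ ∃ k : ℕ, x ^ 2 ^ k = 1 :=
  ⟨fun h => ⟨o2_le (R.comap f) h, exists_pow_of_mem_o2 h⟩, fun h => h.2.elim fun _ hk => mem_o2_of_nilp (nilp_comap hc hR) h.1 hk⟩

omit [Finite G] in
theorem eq_one_of_two (ho : Odd (Nat.card f.ker)) {x : G} (hx : f x = 1) {k : ℕ} (hk : x ^ 2 ^ k = 1) : x = 1 := by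
  have h1 : orderOf x ∣ 2 ^ k := orderOf_dvd_of_pow_eq_one hk
  have h2 : orderOf x ∣ Nat.card f.ker := by
    have h3 := orderOf_dvd_natCard (⟨x, hx⟩ : f.ker)
    rwa [← Subgroup.orderOf_coe] at h3
  have h3 : Nat.Coprime (2 ^ k) (Nat.card f.ker) := (Nat.coprime_two_left.2 ho).pow_left k
  exact orderOf_eq_one_iff.1 (Nat.eq_one_of_dvd_coprimes h3 h1 h2)

omit [Finite G] in
/-- `f` is injective on the lift -/
theorem lift2_inj (ho : Odd (Nat.card f.ker)) {N : Subgroup G} {x y : G} (hx : x ∈ o2 N) (hy : y ∈ o2 N)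
    (h : f x = f y) : x = y := by
  obtain ⟨k, hk⟩ := exists_pow_of_mem_o2 (mul_mem hx (inv_mem hy))
  exact mul_inv_eq_one.1 (eq_one_of_two ho (by rw [map_mul, map_inv, h, mul_inv_cancel]) hk)

omit [Finite G] in
theorem card_map_lift2 (ho : Odd (Nat.card f.ker)) {N D : Subgroup G} (hD : D ≤ o2 N) :
    Nat.card (D.map f) = Nat.card D := by
  have h1 : Function.Injective (f.comp D.subtype) := by
    intro x y hxy
    exact Subtype.ext (lift2_inj ho (hD x.2) (hD y.2) hxy)
  have h2 : D.map f = (f.comp D.subtype).range := by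
    rw [MonoidHom.range_comp, range_subtype]
  rw [h2]
  exact (Nat.card_congr (MonoidHom.ofInjective h1).toEquiv).symm

/-- the lift maps onto `R` -/
theorem map_lift2 (hf : Function.Surjective f) (hc : f.ker ≤ center G) (ho : Odd (Nat.card f.ker)) {R : Subgroup X}
    (hR : IsPGroup 2 R) [Finite R] : (o2 (R.comap f)).map f = R := by
  refine le_antisymm ?_ ?_
  · rintro _ ⟨x, hx, rfl⟩
    exact o2_le (R.comap f) hx
  · intro r hr
    obtain ⟨k, hk⟩ := hR ⟨r, hr⟩
    have hk' : r ^ 2 ^ k = 1 := congrArg Subtype.val hk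
    obtain ⟨x, hx, hx1⟩ := Cfsg.Agent.Omega.Lie.Heis.exists_lift hf hc
      ((Nat.coprime_two_left.2 ho).pow_left k : Nat.Coprime (2 ^ k) (Nat.card f.ker)) hk'
    refine ⟨x, (mem_lift2 hc hR).2 ⟨?_, k, hx1⟩, hx⟩
    rw [hx]
    exact hr

theorem card_lift2 (hf : Function.Surjective f) (hc : f.ker ≤ center G) (ho : Odd (Nat.card f.ker)) {R : Subgroup X}
    (hR : IsPGroup 2 R) [Finite R] : Nat.card (o2 (R.comap f)) = Nat.card R := by
  rw [← card_map_lift2 ho le_rfl, map_lift2 hf hc ho hR]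

/-- the lift is normalised by the preimage of `N_X(R)` -/
theorem conj_lift2 (hc : f.ker ≤ center G) {R : Subgroup X} (hR : IsPGroup 2 R) [Finite R] {g x : G}
    (hg : ∀ r ∈ R, f g * r * (f g)⁻¹ ∈ R) (hx : x ∈ o2 (R.comap f)) : g * x * g⁻¹ ∈ o2 (R.comap f) := by
  rw [mem_lift2 hc hR] at hx ⊢
  obtain ⟨h1, k, hk⟩ := hx
  refine ⟨?_, k, ?_⟩
  · rw [map_mul, map_mul, map_inv]
    exact hg _ h1
  · rw [conj_pow, hk, mul_one, mul_inv_cancel]

end lift2

/-! ### From the record to the situation -/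

section record

variable {H : Type u} [Group H] [Finite H] {X : Type w} [Group X] {π : H →* X} {C P R : Subgroup X} {n : ℕ}

/-- the lift of `P` -/
def ee (π : H →* X) (C P : Subgroup X) : Subgroup H :=
  (⁅(P.subgroupOf C).comap (π.subgroupComap C), (P.subgroupOf C).comap (π.subgroupComap C)⁆).map (C.comap π).subtype

omit [Finite H] in
theorem map_ee (hf : Function.Surjective π) (hPC : P ≤ C) (hP : ⁅P, P⁆ = P) : (ee π C P).map π = P := by
  have h1 : π.comp (C.comap π).subtype = C.subtype.comp (π.subgroupComap C) := rfl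
  have h2 : Function.Surjective (π.subgroupComap C) := MonoidHom.subgroupComap_surjective_of_surjective π C hf
  rw [ee, map_map, h1, ← map_map, map_commutator, map_comap_eq_self_of_surjective h2, map_commutator,
    subgroupOf_map_subtype, inf_eq_left.2 hPC, hP]

/-- the situation in `H` -/
theorem dat_of_rec (hf : Function.Surjective π) (hc : π.ker ≤ center H) (ho : Odd (Nat.card π.ker))
    (h : Rec.{u, v, w} C P R n) : Dat.{u, v} H (C.comap π) (ee π C P) (o2 (R.comap π)) n := by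
  have hR : IsPGroup 2 R := IsPGroup.of_card h.card
  have hX : Finite X := Finite.of_surjective π hf
  have h2 : Function.Surjective (π.subgroupComap C) := MonoidHom.subgroupComap_surjective_of_surjective π C hf
  refine ⟨?_, map_subtype_le _, ?_, ?_, ?_, ?_, ?_⟩
  · intro x hx
    exact h.RC (o2_le (R.comap π) hx)
  · intro g hg q hq
    exact conj_lift2 hc hR (fun r hr => h.nR _ hg r hr) hq
  · rw [card_lift2 hf hc ho hR, h.card]
  · obtain ⟨a, ha, b, hb, hab⟩ := h.nab
    rw [← map_lift2 hf hc ho hR] at ha hb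
    obtain ⟨a', ha', rfl⟩ := ha
    obtain ⟨b', hb', rfl⟩ := hb
    refine ⟨a', ha', b', hb', fun h1 => hab ?_⟩
    rw [← map_mul, h1, map_mul]
  · intro D hD hE
    have h3 : D.map π ≤ R := by
      rw [← map_lift2 hf hc ho hR]
      exact Subgroup.map_mono hD
    rcases h.irr _ h3 (by
      rintro x hx _ ⟨d, hd, rfl⟩
      rw [← map_ee hf h.PC h.perf] at hx
      obtain ⟨l, hl, rfl⟩ := hx
      exact ⟨_, hE l hl d hd, by rw [map_mul, map_mul, map_inv]⟩) with h4 | h4
    · left
      rwa [card_map_lift2 ho hD] at h4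
    · right
      refine eq_of_le_of_card_ge hD ?_
      rw [card_lift2 hf hc ho hR, ← h4, card_map_lift2 ho hD]
  · have h3 : (ee π C P).subgroupOf (C.comap π) =
        ⁅(P.subgroupOf C).comap (π.subgroupComap C), (P.subgroupOf C).comap (π.subgroupComap C)⁆ :=
      comap_map_eq_self_of_injective (C.comap π).subtype_injective _
    rw [h3]
    refine h.triv _ _ h2 ?_ ?_
    · intro x hx
      have h4 : (x : H) ∈ π.ker := congrArg Subtype.val hx
      rw [mem_center_iff]
      intro y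
      exact Subtype.ext (mem_center_iff.1 (hc h4) y)
    · have h4 : ((π.subgroupComap C).ker).map (C.comap π).subtype ≤ π.ker := by
        rintro _ ⟨x, hx, rfl⟩
        exact congrArg Subtype.val hx
      have h5 := card_dvd_of_le h4
      rw [card_map_of_injective (C.comap π).subtype_injective] at h5
      exact Odd.of_dvd_nat ho h5

/-- **the record excludes the strict group** -/
theorem false_of_rec {M : Type v} [Group M] [Finite M] [MulDistribMulAction H M] {A : Subgroup H}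
    (sq : ∀ m : M, m * m = 1) (faith : ∀ h : H, (∀ m : M, h • m = m) → h = 1) (hs : Strict (fab M 1 1) A)
    (el : ∀ a ∈ A, a * a = 1) (hA2 : 2 < Nat.card A) (hf : Function.Surjective π) (hc : π.ker ≤ center H)
    (ho : Odd (Nat.card π.ker)) (h : Rec.{u, v, w} C P R n) {g : X} (hg : ∀ a ∈ A, g * π a * g⁻¹ ∈ R) : False := by
  have hR : IsPGroup 2 R := IsPGroup.of_card h.card
  have hX : Finite X := Finite.of_surjective π hf
  obtain ⟨g, rfl⟩ := hf g
  refine (dat_of_rec hf hc ho h).false (A := cj g A) sq faith ?_ (hs.cj (ls_fab (H := H) M 1 1) g) ?_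
  · rintro _ ⟨a, ha, rfl⟩
    rw [mem_lift2 hc hR]
    refine ⟨?_, 1, ?_⟩
    · change π (g * a * g⁻¹) ∈ R
      rw [map_mul, map_mul, map_inv]
      exact hg a ha
    · change (g * a * g⁻¹) ^ 2 ^ 1 = 1
      rw [pow_one, pow_two]
      have h1 : g * a * g⁻¹ * (g * a * g⁻¹) = g * (a * a) * g⁻¹ := by group
      rw [h1, el a ha, mul_one, mul_inv_cancel]
  · rw [cj, card_map_of_injective (MulAut.conj g).injective]
    exact hA2

end record

section rows

open Cfsg.Agent.OddHalf.D8.Sheet Cfsg.Agent.OddHalf.D8.JTwo.Sheet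

/-- the record from helper915's sheet -/
theorem _root_.Cfsg.Agent.Omega.ML.ExRec.Rec.of_sheet {S : Type w} [Group S] {z : S} {P R : Subgroup S} {n : ℕ}
    (h : SheetX z P R) (hcard : Nat.card R = 2 ^ (2 * n + 1)) (ht : TrivC.{u, v, w} (centralizer ({z} : Set S)) P n) :
    Rec.{u, v, w} (centralizer ({z} : Set S)) P R n where
  PC := fun x hx => mem_centralizer_singleton_iff.2 (h.cen x hx)
  RC := fun x hx => mem_centralizer_singleton_iff.2 (h.cen x (h.RP hx))
  nR := by
    intro c hc r hr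
    have hcz : c * z = z * c := mem_centralizer_singleton_iff.1 hc
    -- `c` normalises `P` and so `R`
    have hα : (MulAut.conj c) z = z := by rw [MulAut.conj_apply, hcz, mul_inv_cancel_right]
    have hP : ∀ x ∈ P, c * x * c⁻¹ ∈ P := fun x hx => map_P h.perf h.cen h.der (MulAut.conj c) hα hx
    have hα' : (MulAut.conj c⁻¹) z = z := by
      rw [MulAut.conj_apply, inv_inv, mul_assoc, ← hcz, ← mul_assoc, inv_mul_cancel, one_mul]
    have hP' : ∀ x ∈ P, c⁻¹ * x * c ∈ P := fun x hx => by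
      have h1 := map_P h.perf h.cen h.der (MulAut.conj c⁻¹) hα' hx
      rwa [MulAut.conj_apply, inv_inv] at h1
    have h1 : R.map (MulAut.conj c).toMonoidHom ≤ R := by
      apply h.Rmax
      · rintro _ ⟨x, hx, rfl⟩
        exact hP x (h.RP hx)
      · exact h.R2.map _
      · rintro x hx _ ⟨b, hb, rfl⟩
        refine ⟨c⁻¹ * x * c * b * (c⁻¹ * x * c)⁻¹, h.Rn _ (hP' x hx) b hb, ?_⟩
        change c * (c⁻¹ * x * c * b * (c⁻¹ * x * c)⁻¹) * c⁻¹ = x * (c * b * c⁻¹) * x⁻¹
        group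
    exact h1 ⟨r, hr, rfl⟩
  card := hcard
  nab := h.Rna
  perf := h.perf
  irr := by
    intro B hB hP
    rcases h.Rmin B hB hP with h1 | h1
    · left
      have h2 : (B : Set S) ⊆ {1, z} := fun b hb => by
        rcases h1 b hb with h3 | h3
        · exact Or.inl h3
        · exact Or.inr h3
      have h3 := Set.ncard_le_ncard h2 (Set.toFinite _)
      have h4 : ({1, z} : Set S).ncard ≤ 2 := (Set.ncard_insert_le _ _).trans (by rw [Set.ncard_singleton])
      exact h3.trans h4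
    · exact Or.inr h1
  triv := ht

/-- **The row of a class of groups with a sheet of type (E).** -/
theorem dead_of_sheet {𝒮 : ∀ (S : Type u) [Group S], Prop} (h𝒮 : IsoClosed.{u} 𝒮)
    (hS : ∀ (S : Type u) [Group S] [Finite S], 𝒮 S → ∃ (z : S) (P R : Subgroup S) (n : ℕ), SheetX z P R ∧
      Nat.card R = 2 ^ (2 * n + 1) ∧ TrivC.{u, v, u} (centralizer ({z} : Set S)) P n) : Dead.{u, v} 𝒮 := by
  intro H _ _ M _ _ _ K T A h hK
  have hZ := h.normalZ
  have has := h.as hZ
  obtain ⟨z, P, R, n, hsh, hcard, ht⟩ := hS _ (h𝒮 _ _ (equivZ hZ) hK)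
  have htop := ShE.eq_top has hsh
  obtain ⟨g, hg⟩ := ShE.le_conj has hsh
  -- `H → S`
  have hmem : ∀ x : H, QuotientGroup.mk' (centralizer (K : Set H)) x ∈
      K.map (QuotientGroup.mk' (centralizer (K : Set H))) := fun x => by
    rw [htop]; exact mem_top _
  let π : H →* (K.map (QuotientGroup.mk' (centralizer (K : Set H))) : Subgroup _) :=
    (QuotientGroup.mk' (centralizer (K : Set H))).codRestrict _ hmem
  have hker : π.ker = centralizer (K : Set H) := by
    ext x
    rw [MonoidHom.mem_ker]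
    constructor
    · intro h1
      exact (QuotientGroup.eq_one_iff x).1 (congrArg Subtype.val h1)
    · intro h1
      exact Subtype.ext ((QuotientGroup.eq_one_iff x).2 h1)
  have hf : Function.Surjective π := by
    rintro ⟨y, hy⟩
    obtain ⟨x, rfl⟩ := QuotientGroup.mk_surjective y
    exact ⟨x, rfl⟩
  have hgm : g ∈ K.map (QuotientGroup.mk' (centralizer (K : Set H))) := by rw [htop]; exact mem_top g
  refine false_of_rec (π := π) h.sq h.faith h.strict h.el (lt_of_lt_of_le (by norm_num) h.eight) hf ?_ ?_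
    (Rec.of_sheet hsh hcard ht) (g := ⟨g, hgm⟩⁻¹) ?_
  · intro x hx
    rw [hker] at hx
    rw [mem_center_iff]
    intro y
    exact h.zen x hx y
  · rw [hker, h.card_centralizer]
    exact h.odd
  · intro a ha
    obtain ⟨r, hr, hr'⟩ := hg _ ⟨a, ha, rfl⟩
    have h1 : (⟨g, hgm⟩ : (K.map (QuotientGroup.mk' (centralizer (K : Set H))) : Subgroup _))⁻¹ * π a *
        (⟨g, hgm⟩⁻¹)⁻¹ = r := by
      apply Subtype.ext
      rw [inv_inv]
      exact hr'.symm
    rw [h1]
    exact hr

end rows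

end Cfsg.Agent.Omega.ML.ExRow
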