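import Cfsg.Agent.Omega.ML.ExFi24Abs
import Cfsg.Agent.Omega.ML.ExRow
import Cfsg.Agent.OddHalf.D8.SheetMap
import Cfsg.Agent.KFacts.FiTF.SheetF
import Cfsg.Agent.KFacts.FiTF.QuasiBInst
import Cfsg.Agent.KFacts.FiTF.SubOrb

/-!
# (ML), the K-list end: the row `Fi24'` by THEOREM EX (helper39)

* `facts` : the sheet, `|R| = 2^13`, `TrivC` for all `S ≅ Fi24'`;
* `dead` : the row.
-/

set_option autoImplicit false

namespace Cfsg.Agent.Omega.ML.RowFi24

open Subgroup Cfsg Cfsg.Agent.Omega.ML.Rows Cfsg.Agent.Omega.ML.ExRec Cfsg.Agent.Omega.ML.ExFi24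
open Cfsg.Agent.OddHalf Cfsg.Agent.OddHalf.D8.JTwo.Sheet
open Cfsg.Agent.KFacts.FiTF Cfsg.Agent.KFacts.FiTF.Defs

universe u v

/-- normal subgroups of `E` containing `R` -/
theorem dich (N : Subgroup Spor.Fi24) (hN : N ≤ E) (hR : R ≤ N) (hn : ∀ e ∈ E, ∀ n ∈ N, e * n * e⁻¹ ∈ N) :
    (∀ n ∈ N, QuasiA.Fixes n) ∨ N = E := by
  have : Finite Spor.Fi24 := Cfsg.Agent.R08.FiTwentyFour.finite_Fi24
  exact (QuasiBInst.hyp FixZ.tran FixZ.ncard_Dz Order.card (Cent.cent FixZ.tran) (PerfE.perf FixZ.tran)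
    (fun M h1 h2 h3 => QuasiA.dichW h2 h3 FixZ.tran SubOrb.quasi1 SubOrb.quasi2 h1)).dich_E hN hR hn

theorem three_dvd : 3 ^ 7 ∣ Nat.card E := by
  have : Finite Spor.Fi24 := Cfsg.Agent.R08.FiTwentyFour.finite_Fi24
  have h1 := Abs.card_CK frame
  have h2 := Abs.rel_mul frame
  rw [Order.card] at h1
  rcases Abs.relIndex_E frame Order.card SheetMFi.card_E with h3 | h3
  · rw [h3] at h2
    exact ⟨73400320, by norm_num; omega⟩
  · rw [h3] at h2
    exact ⟨36700160, by norm_num; omega⟩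

/-- `TrivC` in `Fi24'` -/
theorem triv : TrivC.{u, v, 0} (centralizer ({Abs.zK frame} : Set (commutator Spor.Fi24)))
    (E.subgroupOf (commutator Spor.Fi24)) 6 := by
  have : Finite Spor.Fi24 := Cfsg.Agent.R08.FiTwentyFour.finite_Fi24
  refine trivC frame three_dvd (fun N h1 h2 h3 => ?_) (Abs.E_le_CK frame)
  exact (dich N h1 h2 h3).imp (fun h4 n hn e he => SheetMFi.fixes_R FixZ.tran (h4 n hn) e he) id

/-- **the facts of THEOREM EX for `Fi24'`** -/
theorem facts (S : Type u) [Group S] (e : Spor.IsoFi24' S) :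
    ∃ (z : S) (P R : Subgroup S) (n : ℕ), SheetX z P R ∧ Nat.card R = 2 ^ (2 * n + 1) ∧
      TrivC.{u, v, u} (centralizer ({z} : Set S)) P n := by
  have : Finite Spor.Fi24 := Cfsg.Agent.R08.FiTwentyFour.finite_Fi24
  obtain ⟨e⟩ := e
  refine ⟨_, _, _, 6, of_sheetE (D8.SheetMap.sheetE_map e.symm sheetE), ?_, ?_⟩
  · have h1 := Abs.card_RK frame
    rw [← Nat.card_congr (equivMapOfInjective _ e.symm.toMonoidHom e.symm.injective).toEquiv]
    rw [h1]; norm_num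
  · rw [D8.SheetMap.centralizer_map]
    exact TrivC.map e.symm triv

/-- **the row `Fi24'` (`Fi24`, `3.Fi24'`)** -/
theorem dead : Dead.{u, v} (fun S _ => Spor.IsoFi24' S) :=
  ExRow.dead_of_sheet (fun _ _ _ _ e h => h.map fun f => e.symm.trans f) fun S _ _ h => facts S h

end Cfsg.Agent.Omega.ML.RowFi24
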