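import Cfsg.Agent.Omega.ML.ExRecHN
import Cfsg.Agent.Omega.ML.ExRow
import Cfsg.Agent.OddHalf.D8.SheetMap

/-!
# (ML), the K-list end: the row `HN` by THEOREM EX
-/

set_option autoImplicit false

namespace Cfsg.Agent.Omega.ML.RowHN

open Subgroup Cfsg Cfsg.Agent.Omega.ML.Rows Cfsg.Agent.Omega.ML.ExRec Cfsg.Agent.OddHalf.D8

universe u v w w'

/-- `TrivC` and isomorphisms -/
theorem trivC_map {X : Type w} [Group X] {X' : Type w'} [Group X'] (e : X ≃* X') {C P : Subgroup X} {n : ℕ}
    (h : TrivC.{u, v, w} C P n) : TrivC.{u, v, w'} (C.map e.toMonoidHom) (P.map e.toMonoidHom) n := by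
  intro G _ _ p hp hc ho
  let f : C ≃* C.map e.toMonoidHom := C.equivMapOfInjective e.toMonoidHom e.injective
  have hf : ∀ x : C, (f x : X') = e x := fun x => rfl
  let q : G →* C := f.symm.toMonoidHom.comp p
  have hq : ∀ g : G, e (q g : X) = (p g : X') := by
    intro g
    have h1 : f (q g) = p g := f.apply_symm_apply (p g)
    rw [← hf, h1]
  have hk : q.ker = p.ker := by
    ext g
    rw [MonoidHom.mem_ker, MonoidHom.mem_ker]
    constructor
    · intro h1
      apply Subtype.ext
      rw [← hq, h1]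
      exact map_one e
    · intro h1
      apply Subtype.ext
      apply e.injective
      rw [hq, h1]
      exact (map_one e).symm
  have hcm : (P.subgroupOf C).comap q = ((P.map e.toMonoidHom).subgroupOf (C.map e.toMonoidHom)).comap p := by
    ext g
    rw [mem_comap, mem_comap, mem_subgroupOf, mem_subgroupOf, ← hq]
    constructor
    · intro h1
      exact ⟨_, h1, rfl⟩
    · rintro ⟨x, hx, hxe⟩
      have : x = q g := e.injective hxe
      rw [← this]
      exact hx
  rw [← hcm]
  refine h G q (f.symm.surjective.comp hp) ?_ ?_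
  · rw [hk]; exact hc
  · rw [hk]; exact ho

theorem iso_HN : IsoClosed.{u} (fun S _ => Spor.IsoHN S) := by
  rintro S S' _ _ e ⟨f⟩
  exact ⟨e.symm.trans f⟩

/-- **The row `HN`.** -/
theorem dead_HN : Dead.{u, v} (fun S _ => Spor.IsoHN S) := by
  refine ExRow.dead_of_sheet iso_HN fun S _ _ hS => ?_
  obtain ⟨e⟩ := hS
  refine ⟨_, _, _, 4, JTwo.Sheet.of_sheetE (SheetMap.sheetE_map e.symm Cfsg.Agent.KFacts.HN.sheetE), ?_, ?_⟩
  · rw [card_map_of_injective e.symm.injective]
    exact ExHN.card
  · rw [SheetMap.centralizer_map]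
    exact trivC_map e.symm ExHN.rec_hn.triv

end Cfsg.Agent.Omega.ML.RowHN
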