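import Cfsg.Agent.Omega.ML.RowPspFour
import Cfsg.Agent.Omega.ML.RowPspFin

/-!
# (ML), the K-list end: `PSp₄(7)`, `PSp₄(9)` in the form of `RowPspFin` (helper297)
-/

set_option autoImplicit false

namespace Cfsg.Agent.Omega.ML.RowPspFour

open Cfsg Cfsg.Agent.Omega.ML.Rows Cfsg.Agent.Omega.ML.LocRow

universe u v w

theorem deadZ : DeadZ.{u, v} @Cls.{u} := Dead.deadZ dead

/-- **The rows `PSp₄(7)`, `PSp₄(9)`.** -/
theorem four : DeadZ.{u, v} @RowPsp.IsPSpFour.{u} := by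
  intro H _ _ M _ _ _ K T Q A z hI hS
  obtain ⟨F, iF, jF, h, e⟩ := hS
  have h1 : Odd (Fintype.card F) := by
    rcases h with h | h <;> rw [h] <;> decide
  have h2 : 3 < Fintype.card F := by
    rcases h with h | h <;> rw [h] <;> norm_num
  exact deadZ H M K T Q A z hI ⟨F, iF, jF, h1, h2, e⟩

end Cfsg.Agent.Omega.ML.RowPspFour
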