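import Cfsg.Agent.Omega.TwoF.Defs
import Cfsg.Agent.Omega.Lie.HeisCover

/-!
# (ML), the K-list end: from `TwoF.LB` (elementary abelian `V`, one universe) to `Lie.Heis.LB` (helper369)

`heis_of_twoF : TwoF.LB.{u} K n → Lie.Heis.LB.{_, u, w} K n`.
-/

set_option autoImplicit false

namespace Cfsg.Agent.Omega.ML.LBConv

open Subgroup Cfsg.Agent.Omega.TwoF Cfsg.Agent.Omega.Lie

universe u v w

/-- restriction of an action to an invariant subgroup -/
def restr {L V : Type*} [Group L] [CommGroup V] (φ : L →* MulAut V) (W : Subgroup V)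
    (hW : ∀ g, ∀ x ∈ W, φ g x ∈ W) : L →* MulAut W where
  toFun g :=
    { toFun := fun x => ⟨φ g x, hW g x x.2⟩
      invFun := fun x => ⟨φ g⁻¹ x, hW g⁻¹ x x.2⟩
      left_inv := fun x => Subtype.ext (by
        show φ g⁻¹ (φ g x) = x
        rw [← MulAut.mul_apply, ← map_mul, inv_mul_cancel, map_one, MulAut.one_apply])
      right_inv := fun x => Subtype.ext (by
        show φ g (φ g⁻¹ x) = x
        rw [← MulAut.mul_apply, ← map_mul, mul_inv_cancel, map_one, MulAut.one_apply])
      map_mul' := fun x y => Subtype.ext (map_mul (φ g) (x : V) y) }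
  map_one' := by
    ext x
    show φ 1 (x : V) = x
    rw [map_one, MulAut.one_apply]
  map_mul' g h := by
    ext x
    show φ (g * h) (x : V) = φ g (φ h x)
    rw [map_mul, MulAut.mul_apply]

theorem coe_restr {L V : Type*} [Group L] [CommGroup V] (φ : L →* MulAut V) (W : Subgroup V)
    (hW : ∀ g, ∀ x ∈ W, φ g x ∈ W) (g : L) (x : W) : ((restr φ W hW g x : W) : V) = φ g x := rfl

/-- a finite group has a copy in every universe -/
theorem exists_copy (V : Type w) [CommGroup V] [Finite V] : ∃ (W : Type u) (_ : CommGroup W), Nonempty (W ≃* V) := by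
  have key : ∀ (W : Type u), Nonempty (W ≃ V) → ∃ (_ : CommGroup W), Nonempty (W ≃* V) := by
    rintro W ⟨e⟩
    exact ⟨e.commGroup, ⟨e.mulEquiv⟩⟩
  obtain ⟨m, ⟨e0⟩⟩ := Finite.exists_equiv_fin V
  exact ⟨ULift.{u} (Fin m), key _ ⟨Equiv.ulift.trans e0.symm⟩⟩

/-- change of universe -/
theorem elem_ulift {K : Type v} [Group K] {n : ℕ} (h : TwoF.LB.{u} K n) {L : Type u} [Group L] [Finite L]
    {π : L →* K} (hπ : OddCover π) {V : Type w} [CommGroup V] [Finite V] (φ : L →* MulAut V)
    (hV : ∀ x : V, x ^ 2 = 1) (hφ : φ ≠ 1) : 2 ^ n ≤ Nat.card V := by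
  obtain ⟨W, _, ⟨f⟩⟩ := exists_copy.{u} V
  have : Finite W := Finite.of_equiv V f.symm.toEquiv
  have h1 := h L π hπ W ((MulAut.congr f.symm).toMonoidHom.comp φ) (fun x => by
    apply f.injective
    rw [map_pow, map_one]
    exact hV _) (fun h2 => hφ (by
      ext g x
      have h3 := DFunLike.congr_fun (DFunLike.congr_fun h2 g) (f.symm x)
      have h4 : f.symm (φ g (f (f.symm x))) = f.symm x := h3
      rw [f.apply_symm_apply] at h4
      rw [MonoidHom.one_apply, MulAut.one_apply]
      exact f.symm.injective h4))
  rwa [Nat.card_congr f.toEquiv] at h1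

/-- **From elementary abelian groups to abelian 2-groups, from one universe to two.** -/
theorem heis_of_twoF {K : Type v} [Group K] {n : ℕ} (h : TwoF.LB.{u} K n) : Heis.LB.{v, u, w} K n := by
  intro L _ _ π hs hc ho hp V _ _ hV φ hφ
  have hπ : OddCover π := ⟨hp, hs, hc, ho⟩
  -- induction on the order of `V`
  obtain ⟨k, hk⟩ : ∃ k, Nat.card V ≤ k := ⟨_, le_rfl⟩
  induction k generalizing V with
  | zero => exact absurd hk (by have := Nat.card_pos (α := V); omega)
  | succ k ih =>
    -- `Ω₁(V)` and the squares
    let sq : V →* V := powMonoidHom 2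
    have hker : ∀ g, ∀ x ∈ sq.ker, φ g x ∈ sq.ker := by
      intro g x hx
      rw [MonoidHom.mem_ker] at hx ⊢
      have h1 : x ^ 2 = 1 := hx
      show (φ g x) ^ 2 = 1
      rw [← map_pow, h1, map_one]
    have hran : ∀ g, ∀ x ∈ sq.range, φ g x ∈ sq.range := by
      rintro g _ ⟨x, rfl⟩
      refine ⟨φ g x, ?_⟩
      show (φ g x) ^ 2 = φ g (x ^ 2)
      rw [map_pow]
    by_cases h1 : restr φ sq.ker hker = 1
    · by_cases h2 : restr φ sq.range hran = 1
      · exfalso
        -- `φ g x = x * d`, `d ∈ Ω₁(V)`
        apply hφ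
        have h3 : ∀ g x, x⁻¹ * φ g x ∈ sq.ker := by
          intro g x
          rw [MonoidHom.mem_ker]
          have h4 := congrArg Subtype.val (DFunLike.congr_fun (DFunLike.congr_fun h2 g) ⟨x ^ 2, x, rfl⟩)
          have h5 : φ g (x ^ 2) = x ^ 2 := h4
          show (x⁻¹ * φ g x) ^ 2 = 1
          rw [mul_pow, ← map_pow, h5, inv_pow, inv_mul_cancel]
        have h4 : ∀ g, ∀ x ∈ sq.ker, φ g x = x := by
          intro g x hx
          exact congrArg Subtype.val (DFunLike.congr_fun (DFunLike.congr_fun h1 g) ⟨x, hx⟩)
        have h5 : ∀ g g' x, φ (g * g') x = φ g x * (x⁻¹ * φ g' x) := by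
          intro g g' x
          rw [map_mul, MulAut.mul_apply]
          have h6 : φ g' x = x * (x⁻¹ * φ g' x) := by rw [mul_inv_cancel_left]
          rw [h6, map_mul, h4 g _ (h3 g' x), ← h6]
        have h6 : ∀ g g', φ g * φ g' = φ g' * φ g := by
          intro g g'
          rw [← map_mul, ← map_mul]
          ext x
          rw [h5, h5]
          rw [mul_comm x⁻¹ (φ g' x), mul_comm x⁻¹ (φ g x), ← mul_assoc, ← mul_assoc, mul_comm (φ g x)]
        have h7 : commutator L ≤ φ.ker := by
          rw [commutator_def, commutator_le]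
          intro a _ b _
          rw [MonoidHom.mem_ker, map_commutatorElement, commutatorElement_eq_one_iff_mul_comm]
          exact h6 a b
        rw [hp] at h7
        ext g x
        have h8 : φ g = 1 := h7 (mem_top g)
        rw [h8]
        rfl
      · have h3 : sq.range ≠ ⊤ := by
          intro h4
          -- `sq` injective: `V` is a 2-group
          have h5 : Function.Surjective sq := MonoidHom.range_eq_top.1 h4
          have h6 : Function.Injective sq := Finite.injective_iff_surjective.2 h5
          apply hφ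
          ext g x
          have h7 : ∀ x : V, x = 1 := by
            intro x
            obtain ⟨j, hj⟩ := hV x
            have h8 : ∀ j : ℕ, ∀ y : V, y ^ 2 ^ j = 1 → y = 1 := by
              intro j
              induction j with
              | zero => intro y hy; rwa [pow_zero, pow_one] at hy
              | succ j ih2 =>
                intro y hy
                rw [pow_succ, pow_mul] at hy
                apply ih2
                apply h6
                show (y ^ 2 ^ j) ^ 2 = (1 : V) ^ 2
                rw [hy, one_pow]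
            exact h8 j x hj
          rw [h7 (φ g x), h7 x, map_one]
        have h4 : Nat.card sq.range < Nat.card V := by
          refine lt_of_le_of_ne (Subgroup.card_le_card_group _) fun h5 => h3 ?_
          exact Subgroup.eq_top_of_card_eq _ h5
        have h5 := ih sq.range (hV.to_subgroup _) (restr φ sq.range hran) h2 (by omega)
        exact h5.trans h4.le
    · have h2 := elem_ulift h hπ (restr φ sq.ker hker) (fun x => Subtype.ext (by
        have h3 := x.2
        rw [MonoidHom.mem_ker] at h3
        exact h3)) h1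
      exact h2.trans (Subgroup.card_le_card_group _)

end Cfsg.Agent.Omega.ML.LBConv
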