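import Cfsg.Agent.Omega.ML.KnownDone
import Cfsg.Agent.Omega.ML.OddLie
import Cfsg.Agent.Omega.ML.RowSuz
import Cfsg.Agent.Omega.ML.RowTitsNum

/-!
# (ML), the K-list end: all rows (helper484)

* `rows` : all rows of the K-list (`Known.RowsML`);
* `known` : `DeadZ @IsKnownSimple'`;
* `mlk` : **(ML) for K-groups** (`Final.MLK`), no open hypothesis.
-/

set_option autoImplicit false

namespace Cfsg.Agent.Omega.ML.KnownAll

open Cfsg Cfsg.Agent.Omega.ML.LocRow Cfsg.Agent.Omega.ML.Known

universe u v

/-- All rows, from the odd Lie row. -/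
theorem rows_of_odd (odd : DeadZ.{u, v} fun S _ => OddLie S ∧ ¬ IsLieTypeChar 2 S) : RowsML.{u, v} :=
  KnownDone.rowsOf odd RowTitsNum.deadZ (Dead.deadZ RowSuz.dead)

/-- (ML) for K-groups, from the odd Lie row. -/
theorem mlk_of_odd (odd : DeadZ.{u, v} fun S _ => OddLie S ∧ ¬ IsLieTypeChar 2 S) : Final.MLK.{u, v} :=
  KnownDone.mlk_of odd RowTitsNum.deadZ (Dead.deadZ RowSuz.dead)

/-- **All rows of the K-list.** -/
theorem rows : RowsML.{u, v} := rows_of_odd OddLie.odd

/-- The K-list: no known simple group is the component of a counterexample to (ML). -/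
theorem known : DeadZ.{u, v} @IsKnownSimple' := rows.known

/-- **(ML) for K-groups.** -/
theorem mlk : Final.MLK.{u, v} := mlk_of_odd OddLie.odd

end Cfsg.Agent.Omega.ML.KnownAll
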