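import Cfsg.Agent.Omega.ML.CD

/-!
# The dual count (OMEGA, (ML); #15208 of helper729, (L4) of #15924 of helper883); K-free

A functional on the subgroup `W` of `M` is a function `u : M → ℤˣ` which is multiplicative on `W` (`Fn W u`).
`st X W u` is the stabiliser of `u` in `X`.

* `dc` : **(DC)** `|X : C_X(u)| ≤ |W : C_W(X)|`, `X` any subgroup of `H`, `W` an `X`-invariant subgroup of `M`;
* `Chain X W D` : `|X : D| ≤ |W : C_W(X)|`; `Chain.step` : **(CHAIN)** from `W` to `W' ≥ W` with a functional on `W'`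
  trivial on `W`;  `Chain.fo_le` : if the functionals of one chain have trivial common stabiliser then
  `|X| |C_M(X)| ≤ |M|`;
* `fo_le` : **(L4)** one functional of `M` with `C_X(u) = 1` suffices;
* `exists_fix` : a strict `A` (over-offender) fixes no functional regularly: `W` `A`-invariant, `[W, A] ≠ 1`, `u` on `W`:
  some `a ∈ A`, not centralising `W`, fixes `u`; `exists_fix_hyp`, `exists_fix_ne_one`.
-/

set_option autoImplicit false
set_option linter.unusedVariables false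

namespace Cfsg.Agent.Omega.ML.Dual

open Subgroup Cfsg.Agent.ClassTwoFusion.Quad Cfsg.Agent.Omega.NOThree.NoOver Cfsg.Agent.Omega.ML.CD

/-- at most `|W : C|` homomorphisms `W → ±1` are trivial on `C` -/
theorem card_le_index {W : Type*} [Group W] [Finite W] (C : Subgroup W) {ι : Type*} (χ : ι → (W →* ℤˣ))
    (hinj : Function.Injective χ) (hC : ∀ i, ∀ c ∈ C, χ i c = 1) : Nat.card ι ≤ C.index := by
  classical
  have : Finite (W →* ℤˣ) := DFunLike.finite _
  have : Finite ι := Finite.of_injective χ hinj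
  have := Fintype.ofFinite ι
  have := Fintype.ofFinite (W ⧸ C)
  let F : ι → (W ⧸ C → ℚ) := fun i q => Quotient.liftOn' q (fun w => (((χ i w : ℤˣ) : ℤ) : ℚ)) (by
    intro a b hab
    rw [QuotientGroup.leftRel_apply] at hab
    have h1 := hC i _ hab
    rw [map_mul, map_inv, inv_mul_eq_one] at h1
    simp only [h1])
  let L : (W ⧸ C → ℚ) →ₗ[ℚ] (W → ℚ) := LinearMap.funLeft ℚ ℚ (QuotientGroup.mk)
  have hlin : LinearIndependent ℚ F := by
    apply LinearIndependent.of_comp L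
    let e : ι → (W →* ℚ) := fun i => (Int.castRingHom ℚ : ℤ →* ℚ).comp ((Units.coeHom ℤ).comp (χ i))
    have he : Function.Injective e := by
      intro i j hij
      apply hinj
      ext w
      have h1 := DFunLike.congr_fun hij w
      have h2 : (((χ i w : ℤˣ) : ℤ) : ℚ) = (((χ j w : ℤˣ) : ℤ) : ℚ) := h1
      exact_mod_cast h2
    exact (linearIndependent_monoidHom W ℚ).comp e he
  have h1 := hlin.fintype_card_le_finrank
  rw [Module.finrank_fintype_fun_eq_card] at h1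
  rw [Subgroup.index, Nat.card_eq_fintype_card, Nat.card_eq_fintype_card]
  exact h1

variable {H : Type*} [Group H] {M : Type*} [Group M] [MulDistribMulAction H M]

/-- `u` is a functional on `W` -/
def Fn (W : Subgroup M) (u : M → ℤˣ) : Prop := ∀ w ∈ W, ∀ w' ∈ W, u (w * w') = u w * u w'

/-- `W` is `X`-invariant -/
def Iv (X : Subgroup H) (W : Subgroup M) : Prop := ∀ x ∈ X, ∀ w ∈ W, x • w ∈ W

theorem Fn.one {W : Subgroup M} {u : M → ℤˣ} (h : Fn W u) : u 1 = 1 := by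
  have h1 := h 1 (one_mem _) 1 (one_mem _)
  rw [mul_one] at h1
  exact (mul_eq_left.1 h1.symm)

theorem Fn.inv {W : Subgroup M} {u : M → ℤˣ} (h : Fn W u) {w : M} (hw : w ∈ W) : u w⁻¹ = u w := by
  have h1 := h w hw w⁻¹ (inv_mem hw)
  rw [mul_inv_cancel, h.one] at h1
  have h2 : u w * u w = 1 := Int.units_mul_self _
  exact mul_left_cancel (h1.symm.trans h2.symm)

theorem Fn.mono {W W' : Subgroup M} {u : M → ℤˣ} (h : Fn W' u) (hW : W ≤ W') : Fn W u :=
  fun w hw w' hw' => h w (hW hw) w' (hW hw')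

/-- the stabiliser in `X` of the functional `u` on `W` -/
def st (X : Subgroup H) (W : Subgroup M) (u : M → ℤˣ) : Subgroup H where
  carrier := {x | x ∈ X ∧ ∀ w ∈ W, x • w ∈ W ∧ x⁻¹ • w ∈ W ∧ u (x • w) = u w}
  one_mem' := ⟨one_mem _, fun w hw => by simpa using hw⟩
  mul_mem' := by
    rintro x y ⟨hx, hx'⟩ ⟨hy, hy'⟩
    refine ⟨mul_mem hx hy, fun w hw => ⟨?_, ?_, ?_⟩⟩
    · rw [mul_smul]; exact (hx' _ (hy' w hw).1).1
    · rw [mul_inv_rev, mul_smul]; exact (hy' _ (hx' w hw).2.1).2.1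
    · rw [mul_smul, (hx' _ (hy' w hw).1).2.2, (hy' w hw).2.2]
  inv_mem' := by
    rintro x ⟨hx, hx'⟩
    refine ⟨inv_mem hx, fun w hw => ⟨(hx' w hw).2.1, ?_, ?_⟩⟩
    · rw [inv_inv]; exact (hx' w hw).1
    · have h1 := (hx' _ (hx' w hw).2.1).2.2
      rw [smul_inv_smul] at h1
      exact h1.symm

theorem st_le (X : Subgroup H) (W : Subgroup M) (u : M → ℤˣ) : st X W u ≤ X := fun _ hx => hx.1

theorem mem_st {X : Subgroup H} {W : Subgroup M} (hW : Iv X W) {u : M → ℤˣ} {x : H} :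
    x ∈ st X W u ↔ x ∈ X ∧ ∀ w ∈ W, u (x • w) = u w :=
  ⟨fun h => ⟨h.1, fun w hw => (h.2 w hw).2.2⟩, fun h => ⟨h.1, fun w hw =>
    ⟨hW x h.1 w hw, hW _ (inv_mem h.1) w hw, h.2 w hw⟩⟩⟩

/-- the elements of `W` on which all `u ^ x` agree -/
theorem exists_K {X : Subgroup H} {W : Subgroup M} (hW : Iv X W) {u : M → ℤˣ} (hu : Fn W u) :
    ∃ K : Subgroup M, ∀ w, w ∈ K ↔ w ∈ W ∧ ∀ x ∈ X, u (x • w) = u w := by
  refine ⟨{ carrier := {w | w ∈ W ∧ ∀ x ∈ X, u (x • w) = u w}, one_mem' := ?_, mul_mem' := ?_, inv_mem' := ?_ },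
    fun w => Iff.rfl⟩
  · rintro w w' ⟨hw, h1⟩ ⟨hw', h2⟩
    refine ⟨mul_mem hw hw', fun x hx => ?_⟩
    rw [smul_mul', hu _ (hW x hx w hw) _ (hW x hx w' hw'), h1 x hx, h2 x hx, hu w hw w' hw']
  · exact ⟨one_mem _, fun x _ => by rw [smul_one]⟩
  · rintro w ⟨hw, h1⟩
    refine ⟨inv_mem hw, fun x hx => ?_⟩
    rw [smul_inv', hu.inv (hW x hx w hw), h1 x hx, hu.inv hw]

/-- **(DC)**, general form -/
theorem dc' [Finite H] [Finite M] {X : Subgroup H} {W K : Subgroup M} (hW : Iv X W) {u : M → ℤˣ} (hu : Fn W u)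
    (hKW : K ≤ W) (hK : ∀ w ∈ K, ∀ x ∈ X, u (x • w) = u w) : (st X W u).relIndex X ≤ K.relIndex W := by
  classical
  let χ₀ : X → (W →* ℤˣ) := fun x =>
    { toFun := fun w => u ((x : H)⁻¹ • (w : M)) * u w
      map_one' := by
        change u ((x : H)⁻¹ • (1 : M)) * u 1 = 1
        rw [smul_one, hu.one, one_mul]
      map_mul' := fun w w' => by
        change u ((x : H)⁻¹ • ((w : M) * w')) * u ((w : M) * w') = _
        rw [smul_mul', hu _ (hW _ (inv_mem x.2) w w.2) _ (hW _ (inv_mem x.2) w' w'.2), hu w w.2 w' w'.2]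
        exact mul_mul_mul_comm _ _ _ _ }
  have hχ : ∀ x (w : W), χ₀ x w = u ((x : H)⁻¹ • (w : M)) * u w := fun _ _ => rfl
  have key : ∀ x y : X, x⁻¹ * y ∈ (st X W u).subgroupOf X ↔ χ₀ x = χ₀ y := by
    intro x y
    rw [mem_subgroupOf, mem_st hW]
    constructor
    · rintro ⟨-, h⟩
      ext w
      rw [hχ, hχ]
      have h1 := h _ (hW _ (inv_mem y.2) w w.2)
      rw [Subgroup.coe_mul, Subgroup.coe_inv, mul_smul, smul_inv_smul] at h1
      rw [h1]
    · intro h
      refine ⟨(x⁻¹ * y).2, fun w hw => ?_⟩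
      have h1 := DFunLike.congr_fun h ⟨(y : H) • w, hW _ y.2 w hw⟩
      rw [hχ, hχ] at h1
      have h2 := mul_right_cancel h1
      rw [inv_smul_smul] at h2
      rw [Subgroup.coe_mul, Subgroup.coe_inv, mul_smul]
      exact h2
  let χ : X ⧸ (st X W u).subgroupOf X → (W →* ℤˣ) := fun q => Quotient.liftOn' q χ₀ (by
    intro a b hab
    rw [QuotientGroup.leftRel_apply] at hab
    exact (key a b).1 hab)
  have hinj : Function.Injective χ := by
    intro p q
    refine Quotient.inductionOn₂' p q fun a b hab => ?_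
    exact Quotient.sound' (by
      rw [QuotientGroup.leftRel_apply]
      exact (key a b).2 hab)
  have h1 := card_le_index (K.subgroupOf W) χ hinj (by
    intro q
    refine Quotient.inductionOn' q fun x => ?_
    intro c hc
    change u ((x : H)⁻¹ • (c : M)) * u c = 1
    rw [hK c hc _ (inv_mem x.2)]
    exact Int.units_mul_self _)
  exact h1

/-- **(DC)**: `|X : C_X(u)| ≤ |W : C_W(X)|` -/
theorem dc [Finite H] [Finite M] {X : Subgroup H} {W : Subgroup M} (hW : Iv X W) {u : M → ℤˣ} (hu : Fn W u) :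
    (st X W u).relIndex X ≤ (cv M (X : Set H)).relIndex W := by
  have h1 := dc' hW hu (K := cv M (X : Set H) ⊓ W) inf_le_right (fun w hw x hx => by rw [hw.1 x hx])
  rwa [inf_relIndex_right] at h1

/-- the state of the chain argument -/
def Chain (X : Subgroup H) (W : Subgroup M) (D : Subgroup H) : Prop :=
  D.relIndex X ≤ (cv M (X : Set H)).relIndex W

theorem Chain.bot (X : Subgroup H) : Chain X (⊥ : Subgroup M) X := by
  unfold Chain
  rw [relIndex_self, relIndex_bot_right]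

/-- **(CHAIN)** -/
theorem Chain.step [Finite H] [Finite M] {X D : Subgroup H} {W W' : Subgroup M} (h : Chain X W D) (hD : D ≤ X)
    (hWW : W ≤ W') (hW : Iv X W) (hW' : Iv X W') {u : M → ℤˣ} (hu : Fn W' u) (hu1 : ∀ w ∈ W, u w = 1) :
    Chain X W' (D ⊓ st X W' u) := by
  unfold Chain at h ⊢
  obtain ⟨K, hK⟩ := exists_K hW' hu
  set C : Subgroup M := cv M (X : Set H) ⊓ W' with hC
  have hCK : C ⊔ W ≤ K := by
    refine sup_le (fun w hw => (hK w).2 ⟨hw.2, fun x hx => by rw [hw.1 x hx]⟩) (fun w hw => (hK w).2 ⟨hWW hw, ?_⟩)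
    intro x hx
    rw [hu1 w hw, hu1 _ (hW x hx w hw)]
  have h1 := dc' hW' hu (K := C ⊔ W) (hCK.trans fun w hw => ((hK w).1 hw).1) (fun w hw => ((hK w).1 (hCK hw)).2)
  have h2 : C.relIndex (C ⊔ W) * (C ⊔ W).relIndex W' = C.relIndex W' :=
    relIndex_mul_relIndex _ _ _ le_sup_left (sup_le inf_le_right hWW)
  have h3 : C.relIndex W ≤ C.relIndex (C ⊔ W) := relIndex_le_of_le_right le_sup_right (relIndex_ne _ _)
  have h4 : C.relIndex W = (cv M (X : Set H)).relIndex W := by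
    rw [hC, ← inf_relIndex_right, inf_assoc, inf_eq_right.2 hWW, inf_relIndex_right]
  have h5 : C.relIndex W' = (cv M (X : Set H)).relIndex W' := by rw [hC, inf_relIndex_right]
  have h6 : (D ⊓ st X W' u).relIndex X ≤ D.relIndex X * (st X W' u).relIndex X := relIndex_inf_le
  rw [← h5, ← h2]
  calc _ ≤ _ := h6
    _ ≤ C.relIndex (C ⊔ W) * (C ⊔ W).relIndex W' := Nat.mul_le_mul ((h.trans_eq h4.symm).trans h3) h1

/-- the last line of (CHAIN) -/
theorem Chain.fo_le [Finite H] [Finite M] {X D : Subgroup H} (h : Chain X (⊤ : Subgroup M) D) (hD : D = ⊥) :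
    fo M X ≤ Nat.card M := by
  unfold Chain at h
  rw [hD, relIndex_bot_left, relIndex_top_right] at h
  rw [← Subgroup.card_mul_index (cv M (X : Set H)), fo, mul_comm]
  exact Nat.mul_le_mul_left _ h

/-- **(L4)** a regular functional -/
theorem fo_le [Finite H] [Finite M] {X : Subgroup H} {u : M → ℤˣ} (hu : ∀ w w', u (w * w') = u w * u w')
    (h : ∀ x ∈ X, (∀ w, u (x • w) = u w) → x = 1) : fo M X ≤ Nat.card M := by
  have hW : Iv X (⊤ : Subgroup M) := fun _ _ _ _ => mem_top _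
  have h1 : Chain X (⊤ : Subgroup M) (X ⊓ st X ⊤ u) :=
    (Chain.bot X).step le_rfl bot_le (fun x _ w hw => by
      rw [mem_bot] at hw ⊢
      rw [hw, smul_one]) hW (fun w _ w' _ => hu w w') (fun w hw => by
      rw [mem_bot] at hw
      rw [hw]
      exact Fn.one (W := ⊤) (fun w _ w' _ => hu w w'))
  refine h1.fo_le (eq_bot_iff.2 fun x hx => ?_)
  exact mem_bot.2 (h x hx.1 fun w => ((mem_st hW).1 hx.2).2 w (mem_top w))

/-- the elements of `A` centralising `W` -/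
def cw (A : Subgroup H) (W : Subgroup M) : Subgroup H where
  carrier := {a | a ∈ A ∧ ∀ w ∈ W, a • w = w}
  one_mem' := ⟨one_mem _, fun w _ => one_smul H w⟩
  mul_mem' := by
    rintro x y ⟨hx, hx'⟩ ⟨hy, hy'⟩
    exact ⟨mul_mem hx hy, fun w hw => by rw [mul_smul, hy' w hw, hx' w hw]⟩
  inv_mem' := by
    rintro x ⟨hx, hx'⟩
    exact ⟨inv_mem hx, fun w hw => by
      have h1 := hx' w hw
      rw [inv_smul_eq_iff, h1]⟩

theorem mem_cw {A : Subgroup H} {W : Subgroup M} {a : H} : a ∈ cw A W ↔ a ∈ A ∧ ∀ w ∈ W, a • w = w := Iff.rfl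

theorem cw_le (A : Subgroup H) (W : Subgroup M) : cw A W ≤ A := fun _ h => h.1

theorem cw_lt {A : Subgroup H} {W : Subgroup M} (h : ∃ a ∈ A, ∃ w ∈ W, a • w ≠ w) : cw A W < A := by
  refine lt_of_le_of_ne (cw_le A W) fun h1 => ?_
  obtain ⟨a, ha, w, hw, hne⟩ := h
  rw [← h1] at ha
  exact hne (ha.2 w hw)

/-- **(f) of #14873**: `|W : C_W(A)| < |A : C_A(W)|` for every `W ≤ M` with `[W, A] ≠ 1` -/
theorem strict_lt [Finite H] [Finite M] {A : Subgroup H} (hA : Strict (fo M) A) {W : Subgroup M}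
    (h : ∃ a ∈ A, ∃ w ∈ W, a • w ≠ w) : (cv M (A : Set H)).relIndex W < (cw A W).relIndex A := by
  have hA' : Strict (fab M 1 1) A := fun B hB => by
    rw [fab_one, fab_one]
    exact hA B hB
  have h1 := relIndex_lt_of_moves hA' (cw_lt h) (W := W) (fun w hw a ha => ha.2 w hw)
  rwa [pow_one, pow_one] at h1

/-- **A strict group has no regular functional** -/
theorem exists_fix [Finite H] [Finite M] {A : Subgroup H} (hA : Strict (fo M) A) {W : Subgroup M} (hW : Iv A W)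
    (h : ∃ a ∈ A, ∃ w ∈ W, a • w ≠ w) {u : M → ℤˣ} (hu : Fn W u) :
    ∃ a ∈ A, (∃ w ∈ W, a • w ≠ w) ∧ ∀ w ∈ W, u (a • w) = u w := by
  by_contra hcon
  push Not at hcon
  have h1 : st A W u ≤ cw A W := by
    intro a ha
    refine ⟨ha.1, fun w hw => ?_⟩
    by_contra hne
    obtain ⟨v, hv, hv'⟩ := hcon a ha.1 ⟨w, hw, hne⟩
    exact hv' (((mem_st hW).1 ha).2 v hv)
  have h2 := dc hW hu
  have h3 := strict_lt hA h
  have h4 : (cw A W).relIndex A ≤ (st A W u).relIndex A := relIndex_le_of_le_left h1 (relIndex_ne _ _)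
  omega

/-- the same with a subgroup of index two of `W` -/
theorem exists_fix_hyp [Finite H] [Finite M] {A : Subgroup H} (hA : Strict (fo M) A) {W U : Subgroup M} (hW : Iv A W)
    (h : ∃ a ∈ A, ∃ w ∈ W, a • w ≠ w) (hU : U.relIndex W = 2) :
    ∃ a ∈ A, (∃ w ∈ W, a • w ≠ w) ∧ ∀ w ∈ W, (a • w) * w⁻¹ ∈ U := by
  classical
  have hidx : (U.subgroupOf W).index = 2 := hU
  have hmul := fun x y : W => mul_mem_iff_of_index_two hidx (a := x) (b := y)
  have h2 : ∀ v ∈ W, ∀ w ∈ W, (v * w ∈ U ↔ (v ∈ U ↔ w ∈ U)) := fun v hv w hw => hmul ⟨v, hv⟩ ⟨w, hw⟩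
  obtain ⟨a, ha, ha1, ha2⟩ := exists_fix hA hW h (u := fun w => if w ∈ U then 1 else -1) (by
    intro w hw w' hw'
    have := h2 w hw w' hw'
    by_cases h3 : w ∈ U <;> by_cases h4 : w' ∈ U <;> simp [h3, h4] at this <;> simp [h3, h4, this])
  refine ⟨a, ha, ha1, fun w hw => ?_⟩
  have h3 := ha2 w hw
  rw [h2 _ (hW a ha w hw) _ (inv_mem hw), inv_mem_iff]
  by_cases h4 : w ∈ U <;> by_cases h5 : a • w ∈ U <;> simp [h4, h5] at h3 ⊢

/-- `W = M`, `A` faithful: every functional is fixed by some `a ≠ 1` -/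
theorem exists_fix_ne_one [Finite H] [Finite M] {A : Subgroup H} (hA : Strict (fo M) A)
    (h : ∃ a ∈ A, ∃ w : M, a • w ≠ w) {u : M → ℤˣ} (hu : ∀ w w', u (w * w') = u w * u w') :
    ∃ a ∈ A, a ≠ 1 ∧ ∀ w, u (a • w) = u w := by
  obtain ⟨a0, ha0, w0, hw0⟩ := h
  obtain ⟨a, ha, ⟨w, -, hw⟩, h2⟩ := exists_fix hA (W := ⊤) (fun _ _ _ _ => mem_top _) ⟨a0, ha0, w0, mem_top _, hw0⟩
    (u := u) (fun w _ w' _ => hu w w')
  exact ⟨a, ha, fun h1 => hw (by rw [h1, one_smul]), fun w => h2 w (mem_top w)⟩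

end Cfsg.Agent.Omega.ML.Dual
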