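import Cfsg.Agent.Omega.ML.AxisS
import Cfsg.Agent.Omega.ML.Rows

/-!
# (ML): a minimal counterexample gives the situation `Rows.In`; (ML) from the rows

`p = False`: `A` is any elementary abelian subgroup of a 2-subgroup `Q` of `C_H(z)` normalised by `C_H(z)`.

* `Fr.exists_in` : a frame gives `Rows.In H M L T A` for some `L`, `A`;
* `mls_of_dead` : **(ML) for all groups of a section-closed class, if `Rows.In` does not occur in it**;
* `mls_of_rows` : the same with `Rows.Dead 𝒮`;
* `rel_le`, `card_le` : the consumers' forms: `|A : C_A(W)| ≤ |W : C_W(A)|` for `W = ⟨z^H⟩`, and `|A| ≤ |M : C_M(A)|` if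
  `M = ⟨z^H⟩` is faithful.
-/

set_option autoImplicit false

namespace Cfsg.Agent.Omega.ML.MinFrame

open Subgroup Cfsg Cfsg.Agent.ClassTwoFusion.Quad Cfsg.Agent.Omega.NOThree.NoOver Cfsg.Agent.Omega.ML.CD
open Cfsg.Agent.ZN Cfsg.Agent.MinSimple.VModule

universe u v

namespace Fr

variable {K : Frame.Cls.{u}} {H : Type u} [Group H] [Finite H] {M : Type v} [Group M] [Finite M]
  [MulDistribMulAction H M] {T Q A : Subgroup H} {z : M}

/-- **The frame gives `Rows.In`** -/
theorem exists_in (hFF : FFBr.AStmt.{max u v}) (h : Fr K False H M T Q A z) :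
    ∃ L B : Subgroup H, Rows.In H M L T B := by
  obtain ⟨B, hB, h'⟩ := h.exists_top
  obtain ⟨L, hLn, hLq, hLA, hC, hCL, hodd, -⟩ := h'.exists_comp'' hFF
  refine ⟨L, B, ?_⟩
  exact
    { sq := h'.sq
      faith := h'.faithful
      irr := fun W hW => h'.irred hW
      norm := hLn
      qs := hLq
      odd := by
        have h1 : (center L).map L.subtype ≤ center H := by
          rw [← hC]
          rintro _ ⟨x, hx, rfl⟩
          rw [mem_centralizer_iff]
          intro y hy
          exact congrArg Subtype.val (mem_center_iff.1 hx ⟨y, hy⟩)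
        have h2 := card_dvd_of_le h1
        rw [card_map_of_injective L.subtype_injective] at h2
        exact hodd.of_dvd_nat h2
      cen := hC.le.trans hCL
      zen := fun c hc x => mem_center_iff.1 (hC.le hc) x
      gen := hLA
      two := h'.two
      syl := h'.odd
      el := h'.Asq
      strict := h'.strict
      eight := h'.eight_le hB
      low := fun R hT hR => h'.le_o2 hT hR
      nmax := h'.nmax hFF
      bb := by
        intro R P C v hR hPR hP hPi hPv hC2 hCs hCo
        refine h'.red_o2 hR (T' := P) (Q' := o2 (R ⊓ MulAction.stabilizer H v)) (B := C) (z' := v) hP hPR hPi hPv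
          (o2_isPGroup _) ((o2_le _).trans inf_le_left) (fun q hq => (o2_le _ hq).2) ?_ hCo hC2 (fun hf => hf.elim) hCs
        exact fun g hgR hgv q hq => conj_mem_of_le (le_normalizer_o2 _) (R := R ⊓ MulAction.stabilizer H v)
          ⟨hgR, hgv⟩ hq }

end Fr

/-- **(ML) if `Rows.In` does not occur** -/
theorem mls_of_dead {K : Frame.Cls.{u}} (hFF : FFBr.AStmt.{max u v}) (sec : Sec K)
    (hdead : ∀ (H : Type u) [Group H] [Finite H] (M : Type v) [Group M] [Finite M] [MulDistribMulAction H M],
      K H → ∀ L T B : Subgroup H, Rows.In H M L T B → False)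
    (H : Type u) [Group H] [Finite H] (M : Type v) [Group M] [Finite M] [MulDistribMulAction H M] (hK : K H)
    (sq : ∀ m : M, m * m = 1) : MLS False H M := by
  have key : ∀ n m : ℕ, ∀ (H : Type u) [Group H] [Finite H] (M : Type v) [Group M] [Finite M]
      [MulDistribMulAction H M], K H → (∀ x : M, x * x = 1) → Nat.card H = n → Nat.card M = m → MLS False H M := by
    intro n
    induction n using Nat.strong_induction_on with
    | _ n ihn =>
      intro m
      induction m using Nat.strong_induction_on with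
      | _ m ihm =>
        intro H _ _ M _ _ _ hK sq hn hm
        by_contra hcon
        have ind : Ind.{u, v} K False (Nat.card H) (Nat.card M) := by
          intro H' _ _ M' _ _ _ hK' sq' hlt
          rcases hlt with hlt | ⟨heq, hlt⟩
          · exact ihn (Nat.card H') (hn ▸ hlt) (Nat.card M') H' M' hK' sq' rfl rfl
          · exact ihm (Nat.card M') (hm ▸ hlt) H' M' hK' sq' (heq.trans hn) rfl
        obtain ⟨T, Q, A, z, h⟩ := exists_fr sec hK sq ind hcon
        obtain ⟨L, B, hin⟩ := h.exists_in hFF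
        exact hdead H M hK L T B hin
  exact key _ _ H M hK sq rfl rfl

/-- **(ML) from the rows** -/
theorem mls_of_rows {K : Frame.Cls.{u}} (hFF : FFBr.AStmt.{max u v}) (sec : Sec K)
    {𝒮 : ∀ (S : Type u) [Group S], Prop} (hdead : Rows.Dead.{u, v} 𝒮)
    (hK : ∀ (H : Type u) [Group H] [Finite H], K H → ∀ L : Subgroup H, IsQuasisimple L → 𝒮 (L ⧸ center L))
    (H : Type u) [Group H] [Finite H] (M : Type v) [Group M] [Finite M] [MulDistribMulAction H M] (hKH : K H)
    (sq : ∀ m : M, m * m = 1) : MLS False H M :=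
  mls_of_dead hFF sec (fun H _ _ M _ _ _ hKH L T B hin => hdead H M L T B hin (hK H hKH L hin.qs)) H M hKH sq

section consumer

variable {H : Type u} [Group H] [Finite H] {M : Type v} [Group M] [Finite M] [MulDistribMulAction H M]

omit [Finite H] [Finite M] in
/-- the consumers' form: `|A : C_A(W)| ≤ |W : C_W(A)|` for `W = ⟨z^H⟩` -/
theorem rel_le (h : MLS False H M) {T A : Subgroup H} {z : M} (hT : IsPGroup 2 T) (hTi : ¬ 2 ∣ T.index)
    (hz : ∀ t ∈ T, t • z = z) (hA : A ≤ o2 (MulAction.stabilizer H z)) (hA2 : ∀ a ∈ A, a * a = 1) :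
    (fxr H (orb (⊤ : Subgroup H) z)).relIndex A ≤ (cv M (A : Set H)).relIndex (orb (⊤ : Subgroup H) z) :=
  h T (o2 (MulAction.stabilizer H z)) A z (mem_top _) hT le_top (by rwa [relIndex_top_right]) hz (o2_isPGroup _) le_top
    (fun _ hq => o2_le _ hq)
    (fun _ _ hg _ hq => conj_mem_of_le (le_normalizer_o2 _) (R := MulAction.stabilizer H z) hg hq) hA hA2
    (fun hf => hf.elim)

omit [Finite H] [Finite M] in
/-- `M = ⟨z^H⟩` faithful: `|A| ≤ |M : C_M(A)|` -/
theorem card_le (h : MLS False H M) (faith : ∀ x : H, (∀ m : M, x • m = m) → x = 1) {T A : Subgroup H} {z : M}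
    (hT : IsPGroup 2 T) (hTi : ¬ 2 ∣ T.index) (hz : ∀ t ∈ T, t • z = z)
    (hgen : closure (Set.range fun g : H => g • z) = ⊤)
    (hA : A ≤ o2 (MulAction.stabilizer H z)) (hA2 : ∀ a ∈ A, a * a = 1) :
    Nat.card A ≤ (cv M (A : Set H)).index := by
  have h1 := rel_le h hT hTi hz hA hA2
  have h2 : orb (⊤ : Subgroup H) z = ⊤ := by
    rw [← top_le_iff, ← hgen, closure_le]
    rintro _ ⟨g, rfl⟩
    exact smul_mem_orb_self (mem_top g)
  have h3 : fxr H (⊤ : Subgroup M) = ⊥ :=
    (Subgroup.eq_bot_iff_forall _).2 fun x hx => faith x fun m => hx m (mem_top m)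
  rw [h2, h3, relIndex_bot_left, relIndex_top_right] at h1
  exact h1

end consumer

end Cfsg.Agent.Omega.ML.MinFrame
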