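import Cfsg.Agent.Omega.ML.MinIrr
import Cfsg.Agent.Lib.GenFitting
import Cfsg.Agent.SignalizersComponents.CompBasic
import Cfsg.Agent.S0542

/-!
# (ML): one component (#16000 (2)-(4)); K-free

For `h : Fr K p H M T Q A z` with `p` (that is, `T` normalises `A`):

* `Fr.odd_central` : the normal subgroups of odd order are central (any `p`); `Fr.center_odd`;
* `Fr.exists_component` : some component is not centralised by `A` (any `p`);
* `Fr.sup_eq_top` : `H = ⟨L^T⟩ T` for such a component `L`;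
* `Fr.A_le_normalizer` : `A` normalises `L`;
* `Fr.comp_normal`, `Fr.comp_sup_A` : `L ⊴ H`, `H = LA` (any `p`, once `A` normalises `L`);
* `Fr.exists_comp'`, `Fr.exists_comp` : the summary, `C_H(L) = Z(H) ≤ L` odd;
* `Fr.le_o2_normalizer` : `A ≤ O₂(N_H(T₀))` for `1 ≠ T₀ ⊴ T` (any `p`).
-/

set_option autoImplicit false

namespace Cfsg.Agent.Omega.ML.MinFrame

open Subgroup Cfsg Cfsg.Agent.ClassTwoFusion.Quad Cfsg.Agent.Omega.NOThree.NoOver Cfsg.Agent.Omega.ML.CD
open Cfsg.Agent.ZN Cfsg.Agent.MinSimple.VModule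
open Cfsg.Agent.SignalizersComponents.Components Cfsg.Agent.SignalizersComponents.CompBasic

universe u v

section Grp

variable {H : Type*} [Group H]

theorem mem_of_pow_mem {S : Subgroup H} {x : H} {m n : ℕ} (hc : m.Coprime n) (h1 : x ^ m ∈ S) (h2 : x ^ n ∈ S) :
    x ∈ S := by
  have h3 := Nat.gcd_eq_gcd_ab m n
  rw [hc.gcd_eq_one] at h3
  have h4 : x = (x ^ m) ^ (Nat.gcdA m n) * (x ^ n) ^ (Nat.gcdB m n) := by
    rw [← zpow_natCast, ← zpow_natCast, ← zpow_mul, ← zpow_mul, ← zpow_add, ← h3]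
    simp
  rw [h4]
  exact S.mul_mem (S.zpow_mem h1 _) (S.zpow_mem h2 _)

/-- the Sylow 2-subgroup meets the subnormal subgroups in Sylow 2-subgroups -/
theorem not_dvd_relIndex_of_subnormal [Finite H] {T L : Subgroup H} (hT : IsPGroup 2 T) (hTi : ¬ 2 ∣ T.index)
    (hL : L.IsSubnormal) : ¬ 2 ∣ T.relIndex L := by
  have : Fact (Nat.Prime 2) := ⟨Nat.prime_two⟩
  obtain ⟨P, hP⟩ := S0542.result 2 L hL (hT.toSylow hTi)
  have h1 := P.not_dvd_index
  rwa [hP] at h1

theorem odd_of_relIndex [Finite H] {T L : Subgroup H} (h : ¬ 2 ∣ T.relIndex L) (hb : T ⊓ L = ⊥) :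
    Odd (Nat.card L) := by
  rw [← inf_relIndex_right, hb, relIndex_bot_left] at h
  exact Nat.not_even_iff_odd.1 fun h1 => h h1.two_dvd

/-- `⟨L^T⟩` -/
def tcl (T L : Subgroup H) : Subgroup H := ⨆ t : T, L.map (MulAut.conj (t : H)).toMonoidHom

theorem map_conj_le_tcl {T L : Subgroup H} {t : H} (ht : t ∈ T) : L.map (MulAut.conj t).toMonoidHom ≤ tcl T L :=
  le_iSup (fun t : T => L.map (MulAut.conj (t : H)).toMonoidHom) ⟨t, ht⟩

theorem le_tcl (T L : Subgroup H) : L ≤ tcl T L := fun x hx =>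
  map_conj_le_tcl T.one_mem ⟨x, hx, by simp⟩

theorem tcl_le {T L S : Subgroup H} (h : ∀ t ∈ T, L.map (MulAut.conj t).toMonoidHom ≤ S) : tcl T L ≤ S :=
  iSup_le fun t => h t t.2

theorem map_conj_map_conj (g k : H) (L : Subgroup H) :
    (L.map (MulAut.conj g).toMonoidHom).map (MulAut.conj k).toMonoidHom = L.map (MulAut.conj (k * g)).toMonoidHom := by
  rw [Subgroup.map_map]
  congr 1
  ext x
  simp

theorem map_conj_eq_of_mem {g : H} {L : Subgroup H} (hg : g ∈ normalizer (L : Set H)) :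
    L.map (MulAut.conj g).toMonoidHom = L := by
  ext x
  constructor
  · rintro ⟨y, hy, rfl⟩
    exact (mem_normalizer_iff.1 hg y).1 hy
  · intro hx
    refine ⟨g⁻¹ * x * g, ?_, by simp [mul_assoc]⟩
    have h1 := (mem_normalizer_iff.1 (inv_mem hg) x).1 hx
    rwa [inv_inv] at h1

theorem mem_normalizer_of_map {g : H} {L : Subgroup H} (h : L.map (MulAut.conj g).toMonoidHom = L) :
    g ∈ normalizer (L : Set H) := by
  rw [mem_normalizer_iff]
  intro x
  constructor
  · intro hx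
    rw [← SetLike.mem_coe, ← h]
    exact ⟨x, hx, rfl⟩
  · intro hx
    rw [← SetLike.mem_coe, ← h] at hx
    obtain ⟨y, hy, hyx⟩ := hx
    have h2 : g * y * g⁻¹ = g * x * g⁻¹ := hyx
    have h3 : y = x := by
      rw [mul_left_inj, mul_right_inj] at h2
      exact h2
    exact h3 ▸ hy

theorem map_sup_le {L T : Subgroup H} (k : H) (h : ∀ t ∈ T, L.map (MulAut.conj (k * t)).toMonoidHom ≤ tcl T L) :
    (tcl T L).map (MulAut.conj k).toMonoidHom ≤ tcl T L := by
  rw [tcl, Subgroup.map_iSup]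
  refine iSup_le fun t => ?_
  rw [map_conj_map_conj]
  exact h t t.2

theorem le_normalizer_of_map_le {R N : Subgroup H} (h : ∀ g ∈ R, N.map (MulAut.conj g).toMonoidHom ≤ N) :
    R ≤ normalizer (N : Set H) :=
  le_normalizer_of fun g hg x hx => h g hg ⟨x, hx, rfl⟩

theorem le_normalizer_tcl (T L : Subgroup H) : T ≤ normalizer (tcl T L : Set H) :=
  le_normalizer_of_map_le fun _ hk => map_sup_le _ fun _ ht => map_conj_le_tcl (T.mul_mem hk ht)

variable [Finite H]

omit [Finite H] in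
/-- `[E, O₂(R)] = 1` for `E ⊴ R` subnormal in `H`, `O₂(H) = 1` -/
theorem comm_of_o2 (h0 : ∀ N : Subgroup H, N.IsSubnormal → IsPGroup 2 N → N = ⊥) {E R : Subgroup H}
    (hE : E.IsSubnormal) (hER : E ≤ R) (hn : R ≤ normalizer (E : Set H)) {x y : H} (hx : x ∈ E) (hy : y ∈ o2 R) :
    x * y = y * x := by
  have h1 : E ≤ normalizer ((E ⊓ o2 R : Subgroup H) : Set H) := le_normalizer_of fun g hg x hx =>
    ⟨E.mul_mem (E.mul_mem hg hx.1) (E.inv_mem hg), conj_mem_of_le (le_normalizer_o2 R) (hER hg) hx.2⟩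
  have h2 : ((E ⊓ o2 R).subgroupOf E).Normal :=
    (normal_subgroupOf_iff_le_normalizer inf_le_left).2 h1
  have h3 : (E ⊓ o2 R).IsSubnormal := IsSubnormal.trans inf_le_left h2.isSubnormal hE
  have h4 := h0 _ h3 ((o2_isPGroup R).to_le inf_le_right)
  have h5 : x * y * x⁻¹ * y⁻¹ ∈ E ⊓ o2 R := by
    refine ⟨?_, ?_⟩
    · have h6 := conj_mem_of_le hn (o2_le R hy) (E.inv_mem hx)
      have h7 := E.mul_mem hx h6
      have e : x * (y * x⁻¹ * y⁻¹) = x * y * x⁻¹ * y⁻¹ := by group
      rwa [e] at h7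
    · exact Subgroup.mul_mem _ (conj_mem_of_le (le_normalizer_o2 R) (hER hx) hy) (Subgroup.inv_mem _ hy)
  rw [h4, mem_bot] at h5
  have h6 : x * y * x⁻¹ = y := mul_inv_eq_one.1 h5
  exact mul_inv_eq_iff_eq_mul.1 h6

/-- a nilpotent subnormal subgroup has odd order, if `O₂(H) = 1` -/
theorem odd_of_nilpotent (h0 : ∀ N : Subgroup H, N.IsSubnormal → IsPGroup 2 N → N = ⊥) {N : Subgroup H}
    (hN : N.IsSubnormal) (hn : Group.IsNilpotent N) : Odd (Nat.card N) := by
  have : Fact (Nat.Prime 2) := ⟨Nat.prime_two⟩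
  obtain ⟨P⟩ : Nonempty (Sylow 2 N) := inferInstance
  have h1 : (P : Subgroup N).Normal := (Group.isNilpotent_of_finite_tfae.out 0 3 rfl rfl).1 hn 2 this P
  have h2 := h0 _ (h1.isSubnormal.trans' hN) (P.isPGroup'.map _)
  rw [Subgroup.map_eq_bot_iff_of_injective _ N.subtype_injective] at h2
  have h3 := P.not_dvd_index
  rw [h2, index_bot] at h3
  exact Nat.not_even_iff_odd.1 fun h1 => h3 h1.two_dvd

/-- Burnside: a perfect group with `N(P) = C(P)` for the Sylow 2-subgroup `P` has odd order -/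
theorem odd_of_burnside {X : Type*} [Group X] [Finite X] (hX : Group.IsPerfect X) (P : Sylow 2 X)
    (hP : normalizer (P : Set X) ≤ centralizer (P : Set X)) : Odd (Nat.card X) := by
  have : Fact (Nat.Prime 2) := ⟨Nat.prime_two⟩
  have hc : ∀ a b : P, a * b = b * a := fun a b => Subtype.ext (hP (le_normalizer b.2) a a.2)
  let _ : CommGroup P := { (inferInstance : Group P) with mul_comm := hc }
  have h1 : (P : Subgroup X) = ⊥ := by
    rw [eq_bot_iff]
    intro x hx
    have h2 := hom_eq_one_of_perfect hX (MonoidHom.transferSylow P hP) x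
    rw [MonoidHom.transferSylow_eq_pow P hP x hx] at h2
    have h3 : x ^ (P : Subgroup X).index = 1 := congrArg Subtype.val h2
    obtain ⟨k, hk⟩ := P.isPGroup' ⟨x, hx⟩
    have h4 : x ^ 2 ^ k = 1 := congrArg Subtype.val hk
    have hcop : ((P : Subgroup X).index).Coprime (2 ^ k) :=
      Nat.Coprime.pow_right _ ((Nat.prime_two.coprime_iff_not_dvd.2 P.not_dvd_index).symm)
    exact mem_of_pow_mem hcop (h3 ▸ one_mem _) (h4 ▸ one_mem _)
  have h3 := P.not_dvd_index
  rw [h1, index_bot] at h3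
  exact Nat.not_even_iff_odd.1 fun h1 => h3 h1.two_dvd

omit [Finite H] in
theorem sup_eq_mul {A B : Subgroup H} (hT : B ≤ normalizer (A : Set H)) {x : H} (hx : x ∈ A ⊔ B) :
    ∃ y ∈ A, ∃ t ∈ B, x = y * t := by
  rw [← SetLike.mem_coe, coe_mul_of_right_le_normalizer_left A _ hT] at hx
  obtain ⟨y, hy, t, ht, rfl⟩ := hx
  exact ⟨y, hy, t, ht, rfl⟩

omit [Finite H] in
theorem relIndex_sup_of_le {A B : Subgroup H} (h : B ≤ normalizer (A : Set H)) :
    A.relIndex (A ⊔ B) = A.relIndex B := by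
  let f : B ⧸ A.subgroupOf B → (A ⊔ B : Subgroup H) ⧸ A.subgroupOf (A ⊔ B) :=
    Quotient.map' (fun y : B => (⟨y, (le_sup_right : B ≤ A ⊔ B) y.2⟩ : (A ⊔ B : Subgroup H))) (by
      intro y z hyz
      rw [QuotientGroup.leftRel_apply] at hyz ⊢
      exact hyz)
  have hf : Function.Bijective f := by
    constructor
    · intro y z
      obtain ⟨y, rfl⟩ := QuotientGroup.mk_surjective y
      obtain ⟨z, rfl⟩ := QuotientGroup.mk_surjective z
      intro hyz
      have h1 : (QuotientGroup.mk (⟨y, (le_sup_right : B ≤ A ⊔ B) y.2⟩ : (A ⊔ B : Subgroup H)) :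
        (A ⊔ B : Subgroup H) ⧸ A.subgroupOf (A ⊔ B)) =
          QuotientGroup.mk ⟨z, (le_sup_right : B ≤ A ⊔ B) z.2⟩ := hyz
      have h2 := QuotientGroup.eq.1 h1
      exact QuotientGroup.eq.2 (show (y : B)⁻¹ * z ∈ A.subgroupOf B from h2)
    · intro b
      obtain ⟨b, rfl⟩ := QuotientGroup.mk_surjective b
      obtain ⟨u, hu, y, hy, h1⟩ := sup_eq_mul h b.2
      refine ⟨QuotientGroup.mk ⟨y, hy⟩, ?_⟩
      change (QuotientGroup.mk (⟨y, (le_sup_right : B ≤ A ⊔ B) hy⟩ : (A ⊔ B : Subgroup H)) :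
        (A ⊔ B : Subgroup H) ⧸ A.subgroupOf (A ⊔ B)) = _
      apply QuotientGroup.eq.2
      rw [mem_subgroupOf]
      change y⁻¹ * (b : H) ∈ A
      rw [h1, ← mul_assoc]
      have h3 := conj_mem_of_le h (B.inv_mem hy) hu
      rwa [inv_inv] at h3
  exact (Nat.card_eq_of_bijective f hf).symm

/-- `[LT' : T'] = [L : L ∩ T']` -/
theorem relIndex_sup_comm {L T' : Subgroup H} (hT : T' ≤ normalizer (L : Set H)) :
    T'.relIndex (L ⊔ T') = T'.relIndex L := by
  have h1 : L.relIndex (L ⊔ T') = L.relIndex T' := relIndex_sup_of_le hT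
  have h2 := Lib.SylowNormalInf.card_mul_relIndex L (L ⊔ T') le_sup_left
  have h3 := Lib.SylowNormalInf.card_mul_relIndex T' (L ⊔ T') le_sup_right
  have h4 := Lib.SylowNormalInf.card_inf_mul_relIndex L T'
  have h5 := Lib.SylowNormalInf.card_inf_mul_relIndex T' L
  rw [inf_comm] at h5
  have hpos : 0 < Nat.card T' := Nat.card_pos
  apply Nat.eq_of_mul_eq_mul_left hpos
  rw [h3, ← h2, h1, ← h5, ← h4]
  ring

end Grp

namespace Fr

variable {K : Frame.Cls.{u}} {p : Prop} {H : Type u} [Group H] [Finite H] {M : Type v} [Group M] [Finite M]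
  [MulDistribMulAction H M] {T Q A : Subgroup H} {z : M}

omit [Finite M] in
theorem sub_bot (h : Fr K p H M T Q A z) (N : Subgroup H) (hN : N.IsSubnormal) (h2 : IsPGroup 2 N) : N = ⊥ := by
  have h1 := h.o2_eq_bot (Lib.Cores.pCore_normal (G := H) 2) (Lib.Cores.pCore_isPGroup 2)
  exact le_bot_iff.1 (h1 ▸ subnormal_pGroup_le_pCore hN h2)

/-- the normal subgroups of odd order are central -/
theorem odd_central (h : Fr K p H M T Q A z) {N : Subgroup H} (hN : N.Normal) (hO : Odd (Nat.card N)) :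
    N ≤ center H := by
  have h1 : centralizer (N : Set H) = ⊤ := h.eq_top_of_normal inferInstance fun a ha => by
    rw [mem_centralizer_iff]
    exact fun x hx => (h.odd_comm hO (fun b _ y hy => hN.conj_mem y hy b) ha hx).symm
  intro x hx
  rw [mem_center_iff]
  intro g
  have h2 : g ∈ centralizer (N : Set H) := h1 ▸ mem_top g
  exact (mem_centralizer_iff.1 h2 x hx).symm

/-- the subnormal subgroups of odd order are central -/
theorem odd_central_sub (h : Fr K p H M T Q A z) {N : Subgroup H} (hN : N.IsSubnormal) (hO : Odd (Nat.card N)) :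
    N ≤ center H := by
  have h1 : (Nat.card N).Coprime 2 := Nat.coprime_two_right.2 hO
  have h2 := subnormal_coprime_le_pPrimeCore hN h1
  exact h2.trans (h.odd_central (Lib.Cores.pPrimeCore_normal 2)
    (Nat.coprime_two_right.1 (Lib.Cores.pPrimeCore_coprime 2)))

/-- the normal nilpotent subgroups are central of odd order -/
theorem nilp_central (h : Fr K p H M T Q A z) {N : Subgroup H} (hN : N.IsSubnormal) (hn : Group.IsNilpotent N) :
    N ≤ center H :=
  h.odd_central_sub hN (odd_of_nilpotent h.sub_bot hN hn)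

omit [Finite M] in
theorem center_odd (h : Fr K p H M T Q A z) : Odd (Nat.card (center H)) :=
  odd_of_nilpotent h.sub_bot (Normal.isSubnormal inferInstance) (by
    let _ : CommGroup (center H) := { (inferInstance : Group (center H)) with
      mul_comm := fun x y => Subtype.ext (mem_center_iff.1 y.2 x) }
    exact CommGroup.isNilpotent)

omit [Finite M] in
theorem not_le_center (h : Fr K p H M T Q A z) : ¬ A ≤ center H := fun hc => by
  have h1 : A.Normal := ⟨fun a ha g => by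
    have h2 := mem_center_iff.1 (hc ha) g
    rw [h2, mul_inv_cancel_right]
    exact ha⟩
  exact h.ne (h.o2_eq_bot h1 (h.Q2.to_le h.AQ))

/-- some component is not centralised by `A` -/
theorem exists_component (h : Fr K p H M T Q A z) :
    ∃ L : Subgroup H, IsComponent L ∧ ¬ A ≤ centralizer (L : Set H) := by
  by_contra hc
  push Not at hc
  have h1 : A ≤ centralizer (generalizedFittingSubgroup H : Set H) := by
    have h2 : generalizedFittingSubgroup H ≤ centralizer (A : Set H) := by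
      rw [Lib.GenFitting.genFitting_def]
      refine sup_le ?_ ?_
      · rw [layer_le_iff]
        exact fun L hL => le_centralizer_iff.1 (hc L hL)
      · refine (h.nilp_central (Normal.isSubnormal Lib.Cores.fittingSubgroup_normal)
          Lib.Cores.fittingSubgroup_isNilpotent).trans ?_
        intro x hx
        rw [mem_centralizer_iff]
        exact fun a _ => mem_center_iff.1 hx a
    exact le_centralizer_iff.1 h2
  have hF := Lib.GenFitting.genFitting_normal (G := H)
  have h2 : centralizer (generalizedFittingSubgroup H : Set H) = ⊤ := h.eq_top_of_normal inferInstance h1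
  have h3 := Lib.GenFitting.centralizer_genFitting_le (G := H)
  rw [h2, top_le_iff] at h3
  rw [h3, coe_top, centralizer_univ] at h2
  exact h.not_le_center (h2 ▸ le_top)

/-- `A ≤ O₂(R)` for `A ≤ R < H` with a Sylow 2-subgroup inside `T` -/
theorem le_o2' (h : Fr K p H M T Q A z) {R T' : Subgroup H} (hR : R ≠ ⊤) (hAR : A ≤ R) (hT : T' ≤ T) (hTR : T' ≤ R)
    (hTi : ¬ 2 ∣ T'.relIndex R) : A ≤ o2 R :=
  h.red_o2 hR (T' := T') (Q' := Q ⊓ R) (B := A) (z' := z) (h.two.to_le hT) hTR hTi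
    (fun t ht => h.fixT t (hT ht)) (h.Q2.to_le inf_le_left) inf_le_right (fun q hq => h.fixQ q hq.1)
    (fun g hg hgz q hq => ⟨h.nrmQ g hgz q hq.1, R.mul_mem (R.mul_mem hg hq.2) (R.inv_mem hg)⟩)
    (le_inf h.AQ hAR) h.Asq (fun hp t ht a ha => h.nrmA hp t (hT ht) a ha) h.strict

/-- `A ≤ O₂(N_H(T₀))` for `1 ≠ T₀ ⊴ T` -/
theorem le_o2_normalizer (h : Fr K p H M T Q A z) {T₀ : Subgroup H} (hT : T₀ ≤ T) (hn : T ≤ normalizer (T₀ : Set H))
    (hne : T₀ ≠ ⊥) : A ≤ o2 (normalizer (T₀ : Set H)) := by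
  refine h.le_o2 hn fun h1 => hne (h.o2_eq_bot (normalizer_eq_top_iff.1 h1) (h.two.to_le hT))

section comp

variable {L : Subgroup H}

omit [Finite M] [Finite H] in
theorem tcl_normal_layer (hL : IsComponent L) : layer H ≤ normalizer (tcl T L : Set H) := by
  intro g hg
  have h1 : ∀ t : T, g ∈ normalizer ((L.map (MulAut.conj (t : H)).toMonoidHom : Subgroup H) : Set H) := fun t =>
    layer_le_normalizer_component (isComponent_conj (t : H) hL) hg
  apply mem_normalizer_of_map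
  rw [tcl, Subgroup.map_iSup]
  exact iSup_congr fun t => map_conj_eq_of_mem (h1 t)

omit [Finite M] [Finite H] in
theorem tcl_le_layer (hL : IsComponent L) : tcl T L ≤ layer H :=
  tcl_le fun t _ => component_le_layer (isComponent_conj t hL)

omit [Finite M] [Finite H] in
theorem tcl_subnormal (hL : IsComponent L) : (tcl T L).IsSubnormal :=
  IsSubnormal.trans (tcl_le_layer hL)
    ((normal_subgroupOf_iff_le_normalizer (tcl_le_layer hL)).2 (tcl_normal_layer hL)).isSubnormal
    (Normal.isSubnormal (layer_normal H))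

/-- `H = ⟨L^T⟩ T` -/
theorem sup_eq_top (h : Fr K p H M T Q A z) (hL : IsComponent L) (hLA : ¬ A ≤ centralizer (L : Set H)) :
    tcl T L ⊔ T = ⊤ := by
  by_contra hne
  have h1 := h.le_o2 le_sup_right hne
  apply hLA
  intro a ha
  rw [mem_centralizer_iff]
  exact fun x hx => comm_of_o2 h.sub_bot (tcl_subnormal hL) le_sup_left (sup_le le_normalizer (le_normalizer_tcl T L))
    (le_tcl T L hx) (h1 ha)

/-- the component `L` has even order -/
theorem not_odd (h : Fr K p H M T Q A z) (hLs : L.IsSubnormal) (hLA : ¬ A ≤ centralizer (L : Set H)) :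
    ¬ Odd (Nat.card L) := fun ho => hLA fun a _ => by
  rw [mem_centralizer_iff]
  exact fun x hx => (mem_center_iff.1 (h.odd_central_sub hLs ho hx) a).symm

/-- **`A` normalises `L`** -/
theorem A_le_normalizer (h : Fr K p H M T Q A z) (hp : p) (hL : IsComponent L)
    (hLA : ¬ A ≤ centralizer (L : Set H)) : A ≤ normalizer (L : Set H) := by
  have : Fact (Nat.Prime 2) := ⟨Nat.prime_two⟩
  intro a ha
  by_contra hcon
  let L₂ : Subgroup H := L.map (MulAut.conj a).toMonoidHom
  have hL₂ : IsComponent L₂ := isComponent_conj a hL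
  have hne : L ≠ L₂ := fun h1 => hcon (mem_normalizer_of_map h1.symm)
  have hcc := component_le_centralizer_of_ne hL hL₂ hne
  have hcomm : ∀ x ∈ L, ∀ y ∈ L₂, x * y = y * x := fun x hx y hy => (mem_centralizer_iff.1 (hcc hx) y hy).symm
  have hconj : ∀ x ∈ L, a * x * a⁻¹ ∈ L₂ := fun x hx => ⟨x, hx, rfl⟩
  -- `D = L ∩ L₂` is central in `L`, of odd order
  let D : Subgroup H := L ⊓ L₂
  have hDc : ∀ x ∈ L, ∀ d ∈ D, x * d = d * x := fun x hx d hd => hcomm x hx d hd.2
  have hDn : (D.subgroupOf L).Normal := (normal_subgroupOf_iff_le_normalizer inf_le_left).2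
    (le_normalizer_of fun g hg x hx => by
      rw [hDc g hg x hx, mul_inv_cancel_right]
      exact hx)
  have hDs : D.IsSubnormal := IsSubnormal.trans inf_le_left hDn.isSubnormal hL.1
  have hDo : Odd (Nat.card D) := by
    refine odd_of_nilpotent h.sub_bot hDs ?_
    let _ : CommGroup D := { (inferInstance : Group D) with
      mul_comm := fun x y => Subtype.ext (hDc x x.2.1 y y.2) }
    exact CommGroup.isNilpotent
  have hD2 : ∀ x ∈ D, ∀ k : ℕ, x ^ 2 ^ k = 1 → x = 1 := by
    intro x hx k hk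
    have h1 : x ^ Nat.card D = 1 := by
      have h5 : (⟨x, hx⟩ : D) ^ Nat.card D = 1 := pow_card_eq_one'
      exact congrArg Subtype.val h5
    have h2 : x ∈ (⊥ : Subgroup H) := mem_of_pow_mem (Nat.Coprime.pow_left k (Nat.coprime_two_left.2 hDo))
      (hk ▸ one_mem _) (h1 ▸ one_mem _)
    exact mem_bot.1 h2
  -- `T₁` is elementary abelian
  let T₁ : Subgroup H := T ⊓ L
  have haT := h.A_le_T ha
  have hT₁sq : ∀ c ∈ T₁, c * c = 1 := by
    intro c hc
    have h1 : c⁻¹ * a * c⁻¹⁻¹ ∈ A := h.nrmA hp _ (T.inv_mem hc.1) a ha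
    rw [inv_inv] at h1
    have h2 : c⁻¹ * a * c * a⁻¹ ∈ A := A.mul_mem h1 (A.inv_mem ha)
    have h3 := h.Asq _ h2
    have h4 : a * c * a⁻¹ ∈ L₂ := hconj c hc.2
    have h5 : c * (a * c * a⁻¹) = a * c * a⁻¹ * c := hcomm c hc.2 _ h4
    -- `c² = (a c a⁻¹)²`
    have h6 : c * c = (a * c * a⁻¹) * (a * c * a⁻¹) := by
      have e : c⁻¹ * a * c * a⁻¹ = c⁻¹ * (a * c * a⁻¹) := by group
      rw [e] at h3
      have c1 : Commute c⁻¹ (a * c * a⁻¹) := Commute.inv_left h5
      have h7 : c⁻¹ * (a * c * a⁻¹) * (c⁻¹ * (a * c * a⁻¹)) =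
          (c * c)⁻¹ * ((a * c * a⁻¹) * (a * c * a⁻¹)) := by
        have h8 : c⁻¹ * (a * c * a⁻¹) = (a * c * a⁻¹) * c⁻¹ := c1.eq
        calc c⁻¹ * (a * c * a⁻¹) * (c⁻¹ * (a * c * a⁻¹))
            = c⁻¹ * ((a * c * a⁻¹) * c⁻¹) * (a * c * a⁻¹) := by group
          _ = c⁻¹ * (c⁻¹ * (a * c * a⁻¹)) * (a * c * a⁻¹) := by rw [h8]
          _ = _ := by group
      rw [h7] at h3
      exact inv_mul_eq_one.1 h3
    have h7 : c * c ∈ D := ⟨L.mul_mem hc.2 hc.2, h6 ▸ L₂.mul_mem h4 h4⟩
    obtain ⟨k, hk⟩ := h.two ⟨c, hc.1⟩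
    have h8 : c ^ 2 ^ k = 1 := congrArg Subtype.val hk
    refine hD2 _ h7 k ?_
    rw [← pow_two, ← pow_mul, mul_comm, pow_mul, h8, one_pow]
  -- the Sylow 2-subgroup of `L`
  have hrel := not_dvd_relIndex_of_subnormal h.two h.odd hL.1
  have hP0 : IsPGroup 2 (T.subgroupOf L) := h.two.comap_of_injective L.subtype L.subtype_injective
  let P : Sylow 2 L := hP0.toSylow hrel
  have hPm : ∀ x : L, x ∈ P ↔ (x : H) ∈ T := fun x => Iff.rfl
  -- `T₀`
  let T₀ : Subgroup H := tcl T T₁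
  have hT₀T : T₀ ≤ T := tcl_le fun t ht => by
    rintro _ ⟨x, hx, rfl⟩
    exact T.mul_mem (T.mul_mem ht hx.1) (T.inv_mem ht)
  have hT₀ne : T₀ ≠ ⊥ := by
    intro h1
    have h2 : T ⊓ L = ⊥ := le_bot_iff.1 (h1 ▸ le_tcl T T₁)
    exact h.not_odd hL.1 hLA (odd_of_relIndex hrel h2)
  have hAo := h.le_o2_normalizer hT₀T (le_normalizer_tcl T T₁) hT₀ne
  apply h.not_odd hL.1 hLA
  refine odd_of_burnside hL.2.1 P ?_
  intro n hn
  -- `n` normalises `T₁`
  have hn1 : (n : H) ∈ normalizer (T₁ : Set H) := by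
    rw [mem_normalizer_iff]
    intro x
    constructor
    · intro hx
      have h1 := (mem_normalizer_iff.1 hn ⟨x, hx.2⟩).1 hx.1
      exact ⟨h1, L.mul_mem (L.mul_mem n.2 hx.2) (L.inv_mem n.2)⟩
    · intro hx
      have h2 : x ∈ L := by
        have := L.mul_mem (L.mul_mem (L.inv_mem n.2) hx.2) n.2
        have e : (n : H)⁻¹ * (n * x * (n : H)⁻¹) * n = x := by group
        rwa [e] at this
      have h1 := (mem_normalizer_iff.1 hn ⟨x, h2⟩).2 hx.1
      exact ⟨h1, h2⟩
  have hnN : (n : H) ∈ normalizer (T₀ : Set H) := by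
    apply mem_normalizer_of_map
    change (tcl T T₁).map _ = tcl T T₁
    rw [tcl, Subgroup.map_iSup]
    refine iSup_congr fun t => ?_
    apply map_conj_eq_of_mem
    by_cases htL : L.map (MulAut.conj (t : H)).toMonoidHom = L
    · have h1 : T₁.map (MulAut.conj (t : H)).toMonoidHom = T₁ := by
        have h2 : T.map (MulAut.conj (t : H)).toMonoidHom = T := map_conj_eq_of_mem (le_normalizer t.2)
        change (T ⊓ L).map _ = T ⊓ L
        rw [Subgroup.map_inf_eq _ _ _ (MulEquiv.injective _), h2, htL]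
      rw [h1]
      exact hn1
    · have h1 := component_le_centralizer_of_ne hL (isComponent_conj (t : H) hL) (Ne.symm htL)
      have h2 : (n : H) ∈ centralizer (T₁.map (MulAut.conj (t : H)).toMonoidHom : Set H) :=
        centralizer_le (SetLike.coe_subset_coe.2 (Subgroup.map_mono inf_le_right)) (h1 n.2)
      exact centralizer_le_normalizer _ h2
  -- a 2-power of `n` lies in `D`
  have hcom1 : (n : H)⁻¹ * (a * n * a⁻¹) ∈ o2 (normalizer (T₀ : Set H)) := by
    have h1 := conj_mem_of_le (le_normalizer_o2 (normalizer (T₀ : Set H))) (Subgroup.inv_mem _ hnN) (hAo ha)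
    rw [inv_inv] at h1
    have h2 := Subgroup.mul_mem _ h1 (Subgroup.inv_mem _ (hAo ha))
    have e : (n : H)⁻¹ * a * n * a⁻¹ = (n : H)⁻¹ * (a * n * a⁻¹) := by group
    rwa [e] at h2
  obtain ⟨k, hk⟩ := o2_isPGroup _ ⟨_, hcom1⟩
  have hk1 : ((n : H)⁻¹ * (a * n * a⁻¹)) ^ 2 ^ k = 1 := congrArg Subtype.val hk
  have hcn : Commute (n : H)⁻¹ (a * n * a⁻¹) := Commute.inv_left (hcomm n n.2 _ (hconj n n.2))
  rw [hcn.mul_pow, inv_pow, inv_mul_eq_one] at hk1
  have hnD : (n : H) ^ 2 ^ k ∈ D := ⟨L.pow_mem n.2 _, hk1 ▸ L₂.pow_mem (hconj n n.2) _⟩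
  -- the odd power of `n` lies in `P`
  have hnm : (n ^ Nat.card D : L) ∈ P := by
    have h1 : (n ^ Nat.card D) ^ 2 ^ k = 1 := by
      apply Subtype.ext
      have h5 : (⟨_, hnD⟩ : D) ^ Nat.card D = 1 := pow_card_eq_one'
      have h6 : ((n : H) ^ 2 ^ k) ^ Nat.card D = 1 := congrArg Subtype.val h5
      change ((n : H) ^ Nat.card D) ^ 2 ^ k = 1
      rw [← pow_mul, mul_comm, pow_mul, h6]
    have h2 : IsPGroup 2 (zpowers (n ^ Nat.card D)) := by
      have h3 : orderOf (n ^ Nat.card D) ∣ 2 ^ k := orderOf_dvd_of_pow_eq_one h1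
      obtain ⟨j, _, hj⟩ := (Nat.dvd_prime_pow Nat.prime_two).1 h3
      exact IsPGroup.iff_card.2 ⟨j, by rw [Nat.card_zpowers, hj]⟩
    have h3 := h2.inf_normalizer_sylow P
    have h4 : n ^ Nat.card D ∈ zpowers (n ^ Nat.card D) ⊓ normalizer (P : Set L) :=
      ⟨mem_zpowers _, Subgroup.pow_mem _ hn _⟩
    rw [h3] at h4
    exact h4.2
  have hcop : (Nat.card D).Coprime (2 ^ k) := Nat.Coprime.pow_right k (Nat.coprime_two_right.2 hDo)
  refine mem_of_pow_mem hcop ?_ ?_
  · rw [mem_centralizer_iff]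
    intro c hc
    have h1 := hT₁sq _ ⟨hnm, (n ^ Nat.card D : L).2⟩
    have h2 := hT₁sq _ ⟨hc, c.2⟩
    have h3 := hT₁sq (c * (n ^ Nat.card D : L) : L) ⟨T.mul_mem hc hnm, (c * n ^ Nat.card D : L).2⟩
    have e1 : ((n ^ Nat.card D : L) : L)⁻¹ = n ^ Nat.card D := inv_eq_of_mul_eq_one_right (Subtype.ext h1)
    have e2 : c⁻¹ = c := inv_eq_of_mul_eq_one_right (Subtype.ext h2)
    calc c * n ^ Nat.card D = (c * n ^ Nat.card D)⁻¹ := (inv_eq_of_mul_eq_one_right (Subtype.ext h3)).symm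
      _ = (n ^ Nat.card D)⁻¹ * c⁻¹ := mul_inv_rev _ _
      _ = n ^ Nat.card D * c := by rw [e1, e2]
  · rw [mem_centralizer_iff]
    intro c _
    exact Subtype.ext (hDc c c.2 _ hnD)

/-- **`L` is normal** (once `A` normalises `L`) -/
theorem comp_normal (h : Fr K p H M T Q A z) (hL : IsComponent L)
    (hLA : ¬ A ≤ centralizer (L : Set H)) (hAn : A ≤ normalizer (L : Set H)) :
    L ⊔ (T ⊓ normalizer (L : Set H)) = ⊤ := by
  by_contra hne
  have hTi : ¬ 2 ∣ (T ⊓ normalizer (L : Set H)).relIndex (L ⊔ (T ⊓ normalizer (L : Set H))) := by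
    rw [relIndex_sup_comm inf_le_right]
    have h1 := not_dvd_relIndex_of_subnormal h.two h.odd hL.1
    have h2 : (T ⊓ normalizer (L : Set H)).relIndex L = T.relIndex L := by
      rw [← inf_relIndex_right, inf_assoc, inf_eq_right.2 (le_normalizer (H := L)), inf_relIndex_right]
    rwa [h2]
  have h1 := h.le_o2' hne (le_sup_of_le_right (le_inf h.A_le_T hAn)) inf_le_left le_sup_right hTi
  apply hLA
  intro a ha
  rw [mem_centralizer_iff]
  exact fun x hx => comm_of_o2 h.sub_bot hL.1 le_sup_left (sup_le le_normalizer inf_le_right) hx (h1 ha)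

/-- **`H = LA`** (#16589), `L ⊴ H` -/
theorem comp_sup_A (h : Fr K p H M T Q A z) (hL : IsComponent L) (hLn : L.Normal)
    (hLA : ¬ A ≤ centralizer (L : Set H)) : L ⊔ A = ⊤ := by
  by_contra hne
  have h0 : L ⊔ T ⊓ (L ⊔ A) = L ⊔ A :=
    le_antisymm (sup_le le_sup_left inf_le_right) (sup_le_sup_left (le_inf h.A_le_T le_sup_right) L)
  have hTi : ¬ 2 ∣ (T ⊓ (L ⊔ A)).relIndex (L ⊔ A) := by
    have h1 := not_dvd_relIndex_of_subnormal h.two h.odd hL.1
    have h2 := relIndex_sup_comm (L := L) (T' := T ⊓ (L ⊔ A))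
      (fun x _ => (normalizer_eq_top_iff.2 hLn) ▸ mem_top x)
    rw [h0] at h2
    rw [h2, ← inf_relIndex_right, inf_assoc, inf_eq_right.2 (le_sup_left : L ≤ L ⊔ A), inf_relIndex_right]
    exact h1
  have h1 := h.le_o2' hne le_sup_right inf_le_left inf_le_right hTi
  apply hLA
  intro a ha
  rw [mem_centralizer_iff]
  exact fun x hx => comm_of_o2 h.sub_bot hL.1 le_sup_left
    (fun y _ => (normalizer_eq_top_iff.2 hLn) ▸ mem_top y) hx (h1 ha)

/-- **Summary** (#16000 (2)-(4), #16589): `H = LA` with `L ⊴ H` quasisimple, `C_H(L) = Z(H) ≤ L` of odd order, if `A`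
normalises the components which it does not centralise. -/
theorem exists_comp' (h : Fr K p H M T Q A z)
    (hAn : ∀ L : Subgroup H, IsComponent L → ¬ A ≤ centralizer (L : Set H) → A ≤ normalizer (L : Set H)) :
    ∃ L : Subgroup H, L.Normal ∧ IsQuasisimple L ∧ L ⊔ A = ⊤ ∧ centralizer (L : Set H) = center H ∧
      center H ≤ L ∧ Odd (Nat.card (center H)) ∧ layer H = L := by
  obtain ⟨L, hL, hLA⟩ := h.exists_component
  have h1 := h.comp_normal hL hLA (hAn L hL hLA)
  have hLn : L.Normal := by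
    rw [← normalizer_eq_top_iff, ← top_le_iff, ← h1]
    exact sup_le le_normalizer inf_le_right
  have hLT : L ⊔ T = ⊤ := top_le_iff.1 (h1 ▸ sup_le_sup_left inf_le_left L)
  -- 2-powers
  have hpow : ∀ x : H, ∃ k, x ^ 2 ^ k ∈ L := by
    intro x
    have hx : x ∈ L ⊔ T := hLT ▸ mem_top x
    obtain ⟨y, hy, t, ht, rfl⟩ := mem_sup_of_normal_left.1 hx
    obtain ⟨k, hk⟩ := h.two ⟨t, ht⟩
    refine ⟨k, ?_⟩
    have h2 : t ^ 2 ^ k = 1 := congrArg Subtype.val hk
    rw [← QuotientGroup.eq_one_iff, QuotientGroup.mk_pow, QuotientGroup.mk_mul,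
      (QuotientGroup.eq_one_iff y).2 hy, one_mul, ← QuotientGroup.mk_pow, h2, QuotientGroup.mk_one]
  -- `C = C_H(L)` is nilpotent
  have hCnil : Group.IsNilpotent (centralizer (L : Set H)) := by
    let f : centralizer (L : Set H) →* H ⧸ L := (QuotientGroup.mk' L).comp (centralizer (L : Set H)).subtype
    have h2 : IsPGroup 2 f.range := by
      rintro ⟨_, ⟨c, rfl⟩⟩
      obtain ⟨k, hk⟩ := hpow c
      refine ⟨k, Subtype.ext ?_⟩
      change (QuotientGroup.mk (c : H) : H ⧸ L) ^ 2 ^ k = 1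
      rw [← QuotientGroup.mk_pow]
      exact (QuotientGroup.eq_one_iff _).2 hk
    have : Fact (Nat.Prime 2) := ⟨Nat.prime_two⟩
    have h3 : Group.IsNilpotent f.range := h2.isNilpotent
    refine Subgroup.isNilpotent_of_ker_le_center f.rangeRestrict ?_
    rw [MonoidHom.ker_rangeRestrict]
    intro c hc
    have h4 : (c : H) ∈ L := (QuotientGroup.eq_one_iff _).1 hc
    rw [mem_center_iff]
    exact fun d => Subtype.ext (mem_centralizer_iff.1 d.2 c h4).symm
  have hCs : (centralizer (L : Set H)).IsSubnormal := Normal.isSubnormal inferInstance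
  have hC : centralizer (L : Set H) = center H :=
    le_antisymm (h.nilp_central hCs hCnil) (center_le_centralizer _)
  have hodd := h.center_odd
  refine ⟨L, hLn, hL.2, h.comp_sup_A hL hLn hLA, hC, ?_, hodd, ?_⟩
  · intro x hx
    obtain ⟨k, hk⟩ := hpow x
    have h5 : (⟨x, hx⟩ : center H) ^ Nat.card (center H) = 1 := pow_card_eq_one'
    have h6 : x ^ Nat.card (center H) = 1 := congrArg Subtype.val h5
    exact mem_of_pow_mem (Nat.Coprime.pow_right k (Nat.coprime_two_right.2 hodd)) (h6 ▸ one_mem _) hk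
  · apply le_antisymm _ (component_le_layer hL)
    rw [layer_le_iff]
    intro L' hL'
    by_contra hc
    have hne : L' ≠ L := fun h2 => hc h2.le
    have h2 := component_le_centralizer_of_ne hL' hL hne
    rw [hC] at h2
    apply quasisimple_not_isMulCommutative hL'.2
    exact ⟨⟨fun x y => Subtype.ext (mem_center_iff.1 (h2 y.2) x)⟩⟩

/-- the case that `T` normalises `A` -/
theorem exists_comp (h : Fr K p H M T Q A z) (hp : p) :
    ∃ L : Subgroup H, L.Normal ∧ IsQuasisimple L ∧ L ⊔ A = ⊤ ∧ centralizer (L : Set H) = center H ∧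
      center H ≤ L ∧ Odd (Nat.card (center H)) ∧ layer H = L :=
  h.exists_comp' fun _ hL hLA => h.A_le_normalizer hp hL hLA

end comp

end Fr

end Cfsg.Agent.Omega.ML.MinFrame
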