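import Cfsg.Agent.Omega.ML.Final
import Cfsg.Agent.ZN.ChoiceBase
import Cfsg.Agent.MinSimple.Basic

/-!
# LEMMA GML: (ML) for a group `Z` of vectors (helper567)

`L` acts on the elementary abelian 2-group `V = ⟨Z^L⟩`, `T` is a Sylow 2-subgroup of `L` which centralises `Z`,
`A ≤ O₂(C_L(Z))` with `[V, a²] = 1` for `a ∈ A`.  Then `|A : C_A(V)| ≤ |V : C_V(A)|`.

* `ZD L V Z T A` : the hypotheses;
* **`ZD.gml`** : the conclusion, from `MLK` (vectors only).

No condition on `C_L(z)`, `z ∈ Z`: the induction goes through `C_L(z)` acting on `⟨Z^{C_L(z)}⟩` and through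
`C_L(⟨z^L⟩)` acting on `V`.
-/

set_option autoImplicit false

namespace Cfsg.Agent.Omega.ML.GMod

open Subgroup Cfsg Cfsg.Agent.ZN Cfsg.Agent.ZN.ChoiceBase Cfsg.Agent.Omega.ML.Final
open Cfsg.Agent.MinSimple.VModule (o2_isPGroup o2_le le_o2 le_normalizer_o2 o2_le_of_sylow)

universe u

variable {G : Type u} [Group G]

/-! ### Tools -/

/-- `⟨Z^L⟩` -/
def hul (Z L : Subgroup G) : Subgroup G := ⨆ g : L, cj (g : G) Z

theorem cj_le_hul {Z L : Subgroup G} {g : G} (hg : g ∈ L) : cj g Z ≤ hul Z L :=
  le_iSup (fun g : L => cj (g : G) Z) ⟨g, hg⟩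

theorem le_hul (Z L : Subgroup G) : Z ≤ hul Z L := by
  have h1 := cj_le_hul (Z := Z) (L.one_mem)
  rwa [cj_one] at h1

theorem hul_le {Z L A : Subgroup G} (h : ∀ g ∈ L, cj g Z ≤ A) : hul Z L ≤ A := iSup_le fun g => h g g.2

theorem hul_le_of {Z L A : Subgroup G} (hZ : Z ≤ A) (hL : L ≤ normalizer (A : Set G)) : hul Z L ≤ A :=
  hul_le fun g hg => (cj_mono g hZ).trans (cj_eq_of_mem_normalizer (hL hg)).le

theorem cj_hul {Z L : Subgroup G} {g : G} (hg : g ∈ L) : cj g (hul Z L) = hul Z L := by
  have key : ∀ g ∈ L, cj g (hul Z L) ≤ hul Z L := by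
    intro g hg
    unfold hul
    rw [cj, Subgroup.map_iSup]
    refine iSup_le fun q => ?_
    have h1 : cj g (cj (q : G) Z) ≤ hul Z L := by
      rw [cj_cj]
      exact cj_le_hul (L.mul_mem hg q.2)
    exact h1
  apply le_antisymm (key g hg)
  have h1 := cj_mono g (key g⁻¹ (L.inv_mem hg))
  rwa [cj_cj_inv] at h1

theorem le_normalizer_hul (Z L : Subgroup G) : L ≤ normalizer (hul Z L : Set G) := fun _ hg =>
  mem_normalizer_iff_cj.2 (cj_hul hg)

theorem nc (H : Subgroup G) : normalizer (H : Set G) ≤ normalizer (centralizer (H : Set G) : Set G) := by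
  intro g hg
  rw [mem_normalizer_iff_cj, cj_centralizer, mem_normalizer_iff_cj.1 hg]

/-- The Frattini argument, elementwise. -/
theorem exists_frattini [Finite G] {X L T : Subgroup G} (hTX : T ≤ X) (hT : IsPGroup 2 T)
    (hTs : ¬ 2 ∣ T.relIndex X) (hL : X ≤ normalizer (L : Set G)) {x : G} (hx : x ∈ X) :
    ∃ l ∈ L, ∃ n ∈ X ⊓ normalizer ((T ⊓ L : Subgroup G) : Set G), x = l * n := by
  have h1 := Cfsg.Agent.MinSimple.Basic.frattini hTX hT hTs hL hx
  have h2 : x ∈ ((L ⊔ (X ⊓ normalizer ((T ⊓ L : Subgroup G) : Set G)) : Subgroup G) : Set G) := h1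
  rw [coe_mul_of_right_le_normalizer_left _ _ (inf_le_left.trans hL)] at h2
  obtain ⟨a, ha, b, hb, hab⟩ := h2
  exact ⟨a, ha, b, hb, hab.symm⟩

theorem normalizer_le_normalizer_o2 (L : Subgroup G) :
    normalizer (L : Set G) ≤ normalizer (o2 L : Set G) := by
  intro g hg
  have key : ∀ g ∈ normalizer (L : Set G), cj g (o2 L) ≤ o2 L := by
    intro g hg
    refine le_o2 ?_ (isPGroup_cj g (o2_isPGroup L)) ?_
    · exact (cj_mono g (o2_le L)).trans (cj_eq_of_mem_normalizer hg).le
    · rw [← cj_normalizer]
      exact (cj_eq_of_mem_normalizer hg).ge.trans (cj_mono g (le_normalizer_o2 L))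
  rw [mem_normalizer_iff_cj]
  refine le_antisymm (key g hg) ?_
  have h1 := cj_mono g (key g⁻¹ (inv_mem hg))
  rwa [cj_cj_inv] at h1

theorem not_dvd_of_le {X T N : Subgroup G} (hTs : ¬ 2 ∣ T.relIndex X) (hTN : T ≤ N)
    (hNX : N ≤ X) : ¬ 2 ∣ T.relIndex N :=
  fun h => hTs (h.trans (Dvd.intro _ (relIndex_mul_relIndex T N X hTN hNX)))

theorem not_dvd_inf [Finite G] {H T N : Subgroup G} (hTH : T ≤ H) (hTS : ¬ 2 ∣ T.relIndex H)
    (hNH : N ≤ H) (hN : H ≤ normalizer (N : Set G)) : ¬ 2 ∣ (N ⊓ T).relIndex N := by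
  have hn : (N.subgroupOf H).Normal := normal_subgroupOf_of_le_normalizer hN
  have h1 : N.relIndex (N ⊔ T) = N.relIndex T := by
    have h := Subgroup.relIndex_sup_left (K := N.subgroupOf H) (H := T.subgroupOf H)
    rw [← Subgroup.subgroupOf_sup hNH hTH, Subgroup.relIndex_subgroupOf (sup_le hNH hTH),
      Subgroup.relIndex_subgroupOf hTH] at h
    exact h
  have h2 := Subgroup.relIndex_mul_relIndex (N ⊓ T) N (N ⊔ T) inf_le_left le_sup_left
  have h3 := Subgroup.relIndex_mul_relIndex (N ⊓ T) T (N ⊔ T) inf_le_right le_sup_right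
  have h4 : (N ⊓ T).relIndex T = N.relIndex T := Subgroup.inf_relIndex_right N T
  rw [h1] at h2
  rw [h4, ← h2, mul_comm] at h3
  have h5 : T.relIndex (N ⊔ T) = (N ⊓ T).relIndex N :=
    Nat.eq_of_mul_eq_mul_right (Nat.pos_of_ne_zero (Subgroup.index_ne_zero_of_finite
      (H := N.subgroupOf T))) h3
  intro h
  have h6 := Subgroup.relIndex_mul_relIndex T (N ⊔ T) H le_sup_right (sup_le hNH hTH)
  exact hTS (h6 ▸ (h5 ▸ h : 2 ∣ T.relIndex (N ⊔ T)).mul_right _)

theorem ri_ne [Finite G] (A B : Subgroup G) : A.relIndex B ≠ 0 :=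
  Subgroup.index_ne_zero_of_finite (H := A.subgroupOf B)

theorem ri_mono [Finite G] (K : Subgroup G) {U W : Subgroup G} (h : U ≤ W) : K.relIndex U ≤ K.relIndex W :=
  relIndex_le_of_le_right h (ri_ne _ _)

/-- two steps: `|A : C_A(V)| ≤ |V : C_V(A)|` from the same for `A₀ = C_A(U)` on `V` and for `A` on `U ≤ V` -/
theorem step [Finite G] {V U A : Subgroup G} (hUV : U ≤ V)
    (h1 : (centralizer (U : Set G)).relIndex A ≤ (centralizer (A : Set G)).relIndex U)
    (h2 : (centralizer (V : Set G)).relIndex (A ⊓ centralizer (U : Set G) : Subgroup G) ≤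
      (centralizer ((A ⊓ centralizer (U : Set G) : Subgroup G) : Set G)).relIndex V) :
    (centralizer (V : Set G)).relIndex A ≤ (centralizer (A : Set G)).relIndex V := by
  set A₀ : Subgroup G := A ⊓ centralizer (U : Set G) with hA₀
  have hA₀A : A₀ ≤ A := inf_le_left
  have e1 : (centralizer (V : Set G)).relIndex A = (centralizer (V : Set G)).relIndex A₀ * A₀.relIndex A := by
    have h3 : A ⊓ centralizer (V : Set G) ≤ A₀ := inf_le_inf_left _ (centralizer_le hUV)
    have h4 := relIndex_mul_relIndex (A ⊓ centralizer (V : Set G)) A₀ A h3 hA₀A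
    rw [inf_relIndex_left A (centralizer (V : Set G))] at h4
    rw [← h4]
    congr 1
    have h5 : A₀ ⊓ (A ⊓ centralizer (V : Set G)) = A₀ ⊓ centralizer (V : Set G) := by
      rw [← inf_assoc, inf_eq_left.2 hA₀A]
    rw [← inf_relIndex_left A₀ (A ⊓ centralizer (V : Set G)), h5, inf_relIndex_left]
  have e2 : A₀.relIndex A = (centralizer (U : Set G)).relIndex A := inf_relIndex_left _ _
  set D : Subgroup G := V ⊓ centralizer (A₀ : Set G) with hD
  have hUD : U ≤ D := by
    refine le_inf hUV ?_
    rw [← le_centralizer_iff]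
    exact inf_le_right
  have e3 : (centralizer (A : Set G)).relIndex V =
      (centralizer (A : Set G)).relIndex D * (centralizer (A₀ : Set G)).relIndex V := by
    have h3 : V ⊓ centralizer (A : Set G) ≤ D := inf_le_inf_left _ (centralizer_le hA₀A)
    have h4 := relIndex_mul_relIndex (V ⊓ centralizer (A : Set G)) D V h3 inf_le_left
    rw [inf_relIndex_left V (centralizer (A : Set G))] at h4
    rw [← h4]
    congr 1
    · have h5 : D ⊓ (V ⊓ centralizer (A : Set G)) = D ⊓ centralizer (A : Set G) := by
        rw [← inf_assoc, inf_eq_left.2 (inf_le_left : D ≤ V)]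
      rw [← inf_relIndex_left D (V ⊓ centralizer (A : Set G)), h5, inf_relIndex_left]
    · rw [hD, inf_relIndex_left]
  rw [e1, e2, e3, mul_comm]
  exact Nat.mul_le_mul (h1.trans (ri_mono _ hUD)) h2

theorem kg_le [Finite G] {H L : Subgroup G} (hK : IsKGroup L) (h : H ≤ L) : IsKGroup H :=
  kgroup_of_surj hK (H.subgroupOf L) (subgroupOfEquivOfLe h).toMonoidHom (subgroupOfEquivOfLe h).surjective

/-! ### The lemma -/

/-- The hypotheses of LEMMA GML. -/
structure ZD (L V Z T A : Subgroup G) : Prop where
  nV : L ≤ normalizer (V : Set G)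
  sq : ∀ v ∈ V, v * v = 1
  ZV : Z ≤ V
  /-- `V = ⟨Z^L⟩` -/
  gen : ∀ U : Subgroup G, Z ≤ U → L ≤ normalizer (U : Set G) → V ≤ U
  TL : T ≤ L
  two : IsPGroup 2 T
  odd : ¬ 2 ∣ T.relIndex L
  TZ : T ≤ centralizer (Z : Set G)
  AO : A ≤ o2 (L ⊓ centralizer (Z : Set G))
  Asq : ∀ a ∈ A, a * a ∈ centralizer (V : Set G)

theorem ZD.gml_aux [Finite G] (h : MLK.{u, u}) : ∀ n : ℕ, ∀ L V Z T A : Subgroup G, Nat.card L = n → IsKGroup L →
    ZD L V Z T A → (centralizer (V : Set G)).relIndex A ≤ (centralizer (A : Set G)).relIndex V := by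
  intro n
  induction n using Nat.strong_induction_on with
  | _ n ih =>
    intro L V Z T A hn hK D
    have hAC : A ≤ centralizer (Z : Set G) := D.AO.trans ((o2_le _).trans inf_le_right)
    have hAL : A ≤ L := D.AO.trans ((o2_le _).trans inf_le_left)
    by_cases hc : L ≤ centralizer (Z : Set G)
    · -- `L` centralises `Z`
      have hV : V ≤ Z := by
        refine D.gen Z le_rfl fun g hg => ?_
        rw [mem_normalizer_iff_cj]
        ext x
        rw [mem_cj]
        have key : ∀ g ∈ L, ∀ x ∈ Z, g⁻¹ * x * g = x := by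
          intro g hg x hx
          rw [mul_assoc, mem_centralizer_iff.1 (hc hg) x hx]
          group
        constructor
        · intro hx
          have h1 := key g⁻¹ (L.inv_mem hg) _ hx
          have h2 : g⁻¹⁻¹ * (g⁻¹ * x * g) * g⁻¹ = x := by group
          rw [h2] at h1
          rw [h1]
          exact hx
        · intro hx
          rw [key g hg x hx]
          exact hx
      have h1 : A ≤ centralizer (V : Set G) := hAC.trans (centralizer_le hV)
      rw [relIndex_eq_one.2 h1]
      exact Nat.one_le_iff_ne_zero.2 (ri_ne _ _)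
    · obtain ⟨z, hz, hzL⟩ : ∃ z ∈ Z, ¬ L ≤ centralizer ({z} : Set G) := by
        by_contra hcon
        push Not at hcon
        refine hc fun g hg => mem_centralizer_iff.2 fun z hz => ?_
        exact mem_centralizer_iff.1 (hcon z hz hg) z (Set.mem_singleton z)
      set H : Subgroup G := L ⊓ centralizer ({z} : Set G) with hH
      have hHL : H ≤ L := inf_le_left
      have hne : H ≠ L := fun he => hzL (he ▸ inf_le_right)
      have hlt : ∀ {R : Subgroup G}, R ≤ H → Nat.card R < n := by
        intro R hR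
        rw [← hn]
        refine lt_of_le_of_lt (card_le_of_le hR) (lt_of_le_of_ne (card_le_of_le hHL) fun he => hne ?_)
        exact eq_of_le_of_card_ge hHL he.ge
      have hCz : centralizer (Z : Set G) ≤ centralizer ({z} : Set G) :=
        centralizer_le (Set.singleton_subset_iff.2 hz)
      have hTH : T ≤ H := le_inf D.TL (D.TZ.trans hCz)
      have hHC : H ⊓ centralizer (Z : Set G) = L ⊓ centralizer (Z : Set G) := by
        rw [hH, inf_assoc, inf_eq_right.2 hCz]
      -- (a)
      set Vz : Subgroup G := hul Z H with hVz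
      have hVzV : Vz ≤ V := hul_le_of D.ZV (hHL.trans D.nV)
      have D1 : ZD H Vz Z T A :=
        { nV := le_normalizer_hul Z H
          sq := fun v hv => D.sq v (hVzV hv)
          ZV := le_hul Z H
          gen := fun U hZ hU => hul_le_of hZ hU
          TL := hTH
          two := D.two
          odd := not_dvd_of_le D.odd hTH hHL
          TZ := D.TZ
          AO := hHC ▸ D.AO
          Asq := fun a ha => centralizer_le hVzV (D.Asq a ha) }
      have h1 := ih _ (hlt le_rfl) H Vz Z T A rfl (kg_le hK hHL) D1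
      refine step hVzV h1 ?_
      set A₀ : Subgroup G := A ⊓ centralizer (Vz : Set G) with hA₀
      -- (b)
      have hA₀H : A₀ ≤ o2 H := by
        have h2 : o2 (L ⊓ centralizer (Z : Set G)) ⊓ centralizer (Vz : Set G) ≤ o2 (H ⊓ centralizer (Vz : Set G)) := by
          refine le_o2 (le_inf ?_ inf_le_right) ((o2_isPGroup _).to_le inf_le_left) ?_
          · rw [← hHC]
            exact inf_le_left.trans ((o2_le _).trans inf_le_left)
          · refine le_trans (le_inf ?_ ?_) inf_normalizer_le_normalizer_inf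
            · refine le_trans ?_ (le_normalizer_o2 _)
              exact le_inf (inf_le_left.trans hHL) (inf_le_right.trans (centralizer_le (le_hul Z H)))
            · exact inf_le_right.trans Subgroup.le_normalizer
        have h3 : H ≤ normalizer ((H ⊓ centralizer (Vz : Set G) : Subgroup G) : Set G) :=
          le_trans (le_inf Subgroup.le_normalizer ((le_normalizer_hul Z H).trans (nc _)))
            inf_normalizer_le_normalizer_inf
        have h4 : o2 (H ⊓ centralizer (Vz : Set G)) ≤ o2 H :=
          le_o2 ((o2_le _).trans inf_le_left) (o2_isPGroup _) (h3.trans (normalizer_le_normalizer_o2 _))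
        exact (inf_le_inf_right _ D.AO).trans (h2.trans h4)
      set U : Subgroup G := hul (zpowers z) L with hU
      have hzU : z ∈ U := le_hul _ _ (mem_zpowers z)
      have hUV : U ≤ V := hul_le_of (by rw [zpowers_le]; exact D.ZV hz) D.nV
      have hLU : L ≤ normalizer (U : Set G) := le_normalizer_hul _ _
      have D2 : GDat L U ⊥ T (o2 H) A₀ z :=
        { nW := hLU
          nY := by rw [normalizer_eq_top]; exact le_top
          YW := bot_le
          WY := by rw [normalizer_eq_top]; exact le_top
          sq := fun x hx => mem_bot.2 (D.sq x (hUV hx))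
          mem := hzU
          gen := fun U' hz' _ hU' => hul_le_of (by rw [zpowers_le]; exact hz') hU'
          TC := D.TL
          two := D.two
          odd := D.odd
          fixT := by
            intro t ht
            rw [mem_bot, mul_inv_eq_one, ← mem_centralizer_iff.1 (D.TZ ht) z hz]
            group
          QC := (o2_le H).trans hHL
          Q2 := o2_isPGroup H
          fixQ := by
            intro q hq
            have h5 : q ∈ centralizer ({z} : Set G) := ((o2_le H).trans inf_le_right) hq
            rw [mem_bot, mul_inv_eq_one, ← mem_centralizer_iff.1 h5 z (Set.mem_singleton z)]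
            group
          nrmQ := by
            intro g hg hgz q hq
            have h5 : g ∈ H := by
              refine ⟨hg, mem_centralizer_iff.2 fun y hy => ?_⟩
              rw [Set.mem_singleton_iff.1 hy]
              have h6 : g * z * g⁻¹ = z := by rwa [mem_bot, mul_inv_eq_one] at hgz
              exact (mul_inv_eq_iff_eq_mul.1 h6).symm
            exact (mem_normalizer_iff.1 (le_normalizer_o2 H h5) q).1 hq
          AQ := hA₀H
          Asq := by
            intro a ha x hx
            have h5 := mem_centralizer_iff.1 (D.Asq a ha.1) x (hUV hx)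
            have h6 : a * (a * x * a⁻¹) * a⁻¹ * x⁻¹ = (a * a) * x * (a * a)⁻¹ * x⁻¹ := by group
            rw [h6, mem_bot, ← h5]
            group }
      have h2 : (A₀ ⊓ centralizer (U : Set G)).relIndex A₀ ≤ (U ⊓ centralizer (A₀ : Set G)).relIndex U := by
        refine h.grp hK D2 (fun a => ?_) fun x => ?_
        · rw [mem_inf, mem_centralizer_iff]
          refine and_congr_right fun _ => forall₂_congr fun x _ => ?_
          rw [mem_bot, mul_inv_eq_one, mul_inv_eq_iff_eq_mul]
          exact eq_comm
        · rw [mem_inf, mem_centralizer_iff]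
          refine and_congr_right fun _ => forall₂_congr fun a _ => ?_
          rw [mem_bot, mul_inv_eq_one, mul_inv_eq_iff_eq_mul]
      rw [inf_relIndex_left, inf_relIndex_left] at h2
      refine step hUV h2 ?_
      set A₁ : Subgroup G := A₀ ⊓ centralizer (U : Set G) with hA₁
      -- (c)
      set H₁ : Subgroup G := L ⊓ centralizer (U : Set G) with hH₁
      have hH₁H : H₁ ≤ H := inf_le_inf_left _ (centralizer_le (Set.singleton_subset_iff.2 hzU))
      have hH₁L : H₁ ≤ L := inf_le_left
      have hLH₁ : L ≤ normalizer (H₁ : Set G) :=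
        le_trans (le_inf Subgroup.le_normalizer (hLU.trans (nc _))) inf_normalizer_le_normalizer_inf
      set T₁ : Subgroup G := T ⊓ H₁ with hT₁
      set N : Subgroup G := L ⊓ normalizer (T₁ : Set G) with hN
      set Z₁ : Subgroup G := hul Z N with hZ₁
      have hZ₁V : Z₁ ≤ V := hul_le_of D.ZV (inf_le_left.trans D.nV)
      have hT₁Z : T₁ ≤ centralizer (Z₁ : Set G) := by
        rw [le_centralizer_iff]
        refine hul_le fun g hg => ?_
        rw [← le_centralizer_iff, ← cj_centralizer, ← cj_eq_of_mem_normalizer hg.2]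
        exact cj_mono g (inf_le_left.trans D.TZ)
      have hA₁A : A₁ ≤ A := inf_le_left.trans inf_le_left
      have hA₁T : A₁ ≤ T₁ := by
        refine le_inf (hA₁A.trans (D.AO.trans ?_)) (le_inf (hA₁A.trans hAL) inf_le_right)
        exact o2_le_of_sylow D.two (not_dvd_of_le D.odd (le_inf D.TL D.TZ) inf_le_left)
      have D3 : ZD H₁ V Z₁ T₁ A₁ :=
        { nV := hH₁L.trans D.nV
          sq := D.sq
          ZV := hZ₁V
          gen := by
            intro U' hZU hU'
            refine (D.gen (hul Z L) (le_hul Z L) (le_normalizer_hul Z L)).trans (hul_le fun g hg => ?_)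
            obtain ⟨l, hl, m, hm, rfl⟩ := exists_frattini D.TL D.two D.odd hLH₁ hg
            rw [← cj_cj]
            refine (cj_mono l ((cj_le_hul hm).trans hZU)).trans ?_
            exact (cj_eq_of_mem_normalizer (hU' hl)).le
          TL := inf_le_right
          two := D.two.to_le inf_le_left
          odd := by
            rw [hT₁, inf_comm]
            exact not_dvd_inf D.TL D.odd hH₁L hLH₁
          TZ := hT₁Z
          AO := by
            have h5 : H₁ ⊓ centralizer (Z₁ : Set G) ≤ L ⊓ centralizer (Z : Set G) :=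
              inf_le_inf hH₁L (centralizer_le (le_hul Z N))
            have h6 : o2 (L ⊓ centralizer (Z : Set G)) ⊓ (H₁ ⊓ centralizer (Z₁ : Set G)) ≤
                o2 (H₁ ⊓ centralizer (Z₁ : Set G)) := by
              refine le_o2 inf_le_right ((o2_isPGroup _).to_le inf_le_left) ?_
              exact le_trans (le_inf (h5.trans (le_normalizer_o2 _)) Subgroup.le_normalizer)
                inf_normalizer_le_normalizer_inf
            refine le_trans (le_inf (hA₁A.trans D.AO) (le_inf (hA₁T.trans inf_le_right) ?_)) h6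
            exact hA₁T.trans hT₁Z
          Asq := fun a ha => D.Asq a (hA₁A ha) }
      exact ih _ (hlt hH₁H) H₁ V Z₁ T₁ A₁ rfl (kg_le hK hH₁L) D3

/-- **LEMMA GML.** -/
theorem ZD.gml [Finite G] {L V Z T A : Subgroup G} (D : ZD L V Z T A) (h : MLK.{u, u}) (hK : IsKGroup L) :
    (centralizer (V : Set G)).relIndex A ≤ (centralizer (A : Set G)).relIndex V :=
  ZD.gml_aux h _ L V Z T A rfl hK D

end Cfsg.Agent.Omega.ML.GMod
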