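import Cfsg.Agent.Omega.ML.RowsList
import Cfsg.Agent.Omega.ML.AltRow
import Cfsg.Agent.Omega.ML.AltSix

/-!
# (ML), the K-list end: the fields `alt`, `a6` of `RowsML` (helper482)
-/

set_option autoImplicit false

namespace Cfsg.Agent.Omega.ML.AltDead

open Cfsg Cfsg.Agent.Omega.ML.Rows

universe u v

theorem isoClosed_alt7 : IsoClosed.{u} @IsAlt7 := by
  rintro S S' _ _ e ⟨n, h7, h8, ⟨f⟩⟩
  exact ⟨n, h7, h8, ⟨e.symm.trans f⟩⟩

theorem isoClosed_alt6 : IsoClosed.{u} @IsAlt6 := by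
  rintro S S' _ _ e ⟨f⟩
  exact ⟨e.symm.trans f⟩

/-- field `alt` of `RowsML` -/
theorem alt : Dead.{u, v} @IsAlt7 := AltRow.deadG_alt.dead isoClosed_alt7

/-- field `a6` of `RowsML` -/
theorem a6 : Dead.{u, v} @IsAlt6 := AltSix.deadG_six.dead isoClosed_alt6

end Cfsg.Agent.Omega.ML.AltDead
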