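import Cfsg.Agent.ClassTwoFusion.Quad

/-!
# A common axis (OMEGA, (ML); #16144 of helper595, fill-ins #16314 of helper114); K-free

`H` acts faithfully and irreducibly on the elementary abelian 2-group `M`, `A` is an elementary abelian subgroup of order at
least 4 with `|M : C_M(A)| = 2`, `H = ⟨A^H⟩`, and the stabiliser of some `z` normalises `A`: impossible.

* `Tr t c` : `t` acts on `M` as a transvection with centre `c`;
* `false_of_axis`.
-/

set_option autoImplicit false

namespace Cfsg.Agent.Omega.ML.Axis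

open Subgroup Cfsg.Agent.ClassTwoFusion.Quad

variable {H M : Type*} [Group H] [Group M] [MulDistribMulAction H M]

/-- `t` acts on `M` as a transvection with centre `c` -/
structure Tr (t : H) (c : M) : Prop where
  fix : t • c = c
  or : ∀ m : M, t • m = m ∨ t • m = m * c
  ne : ∃ m : M, t • m ≠ m

theorem cm (sq : ∀ v : M, v * v = 1) (v w : M) : v * w = w * v := by
  have hv : v⁻¹ = v := inv_eq_of_mul_eq_one_right (sq v)
  have hw : w⁻¹ = w := inv_eq_of_mul_eq_one_right (sq w)
  calc v * w = (w⁻¹ * v⁻¹)⁻¹ := by group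
    _ = (w * v)⁻¹ := by rw [hv, hw]
    _ = w * v := inv_eq_of_mul_eq_one_right (sq _)

theorem cancel (sq : ∀ v : M, v * v = 1) {x y c : M} (h : x * c = y) : x = y * c := by
  rw [← h, mul_assoc, sq, mul_one]

namespace Tr

variable {t : H} {c : M} (T : Tr t c)
include T

theorem eq {m : M} (hm : t • m ≠ m) : t • m = m * c := (T.or m).resolve_left hm

theorem ne_one : c ≠ 1 := by
  rintro rfl
  obtain ⟨m, hm⟩ := T.ne
  rcases T.or m with h | h
  · exact hm h
  · exact hm (by rw [h, mul_one])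

theorem t_ne_one : t ≠ 1 := by
  rintro rfl
  obtain ⟨m, hm⟩ := T.ne
  exact hm (one_smul H m)

theorem conj (g : H) : Tr (g * t * g⁻¹) (g • c) where
  fix := by
    rw [mul_smul, mul_smul, inv_smul_smul, T.fix]
  or m := by
    rw [mul_smul, mul_smul]
    rcases T.or (g⁻¹ • m) with h | h
    · left; rw [h, smul_inv_smul]
    · right; rw [h, smul_mul', smul_inv_smul]
  ne := by
    obtain ⟨m, hm⟩ := T.ne
    refine ⟨g • m, fun h => hm ?_⟩
    rw [mul_smul, mul_smul, inv_smul_smul] at h
    exact MulAction.injective g h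

variable (sq : ∀ v : M, v * v = 1)
include sq

theorem invol (m : M) : t • t • m = m := by
  rcases T.or m with h | h
  · rw [h, h]
  · rw [h, smul_mul', h, T.fix, mul_assoc, sq, mul_one]

theorem inv_smul (m : M) : t⁻¹ • m = t • m := by
  rw [inv_smul_eq_iff, T.invol sq]

theorem mul_fix {m m' : M} (h : t • m ≠ m) (h' : t • m' ≠ m') : t • (m * m') = m * m' := by
  rw [smul_mul', T.eq h, T.eq h']
  calc m * c * (m' * c) = m * (c * m') * c := by group
    _ = m * (m' * c) * c := by rw [cm sq c m']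
    _ = m * m' * (c * c) := by group
    _ = m * m' := by rw [sq, mul_one]

end Tr

/-- the elements of `A` are transvections with centres in `C_M(A)` -/
theorem exists_tr (sq : ∀ v : M, v * v = 1) (faith : ∀ x : H, (∀ v : M, x • v = v) → x = 1) {A : Subgroup H}
    (h2 : ∀ a ∈ A, a * a = 1) (hind : (cv M (A : Set H)).index = 2) {a : H} (ha : a ∈ A) (ha1 : a ≠ 1) :
    ∃ c ∈ cv M (A : Set H), Tr a c ∧ ∀ m, m ∉ cv M (A : Set H) → a • m = m * c := by
  set U := cv M (A : Set H) with hU
  obtain ⟨m0, hm0⟩ : ∃ m0 : M, m0 ∉ U := by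
    by_contra hcon
    push Not at hcon
    have : U = ⊤ := (Subgroup.eq_top_iff' U).2 hcon
    rw [this, Subgroup.index_top] at hind
    omega
  have key : ∀ m, m ∉ U → a • m = m * (m0 * a • m0) := by
    intro m hm
    have h1 : m * m0 ∈ U := (Subgroup.mul_mem_iff_of_index_two hind).2 (iff_of_false hm hm0)
    have h3 : a • (m * m0) = m * m0 := h1 a ha
    rw [smul_mul'] at h3
    have h4 := cancel sq h3
    rw [h4, mul_assoc]
  have ne : ∃ m : M, a • m ≠ m := by
    by_contra hcon
    push Not at hcon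
    exact ha1 (faith a hcon)
  have or' : ∀ m : M, a • m = m ∨ a • m = m * (m0 * a • m0) := by
    intro m
    by_cases hm : m ∈ U
    · exact Or.inl (hm a ha)
    · exact Or.inr (key m hm)
  have fix : a • (m0 * a • m0) = m0 * a • m0 := by
    rw [smul_mul', ← mul_smul, h2 a ha, one_smul, cm sq]
  have T : Tr a (m0 * a • m0) := ⟨fix, or', ne⟩
  refine ⟨_, ?_, T, key⟩
  by_contra hc
  have h3 := key _ hc
  rw [fix, sq] at h3
  exact T.ne_one h3

/-- **Common axis.** -/
theorem false_of_axis (sq : ∀ v : M, v * v = 1) (faith : ∀ x : H, (∀ v : M, x • v = v) → x = 1)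
    {A : Subgroup H} {z : M} (h2 : ∀ a ∈ A, a * a = 1) (hcz : ∀ g : H, g • z = z → g ∈ normalizer (A : Set H))
    (hind : (cv M (A : Set H)).index = 2) (hgen : normalClosure (A : Set H) = ⊤)
    (hirr : ∀ W : Subgroup M, (∀ g : H, ∀ w ∈ W, g • w ∈ W) → W = ⊥ ∨ W = ⊤)
    {a b : H} (ha : a ∈ A) (hb : b ∈ A) (ha1 : a ≠ 1) (hb1 : b ≠ 1) (hab : a ≠ b) : False := by
  set U := cv M (A : Set H) with hU
  have idx : ∀ {x y : M}, x * y ∈ U ↔ (x ∈ U ↔ y ∈ U) := fun {x y} => Subgroup.mul_mem_iff_of_index_two hind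
  -- the transvections
  set TT : Set H := {t | ∃ g : H, ∃ x ∈ A, x ≠ 1 ∧ t = g * x * g⁻¹} with hTT
  have tr : ∀ t ∈ TT, ∃ c, Tr t (c : M) := by
    rintro _ ⟨g, x, hx, hx1, rfl⟩
    obtain ⟨c, -, T, -⟩ := exists_tr sq faith h2 hind hx hx1
    exact ⟨_, T.conj g⟩
  have tconj : ∀ t ∈ TT, ∀ g : H, g * t * g⁻¹ ∈ TT := by
    rintro _ ⟨k, x, hx, hx1, rfl⟩ g
    exact ⟨g * k, x, hx, hx1, by group⟩
  -- (i)
  have i1 : ∀ t c, t ∈ TT → Tr t c → c ∉ U → t • z ≠ z := by
    intro t c _ T hc hz
    have hn := hcz t hz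
    have hU' : ∀ m ∈ U, t • m ∈ U := by
      intro m hm x hx
      have h3 : t⁻¹ * x * t ∈ A := by
        have := (Subgroup.mem_normalizer_iff.1 (inv_mem hn) x).1 hx
        rwa [inv_inv] at this
      have h4 : x • t • m = t • ((t⁻¹ * x * t) • m) := by
        rw [← mul_smul, ← mul_smul]; congr 1; group
      rw [h4, hm _ h3]
    obtain ⟨m, hm, hm1⟩ : ∃ m ∈ U, t • m ≠ m := by
      by_contra hcon
      push Not at hcon
      obtain ⟨m, hm⟩ := T.ne
      by_cases hmU : m ∈ U
      · exact hm (hcon m hmU)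
      · have h3 : m * c ∈ U := idx.2 (iff_of_false hmU hc)
        have h4 := hcon _ h3
        rw [smul_mul', T.fix] at h4
        exact hm (mul_right_cancel h4)
    have h3 := hU' m hm
    rw [T.eq hm1] at h3
    exact hc ((idx.1 h3).1 hm)
  -- (ii)
  have i2 : ∀ t c t' c', t ∈ TT → t' ∈ TT → Tr t c → Tr t' c' → c ∉ U → c' ∉ U → t • c' = c' → t' • c = c := by
    intro t c t' c' ht ht' T T' hc hc' h
    by_contra hne
    have hz := i1 t c ht T hc
    have hz' := i1 t' c' ht' T' hc'
    have hs := i1 (t * t' * t⁻¹) (t • c') (tconj t' ht' t) (T'.conj t) (by rw [h]; exact hc')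
    apply hs
    rw [mul_smul, mul_smul, T.inv_smul sq, T.eq hz, T'.mul_fix sq hz' hne, smul_mul', T.eq hz, T.fix, mul_assoc, sq,
      mul_one]
  have i2' : ∀ t c t' c', t ∈ TT → t' ∈ TT → Tr t c → Tr t' c' → c ∉ U → c' ∉ U → (t • c' = c' ↔ t' • c = c) :=
    fun t c t' c' ht ht' T T' hc hc' => ⟨i2 t c t' c' ht ht' T T' hc hc', i2 t' c' t c ht' ht T' T hc' hc⟩
  -- (iii)
  have i3 : ∀ t c, t ∈ TT → Tr t c → c ∉ U → ∀ x ∈ A, ∀ e ∈ U, Tr x e → t • e = e →
      ∀ t' c', t' ∈ TT → Tr t' c' → c' ∉ U → t' • e = e := by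
    intro t c ht T hc x hx e he E hte t' c' ht' T' hc'
    have hxc : x • c = c * e := by
      rcases E.or c with h | h
      · exfalso
        -- `x` fixes `c ∉ U` and `U`, so everything
        obtain ⟨m, hm⟩ := E.ne
        apply hm
        by_cases hmU : m ∈ U
        · exact hmU x hx
        · have h3 : m * c ∈ U := idx.2 (iff_of_false hmU hc)
          have h4 := h3 x hx
          rw [smul_mul', h] at h4
          exact mul_right_cancel h4
      · exact h
    have hs := T.conj x
    rw [hxc] at hs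
    have hce : c * e ∉ U := fun h3 => hc ((idx.1 h3).2 he)
    -- `t` and `x t x⁻¹` fix the same elements
    have hfix : ∀ m : M, (x * t * x⁻¹) • m = m ↔ t • m = m := by
      intro m
      rw [mul_smul, mul_smul, E.inv_smul sq]
      rcases E.or m with h | h
      · rw [h]
        constructor
        · intro h3
          have h4 := congrArg (fun y => x • y) h3
          simp only [E.invol sq] at h4
          rw [h4, h]
        · intro h3
          rw [h3, h]
      · rw [h, smul_mul', hte]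
        constructor
        · intro h3
          have h4 := congrArg (fun y => x • y) h3
          simp only [E.invol sq] at h4
          rw [h] at h4
          exact mul_right_cancel h4
        · intro h3
          rw [h3, smul_mul', h, E.fix, mul_assoc, sq, mul_one]
    have h5 := i2' t c t' c' ht ht' T T' hc hc'
    have h6 := i2' _ _ t' c' (tconj t ht x) ht' hs T' hce hc'
    rw [hfix, h5] at h6
    by_cases h7 : t' • c = c
    · have h8 := h6.1 h7
      rw [smul_mul', h7] at h8
      exact mul_left_cancel h8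
    · have h8 : t' • (c * e) ≠ c * e := fun h => h7 (h6.2 h)
      have h9 := T'.mul_fix sq h7 h8
      have e1 : c * (c * e) = e := by rw [← mul_assoc, sq, one_mul]
      rwa [e1] at h9
  -- (iv)
  obtain ⟨ca, hca, Ta, ka⟩ := exists_tr sq faith h2 hind ha ha1
  obtain ⟨cb, hcb, Tb, kb⟩ := exists_tr sq faith h2 hind hb hb1
  have mTT : ∀ x ∈ A, x ≠ 1 → x ∈ TT := fun x hx hx1 => ⟨1, x, hx, hx1, by group⟩
  -- some centre is not in `U`
  obtain ⟨t, c, ht, T, hc⟩ : ∃ t c, t ∈ TT ∧ Tr t (c : M) ∧ c ∉ U := by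
    by_contra hcon
    push Not at hcon
    have hW := hirr (Subgroup.closure {c : M | ∃ t ∈ TT, Tr t (c : M)}) (by
      intro g w hw
      induction hw using Subgroup.closure_induction with
      | mem x hx =>
        obtain ⟨t, ht, T⟩ := hx
        exact Subgroup.subset_closure ⟨_, tconj t ht g, T.conj g⟩
      | one => rw [smul_one]; exact one_mem _
      | mul x y _ _ hx hy => rw [smul_mul']; exact mul_mem hx hy
      | inv x _ hx => rw [smul_inv']; exact inv_mem hx)
    have hle : Subgroup.closure {c : M | ∃ t ∈ TT, Tr t (c : M)} ≤ U := by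
      rw [Subgroup.closure_le]
      rintro c ⟨t, ht, T⟩
      exact hcon t c ht T
    rcases hW with hW | hW
    · have h3 : ca ∈ (⊥ : Subgroup M) := by
        rw [← hW]; exact Subgroup.subset_closure ⟨a, mTT a ha ha1, Ta⟩
      exact Ta.ne_one (Subgroup.mem_bot.1 h3)
    · rw [hW, top_le_iff] at hle
      rw [hle, Subgroup.index_top] at hind
      omega
  -- an element `e` of `[M, A]` fixed by `t`
  obtain ⟨x, hx, e, he, E, hte⟩ : ∃ x ∈ A, ∃ e ∈ U, Tr x e ∧ t • e = e := by
    by_cases h3 : t • ca = ca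
    · exact ⟨a, ha, ca, hca, Ta, h3⟩
    by_cases h4 : t • cb = cb
    · exact ⟨b, hb, cb, hcb, Tb, h4⟩
    have hbb : b⁻¹ = b := inv_eq_of_mul_eq_one_right (h2 b hb)
    have hab1 : a * b ≠ 1 := fun h5 => hab (by rw [eq_inv_of_mul_eq_one_left h5, hbb])
    obtain ⟨c', hc', T', k'⟩ := exists_tr sq faith h2 hind (mul_mem ha hb) hab1
    have e1 : c' = ca * cb := by
      have h5 := k' c hc
      rw [mul_smul, kb c hc, smul_mul', ka c hc, hcb a ha, mul_assoc] at h5
      exact (mul_left_cancel h5).symm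
    exact ⟨a * b, mul_mem ha hb, c', hc', T', by rw [e1]; exact T.mul_fix sq h3 h4⟩
  have h3 := i3 t c ht T hc x hx e he E hte
  -- `C_M(TT₁)` is invariant
  set C := cv M {t : H | t ∈ TT ∧ ∃ c, Tr t (c : M) ∧ c ∉ U} with hC
  have heC : e ∈ C := fun t' ht' => by
    obtain ⟨h4, c', T', hc'⟩ := ht'
    exact h3 t' c' h4 T' hc'
  have gen1 : ∀ s ∈ TT, ∀ w ∈ C, s • w ∈ C := by
    intro s hs w hw
    obtain ⟨d, S⟩ := tr s hs
    by_cases hd : d ∈ U
    · rintro t' ⟨h4, c', T', hc'⟩
      have e1 : t' • s • w = s • ((s⁻¹ * t' * s) • w) := by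
        rw [← mul_smul, ← mul_smul]; congr 1; group
      rw [e1, hw]
      have h5 := tconj t' h4 s⁻¹
      have h6 := T'.conj s⁻¹
      rw [inv_inv] at h5 h6
      refine ⟨h5, _, h6, ?_⟩
      rw [S.inv_smul sq]
      rcases S.or c' with h7 | h7
      · rw [h7]; exact hc'
      · rw [h7]; exact fun h8 => hc' ((idx.1 h8).2 hd)
    · rw [hw s ⟨hs, d, S, hd⟩]
      exact hw
  have gen2 : ∀ g : H, ∀ w : M, w ∈ C ↔ g • w ∈ C := by
    intro g
    have hg : g ∈ normalClosure (A : Set H) := by rw [hgen]; exact mem_top g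
    unfold Subgroup.normalClosure at hg
    induction hg using Subgroup.closure_induction with
    | mem s hs =>
      intro w
      rw [Group.mem_conjugatesOfSet_iff] at hs
      obtain ⟨y, hy, hys⟩ := hs
      obtain ⟨k, hk⟩ := isConj_iff.1 hys
      by_cases hy1 : y = 1
      · rw [hy1, mul_one, mul_inv_cancel] at hk
        rw [← hk, one_smul]
      · have hsT : s ∈ TT := ⟨k, y, hy, hy1, hk.symm⟩
        refine ⟨gen1 s hsT w, fun h4 => ?_⟩
        obtain ⟨d, S⟩ := tr s hsT
        have h5 := gen1 s hsT _ h4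
        rwa [S.invol sq] at h5
    | one => intro w; rw [one_smul]
    | mul x y _ _ hx hy =>
      intro w
      rw [mul_smul, ← hx, ← hy]
    | inv x _ hx =>
      intro w
      rw [hx (x⁻¹ • w), smul_inv_smul]
  rcases hirr C (fun g w hw => (gen2 g w).1 hw) with h4 | h4
  · rw [h4] at heC
    exact E.ne_one (Subgroup.mem_bot.1 heC)
  · obtain ⟨m, hm⟩ := T.ne
    apply hm
    have h5 : m ∈ C := by rw [h4]; exact mem_top m
    exact h5 t ⟨ht, c, T, hc⟩

end Cfsg.Agent.Omega.ML.Axis
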