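import Cfsg.Agent.Omega.ML.FFUse
import Cfsg.Agent.Omega.ML.Axis

/-!
# (ML): `|M : C_M(A)| = 2` is dead, for arbitrary best `A` (supplement to #16144); K-free

`R` is a 2-group, `B ≤ R` elementary abelian with the maximal value of `|B| |C_M(B)|` among the elementary abelian
subgroups of `R`, strict, `|M : C_M(B)| = 2`.

* `TopS.comm_eq` : two such groups which commute are equal;
* `TopS.mem_normalizer` : **if `g` normalises `R`, then `g` normalises `B`**;
* `Fr.exists_top` : in a frame `A` can be chosen with the maximal value of `|A| |C_M(A)|` in `O₂(C_H(z))` (`p = False`);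
* `Fr.eight_le` : then `|A| ≥ 8`.
-/

set_option autoImplicit false

namespace Cfsg.Agent.Omega.ML.MinFrame

open Subgroup Cfsg Cfsg.Agent.ClassTwoFusion.Quad Cfsg.Agent.Omega.NOThree.NoOver Cfsg.Agent.Omega.ML.CD
open Cfsg.Agent.ZN Cfsg.Agent.MinSimple.VModule
open Cfsg.Agent.Omega.ML.Axis (Tr exists_tr)

universe u v

section Ax

variable {H : Type*} [Group H] {M : Type*} [Group M] [MulDistribMulAction H M]

/-- the transvections `b`, `c` commute, if they fix the centres -/
theorem tr_comm (sq : ∀ m : M, m * m = 1) (faith : ∀ x : H, (∀ m : M, x • m = m) → x = 1) {b c : H} {e f : M}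
    (hb : Tr b e) (hc : Tr c f) (h1 : b • f = f) (h2 : c • e = e) : b * c = c * b := by
  have key : ∀ m : M, (b * c) • m = (c * b) • m := by
    intro m
    rw [mul_smul, mul_smul]
    rcases hb.or m with h3 | h3 <;> rcases hc.or m with h4 | h4
    · rw [h3, h4, h3]
    · rw [h3, h4, smul_mul', h3, h1]
    · rw [h3, h4, h3, smul_mul', h4, h2]
    · rw [h3, h4, smul_mul', smul_mul', h3, h4, h1, h2, mul_assoc, mul_assoc, comm_of_sq sq e f]
  have h3 : (b * c) * (c * b)⁻¹ = 1 := faith _ fun m => by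
    rw [mul_smul, key, ← mul_smul, mul_inv_cancel, one_smul]
  exact mul_inv_eq_one.1 h3

/-- the product of two transvections which move each other's centre has order divisible by 3 -/
theorem tr_dich (sq : ∀ m : M, m * m = 1) {R : Subgroup H} (hR : IsPGroup 2 R) {b c : H} {e f : M} (hbR : b ∈ R)
    (hcR : c ∈ R) (hb : Tr b e) (hc : Tr c f) : b • f = f ∨ c • e = e := by
  by_contra hcon
  push Not at hcon
  have h1 := hb.eq hcon.1
  have h2 := hc.eq hcon.2
  have s1 : (b * c) • e = f := by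
    rw [mul_smul, h2, smul_mul', hb.fix, h1, comm_of_sq sq f e, ← mul_assoc, sq, one_mul]
  have s2 : (b * c) • f = f * e := by rw [mul_smul, hc.fix, h1]
  have s3 : (b * c) • (b * c) • (b * c) • e = e := by
    rw [s1, s2, smul_mul', s1, s2, comm_of_sq sq f e, mul_assoc, sq, mul_one]
  obtain ⟨k, hk⟩ := hR ⟨b * c, R.mul_mem hbR hcR⟩
  have hk1 : (b * c) ^ 2 ^ k = 1 := congrArg Subtype.val hk
  have h3 : (b * c) ∈ MulAction.stabilizer H e := by
    refine mem_of_pow_mem (m := 3) (n := 2 ^ k) (Nat.Coprime.pow_right k (by norm_num)) ?_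
      (hk1 ▸ one_mem _)
    rw [MulAction.mem_stabilizer_iff, pow_succ, pow_succ, pow_one, mul_smul, mul_smul]
    exact s3
  rw [MulAction.mem_stabilizer_iff, s1] at h3
  apply hcon.1
  rw [h3, hb.fix]

variable (M) in
/-- best and strict, axis of index 2 -/
structure TopS (R B : Subgroup H) : Prop where
  le : B ≤ R
  el : ∀ b ∈ B, b * b = 1
  max : ∀ C ≤ R, (∀ c ∈ C, c * c = 1) → fab M 1 1 C ≤ fab M 1 1 B
  strict : Strict (fab M 1 1) B
  idx : (cv M (B : Set H)).index = 2

variable [Finite H] [Finite M] {R B C : Subgroup H}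

theorem TopS.cj (h : TopS M R B) {g : H} (hg : ∀ x ∈ R, g * x * g⁻¹ ∈ R) : TopS M R (cj g B) where
  le := by
    rintro _ ⟨x, hx, rfl⟩
    exact hg x (h.le hx)
  el := by
    rintro _ ⟨x, hx, rfl⟩
    rw [← map_mul, h.el x hx, map_one]
  max D hD hD2 := by
    rw [(ls_fab M 1 1).conj]
    exact h.max D hD hD2
  strict := h.strict.cj (ls_fab M 1 1) g
  idx := by
    have h1 : (cv M ((NOThree.NoOver.cj g B : Subgroup H) : Set H)) =
      (cv M (B : Set H)).map (MulDistribMulAction.toMulEquiv M g : M ≃* M).toMonoidHom := QData.cv_map_conj B g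
    rw [h1]
    have h2 := Subgroup.index_map_equiv (cv M (B : Set H)) (MulDistribMulAction.toMulEquiv M g : M ≃* M)
    exact h2.trans h.idx

omit [Finite H] in
/-- two such groups which commute are equal -/
theorem TopS.comm_le [Finite H] (hB : TopS M R B) (hC : TopS M R C) (hc : ∀ b ∈ B, ∀ c ∈ C, b * c = c * b) : C ≤ B := by
  have hel : ∀ x ∈ B ⊔ C, x * x = 1 := by
    intro x hx
    have h1 : C ≤ normalizer (B : Set H) := fun c hcc => centralizer_le_normalizer _ (by
      rw [mem_centralizer_iff]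
      exact fun b hb => hc b hb c hcc)
    obtain ⟨b, hb, c, hcc, rfl⟩ := sup_eq_mul h1 hx
    calc b * c * (b * c) = b * (c * b) * c := by group
      _ = b * (b * c) * c := by rw [hc b hb c hcc]
      _ = (b * b) * (c * c) := by group
      _ = 1 := by rw [hB.el b hb, hC.el c hcc, one_mul]
  have h1 := hB.max (B ⊔ C) (sup_le hB.le hC.le) hel
  have h2 := (ls_fab M 1 1).sup B C
  have h3 := (ls_fab M 1 1).pos B
  have h4 : fab M 1 1 C ≤ fab M 1 1 (B ⊓ C) := by
    have h5 : fab M 1 1 B * fab M 1 1 C ≤ fab M 1 1 B * fab M 1 1 (B ⊓ C) :=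
      h2.trans (Nat.mul_le_mul_right _ h1)
    exact Nat.le_of_mul_le_mul_left h5 h3
  by_contra hcon
  have h5 : B ⊓ C < C := lt_of_le_of_ne inf_le_right fun h6 => hcon (inf_eq_right.1 h6)
  exact absurd h4 (not_le.2 (hC.strict _ h5))

theorem TopS.comm_eq (hB : TopS M R B) (hC : TopS M R C) (hc : ∀ b ∈ B, ∀ c ∈ C, b * c = c * b) : B = C :=
  le_antisymm (hC.comm_le hB fun c hcc b hb => (hc b hb c hcc).symm) (hB.comm_le hC hc)

/-- the asymmetric case -/
theorem TopS.false_of_move (sq : ∀ m : M, m * m = 1) (faith : ∀ x : H, (∀ m : M, x • m = m) → x = 1)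
    (hR : IsPGroup 2 R) (hB : TopS M R B) (hC : TopS M R C) {b : H} (hb : b ∈ B) {e : M} (heB : e ∈ cv M (B : Set H))
    (hbe : Tr b e) (hbm : ∀ m, m ∉ cv M (B : Set H) → b • m = m * e) (heC : e ∉ cv M (C : Set H)) : False := by
  -- `b` fixes the centres of `C`
  have h1 : ∀ c ∈ C, c ≠ 1 → ∃ f ∈ cv M (C : Set H), Tr c f ∧ b • f = f := by
    intro c hc hc1
    obtain ⟨f, hf, hcf, hcm⟩ := exists_tr sq faith hC.el hC.idx hc hc1
    refine ⟨f, hf, hcf, (tr_dich sq hR (hB.le hb) (hC.le hc) hbe hcf).resolve_right fun h2 => ?_⟩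
    rw [hcm e heC] at h2
    exact hcf.ne_one (mul_eq_left.1 h2)
  have hbR : ∀ x ∈ R, b * x * b⁻¹ ∈ R := fun x hx => R.mul_mem (R.mul_mem (hB.le hb) hx) (R.inv_mem (hB.le hb))
  have hD := hC.cj hbR
  have h2 : C = NOThree.NoOver.cj b C := by
    refine hC.comm_eq hD ?_
    rintro c hc _ ⟨c', hc', rfl⟩
    change c * (b * c' * b⁻¹) = (b * c' * b⁻¹) * c
    by_cases hc1 : c = 1
    · rw [hc1, one_mul, mul_one]
    by_cases hc1' : c' = 1
    · rw [hc1', mul_one, mul_inv_cancel, one_mul, mul_one]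
    obtain ⟨f, hf, hcf, hbf⟩ := h1 c hc hc1
    obtain ⟨f', hf', hcf', hbf'⟩ := h1 c' hc' hc1'
    have h3 := hcf'.conj b
    rw [hbf'] at h3
    refine tr_comm sq faith hcf h3 (hf' c hc) ?_
    have h4 : b⁻¹ • f = f := by rw [inv_smul_eq_iff, hbf]
    rw [mul_smul, mul_smul, h4, hf c' hc', hbf]
  -- so `b` normalises `C` and `C_M(C)`
  have h3 : ∀ m ∈ cv M (C : Set H), b • m ∈ cv M (C : Set H) := by
    intro m hm c hc
    rw [h2] at hc
    obtain ⟨c', hc', rfl⟩ := hc
    change (b * c' * b⁻¹) • b • m = b • m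
    rw [mul_smul, mul_smul, inv_smul_smul, hm c' hc']
  have h4 : ¬ cv M (C : Set H) ≤ cv M (B : Set H) := by
    intro h5
    have h6 := relIndex_mul_index h5
    rw [hB.idx, hC.idx] at h6
    have h7 : (cv M (C : Set H)).relIndex (cv M (B : Set H)) = 1 := by omega
    exact heC (relIndex_eq_one.1 h7 heB)
  obtain ⟨m, hm, hmB⟩ := Set.not_subset.1 h4
  have h5 := h3 m hm
  rw [hbm m hmB] at h5
  exact heC ((Subgroup.mul_mem_cancel_left _ hm).1 h5)

/-- **`g` normalises `B`** -/
theorem TopS.eq_of (sq : ∀ m : M, m * m = 1) (faith : ∀ x : H, (∀ m : M, x • m = m) → x = 1)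
    (hR : IsPGroup 2 R) (hB : TopS M R B) (hC : TopS M R C) : B = C := by
  refine hB.comm_eq hC fun b hb c hc => ?_
  by_cases hb1 : b = 1
  · rw [hb1, one_mul, mul_one]
  by_cases hc1 : c = 1
  · rw [hc1, one_mul, mul_one]
  obtain ⟨e, he, hbe, hbm⟩ := exists_tr sq faith hB.el hB.idx hb hb1
  obtain ⟨f, hf, hcf, hcm⟩ := exists_tr sq faith hC.el hC.idx hc hc1
  have h1 : e ∈ cv M (C : Set H) := by
    by_contra h2
    exact hB.false_of_move sq faith hR hC hb he hbe hbm h2
  have h2 : f ∈ cv M (B : Set H) := by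
    by_contra h2
    exact hC.false_of_move sq faith hR hB hc hf hcf hcm h2
  exact tr_comm sq faith hbe hcf (h2 b hb) (h1 c hc)

theorem TopS.mem_normalizer (sq : ∀ m : M, m * m = 1) (faith : ∀ x : H, (∀ m : M, x • m = m) → x = 1)
    (hR : IsPGroup 2 R) (hB : TopS M R B) {g : H} (hg : ∀ x ∈ R, g * x * g⁻¹ ∈ R) :
    g ∈ normalizer (B : Set H) :=
  mem_normalizer_of_map (TopS.eq_of sq faith hR (hB.cj hg) hB)

end Ax

namespace Fr

variable {K : Frame.Cls.{u}} {H : Type u} [Group H] [Finite H] {M : Type v} [Group M] [Finite M]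
  [MulDistribMulAction H M] {T Q A : Subgroup H} {z : M}

variable (M) in
/-- best and strict among the elementary abelian subgroups of `R` -/
structure Bst (R B : Subgroup H) : Prop where
  le : B ≤ R
  el : ∀ b ∈ B, b * b = 1
  max : ∀ C ≤ R, (∀ c ∈ C, c * c = 1) → fab M 1 1 C ≤ fab M 1 1 B
  strict : Strict (fab M 1 1) B

omit [Finite M] in
theorem exists_bst (R : Subgroup H) : ∃ B, Bst M R B := by
  classical
  have hfin : Set.Finite {B : Subgroup H | B ≤ R ∧ ∀ b ∈ B, b * b = 1} := Set.toFinite _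
  obtain ⟨B₁, hB₁, hmax⟩ := Set.exists_max_image _ (fab M 1 1) hfin ⟨⊥, bot_le, fun b hb => by
    rw [mem_bot.1 hb, one_mul]⟩
  have hfin2 : Set.Finite {B : Subgroup H | (B ≤ R ∧ ∀ b ∈ B, b * b = 1) ∧ fab M 1 1 B = fab M 1 1 B₁} := Set.toFinite _
  obtain ⟨B, ⟨⟨h1, h2⟩, h3⟩, hmin⟩ := Set.exists_min_image _ (fun B : Subgroup H => Nat.card B) hfin2 ⟨B₁, hB₁, rfl⟩
  refine ⟨B, h1, h2, fun C hC hC2 => (hmax C ⟨hC, hC2⟩).trans h3.ge, fun C hC => ?_⟩
  have h4 := hmax C ⟨hC.le.trans h1, fun c hc => h2 c (hC.le hc)⟩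
  refine lt_of_le_of_ne (h4.trans h3.ge) fun h5 => ?_
  have h6 := hmin C ⟨⟨hC.le.trans h1, fun c hc => h2 c (hC.le hc)⟩, h5.trans h3⟩
  have h7 : Nat.card C < Nat.card B := by
    have h2 := Set.ncard_lt_ncard (SetLike.coe_ssubset_coe.2 hC) (Set.toFinite _)
    rwa [← Nat.card_coe_set_eq, ← Nat.card_coe_set_eq] at h2
  exact absurd h6 (not_le.2 h7)

/-- **`A` can be chosen best** -/
theorem exists_top (h : Fr K False H M T Q A z) :
    ∃ B, Bst M (o2 (MulAction.stabilizer H z)) B ∧ Fr K False H M T (o2 (MulAction.stabilizer H z)) B z := by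
  obtain ⟨B, hB⟩ := exists_bst (M := M) (o2 (MulAction.stabilizer H z))
  refine ⟨B, hB, ?_⟩
  have hQ : Q ≤ o2 (MulAction.stabilizer H z) :=
    Cfsg.Agent.MinSimple.VModule.le_o2 (fun q hq => h.fixQ q hq) h.Q2
      (le_normalizer_of fun g hg x hx => h.nrmQ g hg x hx)
  exact
    { ind := h.ind
      sec := h.sec
      KH := h.KH
      sq := h.sq
      two := h.two
      odd := h.odd
      fixT := h.fixT
      Q2 := o2_isPGroup _
      fixQ := fun q hq => o2_le _ hq
      nrmQ := fun g hg q hq => conj_mem_of_le (le_normalizer_o2 _) (R := MulAction.stabilizer H z) hg hq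
      AQ := hB.le
      Asq := hB.el
      nrmA := fun hf => hf.elim
      strict := hB.strict
      ne := by
        rintro rfl
        have h1 := hB.max A (h.AQ.trans hQ) h.Asq
        have h2 := h.strict ⊥ (bot_lt_iff_ne_bot.2 h.ne)
        omega
      faithful := h.faithful
      gen := h.gen }

/-- **`|A| ≥ 8`** for best `A` -/
theorem eight_le (h : Fr K False H M T (o2 (MulAction.stabilizer H z)) A z)
    (hA : Bst M (o2 (MulAction.stabilizer H z)) A) : 8 ≤ Nat.card A := by
  have hlt := h.index_lt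
  have hA2 : IsPGroup 2 A := h.Q2.to_le h.AQ
  have hM2 : IsPGroup 2 M := fun x => ⟨1, by rw [pow_one, pow_two]; exact h.sq x⟩
  have : Fact (Nat.Prime 2) := ⟨Nat.prime_two⟩
  obtain ⟨n, hn⟩ := IsPGroup.iff_card.1 hA2
  obtain ⟨m, hm⟩ := hM2.index (cv M (A : Set H))
  rw [hn, hm] at hlt
  have hmn : m < n := (Nat.pow_lt_pow_iff_right (by norm_num)).1 hlt
  have hm0 : m ≠ 0 := by
    rintro rfl
    rw [pow_zero, index_eq_one] at hm
    exact h.ne ((Subgroup.eq_bot_iff_forall A).2 fun a ha => h.faithful a fun x => by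
      have h1 : x ∈ cv M (A : Set H) := hm ▸ mem_top x
      exact h1 a ha)
  have hm1 : m ≠ 1 := by
    rintro rfl
    rw [pow_one] at hm
    have htop : TopS M (o2 (MulAction.stabilizer H z)) A := ⟨hA.le, hA.el, hA.max, hA.strict, hm⟩
    have hcz : ∀ g : H, g • z = z → g ∈ normalizer (A : Set H) := fun g hg =>
      htop.mem_normalizer h.sq h.faithful (o2_isPGroup _) fun x hx =>
        conj_mem_of_le (le_normalizer_o2 _) (R := MulAction.stabilizer H z) hg hx
    have hgen : normalClosure (A : Set H) = ⊤ := h.eq_top_of_normal normalClosure_normal le_normalClosure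
    have h3 : 2 < Nat.card A := by rw [hn]; calc 2 = 2 ^ 1 := rfl
      _ < 2 ^ n := hlt
    have : Nontrivial A := (Subgroup.nontrivial_iff_ne_bot _).2 h.ne
    obtain ⟨a, ha⟩ := exists_ne (1 : A)
    obtain ⟨b, hb1, hb2⟩ : ∃ b : A, b ≠ 1 ∧ b ≠ a := by
      by_contra hcon
      push Not at hcon
      have h4 : (Set.univ : Set A) ⊆ {1, a} := by
        intro b _
        by_cases hb : b = 1
        · exact Or.inl hb
        · exact Or.inr (hcon b hb)
      have h5 := Set.ncard_le_ncard h4 (Set.toFinite _)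
      rw [Set.ncard_univ] at h5
      rw [Set.ncard_pair (Ne.symm ha)] at h5
      omega
    refine Axis.false_of_axis h.sq h.faithful h.Asq hcz hm hgen (fun W hW => h.irred hW) a.2 b.2
      (fun h5 => ha (Subtype.ext h5)) (fun h5 => hb1 (Subtype.ext h5)) (fun h5 => hb2 (Subtype.ext h5.symm))
  rw [hn]
  calc 8 = 2 ^ 3 := rfl
    _ ≤ 2 ^ n := Nat.pow_le_pow_right (by norm_num) (by omega)

end Fr

end Cfsg.Agent.Omega.ML.MinFrame
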