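import Cfsg.Agent.Omega.ML.Sec

/-!
# (ML): generators and lines of order 4 (OMEGA); K-free

* `Sit H M T z` : `M` an elementary abelian 2-group on which `H` is faithful, `T ∈ Syl₂(H)`, `z ∈ C_M(T)`, `M = ⟨z^H⟩`;
* `Sit.eq_bot_of_normal` : `O₂(H) = 1`;
* `Sit.exists_moved` : a nontrivial subgroup `J` normalised by `T`, contained in `T`, is not normalised by some minimal
  parabolic over `T`;
* `vp P z = ⟨z^P⟩`; `Four T P z x` : what we know about a line of order 4, `exists_four`;
* `Rigid M B` : `|B : D| ≤ |C_M(D) : C_M(B)|` only for `D = B`;  `Sit.fix_of_rigid` : rigid subgroups of `O₂(C_H(z))` fix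
  the points of the lines of order 4.
-/

set_option autoImplicit false

namespace Cfsg.Agent.Omega.ML.Base

open Subgroup Cfsg.Agent.ClassTwoFusion.Quad Cfsg.Agent.Omega.NOThree.NoOver Cfsg.Agent.Omega.ML.CD
  Cfsg.Agent.Omega.ML.Ratio Cfsg.Agent.Omega.ML.RatioLine Cfsg.Agent.Omega.ML.Sec Cfsg.Agent.ZN
  Cfsg.Agent.MinSimple.MinParabolic

universe u v

/-- the situation without induction -/
structure Sit (H : Type u) (M : Type v) [Group H] [Group M] [MulDistribMulAction H M] (T : Subgroup H) (z : M) :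
    Prop where
  comm : ∀ v w : M, v * w = w * v
  sq : ∀ v : M, v * v = 1
  faith : ∀ h : H, (∀ m : M, h • m = m) → h = 1
  syl : Syl T
  fixed : z ∈ cv M (T : Set H)
  gen : closure (Set.range fun h : H => h • z) = ⊤

variable {H : Type u} {M : Type v} [Group H] [Group M] [MulDistribMulAction H M] {T : Subgroup H} {z : M}

theorem cj_eq_of_mem {B : Subgroup H} {g : H} (h : g ∈ normalizer (B : Set H)) : cj g B = B :=
  map_conj_eq_of_mem_normalizer h

theorem mem_normalizer_of_cj {B : Subgroup H} {g : H} (h : cj g B = B) : g ∈ normalizer (B : Set H) :=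
  mem_normalizer_of_map_conj_eq h

namespace Sit

theorem le_st (h : Sit H M T z) : T ≤ st z := fun t ht => h.fixed t ht

theorem eq_bot_of_normal [Finite H] (h : Sit H M T z) {N : Subgroup H} (hNT : N ≤ T)
    (hN : ∀ g, ∀ n ∈ N, g * n * g⁻¹ ∈ N) : N = ⊥ := by
  rw [Subgroup.eq_bot_iff_forall]
  intro n hn
  apply h.faith
  have h1 : (⊤ : Subgroup M) ≤ cv M ({n} : Set H) := by
    rw [← h.gen, closure_le]
    rintro _ ⟨g, rfl⟩
    change g • z ∈ cv M ({n} : Set H)
    rw [mem_cv_singleton]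
    have h2 := h.fixed _ (hNT (hN g⁻¹ n hn))
    rw [inv_inv, mul_smul, mul_smul, inv_smul_eq_iff] at h2
    exact h2
  exact fun m => mem_cv_singleton.1 (h1 (mem_top m))

/-- a nontrivial subgroup of `T`, normalised by `T`, is not normalised by all minimal parabolics over `T` -/
theorem exists_moved [Finite H] (h : Sit H M T z) {J : Subgroup H} (hJT : J ≤ T) (hJ : J ≠ ⊥)
    (hTJ : T ≤ normalizer (J : Set H)) : ∃ P, IsMinPar T P ∧ ¬ P ≤ normalizer (J : Set H) := by
  by_contra hcon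
  push Not at hcon
  set H₀ : Subgroup H := T ⊔ sSup {P | IsMinPar T P} with hH₀
  have h1 : H₀ ≤ normalizer (J : Set H) := sup_le hTJ (sSup_le fun P hP => hcon P hP)
  have hPH : ∀ P, IsMinPar T P → P ≤ H₀ := fun P hP => (le_sSup hP).trans le_sup_right
  have hle : ∀ g, cj g T = T → cj g H₀ ≤ H₀ := by
    intro g hg
    rw [cj_le_iff]
    refine sup_le ?_ (sSup_le fun P hP => ?_)
    · rw [← cj_le_iff, hg]
      exact le_sup_left
    · rw [← cj_le_iff]
      refine hPH _ ?_
      have := isMinPar_cj g hP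
      rwa [hg] at this
  have hN : (⊤ : Subgroup H) ≤ normalizer (H₀ : Set H) := by
    refine le_of_forall (S := T) le_top ?_ fun P hP _ => (hPH P hP).trans le_normalizer
    rintro g ⟨-, hg⟩
    have h2 := cj_eq_of_mem hg
    have h3 : cj g⁻¹ T = T := by
      rw [cj_eq_iff, inv_inv]
      exact h2.symm
    refine mem_normalizer_of_cj (le_antisymm (hle g h2) ?_)
    have h4 := hle g⁻¹ h3
    rwa [cj_le_iff, inv_inv] at h4
  have h2 : J ≤ o2 H₀ := le_o2 (hJT.trans le_sup_left) (h.syl.1.to_le hJT) h1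
  have h3 : o2 H₀ ≤ T := o2_le_of_sylow le_sup_left h.syl.1 (h.syl.relIndex le_sup_left)
  have h4 : o2 H₀ = ⊥ := by
    refine h.eq_bot_of_normal h3 fun g n hn => ?_
    exact (mem_normalizer_iff.1 (normalizer_le_normalizer_o2 H₀ (hN (mem_top g))) n).1 hn
  rw [h4, le_bot_iff] at h2
  exact hJ h2

end Sit

/-! ### Lines of order 4 -/

/-- the group generated by the `P`-conjugates of `z` -/
def vp (P : Subgroup H) (z : M) : Subgroup M := closure {w | ∃ p ∈ P, w = p • z}

theorem smul_mem_vp {P : Subgroup H} {p : H} (hp : p ∈ P) {w : M} (hw : w ∈ vp P z) : p • w ∈ vp P z := by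
  have h1 : vp P z ≤ (vp P z).comap (MulDistribMulAction.toMonoidHom M p) := by
    rw [vp, closure_le]
    rintro _ ⟨q, hq, rfl⟩
    exact subset_closure ⟨p * q, mul_mem hp hq, (mul_smul p q z).symm⟩
  exact h1 hw

theorem mem_vp {P : Subgroup H} {p : H} (hp : p ∈ P) : p • z ∈ vp P z := subset_closure ⟨p, hp, rfl⟩

theorem mem_vp' (P : Subgroup H) (z : M) : z ∈ vp P z := subset_closure ⟨1, P.one_mem, (one_smul _ _).symm⟩

theorem four {V : Subgroup M} [Finite V] (hV : Nat.card V = 4) (hsq : ∀ v : M, v * v = 1) {z x : M} (hz : z ∈ V) (hx : x ∈ V)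
    (hz1 : z ≠ 1) (hx1 : x ≠ 1) (hne : x ≠ z) {w : M} (hw : w ∈ V) : w = 1 ∨ w = z ∨ w = x ∨ w = z * x := by
  have hinv : ∀ v : M, v⁻¹ = v := fun v => inv_eq_of_mul_eq_one_right (hsq v)
  have h1 : ({1, z, x, z * x} : Set M) ⊆ (V : Set M) := by
    rintro y (rfl | rfl | rfl | rfl)
    · exact V.one_mem
    · exact hz
    · exact hx
    · exact V.mul_mem hz hx
  have hzx : z * x ≠ 1 := fun h => hne (by rw [← hinv z]; exact (inv_eq_of_mul_eq_one_right h).symm)
  have h2 : ({1, z, x, z * x} : Set M).ncard = 4 := by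
    have e1 : (1 : M) ∉ ({z, x, z * x} : Set M) := by
      rintro (h | h | h)
      · exact hz1 h.symm
      · exact hx1 h.symm
      · exact hzx h.symm
    have e2 : z ∉ ({x, z * x} : Set M) := by
      rintro (h | h)
      · exact hne h.symm
      · exact hx1 (mul_eq_left.1 h.symm)
    have e3 : x ∉ ({z * x} : Set M) := fun h => hz1 (mul_eq_right.1 (Set.mem_singleton_iff.1 h).symm)
    rw [Set.ncard_insert_of_notMem e1 (Set.toFinite _), Set.ncard_insert_of_notMem e2 (Set.toFinite _),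
      Set.ncard_insert_of_notMem e3 (Set.toFinite _), Set.ncard_singleton]
  have h3 : ({1, z, x, z * x} : Set M) = (V : Set M) := by
    refine Set.eq_of_subset_of_ncard_le h1 ?_ (Set.toFinite _)
    rw [h2]
    exact hV.le
  have h4 : w ∈ ({1, z, x, z * x} : Set M) := by
    rw [h3]
    exact hw
  simpa using h4

/-- what we know about a line `V_P` of order 4 and `x = p • z` -/
structure Four (T P : Subgroup H) (z x : M) : Prop where
  ne : x ≠ z
  z1 : z ≠ 1
  x1 : x ≠ 1
  mem : ∀ w ∈ vp P z, w = 1 ∨ w = z ∨ w = x ∨ w = z * x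
  moved : ∃ t ∈ T, t • x = z * x
  swap : ∃ g ∈ P, g • z = x ∧ g • x = z

theorem exists_four [Finite H] [Finite M] (hsq : ∀ v : M, v * v = 1)
    (hT : Syl T) (hz : z ∈ cv M (T : Set H)) {P : Subgroup H} (hP : IsMinPar T P) {p : H} (hp : p ∈ P) (hpz : p • z ≠ z)
    (hV : Nat.card (vp P z) = 4) : Four T P z (p • z) := by
  have hinv : ∀ v : M, v⁻¹ = v := fun v => inv_eq_of_mul_eq_one_right (hsq v)
  have hz1 : z ≠ 1 := fun h => hpz (by rw [h, smul_one])
  have hx1 : p • z ≠ 1 := fun h => hz1 (by rwa [smul_eq_iff_eq_inv_smul, smul_one] at h)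
  have hmem : ∀ w ∈ vp P z, w = 1 ∨ w = z ∨ w = p • z ∨ w = z * p • z := fun w hw =>
    four hV hsq (mem_vp' P z) (mem_vp hp) hz1 hx1 hpz hw
  -- conjugates of `z`
  have hconj : ∀ q ∈ P, q • z = z ∨ q • z = p • z ∨ q • z = z * p • z := by
    intro q hq
    rcases hmem _ (mem_vp hq) with h | h | h | h
    · exact absurd (by rwa [smul_eq_iff_eq_inv_smul, smul_one] at h) hz1
    · exact Or.inl h
    · exact Or.inr (Or.inl h)
    · exact Or.inr (Or.inr h)
  -- `T` moves `p • z`
  have hmoved : ∃ t ∈ T, t • p • z ≠ p • z := by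
    by_contra hcon
    push Not at hcon
    have hTz : ∀ t ∈ T, ∀ q ∈ P, t • q • z = q • z := by
      intro t ht q hq
      rcases hconj q hq with h | h | h
      · rw [h]; exact hz t ht
      · rw [h]; exact hcon t ht
      · rw [h, smul_mul', hz t ht, hcon t ht]
    let K : Subgroup H :=
      { carrier := {k | k ∈ P ∧ ∀ q ∈ P, k • q • z = q • z}
        one_mem' := ⟨one_mem _, fun _ _ => one_smul _ _⟩
        mul_mem' := fun {g k} hg hk => ⟨mul_mem hg.1 hk.1, fun q hq => by rw [mul_smul, hk.2 q hq, hg.2 q hq]⟩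
        inv_mem' := fun {g} hg => ⟨inv_mem hg.1, fun q hq => by rw [inv_smul_eq_iff, hg.2 q hq]⟩ }
    have hKmem : ∀ k, k ∈ K ↔ k ∈ P ∧ ∀ q ∈ P, k • q • z = q • z := fun _ => Iff.rfl
    have hKP : K ≤ P := fun k hk => hk.1
    have hTK : T ≤ K := fun t ht => ⟨hP.le ht, fun q hq => hTz t ht q hq⟩
    have key : ∀ g ∈ P, ∀ k ∈ K, g * k * g⁻¹ ∈ K := by
      intro g hg k hk
      refine ⟨mul_mem (mul_mem hg hk.1) (inv_mem hg), fun q hq => ?_⟩
      have h1 := hk.2 (g⁻¹ * q) (mul_mem (inv_mem hg) hq)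
      rw [mul_smul g⁻¹ q] at h1
      rw [mul_smul, mul_smul, h1, smul_inv_smul]
    have hKn : P ≤ normalizer (K : Set H) := by
      intro g hg
      rw [mem_normalizer_iff]
      intro k
      refine ⟨key g hg k, fun hk => ?_⟩
      have h1 := key g⁻¹ (inv_mem hg) _ hk
      have h2 : g⁻¹ * (g * k * g⁻¹) * g⁻¹⁻¹ = k := by group
      rwa [h2] at h1
    have hf : Fact (Nat.Prime 2) := ⟨Nat.prime_two⟩
    rcases hP.sup_eq_or_inf_le hT.1 (hT.relIndex hP.le) hKP hKn with h1 | h1
    · rw [sup_eq_left.2 hTK] at h1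
      rw [← h1] at hp
      apply hpz
      have h2 := hp.2 1 (one_mem _)
      rwa [one_smul] at h2
    · rw [inf_eq_left.2 hTK] at h1
      have h2 : T = o2 P := le_antisymm h1 (o2_le_of_sylow hP.le hT.1 (hT.relIndex hP.le))
      apply hP.not_le
      rw [h2]
      exact le_normalizer_o2 P
  obtain ⟨t, ht, htx⟩ := hmoved
  have htx' : t • p • z = z * p • z := by
    rcases hmem _ (smul_mem_vp (hP.le ht) (mem_vp hp)) with h | h | h | h
    · exact absurd (by rwa [smul_eq_iff_eq_inv_smul, smul_one] at h) hx1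
    · have h1 : t • p • z = t • z := h.trans (hz t ht).symm
      exact absurd (smul_left_cancel t h1) hpz
    · exact absurd h htx
    · exact h
  refine ⟨hpz, hz1, hx1, hmem, ⟨t, ht, htx'⟩, ?_⟩
  -- the swap
  have hpx : p • p • z = z ∨ p • p • z = z * p • z := by
    rcases hmem _ (smul_mem_vp hp (mem_vp hp)) with h | h | h | h
    · exact absurd (by rwa [smul_eq_iff_eq_inv_smul, smul_one] at h) hx1
    · exact Or.inl h
    · exact absurd (smul_left_cancel p h) hpz
    · exact Or.inr h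
  rcases hpx with h | h
  · exact ⟨p, hp, rfl, h⟩
  · refine ⟨p⁻¹ * t * p, mul_mem (mul_mem (inv_mem hp) (hP.le ht)) hp, ?_, ?_⟩
    · rw [mul_smul, mul_smul, htx', inv_smul_eq_iff]
      exact h.symm
    · rw [mul_smul, mul_smul, h, smul_mul', hz t ht, htx', ← mul_assoc, hsq, one_mul, inv_smul_smul]

theorem relIndex_le_two {B D : Subgroup H} (h : ∀ x ∈ B, ∀ y ∈ B, x ∉ D → y ∉ D → x * y ∈ D) :
    D.relIndex B ≤ 2 := by
  by_cases hBD : B ≤ D
  · rw [relIndex_eq_one.2 hBD]
    norm_num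
  · obtain ⟨g, hg, hgD⟩ := SetLike.not_le_iff_exists.1 hBD
    have h1 : (D.subgroupOf B).index = 2 := by
      rw [index_eq_two_iff]
      refine ⟨⟨g, hg⟩, fun y => ?_⟩
      by_cases hy : (y : H) ∈ D
      · refine Or.inr ⟨mem_subgroupOf.2 hy, fun h2 => hgD ?_⟩
        have h3 : (y : H) * g ∈ D := mem_subgroupOf.1 h2
        exact (D.mul_mem_cancel_left hy).1 h3
      · exact Or.inl ⟨mem_subgroupOf.2 (h y y.2 g hg hy hgD), fun h2 => hy (mem_subgroupOf.1 h2)⟩
    exact h1.le

theorem Sit.qq_le [Finite H] (h : Sit H M T z) : qq z ≤ T :=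
  o2_le_of_sylow h.le_st h.syl.1 (h.syl.relIndex h.le_st)

variable (M) in
/-- `|B : D| ≤ |C_M(D) : C_M(B)|` only for `D = B` -/
def Rigid (B : Subgroup H) : Prop :=
  ∀ D ≤ B, D.relIndex B ≤ (cv M (B : Set H)).relIndex (cv M (D : Set H)) → B ≤ D

/-- strict subgroups are rigid -/
theorem rigid_of_strict [Finite H] [Finite M] {B : Subgroup H} (hB : Strict (fab M 1 1) B) : Rigid M B := by
  intro D hD h
  by_contra hc
  have h1 := hB D (lt_of_le_of_ne hD fun h2 => hc h2.ge)
  rw [fab_lt_iff hD, pow_one, pow_one] at h1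
  omega

/-- rigid subgroups of `O₂(C_H(z))` fix the points of the lines of order 4 -/
theorem Sit.fix_of_rigid [Finite H] [Finite M] (h : Sit H M T z)
    {P : Subgroup H} (hP : IsMinPar T P) {x : M} (hx : x ∈ vp P z) (F : Four T P z x) {D : Subgroup H}
    (hD : Rigid M D) (hDz : D ≤ qq z) : D ≤ st x := by
  have h1 : ∀ y ∈ D, y • x = x ∨ y • x = z * x := by
    intro y hy
    have hyT := h.qq_le (hDz hy)
    rcases F.mem _ (smul_mem_vp (hP.le hyT) hx) with h2 | h2 | h2 | h2
    · exact absurd (by rwa [smul_eq_iff_eq_inv_smul, smul_one] at h2) F.x1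
    · have h3 : y • x = y • z := h2.trans (h.fixed y hyT).symm
      exact absurd (smul_left_cancel y h3) F.ne
    · exact Or.inl h2
    · exact Or.inr h2
  have h2 : (D ⊓ st x).relIndex D ≤ 2 := by
    apply relIndex_le_two
    intro y hy w hw hy' hw'
    refine mem_inf.2 ⟨mul_mem hy hw, ?_⟩
    have e1 : y • x = z * x := (h1 y hy).resolve_left fun h3 => hy' ⟨hy, h3⟩
    have e2 : w • x = z * x := (h1 w hw).resolve_left fun h3 => hw' ⟨hw, h3⟩
    rw [mem_st, mul_smul, e2, smul_mul', e1, h.fixed y (h.qq_le (hDz hy)), ← mul_assoc, h.sq, one_mul]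
  by_contra hcon
  have h3 : cv M (D : Set H) < cv M ((D ⊓ st x : Subgroup H) : Set H) := by
    refine lt_of_le_of_ne (cv_anti (SetLike.coe_subset_coe.2 inf_le_left)) fun h4 => hcon fun y hy => ?_
    have h5 : x ∈ cv M ((D ⊓ st x : Subgroup H) : Set H) := fun w hw => hw.2
    rw [← h4] at h5
    exact h5 y hy
  have h4 : 2 ≤ (cv M (D : Set H)).relIndex (cv M ((D ⊓ st x : Subgroup H) : Set H)) := by
    have h5 : (cv M (D : Set H)).relIndex (cv M ((D ⊓ st x : Subgroup H) : Set H)) ≠ 0 := relIndex_ne _ _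
    have h6 : (cv M (D : Set H)).relIndex (cv M ((D ⊓ st x : Subgroup H) : Set H)) ≠ 1 := fun h7 =>
      h3.not_ge (relIndex_eq_one.1 h7)
    omega
  exact hcon ((hD _ inf_le_left (h2.trans h4)).trans inf_le_right)

end Cfsg.Agent.Omega.ML.Base
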