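import Cfsg.Agent.Omega.NOThree.NoOver

/-!
# The Chermak-Delgado lattice of an action (OMEGA, (ML); #14946 of helper9, #15361 of helper925); K-free

`H` acts on the finite group `M`; `fab M a b B = |B|^a |C_M(B)|^b` (`a / b = t` of the text; `a = b = 1` is `fo` of
`NoOver.lean`).  No group is supposed to be abelian or to normalise another one.

* `LS f` : `f : Subgroup H → ℕ` is positive, log-supermodular and invariant under conjugation;  `ls_fab : LS (fab M a b)`;
* `Best f R B` : `B ≤ R` with the maximal value of `f`;  `lo f R`, `hi f R` : the least and the greatest best subgroup of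
  `R`;  `lo_cj`, `hi_cj` : equivariance (so `N_H(R)` normalises both);
* `Strict f X` : `f B < f X` for all `B < X`;  `lo f R` is the greatest strict subgroup of `R` (`strict_lo`, `Strict.le_lo`);
  joins of strict subgroups are strict (`Strict.sup`);  `lo_mono`, `le_inf_lo`;  `lo_eq_bot_iff`;
* `lo_closed` : a subgroup of `R` centralising `C_M(lo R)` is in `lo R`;
* `lo_le_core`, `lo_core_eq` : for a minimal parabolic `P` over `T` moving `C_M(T)`: `lo T = lo (O₂(P))` if the FF
  inequality holds for ALL subgroups of `T` (`FFab`), so it is normalised by `P` and by `X_T`;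
* `relIndex_lt` : (4)(iii) of #14946.
-/

set_option autoImplicit false

namespace Cfsg.Agent.Omega.ML.CD

open Subgroup Cfsg.Agent.ClassTwoFusion.Quad Cfsg.Agent.MinSimple.MinParabolic Cfsg.Agent.Omega.NOThree.NoOver

variable {H : Type*} [Group H]

/-- positive, log-supermodular, invariant -/
structure LS (f : Subgroup H → ℕ) : Prop where
  pos : ∀ B, 0 < f B
  sup : ∀ B D, f B * f D ≤ f (B ⊔ D) * f (B ⊓ D)
  conj : ∀ g B, f (cj g B) = f B

/-- `B` has the maximal value of `f` in `R` -/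
def Best (f : Subgroup H → ℕ) (R B : Subgroup H) : Prop := B ≤ R ∧ ∀ D ≤ R, f D ≤ f B

/-- `f B < f X` for all `B < X` -/
def Strict (f : Subgroup H → ℕ) (X : Subgroup H) : Prop := ∀ B < X, f B < f X

/-- the least best subgroup of `R` -/
def lo (f : Subgroup H → ℕ) (R : Subgroup H) : Subgroup H := sInf {B | Best f R B}

/-- the greatest best subgroup of `R` -/
def hi (f : Subgroup H → ℕ) (R : Subgroup H) : Subgroup H := sSup {B | Best f R B}

theorem lo_le {f : Subgroup H → ℕ} {R B : Subgroup H} (h : Best f R B) : lo f R ≤ B := sInf_le h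

theorem le_hi {f : Subgroup H → ℕ} {R B : Subgroup H} (h : Best f R B) : B ≤ hi f R := le_sSup h

theorem Best.eq {f : Subgroup H → ℕ} {R B D : Subgroup H} (h : Best f R B) (h' : Best f R D) : f B = f D :=
  le_antisymm (h'.2 _ h.1) (h.2 _ h'.1)

theorem Best.of_le {f : Subgroup H → ℕ} {R B D : Subgroup H} (h : Best f R B) (hD : D ≤ R) (h' : f B ≤ f D) :
    Best f R D := ⟨hD, fun _ hE => (h.2 _ hE).trans h'⟩

/-- restriction to a smaller group -/
theorem Best.mono {f : Subgroup H → ℕ} {R R' B : Subgroup H} (h : Best f R B) (hR : R' ≤ R) (hB : B ≤ R') :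
    Best f R' B := ⟨hB, fun D hD => h.2 D (hD.trans hR)⟩

theorem cj_eq_iff {g : H} {A B : Subgroup H} : cj g A = B ↔ A = cj g⁻¹ B := by
  constructor
  · rintro rfl
    rw [cj_cj, inv_mul_cancel, cj_one]
  · rintro rfl
    rw [cj_cj, mul_inv_cancel, cj_one]

theorem cj_sup (g : H) (A B : Subgroup H) : cj g (A ⊔ B) = cj g A ⊔ cj g B := Subgroup.map_sup _ _ _

namespace LS

variable {f : Subgroup H → ℕ} (h : LS f)
include h

theorem best_cj {R B : Subgroup H} (g : H) (hB : Best f R B) : Best f (cj g R) (cj g B) := by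
  refine ⟨cj_mono hB.1, fun D hD => ?_⟩
  have h1 := hB.2 (cj g⁻¹ D) (by rwa [cj_le_iff, inv_inv])
  rwa [h.conj, ← h.conj g B] at h1

theorem best_cj_iff {R B : Subgroup H} (g : H) : Best f (cj g R) (cj g B) ↔ Best f R B := by
  refine ⟨fun h1 => ?_, h.best_cj g⟩
  have h2 := h.best_cj g⁻¹ h1
  rwa [cj_cj, cj_cj, inv_mul_cancel, cj_one, cj_one] at h2

/-- the best subgroups form a lattice -/
theorem best_sup_inf {R B D : Subgroup H} (hB : Best f R B) (hD : Best f R D) :
    Best f R (B ⊔ D) ∧ Best f R (B ⊓ D) := by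
  have h1 := h.sup B D
  rw [← hB.eq hD] at h1
  have h2 := hB.2 (B ⊔ D) (sup_le hB.1 hD.1)
  have h3 := hB.2 (B ⊓ D) (inf_le_left.trans hB.1)
  have hp := h.pos B
  constructor
  · refine hB.of_le (sup_le hB.1 hD.1) ?_
    by_contra hc
    rw [not_le] at hc
    have h4 : f (B ⊔ D) * f (B ⊓ D) < f B * f B :=
      lt_of_le_of_lt (Nat.mul_le_mul_left _ h3) (Nat.mul_lt_mul_of_pos_right hc hp)
    exact absurd h1 (not_le.2 h4)
  · refine hB.of_le (inf_le_left.trans hB.1) ?_
    by_contra hc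
    rw [not_le] at hc
    have h4 : f (B ⊔ D) * f (B ⊓ D) < f B * f B :=
      lt_of_le_of_lt (Nat.mul_le_mul_right _ h2) (Nat.mul_lt_mul_of_pos_left hc hp)
    exact absurd h1 (not_le.2 h4)

/-- `f(B) ≤ f(B ∩ X)` for best `X` -/
theorem le_inf_best {R X B : Subgroup H} (hX : Best f R X) (hB : B ≤ R) : f B ≤ f (B ⊓ X) := by
  have h1 := h.sup B X
  have h2 := hX.2 (B ⊔ X) (sup_le hB hX.1)
  have hp := h.pos X
  have h3 : f B * f X ≤ f (B ⊓ X) * f X := by
    calc f B * f X ≤ f (B ⊔ X) * f (B ⊓ X) := h1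
      _ ≤ f X * f (B ⊓ X) := Nat.mul_le_mul_right _ h2
      _ = _ := mul_comm _ _
  exact Nat.le_of_mul_le_mul_right h3 hp

variable [Finite H]

omit h in
theorem exists_best (f : Subgroup H → ℕ) (R : Subgroup H) : ∃ B, Best f R B := by
  obtain ⟨A, h1, h2⟩ := Set.exists_max_image {A : Subgroup H | A ≤ R} (fun A => f A) (Set.toFinite _)
    ⟨⊥, (bot_le : ⊥ ≤ R)⟩
  exact ⟨A, h1, fun B hB => h2 B hB⟩

theorem best_lo (R : Subgroup H) : Best f R (lo f R) := by
  obtain ⟨A, hA, hmin⟩ := Set.exists_min_image {A : Subgroup H | Best f R A} (fun A => Nat.card A) (Set.toFinite _)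
    (exists_best f R)
  have h1 : A = lo f R := by
    refine le_antisymm (le_sInf fun B hB => ?_) (lo_le hA)
    have h2 := hmin (A ⊓ B) (h.best_sup_inf hA hB).2
    exact inf_eq_left.1 (eq_of_le_of_card_ge inf_le_left h2)
  rw [← h1]
  exact hA

theorem best_hi (R : Subgroup H) : Best f R (hi f R) := by
  obtain ⟨A, hA, hmax⟩ := Set.exists_max_image {A : Subgroup H | Best f R A} (fun A => Nat.card A) (Set.toFinite _)
    (exists_best f R)
  have h1 : A = hi f R := by
    refine le_antisymm (le_hi hA) (sSup_le fun B hB => ?_)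
    have h2 := hmax (A ⊔ B) (h.best_sup_inf hA hB).1
    have h3 := eq_of_le_of_card_ge (le_sup_left : A ≤ A ⊔ B) h2
    exact le_sup_right.trans h3.ge
  rw [← h1]
  exact hA

theorem lo_le_hi (R : Subgroup H) : lo f R ≤ hi f R := lo_le (h.best_hi R)

theorem lo_le_self (R : Subgroup H) : lo f R ≤ R := (h.best_lo R).1

theorem hi_le_self (R : Subgroup H) : hi f R ≤ R := (h.best_hi R).1

theorem le_lo (R B : Subgroup H) (hB : B ≤ R) : f B ≤ f (lo f R) := (h.best_lo R).2 B hB

theorem eq_lo {R A : Subgroup H} (hA : Best f R A) (hs : Strict f A) : A = lo f R := by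
  by_contra hne
  have h1 := hs _ (lt_of_le_of_ne (lo_le hA) (Ne.symm hne))
  exact absurd (hA.eq (h.best_lo R)) h1.ne'

/-- equivariance of the least best subgroup -/
theorem lo_cj (g : H) (R : Subgroup H) : lo f (cj g R) = cj g (lo f R) := by
  apply le_antisymm
  · exact lo_le (h.best_cj g (h.best_lo R))
  · rw [cj_le_iff]
    refine lo_le ?_
    have h1 := h.best_cj g⁻¹ (h.best_lo (cj g R))
    rwa [cj_cj, inv_mul_cancel, cj_one] at h1

theorem hi_cj (g : H) (R : Subgroup H) : hi f (cj g R) = cj g (hi f R) := by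
  apply le_antisymm
  · have h1 := le_hi (h.best_cj g⁻¹ (h.best_hi (cj g R)))
    rw [cj_cj, inv_mul_cancel, cj_one, cj_le_iff, inv_inv] at h1
    exact h1
  · exact le_hi (h.best_cj g (h.best_hi R))

theorem lo_eq_cj {g : H} {R : Subgroup H} (hg : cj g R = R) : cj g (lo f R) = lo f R := by rw [← h.lo_cj, hg]

theorem hi_eq_cj {g : H} {R : Subgroup H} (hg : cj g R = R) : cj g (hi f R) = hi f R := by rw [← h.hi_cj, hg]

/-- `N_H(R)` normalises `lo R` -/
theorem normalizer_le_lo (R : Subgroup H) : normalizer (R : Set H) ≤ normalizer (lo f R : Set H) := by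
  intro g hg
  rw [Subgroup.mem_normalizer_iff_map_conj_eq] at hg ⊢
  exact h.lo_eq_cj hg

theorem normalizer_le_hi (R : Subgroup H) : normalizer (R : Set H) ≤ normalizer (hi f R : Set H) := by
  intro g hg
  rw [Subgroup.mem_normalizer_iff_map_conj_eq] at hg ⊢
  exact h.hi_eq_cj hg

/-! ### Strict subgroups -/

/-- (a) -/
theorem strict_lo (R : Subgroup H) : Strict f (lo f R) := by
  intro B hB
  refine lt_of_le_of_ne (h.le_lo R B (hB.le.trans (h.lo_le_self R))) fun h1 => ?_
  have h2 : Best f R B := (h.best_lo R).of_le (hB.le.trans (h.lo_le_self R)) h1.ge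
  exact absurd (lo_le h2) (not_le_of_gt hB)

/-- (b) -/
theorem le_inf_lo {R B : Subgroup H} (hB : B ≤ R) : f B ≤ f (B ⊓ lo f R) := h.le_inf_best (h.best_lo R) hB

end LS

variable {f : Subgroup H → ℕ}

theorem Strict.cj (hf : LS f) {X : Subgroup H} (hX : Strict f X) (g : H) : Strict f (cj g X) := by
  intro B hB
  have h1 : Cfsg.Agent.Omega.NOThree.NoOver.cj g⁻¹ B < X := by
    rw [cj_lt_iff, inv_inv]
    exact hB
  have h2 := hX _ h1
  rwa [hf.conj, ← hf.conj g X] at h2

/-- a strict subgroup of `R` is in `lo R` -/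
theorem Strict.le_lo (hf : LS f) [Finite H] {X R : Subgroup H} (hX : Strict f X) (hR : X ≤ R) : X ≤ lo f R := by
  have h1 := hf.le_inf_lo hR
  by_contra hc
  exact absurd (hX _ (lt_of_le_of_ne inf_le_left fun h2 => hc (inf_eq_left.1 h2))) (not_lt.2 h1)

/-- a strict subgroup and the intersection with a best one: more generally `X ≤ Y` for best `Y` -/
theorem Strict.le_best (hf : LS f) {X R Y : Subgroup H} (hX : Strict f X) (hR : X ≤ R) (hY : Best f R Y) : X ≤ Y := by
  have h1 := hf.le_inf_best hY hR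
  by_contra hc
  exact absurd (hX _ (lt_of_le_of_ne inf_le_left fun h2 => hc (inf_eq_left.1 h2))) (not_lt.2 h1)

theorem Strict.lo_eq (hf : LS f) [Finite H] {X : Subgroup H} (hX : Strict f X) : lo f X = X :=
  le_antisymm (hf.lo_le_self X) (hX.le_lo hf le_rfl)

theorem strict_iff (hf : LS f) [Finite H] {X : Subgroup H} : Strict f X ↔ lo f X = X :=
  ⟨fun h => h.lo_eq hf, fun h => by have := hf.strict_lo X; rwa [h] at this⟩

/-- joins of strict subgroups are strict -/
theorem Strict.sup (hf : LS f) [Finite H] {X Y : Subgroup H} (hX : Strict f X) (hY : Strict f Y) :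
    Strict f (X ⊔ Y) := by
  rw [strict_iff hf]
  exact le_antisymm (hf.lo_le_self _) (sup_le (hX.le_lo hf le_sup_left) (hY.le_lo hf le_sup_right))

theorem strict_sSup (hf : LS f) [Finite H] {s : Set (Subgroup H)} (hs : ∀ X ∈ s, Strict f X) :
    Strict f (sSup s) := by
  rw [strict_iff hf]
  exact le_antisymm (hf.lo_le_self _) (sSup_le fun X hX => (hs X hX).le_lo hf (le_sSup hX))

theorem strict_bot (f : Subgroup H → ℕ) : Strict f ⊥ := fun _ hB => absurd hB not_lt_bot

/-- (b): monotony -/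
theorem lo_mono (hf : LS f) [Finite H] {R R' : Subgroup H} (h : R ≤ R') : lo f R ≤ lo f R' :=
  (hf.strict_lo R).le_lo hf ((hf.lo_le_self R).trans h)

theorem hi_mono (hf : LS f) [Finite H] {R R' : Subgroup H} (h : R ≤ R') : hi f R ≤ hi f R' := by
  have h1 := hf.sup (hi f R) (hi f R')
  have h2 := (hf.best_hi R).2 (hi f R ⊓ hi f R') (inf_le_left.trans (hf.hi_le_self R))
  have hp := hf.pos (hi f R)
  have h3 : f (hi f R') * f (hi f R) ≤ f (hi f R ⊔ hi f R') * f (hi f R) := by
    calc f (hi f R') * f (hi f R) = f (hi f R) * f (hi f R') := mul_comm _ _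
      _ ≤ _ := h1
      _ ≤ _ := Nat.mul_le_mul_left _ h2
  have h4 := Nat.le_of_mul_le_mul_right h3 hp
  have h5 : Best f R' (hi f R ⊔ hi f R') :=
    (hf.best_hi R').of_le (sup_le ((hf.hi_le_self R).trans h) (hf.hi_le_self R')) h4
  exact le_sup_left.trans (le_hi h5)

/-- if `lo R' ≤ R ≤ R'` then `lo R = lo R'` -/
theorem lo_eq_of_le (hf : LS f) [Finite H] {R R' : Subgroup H} (h : R ≤ R') (h' : lo f R' ≤ R) :
    lo f R = lo f R' := le_antisymm (lo_mono hf h) ((hf.strict_lo R').le_lo hf h')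

/-- (c) -/
theorem lo_eq_bot_iff (hf : LS f) [Finite H] {R : Subgroup H} : lo f R = ⊥ ↔ ∀ B ≤ R, f B ≤ f ⊥ := by
  constructor
  · intro h B hB
    have := hf.le_lo R B hB
    rwa [h] at this
  · intro h
    exact le_bot_iff.1 (lo_le ⟨bot_le, h⟩)

/-- `lo R` is the join of the strict subgroups of `R` -/
theorem lo_eq_sSup (hf : LS f) [Finite H] (R : Subgroup H) : lo f R = sSup {X | X ≤ R ∧ Strict f X} :=
  le_antisymm (le_sSup ⟨hf.lo_le_self R, hf.strict_lo R⟩) (sSup_le fun _ hX => hX.2.le_lo hf hX.1)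

/-- weak closure: `lo T` is the only conjugate of itself in `T` -/
theorem cj_lo_eq (hf : LS f) [Finite H] {T : Subgroup H} {g : H} (h : cj g (lo f T) ≤ T) :
    cj g (lo f T) = lo f T := by
  have h1 : cj g (lo f T) ≤ lo f T := ((hf.strict_lo T).cj hf g).le_lo hf h
  exact eq_of_le_of_card_ge h1
    (Nat.card_congr ((lo f T).equivMapOfInjective _ (MulAut.conj g).injective).toEquiv).le

/-! ### `D(U)`: the elementary abelian strict subgroups -/

/-- the join of the strict elementary abelian subgroups -/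
def dd (f : Subgroup H → ℕ) (U : Subgroup H) : Subgroup H := sSup {X | X ≤ U ∧ Strict f X ∧ ∀ x ∈ X, x * x = 1}

theorem dd_le (f : Subgroup H → ℕ) (U : Subgroup H) : dd f U ≤ U := sSup_le fun _ hX => hX.1

theorem le_dd {U X : Subgroup H} (h : X ≤ U) (hs : Strict f X) (he : ∀ x ∈ X, x * x = 1) : X ≤ dd f U :=
  le_sSup ⟨h, hs, he⟩

theorem strict_dd (hf : LS f) [Finite H] (U : Subgroup H) : Strict f (dd f U) := strict_sSup hf fun _ hX => hX.2.1

theorem dd_mono {U U' : Subgroup H} (h : U ≤ U') : dd f U ≤ dd f U' := sSup_le fun _ hX =>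
  le_dd (hX.1.trans h) hX.2.1 hX.2.2

theorem dd_le_lo (hf : LS f) [Finite H] (U : Subgroup H) : dd f U ≤ lo f U := (strict_dd hf U).le_lo hf (dd_le f U)

theorem cj_dd_le (hf : LS f) (g : H) (U : Subgroup H) : cj g (dd f U) ≤ dd f (cj g U) := by
  rw [cj_le_iff]
  refine sSup_le fun X hX => ?_
  rw [← cj_le_iff]
  refine le_dd (cj_mono hX.1) (hX.2.1.cj hf g) ?_
  rintro _ ⟨x, hx, rfl⟩
  have h1 := hX.2.2 x hx
  rw [← map_mul, h1, map_one]

theorem dd_cj (hf : LS f) (g : H) (U : Subgroup H) : dd f (cj g U) = cj g (dd f U) := by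
  refine le_antisymm ?_ (cj_dd_le hf g U)
  have h1 := cj_dd_le hf g⁻¹ (cj g U)
  rwa [cj_cj, inv_mul_cancel, cj_one, cj_le_iff, inv_inv] at h1

theorem normalizer_le_dd (hf : LS f) (U : Subgroup H) : normalizer (U : Set H) ≤ normalizer (dd f U : Set H) := by
  intro g hg
  rw [Subgroup.mem_normalizer_iff_map_conj_eq] at hg ⊢
  change cj g U = U at hg
  change cj g (dd f U) = dd f U
  rw [← dd_cj hf, hg]

/-! ### The point version: `A x = lo (Q x)` for an equivariant `Q` (`Q x = O₂(C_H(x))`) -/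

theorem lo_smul (hf : LS f) [Finite H] {Ω : Type*} [MulAction H Ω] {Q : Ω → Subgroup H}
    (hQ : ∀ (g : H) (x : Ω), Q (g • x) = cj g (Q x)) (g : H) (x : Ω) : lo f (Q (g • x)) = cj g (lo f (Q x)) := by
  rw [hQ, hf.lo_cj]

theorem stab_le_normalizer_lo (hf : LS f) [Finite H] {Ω : Type*} [MulAction H Ω] {Q : Ω → Subgroup H}
    (hQ : ∀ (g : H) (x : Ω), Q (g • x) = cj g (Q x)) (x : Ω) :
    MulAction.stabilizer H x ≤ normalizer (lo f (Q x) : Set H) := by
  refine le_trans ?_ (hf.normalizer_le_lo (Q x))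
  intro g hg
  rw [Subgroup.mem_normalizer_iff_map_conj_eq]
  have h1 := hQ g x
  rw [MulAction.mem_stabilizer_iff.1 hg] at h1
  exact h1.symm

/-- `[A_x, A_y] ≤ A_x ∩ A_y` -/
theorem commutator_lo_le (hf : LS f) [Finite H] {Ω : Type*} [MulAction H Ω] {Q : Ω → Subgroup H}
    (hQ : ∀ (g : H) (x : Ω), Q (g • x) = cj g (Q x)) {x y : Ω} (hxy : lo f (Q x) ≤ MulAction.stabilizer H y)
    (hyx : lo f (Q y) ≤ MulAction.stabilizer H x) : ⁅lo f (Q x), lo f (Q y)⁆ ≤ lo f (Q x) ⊓ lo f (Q y) := by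
  have h1 := hyx.trans (stab_le_normalizer_lo hf hQ x)
  have h2 := hxy.trans (stab_le_normalizer_lo hf hQ y)
  rw [Subgroup.commutator_le]
  intro a ha b hb
  rw [commutatorElement_def]
  constructor
  · have h3 := (mem_normalizer_iff.1 (h1 hb) a⁻¹).1 (inv_mem ha)
    have h4 : a * b * a⁻¹ * b⁻¹ = a * (b * a⁻¹ * b⁻¹) := by group
    rw [h4]
    exact mul_mem ha h3
  · exact Subgroup.mul_mem _ ((mem_normalizer_iff.1 (h2 ha) b).1 hb) (Subgroup.inv_mem _ hb)

/-! ### The functions `|B|^a |C_M(B)|^b` -/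

variable {M : Type*} [Group M] [MulDistribMulAction H M]

variable (M) in
/-- `|B|^a |C_M(B)|^b` -/
noncomputable def fab (a b : ℕ) (B : Subgroup H) : ℕ := Nat.card B ^ a * Nat.card (cv M (B : Set H)) ^ b

theorem fab_one (B : Subgroup H) : fab M 1 1 B = fo M B := by rw [fab, fo, pow_one, pow_one]

theorem fab_bot (a b : ℕ) : fab M a b (⊥ : Subgroup H) = Nat.card M ^ b := by
  rw [fab, cv_bot, card_bot, one_pow, one_mul, Nat.card_congr Subgroup.topEquiv.toEquiv]

/-- `|B| |D| ≤ |B ⊔ D| |B ⊓ D|` for all subgroups -/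
theorem card_mul_card_le [Finite H] (B D : Subgroup H) :
    Nat.card B * Nat.card D ≤ Nat.card (B ⊔ D : Subgroup H) * Nat.card (B ⊓ D : Subgroup H) := by
  have h1 := card_mul_le B D (B ⊔ D) le_sup_left le_sup_right
  rwa [mul_comm (Nat.card (B ⊓ D : Subgroup H))] at h1

theorem card_cv_le [Finite M] (B D : Subgroup H) :
    Nat.card (cv M (B : Set H)) * Nat.card (cv M (D : Set H)) ≤
      Nat.card (cv M ((B ⊔ D : Subgroup H) : Set H)) * Nat.card (cv M ((B ⊓ D : Subgroup H) : Set H)) := by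
  have h2 := card_mul_le (cv M (B : Set H)) (cv M (D : Set H)) (cv M ((B ⊓ D : Subgroup H) : Set H))
    (cv_anti (SetLike.coe_subset_coe.2 inf_le_left)) (cv_anti (SetLike.coe_subset_coe.2 inf_le_right))
  rwa [← cv_sup] at h2

variable (M) in
/-- **(1)** -/
theorem ls_fab [Finite H] [Finite M] (a b : ℕ) : LS (fab M a b : Subgroup H → ℕ) where
  pos := fun B => Nat.mul_pos (Nat.pow_pos Nat.card_pos) (Nat.pow_pos Nat.card_pos)
  sup := by
    intro B D
    have h1 := Nat.pow_le_pow_left (card_mul_card_le B D) a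
    have h2 := Nat.pow_le_pow_left (card_cv_le (M := M) B D) b
    rw [mul_pow, mul_pow] at h1 h2
    unfold fab
    calc _ = (Nat.card B ^ a * Nat.card D ^ a) *
          (Nat.card (cv M (B : Set H)) ^ b * Nat.card (cv M (D : Set H)) ^ b) := by ring
      _ ≤ _ := Nat.mul_le_mul h1 h2
      _ = _ := by ring
  conj := by
    intro g B
    have h1 : Nat.card (cj g B) = Nat.card B :=
      (Nat.card_congr (B.equivMapOfInjective _ (MulAut.conj g).injective).toEquiv).symm
    have h2 : Nat.card (cv M (cj g B : Set H)) = Nat.card (cv M (B : Set H)) := by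
      have h3 : cv M (cj g B : Set H) = _ := QData.cv_map_conj (V := M) B g
      rw [h3]
      exact (Nat.card_congr ((cv M (B : Set H)).equivMapOfInjective _
        (MulDistribMulAction.toMulEquiv M g : M ≃* M).injective).toEquiv).symm
    rw [fab, fab, h1, h2]

theorem card_eq_relIndex_mul {G : Type*} [Group G] {A B : Subgroup G} (h : A ≤ B) :
    Nat.card B = A.relIndex B * Nat.card A := by
  rw [← Subgroup.card_mul_index (A.subgroupOf B), mul_comm]
  congr 1
  exact Nat.card_congr (subgroupOfEquivOfLe h).toEquiv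

/-- `f(B) < f(A)` in terms of indices -/
theorem fab_lt_iff [Finite H] [Finite M] {a b : ℕ} {A B : Subgroup H} (hB : B ≤ A) :
    fab M a b B < fab M a b A ↔
      (cv M (A : Set H)).relIndex (cv M (B : Set H)) ^ b < B.relIndex A ^ a := by
  have h4le : cv M (A : Set H) ≤ cv M (B : Set H) := cv_anti (SetLike.coe_subset_coe.2 hB)
  have h3 := card_eq_relIndex_mul hB
  have h4 := card_eq_relIndex_mul h4le
  unfold fab
  rw [h3, h4, mul_pow, mul_pow]
  have e1 : Nat.card B ^ a * ((cv M (A : Set H)).relIndex (cv M (B : Set H)) ^ b *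
      Nat.card (cv M (A : Set H)) ^ b) = (Nat.card B ^ a * Nat.card (cv M (A : Set H)) ^ b) *
      (cv M (A : Set H)).relIndex (cv M (B : Set H)) ^ b := by ring
  have e2 : B.relIndex A ^ a * Nat.card B ^ a * Nat.card (cv M (A : Set H)) ^ b =
      (Nat.card B ^ a * Nat.card (cv M (A : Set H)) ^ b) * B.relIndex A ^ a := by ring
  rw [e1, e2]
  exact Nat.mul_lt_mul_left (Nat.mul_pos (Nat.pow_pos Nat.card_pos) (Nat.pow_pos Nat.card_pos))

theorem fab_le_iff [Finite H] [Finite M] {a b : ℕ} {A B : Subgroup H} (hB : B ≤ A) :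
    fab M a b A ≤ fab M a b B ↔
      B.relIndex A ^ a ≤ (cv M (A : Set H)).relIndex (cv M (B : Set H)) ^ b := by
  rw [← not_lt, fab_lt_iff hB, not_lt]

/-- **`A = lo R` is closed**: a subgroup of `R` centralising `C_M(A)` is in `A`. -/
theorem lo_closed [Finite H] [Finite M] {a b : ℕ} (ha : a ≠ 0) {R E : Subgroup H} (hE : E ≤ R)
    (hc : cv M (lo (fab M a b) R : Set H) ≤ cv M (E : Set H)) : E ≤ lo (fab M a b) R := by
  have hf := ls_fab (H := H) M a b
  set A := lo (fab M a b) R with hA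
  have h1 := hf.le_lo R (A ⊔ E) (sup_le (hf.lo_le_self R) hE)
  rw [← hA] at h1
  rw [fab_le_iff (le_sup_left : A ≤ A ⊔ E)] at h1
  have h2 : cv M ((A ⊔ E : Subgroup H) : Set H) = cv M (A : Set H) := by
    rw [cv_sup]
    exact inf_eq_left.2 hc
  rw [h2, relIndex_self, one_pow] at h1
  have h3 : A.relIndex (A ⊔ E) ≤ 1 := by
    by_contra h4
    rw [not_le] at h4
    have := Nat.one_lt_pow ha h4
    omega
  have h5 : A.relIndex (A ⊔ E) = 1 := le_antisymm h3 (Nat.one_le_iff_ne_zero.2 (relIndex_ne _ _))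
  exact le_sup_right.trans (relIndex_eq_one.1 h5)

/-- **(4)(iii)**: `|C^y : C^x ∩ C^y|^b < |A_x : D|^a`, `D < A_x` (`A_y` any group). -/
theorem relIndex_lt [Finite H] [Finite M] {a b : ℕ} {A B : Subgroup H} (hA : Strict (fab M a b) A)
    (h : ¬ A ≤ B) : (cv M (A : Set H)).relIndex (cv M (B : Set H)) ^ b < (A ⊓ B).relIndex A ^ a := by
  have h1 := hA (A ⊓ B) (lt_of_le_of_ne inf_le_left fun h2 => h (inf_eq_left.1 h2))
  rw [fab_lt_iff inf_le_left] at h1
  refine lt_of_le_of_lt ?_ h1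
  have h2 : cv M (B : Set H) ≤ cv M ((A ⊓ B : Subgroup H) : Set H) :=
    cv_anti (SetLike.coe_subset_coe.2 inf_le_right)
  exact Nat.pow_le_pow_left (Subgroup.relIndex_le_of_le_right h2 (relIndex_ne _ _)) b

/-- general form: for `W ≤ M` invariant or not: `|W : C_W(A)|^b < |A : C_A(W)|^a` if `[W, A] ≠ 1` -/
theorem relIndex_lt_of_moves [Finite H] [Finite M] {a b : ℕ} {A : Subgroup H} (hA : Strict (fab M a b) A)
    {W : Subgroup M} {B : Subgroup H} (hB : B < A) (hW : W ≤ cv M (B : Set H)) :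
    (cv M (A : Set H)).relIndex W ^ b < B.relIndex A ^ a := by
  have h1 := hA B hB
  rw [fab_lt_iff hB.le] at h1
  exact lt_of_le_of_lt (Nat.pow_le_pow_left (Subgroup.relIndex_le_of_le_right hW (relIndex_ne _ _)) b) h1

/-- **(5)** the ratio form: if `f ≤ |M|^b` on `R` and `f = |M|^b` for some nontrivial `B ≤ R`, then `hi R ≠ ⊥` has the
value `|M|^b`. -/
theorem hi_ne_bot [Finite H] [Finite M] {a b : ℕ} {R : Subgroup H} (h1 : ∀ B ≤ R, fab M a b B ≤ Nat.card M ^ b)
    {B : Subgroup H} (hB : B ≤ R) (hB' : B ≠ ⊥) (hf : Nat.card M ^ b ≤ fab M a b B) :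
    hi (fab M a b) R ≠ ⊥ ∧ fab M a b (hi (fab M a b) R) = Nat.card M ^ b := by
  have h2 : Best (fab M a b) R B := ⟨hB, fun D hD => (h1 D hD).trans hf⟩
  refine ⟨fun h3 => hB' (le_bot_iff.1 (h3 ▸ le_hi h2)), ?_⟩
  rw [((ls_fab M a b).best_hi R).eq h2]
  exact le_antisymm (h1 B hB) hf

/-! ### The minimal parabolics -/

variable (M) in
/-- THE INPUT: no subgroup of `T` is an over-offender (of weight `a/b`) on `⟨C_M(T)^P⟩`. -/
def FFab (a b : ℕ) (T P : Subgroup H) : Prop :=
  ∀ B ≤ T, (fx M T P).relIndex B ^ a ≤ (cv M (B : Set H)).relIndex (mp M T P) ^ b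

theorem ff_core_inf [Finite H] {T P B : Subgroup H} (hT : IsPGroup 2 T) (hTs : ¬ 2 ∣ T.relIndex P)
    (hP : IsMinPar T P) (hm : Moves M T P) (hB : B ≤ T) : fx M T P ⊓ B = B ⊓ core T P := by
  apply le_antisymm
  · exact le_inf inf_le_right fun x hx => fx_inf_le (M := M) hT hTs hP hm ⟨hx.1, hB hx.2⟩
  · exact le_inf (inf_le_right.trans (core_le_fx T P)) inf_le_left

/-- `f(B) ≤ f(B ∩ O₂(P))` for all `B ≤ T` -/
theorem fab_le_core [Finite H] [Finite M] {a b : ℕ} {T P B : Subgroup H} (hT : IsPGroup 2 T)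
    (hTs : ¬ 2 ∣ T.relIndex P) (hP : IsMinPar T P) (hm : Moves M T P) (hff : FFab M a b T P) (hB : B ≤ T) :
    fab M a b B ≤ fab M a b (B ⊓ core T P) := by
  rw [fab_le_iff inf_le_left]
  have h3 := hff B hB
  have h4 : (fx M T P).relIndex B = (B ⊓ core T P).relIndex B := by
    rw [← ff_core_inf (M := M) hT hTs hP hm hB, Subgroup.inf_relIndex_right]
  rw [h4] at h3
  refine h3.trans (Nat.pow_le_pow_left (Subgroup.relIndex_le_of_le_right ?_ (relIndex_ne _ _)) b)
  intro m hm' x hx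
  exact core_le_fx (M := M) T P hx.2 m hm'

/-- strict subgroups of `T` are in `O₂(P)` -/
theorem Strict.le_core [Finite H] [Finite M] {a b : ℕ} {T P X : Subgroup H} (hX : Strict (fab M a b) X)
    (hT : IsPGroup 2 T) (hTs : ¬ 2 ∣ T.relIndex P) (hP : IsMinPar T P) (hm : Moves M T P)
    (hff : FFab M a b T P) (hXT : X ≤ T) : X ≤ core T P := by
  have h1 := fab_le_core hT hTs hP hm hff hXT
  by_contra hc
  exact absurd (hX _ (lt_of_le_of_ne inf_le_left fun h2 => hc (inf_eq_left.1 h2))) (not_lt.2 h1)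

/-- the elementary abelian version: only `FFIn` of `NoOver.lean` is needed -/
theorem Strict.le_core_of_elem [Finite H] [Finite M] {T P X : Subgroup H} (hX : Strict (fab M 1 1) X)
    (he : ∀ x ∈ X, x * x = 1) (hT : IsPGroup 2 T) (hTs : ¬ 2 ∣ T.relIndex P) (hP : IsMinPar T P)
    (hm : Moves M T P) (hff : FFIn M T P) (hXT : X ≤ T) : X ≤ core T P := by
  by_contra hc
  have h1 := hX (X ⊓ core T P) (lt_of_le_of_ne inf_le_left fun h2 => hc (inf_eq_left.1 h2))
  rw [fab_lt_iff inf_le_left, pow_one, pow_one] at h1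
  have h3 := hff X hXT he
  have h4 : (fx M T P).relIndex X = (X ⊓ core T P).relIndex X := by
    rw [← ff_core_inf (M := M) hT hTs hP hm hXT, Subgroup.inf_relIndex_right]
  rw [h4] at h3
  have h5 : (cv M (X : Set H)).relIndex (mp M T P) ≤
      (cv M (X : Set H)).relIndex (cv M ((X ⊓ core T P : Subgroup H) : Set H)) :=
    Subgroup.relIndex_le_of_le_right (fun m hm' x hx => core_le_fx (M := M) T P hx.2 m hm') (relIndex_ne _ _)
  omega

/-- `D(T) ≤ O₂(P)` with the elementary abelian input -/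
theorem dd_le_core [Finite H] [Finite M] {T P : Subgroup H} (hT : IsPGroup 2 T) (hTs : ¬ 2 ∣ T.relIndex P)
    (hP : IsMinPar T P) (hm : Moves M T P) (hff : FFIn M T P) : dd (fab M 1 1) T ≤ core T P :=
  sSup_le fun _ hX => hX.2.1.le_core_of_elem hX.2.2 hT hTs hP hm hff hX.1

/-- `D(T) = D(O₂(P))` -/
theorem dd_core_eq [Finite H] [Finite M] {T P : Subgroup H} (hT : IsPGroup 2 T) (hTs : ¬ 2 ∣ T.relIndex P)
    (hP : IsMinPar T P) (hm : Moves M T P) (hff : FFIn M T P) :
    dd (fab M 1 1) (core T P) = dd (fab M 1 1) T := by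
  refine le_antisymm (dd_mono (core_le T P)) (sSup_le fun X hX => ?_)
  exact le_dd (hX.2.1.le_core_of_elem hX.2.2 hT hTs hP hm hff hX.1) hX.2.1 hX.2.2

/-- **(3)** `A(T) ≤ O₂(P)` -/
theorem lo_le_core [Finite H] [Finite M] {a b : ℕ} {T P : Subgroup H} (hT : IsPGroup 2 T)
    (hTs : ¬ 2 ∣ T.relIndex P) (hP : IsMinPar T P) (hm : Moves M T P) (hff : FFab M a b T P) :
    lo (fab M a b) T ≤ core T P :=
  ((ls_fab M a b).strict_lo T).le_core hT hTs hP hm hff ((ls_fab M a b).lo_le_self T)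

/-- **(3)** `A(T) = A(O₂(P))` -/
theorem lo_core_eq [Finite H] [Finite M] {a b : ℕ} {T P : Subgroup H} (hT : IsPGroup 2 T)
    (hTs : ¬ 2 ∣ T.relIndex P) (hP : IsMinPar T P) (hm : Moves M T P) (hff : FFab M a b T P) :
    lo (fab M a b) (core T P) = lo (fab M a b) T :=
  lo_eq_of_le (ls_fab M a b) (core_le T P) (lo_le_core hT hTs hP hm hff)

theorem le_normalizer_core {T P : Subgroup H} : P ≤ normalizer (core T P : Set H) := by
  intro g hg
  rw [mem_normalizer_iff]
  intro x
  refine ⟨fun hx => conj_mem_core hx hg, fun hx => ?_⟩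
  have h1 := conj_mem_core hx (P.inv_mem hg)
  have h2 : g⁻¹ * (g * x * g⁻¹) * g⁻¹⁻¹ = x := by group
  rwa [h2] at h1

/-- `P` normalises `A(T)` -/
theorem le_normalizer_lo [Finite H] [Finite M] {a b : ℕ} {T P : Subgroup H} (hT : IsPGroup 2 T)
    (hTs : ¬ 2 ∣ T.relIndex P) (hP : IsMinPar T P) (hm : Moves M T P) (hff : FFab M a b T P) :
    P ≤ normalizer (lo (fab M a b) T : Set H) := by
  rw [← lo_core_eq hT hTs hP hm hff]
  exact le_normalizer_core.trans ((ls_fab M a b).normalizer_le_lo _)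

/-- `X_T N_H(T)` normalises `A(T)` -/
theorem xt_le_normalizer_lo [Finite H] [Finite M] {a b : ℕ} {T : Subgroup H} (hT : Syl T)
    (hff : ∀ P, IsMinPar T P → Moves M T P → FFab M a b T P) :
    xt M T ⊔ normalizer (T : Set H) ≤ normalizer (lo (fab M a b) T : Set H) :=
  sup_le (iSup₂_le fun P hP => le_normalizer_lo hT.1 (hT.relIndex hP.1.le) hP.1 hP.2 (hff P hP.1 hP.2))
    ((ls_fab M a b).normalizer_le_lo T)

/-- the same for `D(T)` -/
theorem xt_le_normalizer_dd [Finite H] [Finite M] {T : Subgroup H} (hT : Syl T)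
    (hff : ∀ P, IsMinPar T P → Moves M T P → FFIn M T P) :
    xt M T ⊔ normalizer (T : Set H) ≤ normalizer (dd (fab M 1 1) T : Set H) := by
  refine sup_le (iSup₂_le fun P hP => ?_) (normalizer_le_dd (ls_fab M 1 1) T)
  have h1 := dd_core_eq hT.1 (hT.relIndex hP.1.le) hP.1 hP.2 (hff P hP.1 hP.2)
  rw [← h1]
  exact le_normalizer_core.trans (normalizer_le_dd (ls_fab M 1 1) _)

end Cfsg.Agent.Omega.ML.CD
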