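import Cfsg.Agent.Omega.ML.Base
import Cfsg.Agent.Omega.ML.Dual
import Cfsg.Agent.Omega.ML.MinOut

/-!
# (ML), lines of order 4: the commuting case is dead (OMEGA; #16823 of helper47, referee #17084); K-free

* `MM z B` : `B` is minimal among the elementary abelian subgroups of `O₂(C_H(z))` with the maximal value of
  `f(B) = |B| |C_M(B)|`;
* `axial_le` : `[W, X] ≤ ⟨z⟩` implies `|X : C_X(W)| ≤ |W : C_W(X)|`;
* `exists_mem_of_line` : (1) `z = [w, a]` for some `w ∈ ⟨x^{C_H(z)}⟩`, `a ∈ A`;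
* `no_comm` : **if `A ∈ MM_x`, `A ≰ O₂(C_H(z))`, `z`, `x` on a line of order 4, then `A` does not centralise all members of
  `MM_z`**;
* `exists_noncomm` : such a pair exists in a minimal counterexample.
-/

set_option autoImplicit false

namespace Cfsg.Agent.Omega.ML.Comm

open Subgroup Cfsg.Agent.ClassTwoFusion.Quad Cfsg.Agent.Omega.NOThree.NoOver Cfsg.Agent.Omega.ML.CD
  Cfsg.Agent.Omega.ML.Ratio Cfsg.Agent.Omega.ML.RatioLine Cfsg.Agent.Omega.ML.Sec Cfsg.Agent.ZN
  Cfsg.Agent.MinSimple.MinParabolic Cfsg.Agent.Omega.ML.Base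
open Cfsg.Agent.Omega.ML.MinFrame (fxr mem_fxr orb Ind MLS Fr)

universe u v

section card

variable {H : Type*} [Group H] {M : Type*} [Group M] [MulDistribMulAction H M]

/-- **Axial groups**: `[W, X] ≤ ⟨z⟩`, `z` of order 2, implies `|X : C_X(W)| ≤ |W : C_W(X)|`. -/
theorem axial_le [Finite H] [Finite M] (hcomm : ∀ v w : M, v * w = w * v) {X : Subgroup H} {W : Subgroup M} {z : M}
    (hz : z ≠ 1) (hzz : z * z = 1) (h : ∀ x ∈ X, ∀ w ∈ W, (x • w) * w⁻¹ = 1 ∨ (x • w) * w⁻¹ = z) :
    (fxr H W).relIndex X ≤ (cv M (X : Set H)).relIndex W := by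
  classical
  let χ₀ : X → (W →* ℤˣ) := fun x =>
    { toFun := fun w => if ((x : H) • (w : M)) * (w : M)⁻¹ = 1 then 1 else -1
      map_one' := by
        simp only [Subgroup.coe_one, smul_one, inv_one, mul_one, if_true]
      map_mul' := fun w w' => by
        have e : (x : H) • ((w * w' : W) : M) * ((w * w' : W) : M)⁻¹ =
            ((x : H) • (w : M) * (w : M)⁻¹) * ((x : H) • (w' : M) * (w' : M)⁻¹) := by
          rw [Subgroup.coe_mul, smul_mul', mul_inv_rev, mul_assoc, mul_assoc, hcomm (w' : M)⁻¹ (w : M)⁻¹,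
            ← mul_assoc ((x : H) • (w' : M)), hcomm ((x : H) • (w' : M)) (w : M)⁻¹, mul_assoc (w : M)⁻¹]
        rw [e]
        rcases h x x.2 w w.2 with h1 | h1 <;> rcases h x x.2 w' w'.2 with h2 | h2 <;>
          simp [h1, h2, hz, hzz] }
  have hχ : ∀ x (w : W), χ₀ x w = if ((x : H) • (w : M)) * (w : M)⁻¹ = 1 then 1 else -1 := fun _ _ => rfl
  have key : ∀ x y : X, x⁻¹ * y ∈ (fxr H W).subgroupOf X ↔ χ₀ x = χ₀ y := by
    intro x y
    rw [mem_subgroupOf]
    constructor
    · intro h1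
      ext w
      have h2 : (y : H) • (w : M) = (x : H) • (w : M) := by
        have h3 : ((x : H)⁻¹ * (y : H)) • (w : M) = w := h1 w w.2
        rw [mul_smul, inv_smul_eq_iff] at h3
        exact h3
      rw [hχ, hχ, h2]
    · intro h1 w hw
      change ((x : H)⁻¹ * (y : H)) • w = w
      rw [mul_smul, inv_smul_eq_iff]
      have h2 := DFunLike.congr_fun h1 ⟨w, hw⟩
      rw [hχ, hχ] at h2
      have h3 : (x : H) • w * w⁻¹ = (y : H) • w * w⁻¹ := by
        rcases h x x.2 w hw with h4 | h4 <;> rcases h y y.2 w hw with h5 | h5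
        · rw [h4, h5]
        · simp only [h4, h5, hz, if_true, if_false] at h2
          exact absurd h2 (by decide)
        · simp only [h4, h5, hz, if_true, if_false] at h2
          exact absurd h2 (by decide)
        · rw [h4, h5]
      exact (mul_right_cancel h3).symm
  let χ : X ⧸ (fxr H W).subgroupOf X → (W →* ℤˣ) := fun q => Quotient.liftOn' q χ₀ (by
    intro a b hab
    rw [QuotientGroup.leftRel_apply] at hab
    exact (key a b).1 hab)
  have hinj : Function.Injective χ := by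
    intro p q
    refine Quotient.inductionOn₂' p q fun a b hab => ?_
    exact Quotient.sound' (by
      rw [QuotientGroup.leftRel_apply]
      exact (key a b).2 hab)
  exact Dual.card_le_index ((cv M (X : Set H)).subgroupOf W) χ hinj (by
    intro q
    refine Quotient.inductionOn' q fun x => ?_
    intro c hc
    change (if ((x : H) • (c : M)) * (c : M)⁻¹ = 1 then (1 : ℤˣ) else -1) = 1
    have h1 : (x : H) • (c : M) = c := (mem_subgroupOf.1 hc) x x.2
    rw [h1, mul_inv_cancel, if_pos rfl])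

/-- `T ∩ F` is a Sylow subgroup of the normal subgroup `F` -/
theorem relIndex_dvd [Finite H] {T F C : Subgroup H} (hTC : T ≤ C) (hFC : F ≤ C) (hn : C ≤ normalizer (F : Set H)) :
    T.relIndex F ∣ T.relIndex C := by
  have h1 := card_sup_mul T F (hTC.trans hn)
  have h2 : Nat.card (T ⊔ F : Subgroup H) = T.relIndex (T ⊔ F) * Nat.card T := card_eq_relIndex_mul le_sup_left
  have h3 : Nat.card F = (T ⊓ F).relIndex F * Nat.card (T ⊓ F : Subgroup H) := card_eq_relIndex_mul inf_le_right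
  rw [inf_relIndex_right] at h3
  rw [h2, h3] at h1
  have h4 : T.relIndex (T ⊔ F) * (Nat.card T * Nat.card (T ⊓ F : Subgroup H)) =
      T.relIndex F * (Nat.card T * Nat.card (T ⊓ F : Subgroup H)) := by
    calc _ = T.relIndex (T ⊔ F) * Nat.card T * Nat.card (T ⊓ F : Subgroup H) := by ring
      _ = _ := h1
      _ = _ := by ring
  have h5 : T.relIndex (T ⊔ F) = T.relIndex F :=
    Nat.eq_of_mul_eq_mul_right (Nat.mul_pos Nat.card_pos Nat.card_pos) h4
  rw [← h5]
  exact Dvd.intro _ (relIndex_mul_relIndex T (T ⊔ F) C le_sup_left (sup_le hTC hFC))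

end card

/-! ### (ML) for the proper subgroups, from the frame -/

theorem on_of_ind {K : Frame.Cls.{u}} {p : Prop} {n m : ℕ} (h : Ind.{u, v} K p n m) (hp : ¬ p) {X : Type u} [Group X]
    [Finite X] (KX : K X) (hX : Nat.card X < n) : MLOn.{u, v} True X := by
  intro V _ _ _ hc hs T w hT hw hg B hB hE
  have h1 := h X V KX hs (Or.inl hX)
  have horb : orb (⊤ : Subgroup X) w = ⊤ := by
    rw [eq_top_iff, ← hg, closure_le]
    rintro _ ⟨x, rfl⟩
    exact MinFrame.smul_mem_orb_self (mem_top x)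
  have h2 := h1 T (qq w) B w (mem_top w) hT.1 le_top (by rw [relIndex_top_right]; exact hT.2) (fun t ht => hw t ht)
    (isPGroup_o2 _) le_top (fun q hq => o2_le _ hq)
    (fun g _ hg' q hq => (mem_normalizer_iff.1 (le_normalizer_o2 (st w) hg') q).1 hq) hB (hE trivial)
    (fun h => absurd h hp)
  rw [horb, relIndex_top_right] at h2
  have h3 : fxr X (⊤ : Subgroup V) = kr (⊥ : Subgroup V) := by
    ext x
    constructor
    · intro hx m
      rw [mem_bot, hx m (mem_top m), mul_inv_cancel]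
    · intro hx m _
      exact mul_inv_eq_one.1 (mem_bot.1 (hx m))
  rwa [h3] at h2

/-! ### The best elementary abelian subgroups -/

section mm

variable {H : Type u} {M : Type v} [Group H] [Group M] [MulDistribMulAction H M]

/-- `B` is minimal among the elementary abelian subgroups of `O₂(C_H(z))` with the maximal value of `|B| |C_M(B)|` -/
structure MM (z : M) (B : Subgroup H) : Prop where
  le : B ≤ qq z
  sq : ∀ b ∈ B, b * b = 1
  max : ∀ D ≤ qq (H := H) z, (∀ d ∈ D, d * d = 1) → fab M 1 1 D ≤ fab M 1 1 B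
  str : Strict (fab M 1 1) B

theorem sq_cj {B : Subgroup H} (h : ∀ b ∈ B, b * b = 1) (g : H) : ∀ b ∈ cj g B, b * b = 1 := by
  rintro _ ⟨b, hb, rfl⟩
  have h1 := h b hb
  rw [← map_mul, h1, map_one]

variable [Finite H] [Finite M]

theorem MM.conj {z : M} {B : Subgroup H} (h : MM z B) (g : H) : MM (g • z) (cj g B) where
  le := by
    rw [qq_smul]
    exact cj_mono h.le
  sq := sq_cj h.sq g
  max := by
    intro D hD hD2
    have hf := ls_fab (H := H) M 1 1
    have h1 := h.max (cj g⁻¹ D) (by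
      rw [qq_smul] at hD
      rwa [cj_le_iff, inv_inv]) (sq_cj hD2 g⁻¹)
    rwa [hf.conj, ← hf.conj g B] at h1
  str := h.str.cj (ls_fab M 1 1) g

/-- a member of `MM_x` inside `O₂(C_H(z))` is in `MM_z` -/
theorem MM.of_le {z : M} {g : H} {A : Subgroup H} (h : MM (g • z) A) (hA : A ≤ qq z) : MM z A where
  le := hA
  sq := h.sq
  max := by
    intro D hD hD2
    have hf := ls_fab (H := H) M 1 1
    have h1 := h.max (cj g D) (by
      rw [qq_smul]
      exact cj_mono hD) (sq_cj hD2 g)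
    rwa [hf.conj] at h1
  str := h.str

omit [Finite M] in
theorem exists_MM (z : M) : ∃ B : Subgroup H, MM z B := by
  obtain ⟨A, ⟨hA1, hA2⟩, hmax⟩ := Set.exists_max_image {A : Subgroup H | A ≤ qq z ∧ ∀ a ∈ A, a * a = 1}
    (fun A => fab M 1 1 A) (Set.toFinite _) ⟨⊥, bot_le, fun a ha => by rw [mem_bot.1 ha, one_mul]⟩
  obtain ⟨B, ⟨⟨hB1, hB2⟩, hB3⟩, hmin⟩ := Set.exists_min_image
    {B : Subgroup H | (B ≤ qq z ∧ ∀ a ∈ B, a * a = 1) ∧ fab M 1 1 A ≤ fab M 1 1 B}
    (fun A => Nat.card A) (Set.toFinite _) ⟨A, ⟨hA1, hA2⟩, le_rfl⟩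
  refine ⟨B, hB1, hB2, fun D hD hD2 => (hmax D ⟨hD, hD2⟩).trans hB3, fun D hD => ?_⟩
  by_contra hc
  rw [not_lt] at hc
  have h1 := hmin D ⟨⟨hD.le.trans hB1, fun d hd => hB2 d (hD.le hd)⟩, hB3.trans hc⟩
  exact hD.ne (eq_of_le_of_card_ge hD.le h1)

omit [Finite H] [Finite M] in
theorem ker_smul (g : H) (z x : M) : ker (H := H) (g • z) (g • x) = cj g (ker z x) := by
  have key : ∀ (g : H) (z x : M), cj g (ker (H := H) z x) ≤ ker (g • z) (g • x) := by
    rintro g z x _ ⟨k, hk, rfl⟩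
    change g * k * g⁻¹ ∈ ker (g • z) (g • x)
    refine ⟨?_, fun c hc => ?_⟩
    · rw [mem_st, mul_smul, mul_smul, inv_smul_smul, mem_st.1 hk.1]
    · have h1 : g⁻¹ * c * g ∈ st (H := H) z := by
        rw [mem_st, mul_smul, mul_smul, mem_st.1 hc, inv_smul_smul]
      have h2 := hk.2 _ h1
      have h3 : c • g • x = g • (g⁻¹ * c * g) • x := by
        rw [← mul_smul, ← mul_smul]
        congr 1
        group
      rw [h3, mul_smul, inv_smul_smul, mul_smul, h2]
  refine le_antisymm ?_ (key g z x)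
  have h1 := key g⁻¹ (g • z) (g • x)
  rwa [inv_smul_smul, inv_smul_smul, cj_le_iff, inv_inv] at h1

end mm

/-! ### The sections `⟨x^F⟩ ⟨z⟩ / ⟨z⟩` -/

section line

variable {H : Type u} {M : Type v} [Group H] [Group M] [MulDistribMulAction H M] [Finite H] [Finite M]
  {T P : Subgroup H} {z x : M}

omit [Finite H] [Finite M] in
theorem mem_zpowers_of (hsq : ∀ v : M, v * v = 1) {w : M} (hw : w ∈ zpowers z) : w = 1 ∨ w = z := by
  obtain ⟨k, rfl⟩ := hw
  rcases Int.even_or_odd' k with ⟨m, rfl | rfl⟩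
  · left
    change z ^ (2 * m) = 1
    rw [zpow_mul, zpow_two, hsq, one_zpow]
  · right
    change z ^ (2 * m + 1) = z
    rw [zpow_add, zpow_mul, zpow_two, hsq, one_zpow, one_mul, zpow_one]

omit [Finite H] [Finite M] in
theorem smul_zpowers {F : Subgroup H} (hF : F ≤ st z) : ∀ c ∈ F, ∀ u ∈ zpowers z, c • u ∈ zpowers z := by
  rintro c hc _ ⟨k, rfl⟩
  rw [smul_zpow', mem_st.1 (hF hc)]
  exact ⟨k, rfl⟩

omit [Finite H] [Finite M] in
theorem smul_oz {F : Subgroup H} (hF : F ≤ st z) :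
    ∀ c ∈ F, ∀ u ∈ orb F x ⊔ zpowers z, c • u ∈ orb F x ⊔ zpowers z := by
  intro c hc u hu
  have h1 : orb F x ⊔ zpowers z ≤ (orb F x ⊔ zpowers z).comap (MulDistribMulAction.toMonoidHom M c) := by
    refine sup_le (fun w hw => mem_comap.2 ?_) (fun w hw => mem_comap.2 ?_)
    · exact (le_sup_left : orb F x ≤ _) (MinFrame.smul_mem_orb hc hw)
    · exact (le_sup_right : zpowers z ≤ _) (smul_zpowers hF c hc w hw)
  exact h1 hu

/-- **(ML) for `⟨x^F⟩ ⟨z⟩ / ⟨z⟩`**, `F` normal in `C_H(z)` -/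
theorem sec_line (h : Sit H M T z) (hP : IsMinPar T P) (F4 : Four T P z x) (hx : x ∈ vp P z)
    {F : Subgroup H} (hF : F ≤ st z) (hn : st z ≤ normalizer (F : Set H)) (ih : MLOn.{u, v} True F)
    {A : Subgroup H} (hAF : A ≤ F) (hA2 : ∀ a ∈ A, a * a = 1) (hAx : A ≤ qq x) :
    (ks F (orb F x ⊔ zpowers z) (zpowers z) (smul_oz hF)).relIndex A ≤
      (cv M (A : Set H)).relIndex (orb F x ⊔ zpowers z) := by
  have hTF : ∀ t ∈ T, x⁻¹ * (t • x) ∈ zpowers z := by
    intro t ht
    rcases F4.mem _ (smul_mem_vp (hP.le ht) hx) with h2 | h2 | h2 | h2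
    · exact absurd (by rwa [smul_eq_iff_eq_inv_smul, smul_one] at h2) F4.x1
    · have h3 : t • x = t • z := h2.trans (h.fixed t ht).symm
      exact absurd (smul_left_cancel t h3) F4.ne
    · rw [h2, inv_mul_cancel]
      exact one_mem _
    · rw [h2, h.comm z x, inv_mul_cancel_left]
      exact mem_zpowers z
  have hBo : A ≤ o2 (ss F (zpowers z) (smul_zpowers hF) x) := by
    have h1 : A ≤ o2 (F ⊓ st x) := by
      refine le_trans (le_inf hAx (le_inf hAF (hAx.trans (o2_le _)))) ?_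
      exact o2_inf_le_o2 inf_le_right
    refine h1.trans (o2_le_o2_of_normal (fun c hc => ⟨hc.1, ?_⟩) ?_)
    · rw [mem_st.1 hc.2, inv_mul_cancel]
      exact one_mem _
    · have key : ∀ d ∈ ss F (zpowers z) (smul_zpowers hF) x, ∀ c ∈ F ⊓ st x, d * c * d⁻¹ ∈ F ⊓ st x := by
        intro d hd c hc
        refine mem_inf.2 ⟨F.mul_mem (F.mul_mem hd.1 hc.1) (F.inv_mem hd.1), ?_⟩
        have h1 := (inv_mem hd).2
        have h2 : c • (x⁻¹ * d⁻¹ • x) = x⁻¹ * d⁻¹ • x := by
          rcases mem_zpowers_of h.sq h1 with h3 | h3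
          · rw [h3, smul_one]
          · rw [h3]
            exact hF hc.1
        rw [smul_mul', smul_inv', mem_st.1 hc.2, mul_left_cancel_iff] at h2
        rw [mem_st, mul_smul, mul_smul, h2, smul_inv_smul]
      exact MinFrame.le_normalizer_of key
  have hTi : ¬ 2 ∣ (T ⊓ F).relIndex F := by
    rw [inf_relIndex_right]
    exact fun h1 => h.syl.relIndex h.le_st (h1.trans (relIndex_dvd h.le_st hF hn))
  exact sec_on h.comm h.sq ih le_sup_right (smul_oz hF) (smul_zpowers hF) (h.syl.1.to_le inf_le_left) hTi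
    ((le_sup_left : orb F x ≤ _) (MinFrame.mem_orb_self F x)) le_rfl (fun t ht => hTF t ht.1) hBo (fun _ => hA2)
    (fun u _ hu b hb => by
      rw [hu b hb, inv_mul_cancel]
      exact one_mem _)

/-- **(1)** -/
theorem exists_mem_of_line (h : Sit H M T z) (hP : IsMinPar T P) (F4 : Four T P z x) (hx : x ∈ vp P z)
    (ih : MLOn.{u, v} True (st (H := H) z)) {A : Subgroup H} (hAC : A ≤ st z) (hA2 : ∀ a ∈ A, a * a = 1)
    (hA : Strict (fab M 1 1) A) (hAx : A ≤ qq x) (hAz : ¬ A ≤ qq z) :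
    ∃ w ∈ orb (st (H := H) z) x, ∃ a ∈ A, (a • w) * w⁻¹ = z := by
  by_contra hcon
  push Not at hcon
  have h1 := sec_line h hP F4 hx le_rfl le_normalizer ih hAC hA2 hAx
  set U : Subgroup M := orb (st (H := H) z) x ⊔ zpowers z with hU
  have h2 : ks (st z) U (zpowers z) (smul_oz le_rfl) ⊓ A ≤ ker z x := by
    rintro k ⟨hk, hkA⟩
    refine ⟨hk.1, fun c hc => ?_⟩
    have h3 := hk.2 (c • x) ((le_sup_left : orb (st (H := H) z) x ≤ _) (MinFrame.smul_mem_orb_self hc))
    rcases mem_zpowers_of h.sq h3 with h4 | h4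
    · exact mul_inv_eq_one.1 h4
    · exact absurd h4 (hcon _ (MinFrame.smul_mem_orb_self hc) k hkA)
  have h3 : (A ⊓ ker z x).relIndex A ≤ (cv M (A : Set H)).relIndex (cv M ((A ⊓ ker z x : Subgroup H) : Set H)) := by
    have e1 : (A ⊓ ker z x).relIndex A ≤ (ks (st z) U (zpowers z) (smul_oz le_rfl) ⊓ A).relIndex A :=
      relIndex_le_of_le_left (le_inf inf_le_right h2) (relIndex_ne _ _)
    rw [Subgroup.inf_relIndex_right] at e1
    refine e1.trans (h1.trans (relIndex_le_of_le_right ?_ (relIndex_ne _ _)))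
    refine sup_le (MinFrame.orb_le fun c hc y hy => hy.2.2 c hc) ?_
    rw [zpowers_le]
    exact fun y hy => hy.2.1
  exact hAz (le_qq hAx ((rigid_of_strict hA _ inf_le_left h3).trans inf_le_right))

omit [Finite H] in
theorem relIndex_orb_sup (hcomm : ∀ v w : M, v * w = w * v) {F A : Subgroup H} (hz : ∀ a ∈ A, a • z = z) :
    (cv M (A : Set H)).relIndex (orb F x ⊔ zpowers z) ≤ (cv M (A : Set H)).relIndex (orb F x) := by
  have hn : (cv M (A : Set H)).Normal := ⟨fun n hn g => by rw [hcomm g n, mul_inv_cancel_right]; exact hn⟩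
  have h1 : (cv M (A : Set H)).relIndex (orb F x ⊔ cv M (A : Set H)) = (cv M (A : Set H)).relIndex (orb F x) :=
    relIndex_sup_right _ _
  rw [← h1]
  refine relIndex_le_of_le_right (sup_le_sup_left ?_ _) (relIndex_ne _ _)
  rw [zpowers_le]
  exact hz

/-- **THE COMMUTING CASE** -/
theorem no_comm (h : Sit H M T z) (ih : ∀ C : Subgroup H, C ≠ ⊤ → MLOn.{u, v} True C) (hP : IsMinPar T P) {p : H}
    (hp : p ∈ P) (hpz : p • z ≠ z) (hV : Nat.card (vp P z) = 4) {A : Subgroup H} (hA : MM (p • z) A)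
    (hAz : ¬ A ≤ qq z) (hcom : ∀ B : Subgroup H, MM z B → ∀ a ∈ A, ∀ b ∈ B, a * b = b * a) : False := by
  have hf := ls_fab (H := H) M 1 1
  have F4 := exists_four h.sq h.syl h.fixed hP hp hpz hV
  have hxV : p • z ∈ vp P z := mem_vp hp
  set x : M := p • z with hx
  set C : Subgroup H := st z with hC
  have hCtop : C ≠ ⊤ := fun h1 => hpz (by
    have h2 : p ∈ C := by rw [h1]; exact mem_top _
    exact h2)
  obtain ⟨g, -, hgz, hgx⟩ := F4.swap
  -- members of `MM_z` centralise `⟨x^C⟩`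
  have hker : ∀ B : Subgroup H, MM z B → B ≤ ker z x := by
    intro B hB b hb
    have hBC : B ≤ C := hB.le.trans (o2_le _)
    refine ⟨hBC hb, fun c hc => ?_⟩
    have h1 := h.fix_of_rigid hP hxV F4 (rigid_of_strict (hB.conj c⁻¹).str) (by
      have h2 := (hB.conj c⁻¹).le
      rwa [mem_st.1 (inv_mem hc)] at h2)
    have h2 : c⁻¹ * b * c ∈ cj c⁻¹ B := mem_cj.2 (by
      have : c⁻¹⁻¹ * (c⁻¹ * b * c) * c⁻¹ = b := by group
      rw [this]
      exact hb)
    have h3 := mem_st.1 (h1 h2)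
    rw [mul_smul, mul_smul, inv_smul_eq_iff] at h3
    exact h3
  -- `A' = A^g`
  have hA' : MM z (cj g A) := by
    have := hA.conj g
    rwa [hgx] at this
  set A' : Subgroup H := cj g A with hA'def
  have hAker : A ≤ ker x z := by
    have h1 := hker _ hA'
    rw [hA'def, cj_le_iff, ← ker_smul] at h1
    have e1 : g⁻¹ • z = x := by rw [inv_smul_eq_iff]; exact hgx.symm
    have e2 : g⁻¹ • x = z := by rw [inv_smul_eq_iff]; exact hgz.symm
    rwa [e1, e2] at h1
  have hAC : A ≤ C := hAker.trans (ker_le' x z)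
  have hAx := hA.le
  -- (1)
  obtain ⟨w, hw, a, ha, hwa⟩ := exists_mem_of_line h hP F4 hxV (ih C hCtop) hAC hA.sq hA.str hAx hAz
  set b : H := g * a * g⁻¹ with hb
  have hbA' : b ∈ A' := ⟨a, ha, rfl⟩
  set u : M := g • w with hu
  have hux : (b • u) * u⁻¹ = x := by
    rw [← hgz, ← hwa, smul_mul', smul_inv', hb, hu, ← mul_smul, inv_mul_cancel_right, mul_smul]
  -- `u` is fixed by `A`
  have huA : ∀ y ∈ A, y • u = u := by
    have h1 : orb (st (H := H) z) x ≤ (cv M (A : Set H)).comap (MulDistribMulAction.toMonoidHom M g) := by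
      refine MinFrame.orb_le fun c hc => ?_
      change g • c • x ∈ cv M (A : Set H)
      intro y hy
      have h2 : g • c • x = (g * c * g⁻¹) • z := by
        rw [mul_smul, mul_smul]
        congr 2
        rw [← hgx, inv_smul_smul]
      rw [h2]
      refine (hAker hy).2 _ ?_
      rw [mem_st, ← hgz, mul_smul, mul_smul, inv_smul_smul, mem_st.1 hc]
    exact fun y hy => h1 hw y hy
  clear_value b u
  -- `F = ⟨A^C⟩`
  set F : Subgroup H := closure {y | ∃ c ∈ C, ∃ a ∈ A, y = c * a * c⁻¹} with hFdef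
  have hAF : A ≤ F := fun y hy => subset_closure ⟨1, C.one_mem, y, hy, by group⟩
  have hFC : F ≤ C := by
    rw [hFdef, closure_le]
    rintro _ ⟨c, hc, y, hy, rfl⟩
    exact C.mul_mem (C.mul_mem hc (hAC hy)) (C.inv_mem hc)
  have hCF : C ≤ normalizer (F : Set H) := by
    refine MinFrame.le_normalizer_of fun c hc y hy => ?_
    have h1 : F ≤ F.comap (MulAut.conj c).toMonoidHom := by
      nth_rewrite 1 [hFdef]
      rw [closure_le]
      rintro _ ⟨d, hd, y, hy, rfl⟩
      refine subset_closure ⟨c * d, C.mul_mem hc hd, y, hy, ?_⟩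
      change c * (d * y * d⁻¹) * c⁻¹ = _
      group
    exact h1 hy
  have hFB : ∀ B : Subgroup H, MM z B → ∀ f ∈ F, ∀ b ∈ B, f * b = b * f := by
    intro B hB f hf b hb
    have h1 : F ≤ centralizer ({b} : Set H) := by
      rw [hFdef, closure_le]
      rintro _ ⟨c, hc, y, hy, rfl⟩
      change c * y * c⁻¹ ∈ centralizer ({b} : Set H)
      rw [mem_centralizer_singleton_iff]
      have h2 := hB.conj c⁻¹
      rw [mem_st.1 (C.inv_mem hc)] at h2
      have h3 := hcom _ h2 y hy (c⁻¹ * b * c) (mem_cj.2 (by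
        have : c⁻¹⁻¹ * (c⁻¹ * b * c) * c⁻¹ = b := by group
        rw [this]
        exact hb))
      calc c * y * c⁻¹ * b = c * (y * (c⁻¹ * b * c)) * c⁻¹ := by group
        _ = c * (c⁻¹ * b * c * y) * c⁻¹ := by rw [h3]
        _ = b * (c * y * c⁻¹) := by group
    exact mem_centralizer_singleton_iff.1 (h1 hf)
  have hFA' := hFB A' hA'
  have hFtop : F ≠ ⊤ := fun h1 => hCtop (top_le_iff.1 (h1 ▸ hFC))
  -- (2)
  set U₁ : Subgroup M := orb F x ⊔ zpowers z with hU₁
  have hU₁C : U₁ ≤ cv M (A' : Set H) := by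
    refine sup_le (MinFrame.orb_le fun f hf y hy => (hker A' hA' hy).2 f (hFC hf)) ?_
    rw [zpowers_le]
    exact fun y hy => hA'.le.trans (o2_le _) hy
  have hzA : ∀ y ∈ A, y • z = z := fun y hy => hAC hy
  set n : ℕ := (cv M (A : Set H)).relIndex U₁ with hn
  set K : Subgroup H := A ⊓ fxr H U₁ with hK
  have hKA : K ≤ A := inf_le_left
  have h2 : K.relIndex A ≤ n * n := by
    have h1 := sec_line h hP F4 hxV hFC hCF (ih F hFtop) hAF hA.sq hAx
    set K₁ : Subgroup H := ks F U₁ (zpowers z) (smul_oz hFC) ⊓ A with hK₁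
    have h3 : (fxr H U₁).relIndex K₁ ≤ (cv M (K₁ : Set H)).relIndex U₁ := by
      refine axial_le h.comm F4.z1 (h.sq z) fun y hy v hv => ?_
      exact mem_zpowers_of h.sq (hy.1.2 v hv)
    have h4 : (cv M (K₁ : Set H)).relIndex U₁ ≤ n :=
      relIndex_le_of_le_left (cv_anti (SetLike.coe_subset_coe.2 inf_le_right)) (relIndex_ne _ _)
    have h5 : K.relIndex K₁ ≤ n := by
      have : K.relIndex K₁ = (fxr H U₁).relIndex K₁ := by
        rw [hK, ← inf_relIndex_right, ← inf_relIndex_right (fxr H U₁)]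
        congr 1
        rw [inf_assoc, inf_comm (fxr H U₁), ← inf_assoc, inf_eq_right.2 (inf_le_right : K₁ ≤ A)]
      rw [this]
      exact h3.trans h4
    have h6 : K ≤ K₁ := by
      rintro y ⟨hy, hy'⟩
      refine ⟨⟨hAF hy, fun v hv => ?_⟩, hy⟩
      rw [hy' v hv, mul_inv_cancel]
      exact one_mem _
    have h7 : K₁.relIndex A ≤ n := by
      rw [hK₁, inf_relIndex_right]
      exact h1
    rw [← relIndex_mul_relIndex K K₁ A h6 inf_le_right]
    exact Nat.mul_le_mul h5 h7
  have hKz : K ≤ qq z := by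
    set E : Subgroup H := F ⊓ fxr H U₁ with hE
    have hxU : x ∈ U₁ := (le_sup_left : orb F x ≤ _) (MinFrame.mem_orb_self F x)
    have h3 : K ≤ o2 E := by
      refine le_trans (le_inf (hKA.trans hAx) (le_inf (hKA.trans hAF) inf_le_right)) ?_
      exact o2_inf_le_o2 fun y hy => hy.2 x hxU
    have h4 : o2 E ≤ o2 F := o2_le_o2_of_normal inf_le_left (MinFrame.le_normalizer_of fun f hf y hy =>
      mem_inf.2 ⟨F.mul_mem (F.mul_mem hf hy.1) (F.inv_mem hf),
        MinFrame.conj_mem_fxr (R := F) (smul_oz hFC) hf hy.2⟩)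
    exact (h3.trans h4).trans (o2_le_o2_of_normal hFC hCF)
  -- (3)
  set D : Subgroup H := A ⊓ A' with hD
  have hA'U : A' ≤ fxr H U₁ := fun y hy v hv => hU₁C hv y hy
  have hDK : D ≤ K := le_inf inf_le_left (inf_le_right.trans hA'U)
  have hDA : D ≤ A := inf_le_left
  set R : Subgroup M := cv M (A : Set H) ⊔ cv M (A' : Set H) with hR
  have hRD : R ≤ cv M (D : Set H) := sup_le (cv_anti (SetLike.coe_subset_coe.2 inf_le_left))
    (cv_anti (SetLike.coe_subset_coe.2 inf_le_right))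
  have h3 : n ≤ R.relIndex (cv M (D : Set H)) := by
    let φ : M →* M :=
      { toFun := fun m => (b • m) * m⁻¹
        map_one' := by rw [smul_one, inv_one, one_mul]
        map_mul' := fun m m' => by
          rw [smul_mul', mul_inv_rev, mul_assoc, mul_assoc, h.comm m'⁻¹ m⁻¹, ← mul_assoc (b • m'),
            h.comm (b • m') m⁻¹, mul_assoc m⁻¹] }
    have hφ : ∀ m, φ m = (b • m) * m⁻¹ := fun _ => rfl
    have e1 : R ≤ (cv M (A : Set H)).comap φ := by
      refine sup_le (fun c hc => ?_) (fun c hc => ?_)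
      · rw [mem_comap, hφ]
        intro y hy
        have e2 : y • b • c = b • c := by
          rw [← mul_smul, hcom A' hA' y hy b hbA', mul_smul, hc y hy]
        rw [smul_mul', smul_inv', e2, hc y hy]
      · rw [mem_comap, hφ, hc b hbA', mul_inv_cancel]
        exact one_mem _
    have e2 : orb F u ≤ cv M (D : Set H) := by
      refine MinFrame.orb_le fun f hf y hy => ?_
      have e3 := hFA' f hf y hy.2
      rw [← mul_smul, ← e3, mul_smul, huA y hy.1]
    have e3 : orb F x ≤ (orb F u).map φ := by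
      refine MinFrame.orb_le fun f hf => ⟨f • u, MinFrame.smul_mem_orb_self hf, ?_⟩
      change (b • f • u) * (f • u)⁻¹ = f • x
      have e4 : b • f • u = f • b • u := by rw [← mul_smul b f u, ← mul_smul f b u, hFA' f hf b hbA']
      rw [← hux, smul_mul', smul_inv', e4]
    calc n ≤ (cv M (A : Set H)).relIndex (orb F x) := relIndex_orb_sup h.comm hzA
      _ ≤ (cv M (A : Set H)).relIndex ((orb F u).map φ) := relIndex_le_of_le_right e3 (relIndex_ne _ _)
      _ = ((cv M (A : Set H)).comap φ).relIndex (orb F u) := (relIndex_comap _ _ _).symm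
      _ ≤ ((cv M (A : Set H)).comap φ).relIndex (cv M (D : Set H)) := relIndex_le_of_le_right e2 (relIndex_ne _ _)
      _ ≤ _ := relIndex_le_of_le_left e1 (relIndex_ne _ _)
  -- (4)
  have hKA' : ∀ y ∈ K, ∀ y' ∈ A', y * y' = y' * y := fun y hy y' hy' => hcom A' hA' y (hKA hy) y' hy'
  have hA'K : A' ⊓ K = D := le_antisymm (le_inf (inf_le_right.trans hKA) inf_le_left) (le_inf inf_le_right hDK)
  have hnorm : K ≤ normalizer (A' : Set H) := by
    intro y hy
    rw [mem_normalizer_iff]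
    intro y'
    constructor
    · intro hy'
      rw [hKA' y hy y' hy', mul_inv_cancel_right]
      exact hy'
    · intro hy'
      have e1 := hKA' y hy _ hy'
      have e2 : y' = y * y' * y⁻¹ := by
        have e3 : y * (y * y' * y⁻¹) = y * y' := by rw [e1]; group
        exact (mul_left_cancel e3).symm
      rw [e2]
      exact hy'
  have h4 : D.relIndex K ≤ (cv M ((A' ⊔ K : Subgroup H) : Set H)).relIndex (cv M (A' : Set H)) := by
    have e1 := hA'.max (A' ⊔ K) (sup_le hA'.le hKz) (by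
      intro y hy
      rw [sup_comm, ← SetLike.mem_coe, Subgroup.coe_mul_of_left_le_normalizer_right K A' hnorm] at hy
      obtain ⟨k, hk, y', hy', rfl⟩ := hy
      change k * y' * (k * y') = 1
      rw [show k * y' * (k * y') = k * (y' * k) * y' by group, ← hKA' k hk y' hy',
        show k * (k * y') * y' = (k * k) * (y' * y') by group, hA.sq k (hKA hk), hA'.sq y' hy', one_mul])
    rw [fab_le_iff le_sup_left, pow_one, pow_one] at e1
    refine le_trans (le_of_eq ?_) e1
    have e2 := card_sup_mul K A' hnorm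
    have e3 : Nat.card (K ⊔ A' : Subgroup H) = A'.relIndex (K ⊔ A') * Nat.card A' := card_eq_relIndex_mul le_sup_right
    have e4 : Nat.card K = D.relIndex K * Nat.card D := card_eq_relIndex_mul hDK
    rw [inf_comm, hA'K, e3, e4] at e2
    rw [sup_comm A' K]
    have e5 : A'.relIndex (K ⊔ A') * (Nat.card A' * Nat.card D) = D.relIndex K * (Nat.card A' * Nat.card D) := by
      calc _ = A'.relIndex (K ⊔ A') * Nat.card A' * Nat.card D := by ring
        _ = _ := e2
        _ = _ := by ring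
    exact (Nat.eq_of_mul_eq_mul_right (Nat.mul_pos Nat.card_pos Nat.card_pos) e5).symm
  have h5 : D.relIndex K * n ≤ (cv M (A : Set H)).relIndex R := by
    have hn' : (cv M (A : Set H)).Normal := ⟨fun n hn g => by rw [h.comm g n, mul_inv_cancel_right]; exact hn⟩
    have e1 : (cv M (A : Set H)).relIndex R = (cv M (A : Set H)).relIndex (cv M (A' : Set H)) := by
      rw [hR, sup_comm]
      exact relIndex_sup_right _ _
    set Y : Subgroup M := cv M ((A' ⊔ K : Subgroup H) : Set H) with hY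
    have hYA' : Y ≤ cv M (A' : Set H) := cv_anti (SetLike.coe_subset_coe.2 le_sup_left)
    have e2 : cv M (A : Set H) ⊓ cv M (A' : Set H) ≤ Y := by
      rw [hY, cv_sup]
      exact le_inf inf_le_right (inf_le_left.trans (cv_anti (SetLike.coe_subset_coe.2 hKA)))
    have e3 : (cv M (A : Set H)).relIndex (cv M (A' : Set H)) =
        (cv M (A : Set H) ⊓ cv M (A' : Set H)).relIndex Y * Y.relIndex (cv M (A' : Set H)) := by
      rw [relIndex_mul_relIndex _ _ _ e2 hYA', inf_relIndex_right]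
    have e4 : U₁ ≤ Y := by
      rw [hY, cv_sup]
      exact le_inf hU₁C fun v hv y hy => hy.2 v hv
    have e5 : n ≤ (cv M (A : Set H) ⊓ cv M (A' : Set H)).relIndex Y := by
      have e6 : n ≤ (cv M (A : Set H) ⊓ cv M (A' : Set H)).relIndex U₁ :=
        relIndex_le_of_le_left inf_le_left (relIndex_ne _ _)
      exact e6.trans (relIndex_le_of_le_right e4 (relIndex_ne _ _))
    rw [e1, e3, mul_comm]
    exact Nat.mul_le_mul e5 h4
  -- (5)
  have h6 : D.relIndex A ≤ (cv M (A : Set H)).relIndex (cv M (D : Set H)) := by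
    rw [← relIndex_mul_relIndex D K A hDK hKA, ← relIndex_mul_relIndex _ R _ le_sup_left hRD]
    calc D.relIndex K * K.relIndex A ≤ D.relIndex K * (n * n) := Nat.mul_le_mul_left _ h2
      _ = (D.relIndex K * n) * n := by ring
      _ ≤ _ := Nat.mul_le_mul h5 h3
  exact hAz ((rigid_of_strict hA.str D hDA h6).trans (inf_le_right.trans hA'.le))

/-- some line carries two points with different `MM` -/
theorem exists_pair (h : Sit H M T z) (hov : ∃ B ≤ qq (H := H) z, (∀ b ∈ B, b * b = 1) ∧ fab M 1 1 (⊥ : Subgroup H) < fab M 1 1 B) :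
    ∃ P, IsMinPar T P ∧ ∃ p ∈ P, p • z ≠ z ∧ ∃ A : Subgroup H, MM (p • z) A ∧ ¬ A ≤ qq z := by
  set J : Subgroup H := sSup {B | MM z B} with hJ
  have hle : ∀ B : Subgroup H, MM z B → B ≤ J := fun B hB => le_sSup hB
  have hJT : J ≤ T := (sSup_le fun B hB => hB.le).trans h.qq_le
  have hstJ : st z ≤ normalizer (J : Set H) := by
    intro c hc
    refine mem_normalizer_of_cj (eq_of_le_of_card_ge ?_ (card_cj c J).ge)
    rw [cj_le_iff]
    refine sSup_le fun B hB => ?_
    rw [← cj_le_iff]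
    have h1 := hB.conj c
    rw [mem_st.1 hc] at h1
    exact hle _ h1
  have hJ1 : J ≠ ⊥ := by
    intro h1
    obtain ⟨B, hB⟩ := exists_MM (H := H) z
    have h2 := hle B hB
    rw [h1, le_bot_iff] at h2
    obtain ⟨B₀, hB₀, hB2, hB3⟩ := hov
    have h3 := hB.max B₀ hB₀ hB2
    rw [h2] at h3
    omega
  obtain ⟨P, hP, hPJ⟩ := h.exists_moved hJT hJ1 (h.le_st.trans hstJ)
  obtain ⟨p, hp, hpJ⟩ := SetLike.not_le_iff_exists.1 hPJ
  refine ⟨P, hP, p, hp, fun h1 => hpJ (hstJ h1), ?_⟩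
  by_contra hcon
  push Not at hcon
  apply hpJ
  refine mem_normalizer_of_cj (eq_of_le_of_card_ge ?_ (card_cj p J).ge)
  rw [cj_le_iff]
  refine sSup_le fun B hB => ?_
  rw [← cj_le_iff]
  exact hle _ ((hB.conj p).of_le (hcon _ (hB.conj p)))

/-- **In a minimal counterexample with lines of order 4** two members of `MM_x`, `MM_z` at adjacent points do not
commute. -/
theorem exists_noncomm (h : Sit H M T z) (ih : ∀ C : Subgroup H, C ≠ ⊤ → MLOn.{u, v} True C)
    (hline : ∀ P, IsMinPar T P → (∃ p ∈ P, p • z ≠ z) → Nat.card (vp P z) = 4)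
    (hov : ∃ B ≤ qq (H := H) z, (∀ b ∈ B, b * b = 1) ∧ fab M 1 1 (⊥ : Subgroup H) < fab M 1 1 B) :
    ∃ P, IsMinPar T P ∧ ∃ p ∈ P, p • z ≠ z ∧ ∃ A B : Subgroup H, MM (p • z) A ∧ ¬ A ≤ qq z ∧ MM z B ∧
      ∃ a ∈ A, ∃ b ∈ B, a * b ≠ b * a := by
  obtain ⟨P, hP, p, hp, hpz, A, hA, hAz⟩ := exists_pair h hov
  by_contra hcon
  push Not at hcon
  exact no_comm h ih hP hp hpz (hline P hP ⟨p, hp, hpz⟩) hA hAz fun B hB a ha b hb =>
    hcon P hP p hp hpz A B hA hAz hB a ha b hb

end line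

/-! ### The frame of helper23 -/

section frame

variable {K : Frame.Cls.{u}} {p : Prop} {H : Type u} {M : Type v} [Group H] [Finite H] [Group M] [Finite M]
  [MulDistribMulAction H M] {T Q A : Subgroup H} {z : M}

omit [Finite H] [Finite M] in
theorem sit_of_fr (h : Fr K p H M T Q A z) : Sit H M T z where
  comm := MinFrame.comm_of_sq h.sq
  sq := h.sq
  faith := h.faithful
  syl := ⟨h.two, h.odd⟩
  fixed := h.fixT
  gen := by
    rw [eq_top_iff, ← h.gen]
    exact MinFrame.orb_le fun g _ => subset_closure ⟨g, rfl⟩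

omit [Finite M] in
theorem on_of_fr (h : Fr K p H M T Q A z) (hp : ¬ p) : ∀ C : Subgroup H, C ≠ ⊤ → MLOn.{u, v} True C := fun C hC =>
  on_of_ind h.ind hp (h.sec.sub H h.KH C) (MinFrame.Fr.card_lt hC)

omit [Finite H] [Finite M] in
theorem over_of_fr (h : Fr K p H M T Q A z) :
    ∃ B ≤ qq (H := H) z, (∀ b ∈ B, b * b = 1) ∧ fab M 1 1 (⊥ : Subgroup H) < fab M 1 1 B :=
  ⟨A, h.AQ.trans (le_o2 (fun q hq => h.fixQ q hq) h.Q2 (MinFrame.le_normalizer_of fun g hg x hx => h.nrmQ g hg x hx)),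
    h.Asq, h.strict ⊥ (bot_lt_iff_ne_bot.2 h.ne)⟩

/-- the commuting case is dead in the frame -/
theorem exists_noncomm_of_fr (h : Fr K p H M T Q A z) (hp : ¬ p)
    (hline : ∀ P, IsMinPar T P → (∃ q ∈ P, q • z ≠ z) → Nat.card (vp P z) = 4) :
    ∃ P, IsMinPar T P ∧ ∃ q ∈ P, q • z ≠ z ∧ ∃ A B : Subgroup H, MM (q • z) A ∧ ¬ A ≤ qq z ∧ MM z B ∧
      ∃ a ∈ A, ∃ b ∈ B, a * b ≠ b * a :=
  exists_noncomm (sit_of_fr h) (on_of_fr h hp) hline (over_of_fr h)

end frame

end Cfsg.Agent.Omega.ML.Comm
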