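import Cfsg.Agent.Omega.ML.Dual
import Cfsg.Agent.Omega.ML.Axis
import Cfsg.Agent.Omega.MinParStruct

/-!
# The commuting case (OMEGA, (ML), lines of order four; #16667 of helper399); K-free

`H = ⟨P₁, P₂⟩`, `P₁`, `P₂` minimal parabolics over the Sylow 2-subgroup `T` of `H`, `O₂(H) = 1`, `z ∈ C_M(T)` fixed by `P₂`,
`V = {1, z, x, x z}` invariant under `P₁`, which moves `z`; `Q_i = core T P_i`, `op P = O²(P)`.  `FFStar M T P₂` : THE INPUT
(nonabelian FF for all sections of `M`).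

`E ≤ Q₂` has the maximal value of `f = fab M a b` in `Q₂`, is normalised by `P₂`, `E^g ≤ Q₂` only if `E^g = E`
(`g ∈ P₁`), and `a < b` or (`a = b` and `E` is strict).  So all of `lo`, `hi` at every ratio `a / b < 1` and `lo` at
`a / b = 1` (over-offenders) are covered.

* `Cfg.false_of_comm` : **(5)** `O²(P₂)` does not centralise `E`;
* `Cfg.false_of_comm'` : `[E, E^g] ≠ 1` for every `g ∈ P₁` moving `z`;  `Cfg.inf_ne_bot` : `E ∩ E^g ≠ 1`;
  `Cfg.commutator_le` : `[E, E^g] ≤ E ∩ E^g`;  `Cfg.inf_centralizer_le` : `T ∩ C_H(E) ≤ O₂(P₂)`;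
* `Cfg.le_core₁`, `Cfg.cj_not_le`, `Cfg.fix_of_le`, `Cfg.star`, `Cfg.exists_r`, `Cfg.exists_l`, `Cfg.eq_bot_of_comm` :
  (0), (1), (2), (3);
* `Cfg.card_le` : **(4)** `|M : C C'|^b ≤ (|F : F ∩ Q₂| |E ∩ F|)^a`, `F = E^g`, `C = C_M(E)`, `C' = C_M(F)`;
  `Cfg.card_le'` : `|C_M(E ∩ F) : C C'|^b ≤ |F : F ∩ Q₂|^a`;
* `Cfg.hi_not_comm`, `Cfg.lo_not_comm`, `Cfg.ratio` : the instances (`ee_hi`, `ee_lo`); `moves_of_faithful`.
-/

set_option autoImplicit false

namespace Cfsg.Agent.Omega.ML.Commuting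

open Subgroup Cfsg.Agent.ClassTwoFusion.Quad Cfsg.Agent.MinSimple.MinParabolic Cfsg.Agent.Omega.NOThree.NoOver
open Cfsg.Agent.Omega.ML.CD
open Cfsg.Agent.Omega.ML.Dual (Iv cw mem_cw cw_le)
open Cfsg.Agent.Omega.ML.Axis (cm)

variable {H : Type*} [Group H]

/-! ### `O²(P)` -/

/-- `O²(P)` -/
def op (P : Subgroup H) : Subgroup H := (Cfsg.Agent.Omega.MinParStruct.pg 2 P).map P.subtype

theorem op_eq (P : Subgroup H) : op P = closure {x | x ∈ P ∧ (orderOf x).Coprime 2} := by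
  rw [op, Cfsg.Agent.Omega.MinParStruct.pg, MonoidHom.map_closure]
  congr 1
  ext x
  constructor
  · rintro ⟨y, hy, rfl⟩
    refine ⟨y.2, ?_⟩
    rw [Subgroup.coe_subtype, Subgroup.orderOf_coe]
    exact hy
  · rintro ⟨hx, hx'⟩
    refine ⟨⟨x, hx⟩, ?_, rfl⟩
    change (orderOf (⟨x, hx⟩ : P)).Coprime 2
    rwa [Subgroup.orderOf_mk]

theorem op_le (P : Subgroup H) : op P ≤ P := map_subtype_le _

theorem op_sup [Finite H] {T P : Subgroup H} (hT : Syl T) (hP : T ≤ P) : op P ⊔ T = P := by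
  have : Fact (Nat.Prime 2) := ⟨Nat.prime_two⟩
  have h1 : IsPGroup 2 (T.subgroupOf P) := hT.1.comap_of_injective _ P.subtype_injective
  have h2 := Cfsg.Agent.Omega.MinParStruct.pg_sup (h1.toSylow (hT.relIndex hP) : Sylow 2 P)
  have h3 := congrArg (Subgroup.map P.subtype) h2
  rw [map_top_subtype, Subgroup.map_sup] at h3
  have h4 : ((h1.toSylow (hT.relIndex hP) : Sylow 2 P) : Subgroup P).map P.subtype = T :=
    (subgroupOf_map_subtype T P).trans (inf_eq_left.mpr hP)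
  rw [h4] at h3
  exact h3

theorem le_normalizer_op (P : Subgroup H) : P ≤ normalizer (op P : Set H) := by
  intro x hx
  rw [mem_normalizer_iff]
  have hn : (Cfsg.Agent.Omega.MinParStruct.pg 2 P).Normal := inferInstance
  intro y
  constructor
  · rintro ⟨k, hk, rfl⟩
    exact ⟨⟨x, hx⟩ * k * ⟨x, hx⟩⁻¹, hn.conj_mem k hk _, rfl⟩
  · rintro ⟨k, hk, hk2⟩
    refine ⟨⟨x, hx⟩⁻¹ * k * ⟨x, hx⟩⁻¹⁻¹, hn.conj_mem k hk _, ?_⟩
    have hk3 : (k : H) = x * y * x⁻¹ := hk2
    change x⁻¹ * (k : H) * x⁻¹⁻¹ = y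
    rw [hk3]
    group

/-- `O²(P)` lies in every normal subgroup of `P` which together with `T` generates `P`. -/
theorem op_le_of_sup [Finite H] {T P N : Subgroup H} (hT : Syl T) (hP : T ≤ P) (hNP : N ≤ P)
    (hN : P ≤ normalizer (N : Set H)) (h : N ⊔ T = P) : op P ≤ N := by
  have : Fact (Nat.Prime 2) := ⟨Nat.prime_two⟩
  have h1 : IsPGroup 2 (T.subgroupOf P) := hT.1.comap_of_injective _ P.subtype_injective
  have hn : (N.subgroupOf P).Normal := normal_subgroupOf_of_le_normalizer hN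
  have h2 := Cfsg.Agent.Omega.MinParStruct.pg_le (S := (h1.toSylow (hT.relIndex hP) : Sylow 2 P)) hn (by
    change N.subgroupOf P ⊔ T.subgroupOf P = ⊤
    rw [← subgroupOf_sup hNP hP, h, subgroupOf_self])
  have h3 := Subgroup.map_mono (f := P.subtype) h2
  rw [subgroupOf_map_subtype, inf_eq_left.mpr hNP] at h3
  exact h3

/-- a subgroup of `T` normalised by a minimal parabolic, or with `O²(P)` in its normal closure -/
theorem op_le_or [Finite H] {T P N : Subgroup H} (hT : Syl T) (hP : IsMinPar T P) (hNP : N ≤ P)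
    (hN : P ≤ normalizer (N : Set H)) : op P ≤ N ∨ T ⊓ N ≤ core T P := by
  have : Fact (Nat.Prime 2) := ⟨Nat.prime_two⟩
  rcases hP.sup_eq_or_inf_le hT.1 (hT.relIndex hP.le) hNP hN with h | h
  · exact Or.inl (op_le_of_sup hT hP.le hNP hN h)
  · right
    refine h.trans (le_core_of_normal ?_ ?_)
    · have h1 : IsPGroup 2 (T.subgroupOf P) := hT.1.comap_of_injective _ P.subtype_injective
      have h2 := Cfsg.Agent.Lib.Cores.pCore_le_sylow (h1.toSylow (hT.relIndex hP.le) : Sylow 2 P)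
      have h3 := Subgroup.map_mono (f := P.subtype) h2
      refine h3.trans ?_
      change (T.subgroupOf P).map P.subtype ≤ T
      rw [subgroupOf_map_subtype]
      exact inf_le_left
    · intro x hx
      rw [mem_normalizer_iff]
      have hn : (Cfsg.pCore 2 P).Normal := inferInstance
      intro y
      constructor
      · rintro ⟨k, hk, rfl⟩
        exact ⟨⟨x, hx⟩ * k * ⟨x, hx⟩⁻¹, hn.conj_mem k hk _, rfl⟩
      · rintro ⟨k, hk, hk2⟩
        refine ⟨⟨x, hx⟩⁻¹ * k * ⟨x, hx⟩⁻¹⁻¹, hn.conj_mem k hk _, ?_⟩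
        have hk3 : (k : H) = x * y * x⁻¹ := hk2
        change x⁻¹ * (k : H) * x⁻¹⁻¹ = y
        rw [hk3]
        group

variable {M : Type*} [Group M] [MulDistribMulAction H M]

/-- odd elements which centralise `[w, x]` fix `w` -/
theorem smul_eq_of_odd (sq : ∀ m : M, m * m = 1) {x : H} (hx : (orderOf x).Coprime 2) {w : M}
    (h : x • (x • w * w) = x • w * w) : x • w = w := by
  have h1 : x • x • w = w := by
    rw [smul_mul'] at h
    have h2 : x • x • w * x • w = w * x • w := by rw [h, cm sq]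
    exact mul_right_cancel h2
  have h2 : x ^ 2 ∈ MulAction.stabilizer H w := by
    rw [MulAction.mem_stabilizer_iff, pow_two, mul_smul, h1]
  obtain ⟨m, hm⟩ := exists_pow_eq_self_of_coprime (x := x) hx.symm
  have h3 : (x ^ 2) ^ m ∈ MulAction.stabilizer H w := pow_mem h2 m
  rw [hm] at h3
  exact MulAction.mem_stabilizer_iff.1 h3

/-- `[W, O²(P), O²(P)] = 1` implies `[W, O²(P)] = 1` -/
theorem op_fix (sq : ∀ m : M, m * m = 1) {P : Subgroup H} {w : M}
    (h : ∀ l ∈ op P, l • (l • w * w) = l • w * w) : ∀ l ∈ op P, l • w = w := by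
  have h1 : op P ≤ MulAction.stabilizer H w := by
    have h2 := op_eq P
    rw [h2, closure_le]
    rintro x ⟨hx, hx'⟩
    refine MulAction.mem_stabilizer_iff.2 (smul_eq_of_odd sq hx' (h x ?_))
    rw [h2]
    exact subset_closure ⟨hx, hx'⟩
  exact fun l hl => MulAction.mem_stabilizer_iff.1 (h1 hl)

variable (M) in
/-- **THE INPUT**: (FF0\*) for `P` and all its sections `W / W'` on which `O²(P)` is not trivial: `|B : B ∩ O₂(P)| ≤ |W : K|`
for all `B ≤ T` and every subgroup `K` of `M` with `[K, B] ≤ W'`. -/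
def FFStar (T P : Subgroup H) : Prop :=
  ∀ W' W : Subgroup M, W' ≤ W → Iv P W' → Iv P W → (∃ l ∈ op P, ∃ w ∈ W, l • w * w⁻¹ ∉ W') →
    ∀ B ≤ T, ∀ K : Subgroup M, (∀ b ∈ B, ∀ w ∈ K, b • w * w⁻¹ ∈ W') → (core T P).relIndex B ≤ K.relIndex W

/-- The configuration. -/
structure Cfg (T P₁ P₂ : Subgroup H) (z : M) (V : Subgroup M) : Prop where
  sq : ∀ m : M, m * m = 1
  syl : Syl T
  min₁ : IsMinPar T P₁
  min₂ : IsMinPar T P₂
  gen : P₁ ⊔ P₂ = ⊤
  o2 : ∀ N : Subgroup H, N.Normal → IsPGroup 2 N → N = ⊥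
  fix : ∀ p ∈ P₂, p • z = z
  inv : ∀ p ∈ P₁, ∀ v ∈ V, p • v ∈ V
  card : Nat.card V = 4
  mem : z ∈ V
  moves₁ : ∃ p ∈ P₁, p • z ≠ z
  moves₂ : ∃ l ∈ op P₂, ∃ v ∈ V, l • v ≠ v
  ff : FFStar M T P₂

namespace Cfg

variable {T P₁ P₂ : Subgroup H} {z : M} {V : Subgroup M} (c : Cfg T P₁ P₂ z V)
include c

theorem z_ne : z ≠ 1 := by
  rintro rfl
  obtain ⟨p, -, hp⟩ := c.moves₁
  exact hp (smul_one p)

theorem fixT {t : H} (ht : t ∈ T) : t • z = z := c.fix t (c.min₂.le ht)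

/-- the elements of `V` -/
theorem mem_cases {y : M} (hy : y ∈ V) (h1 : y ≠ 1) (h2 : y ≠ z) {v : M} (hv : v ∈ V) :
    v = 1 ∨ v = z ∨ v = y ∨ v = z * y := by
  have hfin : Finite V := Nat.finite_of_card_ne_zero (by rw [c.card]; omega)
  have e1 : z * y ≠ 1 := fun h => h2 (by
    rw [eq_inv_of_mul_eq_one_right h]
    exact inv_eq_of_mul_eq_one_right (c.sq z))
  have e2 : z * y ≠ z := fun h => h1 (mul_eq_left.1 h)
  have e3 : z * y ≠ y := fun h => c.z_ne (mul_eq_right.1 h)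
  have h3 : ({1, z, y, z * y} : Set M) = V := by
    apply Set.eq_of_subset_of_ncard_le
    · rintro w (rfl | rfl | rfl | rfl)
      · exact one_mem _
      · exact c.mem
      · exact hy
      · exact mul_mem c.mem hy
    · have h4 : (V : Set M).ncard = 4 := c.card
      rw [h4]
      have h5 : ({1, z, y, z * y} : Set M).ncard = 4 := by
        rw [Set.ncard_insert_of_notMem, Set.ncard_insert_of_notMem, Set.ncard_pair]
        · exact fun h => e3 h.symm
        · rintro (h | h)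
          · exact h2 h.symm
          · exact e2 h.symm
        · rintro (h | h | h)
          · exact c.z_ne h.symm
          · exact h1 h.symm
          · exact e1 h.symm
      exact h5.ge
    · exact (Set.toFinite (V : Set M))
  have h4 : v ∈ (V : Set M) := hv
  rw [← h3] at h4
  exact h4

theorem fixV {y : M} (hy : y ∈ V) (h1 : y ≠ 1) (h2 : y ≠ z) {x : H} (hz : x • z = z) (hxy : x • y = y) {v : M}
    (hv : v ∈ V) : x • v = v := by
  rcases c.mem_cases hy h1 h2 hv with rfl | rfl | rfl | rfl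
  · exact smul_one x
  · exact hz
  · exact hxy
  · rw [smul_mul', hz, hxy]

theorem smul_ne {g : H} : g • z ≠ 1 := fun h => c.z_ne (by
  rw [← smul_one g] at h
  exact MulAction.injective g h)

/-- `[V, T] ≤ ⟨z⟩` -/
theorem T_act {t : H} (ht : t ∈ T) {v : M} (hv : v ∈ V) : t • v = v ∨ t • v = v * z := by
  by_cases h1 : v = 1
  · left; rw [h1, smul_one]
  by_cases h2 : v = z
  · left; rw [h2, c.fixT ht]
  have h3 := c.inv t (c.min₁.le ht) v hv
  rcases c.mem_cases hv h1 h2 h3 with h | h | h | h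
  · exfalso
    apply h1
    rw [← smul_one t] at h
    exact MulAction.injective t h
  · exfalso
    apply h2
    rw [← c.fixT ht] at h
    exact MulAction.injective t h
  · exact Or.inl h
  · right; rw [h, cm c.sq]

/-- `O₂(P₁)` centralises `V` -/
theorem core_fix {x : H} (hx : x ∈ core T P₁) {v : M} (hv : v ∈ V) : x • v = v := by
  obtain ⟨p, hp, hne⟩ := c.moves₁
  have h1 : ∀ p ∈ P₁, x • p • z = p • z := by
    intro p hp
    have := c.fixT (hx p hp)
    rw [mul_smul, mul_smul, inv_smul_eq_iff] at this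
    exact this
  refine c.fixV (c.inv p hp z c.mem) c.smul_ne hne ?_ (h1 p hp) hv
  have := h1 1 (one_mem _)
  rwa [one_smul] at this

/-- `C_T(V) ≤ O₂(P₁)` -/
theorem mem_core_of_fix [Finite H] {x : H} (hx : x ∈ T) (hv : ∀ v ∈ V, x • v = v) : x ∈ core T P₁ := by
  have key : ∀ g ∈ P₁, ∀ x ∈ cw P₁ V, g * x * g⁻¹ ∈ cw P₁ V := by
    intro g hg x hx
    refine ⟨mul_mem (mul_mem hg hx.1) (inv_mem hg), fun v hv => ?_⟩
    rw [mul_smul, mul_smul, hx.2 _ (c.inv _ (inv_mem hg) v hv), smul_inv_smul]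
  have hn : P₁ ≤ normalizer (cw P₁ V : Set H) := by
    intro g hg
    rw [mem_normalizer_iff]
    intro x
    refine ⟨key g hg x, fun h => ?_⟩
    have h1 := key g⁻¹ (inv_mem hg) _ h
    have h2 : g⁻¹ * (g * x * g⁻¹) * g⁻¹⁻¹ = x := by group
    rwa [h2] at h1
  rcases op_le_or c.syl c.min₁ (cw_le P₁ V) hn with h | h
  · exfalso
    obtain ⟨p, hp, hne⟩ := c.moves₁
    apply hne
    have h1 : op P₁ ⊔ T ≤ MulAction.stabilizer H z :=
      sup_le (fun y hy => MulAction.mem_stabilizer_iff.2 ((h hy).2 z c.mem))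
        (fun y hy => MulAction.mem_stabilizer_iff.2 (c.fixT hy))
    rw [op_sup c.syl c.min₁.le] at h1
    exact MulAction.mem_stabilizer_iff.1 (h1 hp)
  · exact h ⟨hx, c.min₁.le hx, hv⟩

theorem exists_t : ∃ t ∈ T, t ∉ core T P₁ := by
  by_contra hcon
  push Not at hcon
  apply c.min₁.not_le
  have h1 : core T P₁ = T := le_antisymm (core_le T P₁) hcon
  have h2 := le_normalizer_core (T := T) (P := P₁)
  rwa [h1] at h2

theorem T_move [Finite H] {t : H} (ht : t ∈ T) (hn : t ∉ core T P₁) {v : M} (hv : v ∈ V) (h1 : v ≠ 1) (h2 : v ≠ z) :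
    t • v = v * z :=
  (c.T_act ht hv).resolve_left fun h => hn (c.mem_core_of_fix ht fun _ hw => c.fixV hv h1 h2 (c.fixT ht) h hw)

/-- `|T : O₂(P₁)| = 2` -/
theorem mul_mem_core [Finite H] {t t' : H} (ht : t ∈ T) (ht' : t' ∈ T) (hn : t ∉ core T P₁) (hn' : t' ∉ core T P₁) :
    t * t' ∈ core T P₁ := c.mem_core_of_fix (mul_mem ht ht') fun v hv => by
  by_cases h1 : v = 1
  · rw [h1, smul_one]
  by_cases h2 : v = z
  · rw [h2, c.fixT (mul_mem ht ht')]
  rw [mul_smul, c.T_move ht' hn' hv h1 h2, smul_mul', c.T_move ht hn hv h1 h2, c.fixT ht, mul_assoc, c.sq, mul_one]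

/-- an overgroup of `T` in `P₁` moving `z` is `P₁` -/
theorem eq_of_moves [Finite H] {K : Subgroup H} (hTK : T ≤ K) (hK : K ≤ P₁) (hm : ∃ k ∈ K, k • z ≠ z) : K = P₁ := by
  by_contra hne
  obtain ⟨M₀, hM₀, hmax⟩ := c.min₁.exists_max
  have h1 : K ≤ M₀ := hmax K hTK (lt_of_le_of_ne hK hne)
  have h2 : P₁ ⊓ MulAction.stabilizer H z ≤ M₀ := by
    refine hmax _ (le_inf c.min₁.le fun t ht => MulAction.mem_stabilizer_iff.2 (c.fixT ht))
      (lt_of_le_of_ne inf_le_left fun h => ?_)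
    obtain ⟨p, hp, hpz⟩ := c.moves₁
    exact hpz (MulAction.mem_stabilizer_iff.1 (h.ge hp).2)
  obtain ⟨k, hk, hkz⟩ := hm
  obtain ⟨t, ht, htn⟩ := c.exists_t
  have hkV := c.inv k (hK hk) z c.mem
  refine hM₀.not_ge fun p hp => ?_
  have h3 : ∀ m ∈ M₀, p • z = m • z → p ∈ M₀ := by
    intro m hm h
    have h4 : m⁻¹ * p ∈ M₀ := h2 (Subgroup.mem_inf.2 ⟨mul_mem (inv_mem (hM₀.le hm)) hp, by
      rw [MulAction.mem_stabilizer_iff, mul_smul, h, inv_smul_smul]⟩)
    have h5 := mul_mem hm h4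
    rwa [mul_inv_cancel_left] at h5
  rcases c.mem_cases hkV c.smul_ne hkz (c.inv p hp z c.mem) with h | h | h | h
  · exact absurd h c.smul_ne
  · exact h3 1 (one_mem _) (by rw [h, one_smul])
  · exact h3 k (h1 hk) h
  · refine h3 (t * k) (mul_mem (h1 (hTK ht)) (h1 hk)) ?_
    rw [h, mul_smul, c.T_move ht htn hkV c.smul_ne hkz, cm c.sq]

omit c in
theorem cj_le_self {g : H} {K P : Subgroup H} (hg : g ∈ P) (h : K ≤ P) : cj g K ≤ P := by
  rintro _ ⟨x, hx, rfl⟩
  exact mul_mem (mul_mem hg (h hx)) (inv_mem hg)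

omit c in
theorem conj_mem_cj {g x : H} {K : Subgroup H} (hx : x ∈ K) : g * x * g⁻¹ ∈ cj g K :=
  mem_cj.2 (by
    have : g⁻¹ * (g * x * g⁻¹) * g = x := by group
    rwa [this])

/-- `⟨T, T^g⟩ = P₁` -/
theorem sup_cj [Finite H] {g : H} (hg : g ∈ P₁) (hgz : g • z ≠ z) : T ⊔ cj g T = P₁ := by
  refine c.eq_of_moves le_sup_left (sup_le c.min₁.le (cj_le_self hg c.min₁.le)) ?_
  by_contra hcon
  push Not at hcon
  obtain ⟨t, ht, htn⟩ := c.exists_t
  apply htn
  apply c.mem_core_of_fix ht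
  intro v hv
  have h1 : (g * t * g⁻¹) • z = z := hcon _ (mem_sup_right (conj_mem_cj ht))
  have h2 : (g * t * g⁻¹) • g • z = g • z := by rw [mul_smul, mul_smul, inv_smul_smul, c.fixT ht]
  have h3 := c.fixV (c.inv g hg z c.mem) c.smul_ne hgz h1 h2 (c.inv g hg v hv)
  rw [mul_smul, mul_smul, inv_smul_smul] at h3
  exact MulAction.injective g h3

omit c in
theorem iv_cv {P Q : Subgroup H} (h : P ≤ normalizer (Q : Set H)) : Iv P (cv M (Q : Set H)) := by
  intro p hp w hw q hq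
  have h1 : p⁻¹ * q * p ∈ Q := by
    have := (mem_normalizer_iff.1 (h (inv_mem hp)) q).1 hq
    rwa [inv_inv] at this
  have h2 : q • p • w = p • (p⁻¹ * q * p) • w := by
    rw [← mul_smul, ← mul_smul]; congr 1; group
  rw [h2, hw _ h1]

end Cfg

/-! ### Best subgroups -/

/-- `f` is at most `f X` on the subgroups of `X`, and `a < b` or `X` is strict. -/
def Good (M : Type*) [Group M] [MulDistribMulAction H M] (a b : ℕ) (X : Subgroup H) : Prop :=
  (∀ B ≤ X, fab M a b B ≤ fab M a b X) ∧ (a < b ∨ (a = b ∧ Strict (fab M a b) X))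

theorem fab_mul [Finite H] [Finite M] {a b : ℕ} {A B : Subgroup H} (hB : B ≤ A) :
    fab M a b B * B.relIndex A ^ a = fab M a b A * (cv M (A : Set H)).relIndex (cv M (B : Set H)) ^ b := by
  have h4le : cv M (A : Set H) ≤ cv M (B : Set H) := cv_anti (SetLike.coe_subset_coe.2 hB)
  have h3 := card_eq_relIndex_mul hB
  have h4 := card_eq_relIndex_mul h4le
  unfold fab
  rw [h3, h4, mul_pow, mul_pow]
  ring

theorem fab_pos [Finite H] [Finite M] {a b : ℕ} (A : Subgroup H) : 0 < fab M a b A :=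
  Nat.mul_pos (Nat.pow_pos Nat.card_pos) (Nat.pow_pos Nat.card_pos)

namespace Good

variable {a b : ℕ} {X : Subgroup H}

theorem conj [Finite H] [Finite M] (h : Good M a b X) (g : H) : Good M a b (Cfsg.Agent.Omega.NOThree.NoOver.cj g X) := by
  refine ⟨fun B hB => ?_, ?_⟩
  · have h1 := h.1 (Cfsg.Agent.Omega.NOThree.NoOver.cj g⁻¹ B) (by rwa [cj_le_iff, inv_inv])
    rwa [(ls_fab M a b).conj, ← (ls_fab M a b).conj g X] at h1
  · rcases h.2 with h2 | h2
    · exact Or.inl h2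
    · exact Or.inr ⟨h2.1, h2.2.cj (ls_fab M a b) g⟩

/-- **(2)** of the class CC -/
theorem lt [Finite H] [Finite M] (h : Good M a b X) {B : Subgroup H} (hB : B < X) :
    (cv M (X : Set H)).relIndex (cv M (B : Set H)) < B.relIndex X := by
  have h1 := fab_mul (M := M) (a := a) (b := b) hB.le
  have h2 := h.1 B hB.le
  have hX : 0 < fab M a b X := fab_pos X
  have hi : 2 ≤ B.relIndex X := by
    have h3 : B.relIndex X ≠ 0 := relIndex_ne _ _
    have h4 : B.relIndex X ≠ 1 := fun h5 => absurd (relIndex_eq_one.1 h5) (not_le_of_gt hB)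
    omega
  set i := B.relIndex X
  set r := (cv M (X : Set H)).relIndex (cv M (B : Set H))
  rcases h.2 with h3 | ⟨rfl, h3⟩
  · have h4 : fab M a b X * r ^ b ≤ fab M a b X * i ^ a := by
      rw [← h1]
      exact Nat.mul_le_mul_right _ h2
    have h5 := Nat.le_of_mul_le_mul_left h4 hX
    have h6 : i ^ a < i ^ b := Nat.pow_lt_pow_right (by omega) h3
    exact lt_of_pow_lt_pow_left₀ b (Nat.zero_le _) (h5.trans_lt h6)
  · have h4 : fab M a a X * r ^ a < fab M a a X * i ^ a := by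
      rw [← h1]
      exact Nat.mul_lt_mul_of_pos_right (h3 B hB) (Nat.pow_pos (by omega))
    exact lt_of_pow_lt_pow_left₀ a (Nat.zero_le _) (Nat.lt_of_mul_lt_mul_left h4)

end Good

/-- The group `E`. -/
structure EE (M : Type*) [Group M] [MulDistribMulAction H M] (a b : ℕ) (T P₁ P₂ E : Subgroup H) : Prop where
  best : Best (fab M a b) (core T P₂) E
  ne : E ≠ ⊥
  norm : P₂ ≤ normalizer (E : Set H)
  wcl : ∀ g ∈ P₁, cj g E ≤ core T P₂ → cj g E = E
  str : a < b ∨ (a = b ∧ Strict (fab M a b) E)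

theorem EE.good {a b : ℕ} {T P₁ P₂ E : Subgroup H} (e : EE M a b T P₁ P₂ E) : Good M a b E :=
  ⟨fun B hB => e.best.2 B (hB.trans e.best.1), e.str⟩

theorem EE.le_T {a b : ℕ} {T P₁ P₂ E : Subgroup H} (e : EE M a b T P₁ P₂ E) : E ≤ T :=
  e.best.1.trans (core_le T P₂)

namespace Cfg

variable {T P₁ P₂ : Subgroup H} {z : M} {V : Subgroup M} (c : Cfg T P₁ P₂ z V) {a b : ℕ} {E : Subgroup H}
  (e : EE M a b T P₁ P₂ E)
include c

omit c in
/-- `⟨V^P⟩` -/
def uu (P : Subgroup H) (V : Subgroup M) : Subgroup M := closure {m | ∃ p ∈ P, ∃ v ∈ V, m = p • v}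

omit c in
theorem le_uu (P : Subgroup H) (V : Subgroup M) : V ≤ uu P V := fun v hv =>
  subset_closure ⟨1, P.one_mem, v, hv, (one_smul _ _).symm⟩

omit c in
theorem iv_uu (P : Subgroup H) (V : Subgroup M) : Iv P (uu P V) := by
  intro p hp m hm
  have h1 : uu P V ≤ (uu P V).comap (MulDistribMulAction.toMonoidHom M p) := by
    rw [uu, closure_le]
    rintro _ ⟨q, hq, v, hv, rfl⟩
    refine subset_closure ⟨p * q, P.mul_mem hp hq, v, hv, ?_⟩
    rw [mul_smul]
    rfl
  exact h1 hm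

/-- `O₂(P₂)` centralises `⟨V^{P₂}⟩ / ⟨z⟩` -/
theorem uu_act {q : H} (hq : q ∈ core T P₂) {u : M} (hu : u ∈ uu P₂ V) : q • u = u ∨ q • u = u * z := by
  induction hu using closure_induction with
  | mem m hm =>
    obtain ⟨p, hp, v, hv, rfl⟩ := hm
    have h1 : q • p • v = p • (p⁻¹ * q * p) • v := by
      rw [← mul_smul, ← mul_smul]; congr 1; group
    rw [h1]
    rcases c.T_act (hq p hp) hv with h | h
    · left; rw [h]
    · right; rw [h, smul_mul', c.fix p hp]
  | one => left; rw [smul_one]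
  | mul x y _ _ hx hy =>
    rw [smul_mul']
    rcases hx with hx | hx <;> rcases hy with hy | hy <;> rw [hx, hy]
    · left; rfl
    · right; rw [mul_assoc]
    · right; rw [mul_assoc, cm c.sq z y, mul_assoc]
    · left
      rw [mul_assoc, cm c.sq y z, ← mul_assoc z z y, c.sq, one_mul]
  | inv x _ hx =>
    have h1 : x⁻¹ = x := inv_eq_of_mul_eq_one_right (c.sq x)
    rw [h1]
    exact hx

variable [Finite H] [Finite M]
include e

/-- **(0)** -/
theorem le_core₁ : E ≤ core T P₁ := by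
  by_contra hcon
  obtain ⟨x, hx, hxn⟩ := SetLike.not_le_iff_exists.1 hcon
  have hET := e.le_T
  have hB : core T P₁ ⊓ E < E := lt_of_le_of_ne inf_le_right fun h => hcon (inf_eq_right.1 h)
  have h1 := e.good.lt hB
  have h2 : (core T P₁ ⊓ E).relIndex E = 2 := by
    rw [relIndex_eq_two_iff]
    refine ⟨x, hx, fun y hy => ?_⟩
    by_cases h : y ∈ core T P₁
    · right
      refine ⟨⟨h, hy⟩, fun h' => hxn ?_⟩
      have := mul_mem (inv_mem h) h'.1
      rwa [inv_mul_cancel_left] at this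
    · left
      exact ⟨⟨c.mul_mem_core (hET hy) (hET hx) h hxn, mul_mem hy hx⟩, fun h' => h h'.1⟩
  have h3 : (cv M (E : Set H)).relIndex (cv M ((core T P₁ ⊓ E : Subgroup H) : Set H)) = 1 := by
    have := relIndex_ne (cv M (E : Set H)) (cv M ((core T P₁ ⊓ E : Subgroup H) : Set H))
    omega
  have h4 := relIndex_eq_one.1 h3
  apply hxn
  apply c.mem_core_of_fix (hET hx)
  intro v hv
  exact h4 (fun y hy => c.core_fix hy.1 hv) x hx

theorem le_N_core₁ {g : H} (hg : g ∈ P₁) : cj g E ≤ core T P₁ := by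
  rintro _ ⟨x, hx, rfl⟩
  exact conj_mem_core (c.le_core₁ e hx) hg

omit [Finite M] in
theorem cj_ne {g : H} (hg : g ∈ P₁) (hgz : g • z ≠ z) : cj g E ≠ E := by
  intro h
  have h1 : P₁ ⊓ normalizer (E : Set H) = P₁ := by
    refine c.eq_of_moves (le_inf c.min₁.le (c.min₂.le.trans e.norm)) inf_le_left ⟨g, ⟨hg, ?_⟩, hgz⟩
    exact Subgroup.mem_normalizer_iff_map_conj_eq.2 h
  have h2 : (⊤ : Subgroup H) ≤ normalizer (E : Set H) := by
    rw [← c.gen]
    exact sup_le (inf_eq_left.1 h1) e.norm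
  exact e.ne (c.o2 E (normalizer_eq_top_iff.1 (top_le_iff.1 h2)) (c.syl.1.to_le e.le_T))

omit [Finite M] in
theorem cj_not_le {g : H} (hg : g ∈ P₁) (hgz : g • z ≠ z) : ¬ cj g E ≤ core T P₂ :=
  fun h => c.cj_ne e hg hgz (e.wcl g hg h)

/-- `F ≤ T` -/
theorem cj_le_T {g : H} (hg : g ∈ P₁) : cj g E ≤ T := (c.le_N_core₁ e hg).trans (core_le T P₁)

/-- `C_M(F ∩ O₂(P₂))` contains no `P₂`-submodule on which `O²(P₂)` is not trivial -/
theorem fix_of_le {g : H} (hg : g ∈ P₁) (hgz : g • z ≠ z) {W : Subgroup M} (hW : Iv P₂ W)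
    (hle : W ≤ cv M ((core T P₂ ⊓ cj g E : Subgroup H) : Set H)) : ∀ l ∈ op P₂, ∀ w ∈ W, l • w = w := by
  by_contra hcon
  push Not at hcon
  obtain ⟨l, hl, w, hw, hne⟩ := hcon
  have h1 := c.ff ⊥ W bot_le (fun x _ m hm => by
      rw [mem_bot] at hm ⊢
      rw [hm, smul_one]) hW ⟨l, hl, w, hw, fun h => hne (mul_inv_eq_one.1 (mem_bot.1 h))⟩ (cj g E) (c.cj_le_T e hg)
    (cv M (cj g E : Set H)) (fun x hx m hm => by
      rw [mem_bot, hm x hx, mul_inv_cancel])
  have h2 : (cv M (cj g E : Set H)).relIndex W ≤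
      (cv M (cj g E : Set H)).relIndex (cv M ((core T P₂ ⊓ cj g E : Subgroup H) : Set H)) :=
    relIndex_le_of_le_right hle (relIndex_ne _ _)
  have h3 := (e.good.conj g).lt (lt_of_le_of_ne inf_le_right fun h => c.cj_not_le e hg hgz (inf_eq_right.1 h) :
    core T P₂ ⊓ cj g E < cj g E)
  rw [inf_relIndex_right] at h3
  omega

/-- **(1)** (STAR) -/
theorem star {g : H} (hg : g ∈ P₁) (hgz : g • z ≠ z) :
    ∀ l ∈ op P₂, ∀ w ∈ cv M (core T P₂ : Set H), l • w = w :=
  c.fix_of_le e hg hgz (iv_cv le_normalizer_core) (cv_anti (SetLike.coe_subset_coe.2 inf_le_left))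

/-- **(2)** `z ∈ [M, F ∩ O₂(P₂)]` -/
theorem exists_r {g : H} (hg : g ∈ P₁) (hgz : g • z ≠ z) :
    ∃ r ∈ core T P₂ ⊓ cj g E, ∃ u ∈ uu P₂ V, r • u = u * z := by
  by_contra hcon
  push Not at hcon
  obtain ⟨l, hl, v, hv, hne⟩ := c.moves₂
  refine hne (c.fix_of_le e hg hgz (iv_uu P₂ V) (fun u hu r hr => ?_) l hl v (le_uu P₂ V hv))
  exact (c.uu_act hr.1 hu).resolve_right (hcon r hr u hu)

/-- **(3)** `T ∩ O²(P₂) ≰ O₂(P₁)` -/
theorem exists_l {g : H} (hg : g ∈ P₁) (hgz : g • z ≠ z) : ∃ l ∈ op P₂, l ∈ T ∧ l ∉ core T P₁ := by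
  by_contra hcon
  push Not at hcon
  have hQ : P₂ ≤ normalizer (core T P₂ : Set H) := le_normalizer_core
  have hop := le_normalizer_op P₂
  -- `O²(P₂) ∩ O₂(P₂)` centralises `⟨V^{P₂}⟩`
  have h1 : ∀ k ∈ op P₂, k ∈ core T P₂ → ∀ u ∈ uu P₂ V, k • u = u := by
    intro k hk hk' u hu
    have h2 : uu P₂ V ≤ cv M ({k} : Set H) := by
      rw [uu, closure_le]
      rintro _ ⟨p, hp, v, hv, rfl⟩
      refine mem_cv_singleton.2 ?_
      have h3 : p⁻¹ * k * p ∈ op P₂ := by
        have := (mem_normalizer_iff.1 (hop (inv_mem hp)) k).1 hk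
        rwa [inv_inv] at this
      have h5 : k • p • v = p • (p⁻¹ * k * p) • v := by
        rw [← mul_smul, ← mul_smul]; congr 1; group
      rw [h5, c.core_fix (hcon _ h3 (hk' p hp)) hv]
    exact mem_cv_singleton.1 (h2 hu)
  -- so `O₂(P₂)` centralises `[⟨V^{P₂}⟩, O²(P₂)]`
  have h2 : ∀ l ∈ op P₂, ∀ u ∈ uu P₂ V, l • u * u ∈ cv M (core T P₂ : Set H) := by
    intro l hl u hu q hq
    have hlP := op_le P₂ hl
    have hqP : q ∈ P₂ := c.min₂.le (core_le T P₂ hq)
    have h3 : q⁻¹ * l⁻¹ * q * l ∈ op P₂ := by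
      refine mul_mem ?_ hl
      have := (mem_normalizer_iff.1 (hop (inv_mem hqP)) l⁻¹).1 (inv_mem hl)
      rwa [inv_inv] at this
    have h4 : q⁻¹ * l⁻¹ * q * l ∈ core T P₂ := by
      have h5 := (mem_normalizer_iff.1 (hQ (inv_mem hlP)) q).1 hq
      rw [inv_inv] at h5
      have h6 := mul_mem (inv_mem hq) h5
      have h7 : q⁻¹ * (l⁻¹ * q * l) = q⁻¹ * l⁻¹ * q * l := by group
      rwa [h7] at h6
    have h5 : q • l • u = l • q • u := by
      have h6 : q • l • u = l • q • (q⁻¹ * l⁻¹ * q * l) • u := by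
        rw [← mul_smul, ← mul_smul, ← mul_smul]; congr 1; group
      rw [h6, h1 _ h3 h4 u hu]
    rw [smul_mul', h5]
    rcases c.uu_act hq hu with h | h
    · rw [h]
    · rw [h, smul_mul', c.fix l hlP, mul_assoc, cm c.sq u z, ← mul_assoc z z u, c.sq, one_mul]
  obtain ⟨l, hl, v, hv, hne⟩ := c.moves₂
  exact hne (op_fix c.sq (fun l hl => c.star e hg hgz l hl _ (h2 l hl v (le_uu P₂ V hv))) l hl)

omit e [Finite M] in
/-- `⟨O²(P₂), O²(P₂)^g⟩ O₂(P₁) = H` -/
theorem sup_eq_top {g : H} (hg : g ∈ P₁) (hgz : g • z ≠ z) {l : H} (hl : l ∈ op P₂) (hlT : l ∈ T)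
    (hln : l ∉ core T P₁) : op P₂ ⊔ cj g (op P₂) ⊔ core T P₁ = ⊤ := by
  have h1 : T ≤ op P₂ ⊔ core T P₁ := by
    intro t ht
    by_cases h : t ∈ core T P₁
    · exact mem_sup_right h
    · have h2 := mul_mem (mem_sup_left (inv_mem hl) : l⁻¹ ∈ op P₂ ⊔ core T P₁)
        (mem_sup_right (c.mul_mem_core hlT ht hln h))
      rwa [inv_mul_cancel_left] at h2
  have h2 : cj g T ≤ cj g (op P₂) ⊔ core T P₁ := by
    refine (cj_mono h1).trans ?_
    rw [cj_sup]
    refine sup_le_sup_left ?_ _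
    rintro _ ⟨x, hx, rfl⟩
    exact conj_mem_core hx hg
  have h3 : T ≤ op P₂ ⊔ cj g (op P₂) ⊔ core T P₁ := h1.trans (sup_le_sup_right le_sup_left _)
  rw [eq_top_iff, ← c.gen]
  refine sup_le ?_ ?_
  · have h4 : cj g (op P₂) ⊔ core T P₁ ≤ op P₂ ⊔ cj g (op P₂) ⊔ core T P₁ := sup_le_sup_right le_sup_right _
    exact (c.sup_cj hg hgz).ge.trans (sup_le h3 (h2.trans h4))
  · have h4 := op_sup c.syl c.min₂.le
    refine h4.ge.trans (sup_le ?_ h3)
    exact le_sup_left.trans le_sup_left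

/-- **(3)** a subgroup of `T` centralised by `O²(P₂)` and `O²(P₂)^g` is trivial -/
theorem eq_bot_of_comm {g : H} (hg : g ∈ P₁) (hgz : g • z ≠ z) {D : Subgroup H} (hD : D ≤ T)
    (h1 : ∀ l ∈ op P₂, ∀ d ∈ D, l * d = d * l) (h2 : ∀ l ∈ cj g (op P₂), ∀ d ∈ D, l * d = d * l) : D = ⊥ := by
  obtain ⟨l, hl, hlT, hln⟩ := c.exists_l e hg hgz
  have htop := c.sup_eq_top hg hgz hl hlT hln
  set N : Subgroup H := op P₂ ⊔ cj g (op P₂) with hN
  -- `O₂(P₁)` normalises `N`
  have hQN : core T P₁ ≤ normalizer (N : Set H) := by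
    intro q hq
    have hqP : q ∈ P₂ := c.min₂.le (core_le T P₁ hq)
    have hqP' : q ∈ cj g P₂ := by
      rw [mem_cj]
      have h3 := conj_mem_core hq (inv_mem hg)
      rw [inv_inv] at h3
      exact c.min₂.le (core_le T P₁ h3)
    rw [Subgroup.mem_normalizer_iff_map_conj_eq]
    change cj q N = N
    have e1 : cj q (op P₂) = op P₂ := Subgroup.mem_normalizer_iff_map_conj_eq.1 (le_normalizer_op P₂ hqP)
    have e2 : cj q (cj g (op P₂)) = cj g (op P₂) := by
      have h3 : q ∈ normalizer (cj g (op P₂) : Set H) := by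
        rw [normalizer_cj]
        exact cj_mono (le_normalizer_op P₂) hqP'
      exact Subgroup.mem_normalizer_iff_map_conj_eq.1 h3
    rw [hN, cj_sup, e1, e2]
  have hcomm : ∀ n ∈ N, ∀ d ∈ D, n * d = d * n := by
    intro n hn d hd
    have h3 : N ≤ centralizer ({d} : Set H) := by
      refine sup_le (fun x hx => ?_) (fun x hx => ?_)
      · rw [mem_centralizer_singleton_iff]; exact h1 x hx d hd
      · rw [mem_centralizer_singleton_iff]; exact h2 x hx d hd
    have h4 := h3 hn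
    rw [mem_centralizer_singleton_iff] at h4
    exact h4
  -- `X = T ∩ C_H(N)` is normal in `H`
  have hX : (⊤ : Subgroup H) ≤ normalizer ((T ⊓ centralizer (N : Set H) : Subgroup H) : Set H) := by
    rw [← htop]
    refine sup_le ?_ ?_
    · intro n hn
      have key : ∀ x ∈ T ⊓ centralizer (N : Set H), n * x * n⁻¹ = x := by
        intro x hx
        have h3 := mem_centralizer_iff.1 hx.2 n hn
        rw [h3, mul_inv_cancel_right]
      rw [mem_normalizer_iff]
      intro x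
      constructor
      · intro hx
        rw [key x hx]; exact hx
      · intro hx
        have h3 := key _ hx
        have h4 : n * x * n⁻¹ = x := by
          have h5 : n⁻¹ * (n * (n * x * n⁻¹) * n⁻¹) * n = n⁻¹ * (n * x * n⁻¹) * n := by rw [h3]
          have h6 : n⁻¹ * (n * (n * x * n⁻¹) * n⁻¹) * n = n * x * n⁻¹ := by group
          have h7 : n⁻¹ * (n * x * n⁻¹) * n = x := by group
          rw [h6, h7] at h5
          exact h5
        rwa [h4] at hx
    · intro q hq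
      have hqT := core_le T P₁ hq
      rw [mem_normalizer_iff]
      have key : ∀ q ∈ core T P₁, ∀ x ∈ T ⊓ centralizer (N : Set H),
          q * x * q⁻¹ ∈ T ⊓ centralizer (N : Set H) := by
        intro q hq x hx
        have hqT := core_le T P₁ hq
        refine Subgroup.mem_inf.2 ⟨mul_mem (mul_mem hqT hx.1) (inv_mem hqT), ?_⟩
        refine mem_centralizer_iff.2 fun n hn => ?_
        have h3 : q⁻¹ * n * q ∈ N := by
          have := (mem_normalizer_iff.1 (hQN (inv_mem hq)) n).1 hn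
          rwa [inv_inv] at this
        have h4 := mem_centralizer_iff.1 hx.2 _ h3
        calc n * (q * x * q⁻¹) = q * ((q⁻¹ * n * q) * x) * q⁻¹ := by group
          _ = q * (x * (q⁻¹ * n * q)) * q⁻¹ := by rw [h4]
          _ = q * x * q⁻¹ * n := by group
      intro x
      refine ⟨key q hq x, fun hx => ?_⟩
      have h3 := key q⁻¹ (inv_mem hq) _ hx
      have h4 : q⁻¹ * (q * x * q⁻¹) * q⁻¹⁻¹ = x := by group
      rwa [h4] at h3
  have h3 := c.o2 _ (normalizer_eq_top_iff.1 (top_le_iff.1 hX)) (c.syl.1.to_le inf_le_left)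
  rw [eq_bot_iff, ← h3]
  exact fun d hd => ⟨hD hd, mem_centralizer_iff.2 fun n hn => hcomm n hn d hd⟩

omit c in
/-- the first half of **(4)** -/
theorem card_step (g : H) :
    (cv M (E : Set H) ⊔ cv M (cj g E : Set H)).index ^ b * (E.relIndex (core T P₂ ⊓ cj g E)) ^ a ≤
      (cv M (cj g E : Set H)).index ^ b := by
  set C := cv M (E : Set H) with hC
  set C' := cv M (cj g E : Set H) with hC'
  set R := core T P₂ ⊓ cj g E with hR
  have h1 : C'.relIndex (C ⊔ C') * (C ⊔ C').index = C'.index := relIndex_mul_index le_sup_right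
  have h2 : (cv M (R : Set H)).relIndex C ≤ C'.relIndex (C ⊔ C') := by
    refine (relIndex_le_of_le_left (cv_anti (SetLike.coe_subset_coe.2 inf_le_right)) (relIndex_ne _ _)).trans ?_
    exact relIndex_le_of_le_right le_sup_left (relIndex_ne _ _)
  have h3 : E.relIndex R ^ a ≤ (cv M (R : Set H)).relIndex C ^ b := by
    have h4 := e.best.2 (E ⊔ R) (sup_le e.best.1 inf_le_left)
    rw [fab_le_iff (le_sup_left : E ≤ E ⊔ R)] at h4
    have h5 : (cv M ((E ⊔ R : Subgroup H) : Set H)).relIndex (cv M (E : Set H)) = (cv M (R : Set H)).relIndex C := by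
      rw [cv_sup, inf_relIndex_left]
    rw [h5] at h4
    refine le_trans (Nat.pow_le_pow_left ?_ a) h4
    exact relIndex_le_of_le_right le_sup_right (relIndex_ne _ _)
  rw [← h1, mul_pow, mul_comm]
  exact Nat.mul_le_mul_right _ (h3.trans (Nat.pow_le_pow_left h2 b))

omit c [Finite H] [Finite M] in
theorem card_cj_eq (g : H) : Nat.card (cj g E) =
    (core T P₂).relIndex (cj g E) * (E.relIndex (core T P₂ ⊓ cj g E) * Nat.card (E ⊓ cj g E : Subgroup H)) := by
  have h1 := card_eq_relIndex_mul (inf_le_right : core T P₂ ⊓ cj g E ≤ cj g E)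
  rw [inf_relIndex_right] at h1
  have h2 := card_eq_relIndex_mul (inf_le_right : E ⊓ (core T P₂ ⊓ cj g E) ≤ core T P₂ ⊓ cj g E)
  rw [inf_relIndex_right, ← inf_assoc, inf_eq_left.2 e.best.1] at h2
  rw [h1, h2]

omit c e in
/-- `|M : C_M(X)|^b ≤ |X|^a` -/
theorem index_le {X : Subgroup H} (hX : Good M a b X) : (cv M (X : Set H)).index ^ b ≤ Nat.card X ^ a := by
  have h1 := fab_mul (M := M) (a := a) (b := b) (bot_le : ⊥ ≤ X)
  rw [cv_bot, relIndex_top_right, relIndex_bot_left] at h1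
  have h2 := hX.1 ⊥ bot_le
  have h3 : fab M a b X * (cv M (X : Set H)).index ^ b ≤ fab M a b X * Nat.card X ^ a := by
    rw [← h1]
    exact Nat.mul_le_mul_right _ h2
  exact Nat.le_of_mul_le_mul_left h3 (fab_pos X)

omit c e in
theorem index_lt {X : Subgroup H} (hX : Strict (fab M a b) X) (hne : X ≠ ⊥) :
    (cv M (X : Set H)).index ^ b < Nat.card X ^ a := by
  have h1 := fab_mul (M := M) (a := a) (b := b) (bot_le : ⊥ ≤ X)
  rw [cv_bot, relIndex_top_right, relIndex_bot_left] at h1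
  have h2 := hX ⊥ (bot_lt_iff_ne_bot.2 hne)
  have h3 : fab M a b X * (cv M (X : Set H)).index ^ b < fab M a b X * Nat.card X ^ a := by
    rw [← h1]
    exact Nat.mul_lt_mul_of_pos_right h2 (Nat.pow_pos Nat.card_pos)
  exact Nat.lt_of_mul_lt_mul_left h3

omit c in
/-- **(4)** `|M : C_M(E) C_M(F)|^b ≤ (|F : F ∩ O₂(P₂)| |E ∩ F|)^a`, no commuting is needed. -/
theorem card_le (g : H) : (cv M (E : Set H) ⊔ cv M (cj g E : Set H)).index ^ b ≤
    ((core T P₂).relIndex (cj g E) * Nat.card (E ⊓ cj g E : Subgroup H)) ^ a := by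
  have h1 := card_step (M := M) e g
  have h2 := index_le (M := M) (e.good.conj g)
  rw [card_cj_eq e g] at h2
  have h3 : 0 < E.relIndex (core T P₂ ⊓ cj g E) ^ a := Nat.pow_pos (Nat.pos_of_ne_zero (relIndex_ne _ _))
  have h4 := h1.trans h2
  have h5 : ((core T P₂).relIndex (cj g E) * (E.relIndex (core T P₂ ⊓ cj g E) *
      Nat.card (E ⊓ cj g E : Subgroup H))) ^ a =
      ((core T P₂).relIndex (cj g E) * Nat.card (E ⊓ cj g E : Subgroup H)) ^ a *
        E.relIndex (core T P₂ ⊓ cj g E) ^ a := by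
    rw [← mul_pow]; congr 1; ring
  rw [h5] at h4
  exact Nat.le_of_mul_le_mul_right h4 h3

omit c in
/-- **(4)**, second half: `|C_M(E ∩ F) : C_M(E) C_M(F)|^b ≤ |F : F ∩ O₂(P₂)|^a` if `f ≤ |M|^b` -/
theorem card_le' (g : H) (hf : fab M a b (E ⊓ cj g E) ≤ Nat.card M ^ b) :
    (cv M (E : Set H) ⊔ cv M (cj g E : Set H)).relIndex (cv M ((E ⊓ cj g E : Subgroup H) : Set H)) ^ b ≤
      (core T P₂).relIndex (cj g E) ^ a := by
  have h1 := card_le (M := M) e g
  have h2 : (cv M (E : Set H) ⊔ cv M (cj g E : Set H)).relIndex (cv M ((E ⊓ cj g E : Subgroup H) : Set H)) *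
      (cv M ((E ⊓ cj g E : Subgroup H) : Set H)).index = (cv M (E : Set H) ⊔ cv M (cj g E : Set H)).index :=
    relIndex_mul_index (sup_le (cv_anti (SetLike.coe_subset_coe.2 inf_le_left))
      (cv_anti (SetLike.coe_subset_coe.2 inf_le_right)))
  have h3 : Nat.card (E ⊓ cj g E : Subgroup H) ^ a ≤ (cv M ((E ⊓ cj g E : Subgroup H) : Set H)).index ^ b := by
    have h4 := fab_mul (M := M) (a := a) (b := b) (bot_le : ⊥ ≤ E ⊓ cj g E)
    rw [cv_bot, relIndex_top_right, relIndex_bot_left, fab_bot] at h4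
    have h5 : Nat.card M ^ b * Nat.card (E ⊓ cj g E : Subgroup H) ^ a ≤
        Nat.card M ^ b * (cv M ((E ⊓ cj g E : Subgroup H) : Set H)).index ^ b := by
      rw [h4]
      exact Nat.mul_le_mul_right _ hf
    exact Nat.le_of_mul_le_mul_left h5 (Nat.pow_pos Nat.card_pos)
  rw [← h2, mul_pow, mul_pow] at h1
  have h4 := h1.trans (Nat.mul_le_mul_left _ h3)
  exact Nat.le_of_mul_le_mul_right h4 (Nat.pow_pos (Nat.pos_of_ne_zero (index_ne_zero_of_finite)))

/-- `E ∩ F = 1` if `O²(P₂)` centralises `E`. -/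
theorem inf_eq_bot {g : H} (hg : g ∈ P₁) (hgz : g • z ≠ z) (hc : ∀ l ∈ op P₂, ∀ x ∈ E, l * x = x * l) :
    E ⊓ cj g E = ⊥ := by
  refine c.eq_bot_of_comm e hg hgz (inf_le_left.trans e.le_T) (fun l hl x hx => hc l hl x hx.1) ?_
  rintro _ ⟨l, hl, rfl⟩ x hx
  obtain ⟨y, hy, rfl⟩ := hx.2
  change g * l * g⁻¹ * (g * y * g⁻¹) = g * y * g⁻¹ * (g * l * g⁻¹)
  have h1 := hc l hl y hy
  calc g * l * g⁻¹ * (g * y * g⁻¹) = g * (l * y) * g⁻¹ := by group
    _ = g * (y * l) * g⁻¹ := by rw [h1]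
    _ = _ := by group

/-- **(5)** `O²(P₂)` does not centralise `E`. -/
theorem false_of_comm (hc : ∀ l ∈ op P₂, ∀ x ∈ E, l * x = x * l) : False := by
  obtain ⟨g, hg, hgz⟩ := c.moves₁
  have hD := c.inf_eq_bot e hg hgz hc
  -- `|M : C C'| < |F : F ∩ O₂(P₂)|`
  have hk : 2 ≤ (core T P₂).relIndex (cj g E) := by
    have h1 : (core T P₂).relIndex (cj g E) ≠ 0 := relIndex_ne _ _
    have h2 : (core T P₂).relIndex (cj g E) ≠ 1 := fun h => c.cj_not_le e hg hgz (relIndex_eq_one.1 h)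
    omega
  have hlt : (cv M (E : Set H) ⊔ cv M (cj g E : Set H)).index < (core T P₂).relIndex (cj g E) := by
    rcases e.str with h | ⟨rfl, h⟩
    · have h1 := card_le (M := M) e g
      rw [hD, card_bot, mul_one] at h1
      exact lt_of_pow_lt_pow_left₀ b (Nat.zero_le _) (h1.trans_lt (Nat.pow_lt_pow_right (by omega) h))
    · have h1 := card_step (M := M) e g
      have h2 := index_lt (M := M) (h.cj (ls_fab M a a) g) (fun h3 => by
        have h4 := cj_le_iff.1 h3.le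
        have h5 : cj g⁻¹ (⊥ : Subgroup H) = ⊥ := Subgroup.map_bot _
        rw [h5] at h4
        exact e.ne (le_bot_iff.1 h4))
      rw [card_cj_eq e g, hD, card_bot, mul_one] at h2
      have h3 := h1.trans_lt h2
      rw [mul_pow ((core T P₂).relIndex (cj g E))] at h3
      exact lt_of_pow_lt_pow_left₀ a (Nat.zero_le _) (Nat.lt_of_mul_lt_mul_right h3)
  -- so `O²(P₂)` centralises `M / C_M(E)`
  have hFP : cj g E ≤ P₂ := (c.cj_le_T e hg).trans c.min₂.le
  have hIv : Iv P₂ (cv M (E : Set H)) := iv_cv e.norm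
  have h1 : ∀ l ∈ op P₂, ∀ m : M, l • m * m⁻¹ ∈ cv M (E : Set H) := by
    by_contra hcon
    push Not at hcon
    obtain ⟨l, hl, m, hm⟩ := hcon
    have h2 := c.ff (cv M (E : Set H)) ⊤ le_top hIv (fun _ _ _ _ => mem_top _) ⟨l, hl, m, mem_top m, hm⟩ (cj g E)
      (c.cj_le_T e hg) (cv M (E : Set H) ⊔ cv M (cj g E : Set H)) (by
        intro x hx w hw
        have hs : cv M (E : Set H) ⊔ cv M (cj g E : Set H) ≤
            closure {w : M | x • w * w⁻¹ ∈ cv M (E : Set H)} :=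
          sup_le (fun w hw => subset_closure (mul_mem (hIv x (hFP hx) w hw) (inv_mem hw)))
            (fun w hw => subset_closure (by
              change x • w * w⁻¹ ∈ cv M (E : Set H)
              rw [hw x hx, mul_inv_cancel]; exact one_mem _))
        have h3 := hs hw
        clear hw
        induction h3 using closure_induction with
        | mem w h => exact h
        | one => rw [smul_one, inv_one, mul_one]; exact one_mem _
        | mul u v _ _ hu hv =>
          have e1 : x • (u * v) * (u * v)⁻¹ = (x • u * u⁻¹) * (x • v * v⁻¹) := by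
            rw [smul_mul', mul_inv_rev, ← mul_assoc, mul_assoc (x • u) (x • v) v⁻¹,
              cm c.sq (x • u * (x • v * v⁻¹)) u⁻¹, ← mul_assoc, cm c.sq u⁻¹]
          rw [e1]
          exact mul_mem hu hv
        | inv u _ hu =>
          have h1 : u⁻¹ = u := inv_eq_of_mul_eq_one_right (c.sq u)
          rw [h1]
          exact hu)
    rw [relIndex_top_right] at h2
    omega
  -- and `[M, E]`
  have h2 : ∀ l ∈ op P₂, ∀ x ∈ E, ∀ m : M, l • (x • m * m) = x • m * m := by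
    intro l hl x hx m
    have h3 := h1 l hl m
    have h4 : l • m = (l • m * m⁻¹) * m := by rw [inv_mul_cancel_right]
    set d := l • m * m⁻¹ with hd
    have h5 : l • x • m = d * x • m := by
      rw [← mul_smul, hc l hl x hx, mul_smul, h4, smul_mul', h3 x hx]
    rw [smul_mul', h5, h4]
    calc d * x • m * (d * m) = d * (x • m * d) * m := by group
      _ = d * (d * x • m) * m := by rw [cm c.sq (x • m) d]
      _ = (d * d) * (x • m * m) := by group
      _ = x • m * m := by rw [c.sq, one_mul]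
  obtain ⟨r, ⟨-, hr⟩, u, -, hu⟩ := c.exists_r e hg hgz
  obtain ⟨x, hx, rfl⟩ := hr
  have h3 : x • (g⁻¹ • u) * (g⁻¹ • u) = g⁻¹ • z := by
    have h4 : (g * x * g⁻¹) • u = u * z := hu
    have h5 : x • g⁻¹ • u = g⁻¹ • (u * z) := by
      rw [← h4, mul_smul, mul_smul, inv_smul_smul]
    rw [h5, ← smul_mul', cm c.sq u z, mul_assoc, c.sq, mul_one]
  obtain ⟨l, hl, v, hv, hne⟩ := c.moves₂
  apply hne
  refine c.fixV (c.inv g⁻¹ (inv_mem hg) z c.mem) c.smul_ne (fun h => hgz ?_) (c.fix l (op_le P₂ hl)) ?_ hv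
  · rw [inv_smul_eq_iff] at h
    exact h.symm
  · have := h2 l hl x hx (g⁻¹ • u)
    rwa [h3] at this

/-- **(6)** `T ∩ C_H(E) ≤ O₂(P₂)` -/
theorem inf_centralizer_le : T ⊓ centralizer (E : Set H) ≤ core T P₂ := by
  have hn : P₂ ≤ normalizer ((P₂ ⊓ centralizer (E : Set H) : Subgroup H) : Set H) := by
    have key : ∀ p ∈ P₂, ∀ x ∈ P₂ ⊓ centralizer (E : Set H), p * x * p⁻¹ ∈ P₂ ⊓ centralizer (E : Set H) := by
      intro p hp x hx
      refine Subgroup.mem_inf.2 ⟨mul_mem (mul_mem hp hx.1) (inv_mem hp), mem_centralizer_iff.2 fun n hn => ?_⟩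
      have h3 : p⁻¹ * n * p ∈ E := by
        have := (mem_normalizer_iff.1 (e.norm (inv_mem hp)) n).1 hn
        rwa [inv_inv] at this
      have h4 := mem_centralizer_iff.1 hx.2 _ h3
      calc n * (p * x * p⁻¹) = p * ((p⁻¹ * n * p) * x) * p⁻¹ := by group
        _ = p * (x * (p⁻¹ * n * p)) * p⁻¹ := by rw [h4]
        _ = p * x * p⁻¹ * n := by group
    intro p hp
    rw [mem_normalizer_iff]
    intro x
    refine ⟨key p hp x, fun hx => ?_⟩
    have h3 := key p⁻¹ (inv_mem hp) _ hx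
    have h4 : p⁻¹ * (p * x * p⁻¹) * p⁻¹⁻¹ = x := by group
    rwa [h4] at h3
  rcases op_le_or c.syl c.min₂ inf_le_left hn with h | h
  · exact (c.false_of_comm e fun l hl x hx => (mem_centralizer_iff.1 (h hl).2 x hx).symm).elim
  · exact (le_inf inf_le_left (le_inf (inf_le_left.trans c.min₂.le) inf_le_right)).trans h

/-- **(5)** `[E, E^g] ≠ 1` for every `g ∈ P₁` moving `z` -/
theorem false_of_comm' {g : H} (hg : g ∈ P₁) (hgz : g • z ≠ z) (hc : ∀ x ∈ E, ∀ y ∈ cj g E, x * y = y * x) :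
    False := by
  refine c.cj_not_le e hg hgz (le_trans (le_inf (c.cj_le_T e hg) fun y hy => ?_) (c.inf_centralizer_le e))
  exact mem_centralizer_iff.2 fun x hx => hc x hx y hy

/-- `E` and `F` normalise each other: `[E, F] ≤ E ∩ F` -/
theorem commutator_le {g : H} (hg : g ∈ P₁) : ⁅E, cj g E⁆ ≤ E ⊓ cj g E := by
  have h1 : cj g E ≤ normalizer (E : Set H) := (c.cj_le_T e hg).trans (c.min₂.le.trans e.norm)
  have h2 : E ≤ normalizer (cj g E : Set H) := by
    rw [normalizer_cj]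
    have h3 : E ≤ cj g (core T P₁) := by
      intro x hx
      rw [mem_cj]
      have h3 := conj_mem_core (c.le_core₁ e hx) (inv_mem hg)
      rwa [inv_inv] at h3
    exact h3.trans (cj_mono ((core_le T P₁).trans (c.min₂.le.trans e.norm)))
  rw [Subgroup.commutator_le]
  intro x hx y hy
  rw [commutatorElement_def]
  refine Subgroup.mem_inf.2 ⟨?_, ?_⟩
  · have h3 := (mem_normalizer_iff.1 (h1 hy) x⁻¹).1 (inv_mem hx)
    have h4 : x * y * x⁻¹ * y⁻¹ = x * (y * x⁻¹ * y⁻¹) := by group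
    rw [h4]
    exact mul_mem hx h3
  · exact mul_mem ((mem_normalizer_iff.1 (h2 hx) y).1 hy) (inv_mem hy)

/-- `E ∩ F ≠ 1` -/
theorem inf_ne_bot {g : H} (hg : g ∈ P₁) (hgz : g • z ≠ z) : E ⊓ cj g E ≠ ⊥ := by
  intro h
  have h1 := c.commutator_le e hg
  rw [h, le_bot_iff, commutator_eq_bot_iff_le_centralizer] at h1
  exact c.false_of_comm' e hg hgz fun x hx y hy => (mem_centralizer_iff.1 (h1 hx) y hy).symm

end Cfg

/-! ### The instances -/

section Inst

variable [Finite H] [Finite M] {T P₁ P₂ : Subgroup H} {a b : ℕ}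

theorem cj_eq_of_le {g : H} {E F : Subgroup H} (h : cj g E ≤ F) (h' : Nat.card F ≤ Nat.card E) : cj g E = F :=
  eq_of_le_of_card_ge h
    (h'.trans (Nat.card_congr (E.equivMapOfInjective _ (MulAut.conj g).injective).toEquiv).le)

/-- `E = hi`, ratio `a / b < 1` -/
theorem ee_hi (hab : a < b) (hne : hi (fab M a b) (core T P₂) ≠ ⊥) :
    EE M a b T P₁ P₂ (hi (fab M a b) (core T P₂)) where
  best := (ls_fab M a b).best_hi _
  ne := hne
  norm := le_normalizer_core.trans ((ls_fab M a b).normalizer_le_hi _)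
  wcl := fun g _ h => cj_eq_of_le (le_hi (((ls_fab M a b).best_hi _).of_le h (by rw [(ls_fab M a b).conj]))) le_rfl
  str := Or.inl hab

/-- `E = lo`, ratio `a / b ≤ 1` -/
theorem ee_lo (hab : a ≤ b) (hne : lo (fab M a b) (core T P₂) ≠ ⊥) :
    EE M a b T P₁ P₂ (lo (fab M a b) (core T P₂)) where
  best := (ls_fab M a b).best_lo _
  ne := hne
  norm := le_normalizer_core.trans ((ls_fab M a b).normalizer_le_lo _)
  wcl := fun g _ h => cj_eq_of_le ((((ls_fab M a b).strict_lo _).cj (ls_fab M a b) g).le_lo (ls_fab M a b) h) le_rfl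
  str := by
    rcases hab.lt_or_eq with h | rfl
    · exact Or.inl h
    · exact Or.inr ⟨rfl, (ls_fab M a a).strict_lo _⟩

variable {z : M} {V : Subgroup M}

omit [Finite M] in
/-- `O²(P₂)` moves `V` if `M = ⟨z^H⟩` is faithful. -/
theorem moves_of_faithful (hT : Syl T) (h₂ : IsMinPar T P₂) (hgen : P₁ ⊔ P₂ = ⊤)
    (hinv : ∀ p ∈ P₁, ∀ v ∈ V, p • v ∈ V) (hz : z ∈ V) (hTV : T ≤ P₁)
    (hM : closure {m : M | ∃ h : H, m = h • z} = ⊤) (hfaith : ∀ h : H, (∀ m : M, h • m = m) → h = 1) :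
    ∃ l ∈ op P₂, ∃ v ∈ V, l • v ≠ v := by
  by_contra hcon
  push Not at hcon
  -- `V` is `H`-invariant
  have h1 : ∀ h : H, ∀ v ∈ V, h • v ∈ V := by
    let S : Subgroup H :=
      { carrier := {h | ∀ v ∈ V, h • v ∈ V ∧ h⁻¹ • v ∈ V}
        one_mem' := fun v hv => by simpa using hv
        mul_mem' := by
          intro x y hx hy v hv
          refine ⟨by rw [mul_smul]; exact (hx _ (hy v hv).1).1, ?_⟩
          rw [mul_inv_rev, mul_smul]
          exact (hy _ (hx v hv).2).2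
        inv_mem' := by
          intro x hx v hv
          exact ⟨(hx v hv).2, by rw [inv_inv]; exact (hx v hv).1⟩ }
    have h2 : (⊤ : Subgroup H) ≤ S := by
      rw [← hgen, ← op_sup hT h₂.le]
      refine sup_le (fun p hp v hv => ⟨hinv p hp v hv, hinv _ (inv_mem hp) v hv⟩) (sup_le ?_ ?_)
      · intro l hl v hv
        exact ⟨by rw [hcon l hl v hv]; exact hv, by rw [hcon _ (inv_mem hl) v hv]; exact hv⟩
      · intro t ht v hv
        exact ⟨hinv t (hTV ht) v hv, hinv _ (inv_mem (hTV ht)) v hv⟩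
    exact fun h v hv => (h2 (mem_top h) v hv).1
  have h2 : V = ⊤ := by
    rw [eq_top_iff, ← hM, closure_le]
    rintro _ ⟨h, rfl⟩
    exact h1 h z hz
  have h3 : op P₂ = ⊥ := by
    rw [eq_bot_iff]
    intro l hl
    exact mem_bot.2 (hfaith l fun m => hcon l hl m (by rw [h2]; exact mem_top m))
  have h4 := op_sup hT h₂.le
  rw [h3, bot_sup_eq] at h4
  apply h₂.not_le
  rw [← h4]
  exact le_normalizer

theorem Cfg.hi_not_comm (c : Cfg T P₁ P₂ z V) (hab : a < b) (hne : hi (fab M a b) (core T P₂) ≠ ⊥) :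
    ∃ l ∈ op P₂, ∃ x ∈ hi (fab M a b) (core T P₂), l * x ≠ x * l := by
  by_contra hcon
  push Not at hcon
  exact c.false_of_comm (ee_hi hab hne) hcon

theorem Cfg.lo_not_comm (c : Cfg T P₁ P₂ z V) (hab : a ≤ b) (hne : lo (fab M a b) (core T P₂) ≠ ⊥) :
    ∃ l ∈ op P₂, ∃ x ∈ lo (fab M a b) (core T P₂), l * x ≠ x * l := by
  by_contra hcon
  push Not at hcon
  exact c.false_of_comm (ee_lo hab hne) hcon

/-- the ratio form: some `1 ≠ B ≤ O₂(P₂)` has `|M : C_M(B)|^b ≤ |B|^a`, `a < b`, and `a / b` is the least ratio. -/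
theorem Cfg.ratio (c : Cfg T P₁ P₂ z V) (hab : a < b) (hle : ∀ B ≤ core T P₂, fab M a b B ≤ Nat.card M ^ b)
    {B : Subgroup H} (hB : B ≤ core T P₂) (hB1 : B ≠ ⊥) (hf : Nat.card M ^ b ≤ fab M a b B) :
    (∃ l ∈ op P₂, ∃ x ∈ hi (fab M a b) (core T P₂), l * x ≠ x * l) ∧
      ∀ g ∈ P₁, g • z ≠ z → ∃ x ∈ hi (fab M a b) (core T P₂), ∃ y ∈ cj g (hi (fab M a b) (core T P₂)), x * y ≠ y * x := by
  have hne := (hi_ne_bot hle hB hB1 hf).1
  refine ⟨c.hi_not_comm hab hne, fun g hg hgz => ?_⟩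
  by_contra hcon
  push Not at hcon
  exact c.false_of_comm' (ee_hi hab hne) hg hgz hcon

end Inst

end Cfsg.Agent.Omega.ML.Commuting
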