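import Cfsg.Agent.Omega.ML.CD

/-!
# Equality in the Chermak-Delgado inequality, atoms (OMEGA, (ML); #15357 (1), (2) of helper24, #15918 of helper93,
#16220 LEMMA EQ, (R1) of helper34); K-free

`H` acts on the finite group `M`, `f B = fab M a b B = |B|^a |C_M(B)|^b` (`a / b = t`).

* `Flat f R` : `f ≤ f(1)` on the subgroups of `R`;  `Tight f B` : `f B = f(1)`;  `Atom f B` : `B` is minimal among the
  nontrivial tight subgroups;
* `Flat.eqs`, `Flat.set_mul`, `Flat.cv_mul` : for tight `B, D` in a flat group: `⟨B, D⟩ = B D`, `C_M(B ∩ D) = C_M(B) C_M(D)`;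
* `Atom.comm` : **two distinct atoms in a flat 2-group commute**;
* `Atom.eq` : **LEMMA EQ** `[M, B] ≤ C_M(B')` for distinct atoms `B`, `B'` in a flat 2-group;
* `jo f Q`, `br M X` : the join of the atoms of `Q`, the group `[M, X]`.
-/

set_option autoImplicit false

namespace Cfsg.Agent.Omega.ML.Ratio

open Subgroup Cfsg.Agent.ClassTwoFusion.Quad Cfsg.Agent.Omega.NOThree.NoOver Cfsg.Agent.Omega.ML.CD
open scoped Pointwise

variable {H : Type*} [Group H]

/-- `f ≤ f(1)` on the subgroups of `R` -/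
def Flat (f : Subgroup H → ℕ) (R : Subgroup H) : Prop := ∀ D ≤ R, f D ≤ f ⊥

/-- `f B = f(1)` -/
def Tight (f : Subgroup H → ℕ) (B : Subgroup H) : Prop := f B = f ⊥

/-- a minimal nontrivial tight subgroup -/
structure Atom (f : Subgroup H → ℕ) (B : Subgroup H) : Prop where
  ne_bot : B ≠ ⊥
  tight : Tight f B
  min : ∀ D ≤ B, Tight f D → D = ⊥ ∨ D = B

variable {f : Subgroup H → ℕ}

theorem Flat.mono {R R' : Subgroup H} (h : Flat f R) (hR : R' ≤ R) : Flat f R' := fun D hD => h D (hD.trans hR)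

theorem Flat.best {R B : Subgroup H} (h : Flat f R) (hB : B ≤ R) (ht : Tight f B) : Best f R B :=
  ⟨hB, fun D hD => (h D hD).trans ht.ge⟩

theorem Flat.tight {R B : Subgroup H} (h : Flat f R) (hB : Best f R B) : Tight f B :=
  le_antisymm (h B hB.1) (hB.2 ⊥ bot_le)

theorem Flat.sup_inf (hf : LS f) {R B D : Subgroup H} (h : Flat f R) (hB : B ≤ R) (hD : D ≤ R)
    (tB : Tight f B) (tD : Tight f D) : Tight f (B ⊔ D) ∧ Tight f (B ⊓ D) := by
  obtain ⟨h1, h2⟩ := hf.best_sup_inf (h.best hB tB) (h.best hD tD)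
  exact ⟨h.tight h1, h.tight h2⟩

theorem cj_bot (g : H) : cj g (⊥ : Subgroup H) = ⊥ := Subgroup.map_bot _

theorem card_cj [Finite H] (g : H) (B : Subgroup H) : Nat.card (cj g B) = Nat.card B :=
  (Nat.card_congr (B.equivMapOfInjective _ (MulAut.conj g).injective).toEquiv).symm

theorem tight_cj (hf : LS f) {B : Subgroup H} (h : Tight f B) (g : H) : Tight f (cj g B) := by
  unfold Tight
  rw [hf.conj]
  exact h

theorem Atom.conj (hf : LS f) {B : Subgroup H} (h : Atom f B) (g : H) : Atom f (cj g B) where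
  ne_bot := fun h1 => h.ne_bot (by rw [cj_eq_iff, cj_bot] at h1; exact h1)
  tight := tight_cj hf h.tight g
  min := by
    intro D hD hD'
    have h1 := h.min (cj g⁻¹ D) (by rwa [cj_le_iff, inv_inv]) (tight_cj hf hD' g⁻¹)
    rcases h1 with h1 | h1
    · left
      rw [cj_eq_iff, inv_inv, cj_bot] at h1
      exact h1
    · right
      rwa [cj_eq_iff, inv_inv] at h1

theorem Flat.conj (hf : LS f) {R : Subgroup H} (h : Flat f R) (g : H) : Flat f (cj g R) := by
  intro D hD
  have h1 := h (cj g⁻¹ D) (by rwa [cj_le_iff, inv_inv])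
  rwa [hf.conj] at h1

/-- every nontrivial tight group contains an atom -/
theorem exists_atom [Finite H] {B : Subgroup H} (h : Tight f B) (hB : B ≠ ⊥) : ∃ A ≤ B, Atom f A := by
  obtain ⟨A, ⟨hA1, hA2, hA3⟩, hmin⟩ := Set.exists_min_image {A : Subgroup H | A ≤ B ∧ Tight f A ∧ A ≠ ⊥}
    (fun A => Nat.card A) (Set.toFinite _) ⟨B, le_rfl, h, hB⟩
  refine ⟨A, hA1, hA3, hA2, fun D hD hD' => ?_⟩
  by_cases h1 : D = ⊥
  · exact Or.inl h1
  · exact Or.inr (eq_of_le_of_card_ge hD (hmin D ⟨hD.trans hA1, hD', h1⟩))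

theorem Atom.inf_eq_bot (hf : LS f) {R B D : Subgroup H} (hR : Flat f R) (hB : Atom f B) (hD : Atom f D)
    (hBR : B ≤ R) (hDR : D ≤ R) (hne : B ≠ D) : B ⊓ D = ⊥ := by
  have h1 := (hR.sup_inf hf hBR hDR hB.tight hD.tight).2
  rcases hB.min _ inf_le_left h1 with h2 | h2
  · exact h2
  · rcases hD.min _ inf_le_right h1 with h3 | h3
    · exact h3
    · exact absurd (h2.symm.trans h3) hne

/-! ### The join of the atoms -/

/-- the join of the atoms of `Q` -/
def jo (f : Subgroup H → ℕ) (Q : Subgroup H) : Subgroup H := sSup {B : Subgroup H | Atom f B ∧ B ≤ Q}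

theorem jo_le (f : Subgroup H → ℕ) (Q : Subgroup H) : jo f Q ≤ Q := sSup_le fun _ hB => hB.2

theorem Atom.le_jo {B Q : Subgroup H} (h : Atom f B) (hB : B ≤ Q) : B ≤ jo f Q := le_sSup ⟨h, hB⟩

theorem jo_mono {Q Q' : Subgroup H} (h : Q ≤ Q') : jo f Q ≤ jo f Q' :=
  sSup_le fun _ hB => hB.1.le_jo (hB.2.trans h)

theorem cj_jo_le (hf : LS f) (g : H) (Q : Subgroup H) : cj g (jo f Q) ≤ jo f (cj g Q) := by
  rw [cj_le_iff]
  refine sSup_le fun B hB => ?_
  rw [← cj_le_iff]
  exact (hB.1.conj hf g).le_jo (cj_mono hB.2)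

theorem jo_cj (hf : LS f) (g : H) (Q : Subgroup H) : jo f (cj g Q) = cj g (jo f Q) := by
  refine le_antisymm ?_ (cj_jo_le hf g Q)
  have h1 := cj_jo_le hf g⁻¹ (cj g Q)
  rwa [cj_cj, inv_mul_cancel, cj_one, cj_le_iff, inv_inv] at h1

theorem normalizer_le_jo (hf : LS f) (Q : Subgroup H) : normalizer (Q : Set H) ≤ normalizer (jo f Q : Set H) := by
  intro g hg
  rw [Subgroup.mem_normalizer_iff_map_conj_eq] at hg ⊢
  change cj g Q = Q at hg
  change cj g (jo f Q) = jo f Q
  rw [← jo_cj hf, hg]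

/-! ### Equality -/

/-- `x ≤ X`, `y ≤ Y`, `X^a Y^b ≤ x^a y^b` imply equality -/
theorem eq_of_pow_le {a b x y X Y : ℕ} (ha : a ≠ 0) (hb : b ≠ 0) (hx : x ≤ X) (hy : y ≤ Y) (hx0 : 0 < x) (hy0 : 0 < y)
    (h : X ^ a * Y ^ b ≤ x ^ a * y ^ b) : x = X ∧ y = Y := by
  constructor
  · by_contra hne
    have h1 := Nat.pow_lt_pow_left (lt_of_le_of_ne hx hne) ha
    have h2 := Nat.pow_le_pow_left hy b
    have h3 : x ^ a * y ^ b < X ^ a * Y ^ b := Nat.mul_lt_mul_of_lt_of_le h1 h2 (Nat.pow_pos (hy0.trans_le hy))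
    omega
  · by_contra hne
    have h1 := Nat.pow_le_pow_left hx a
    have h2 := Nat.pow_lt_pow_left (lt_of_le_of_ne hy hne) hb
    have h3 : x ^ a * y ^ b < X ^ a * Y ^ b := Nat.mul_lt_mul_of_le_of_lt h1 h2 (Nat.pow_pos (hx0.trans_le hx))
    omega

variable {M : Type*} [Group M] [MulDistribMulAction H M] [Finite H] [Finite M] {a b : ℕ}

/-- both factors of the Chermak-Delgado inequality are equalities -/
theorem Flat.eqs (ha : a ≠ 0) (hb : b ≠ 0) {R B D : Subgroup H} (h : Flat (fab M a b) R) (hB : B ≤ R) (hD : D ≤ R)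
    (tB : Tight (fab M a b) B) (tD : Tight (fab M a b) D) :
    Nat.card B * Nat.card D = Nat.card (B ⊔ D : Subgroup H) * Nat.card (B ⊓ D : Subgroup H) ∧
      Nat.card (cv M (B : Set H)) * Nat.card (cv M (D : Set H)) =
      Nat.card (cv M ((B ⊔ D : Subgroup H) : Set H)) * Nat.card (cv M ((B ⊓ D : Subgroup H) : Set H)) := by
  obtain ⟨h1, h2⟩ := h.sup_inf (ls_fab M a b) hB hD tB tD
  apply eq_of_pow_le ha hb (card_mul_card_le B D) (card_cv_le (M := M) B D) (Nat.mul_pos Nat.card_pos Nat.card_pos)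
    (Nat.mul_pos Nat.card_pos Nat.card_pos)
  have h3 : fab M a b (B ⊔ D) * fab M a b (B ⊓ D) = fab M a b B * fab M a b D := by rw [h1, h2, tB, tD]
  unfold fab at h3
  rw [mul_pow, mul_pow, mul_pow, mul_pow]
  refine le_of_eq ?_
  calc _ = _ := by ring
    _ = _ := h3
    _ = _ := by ring

/-- `X Y = Z` if `|X||Y| = |Z||X ∩ Y|` -/
theorem set_mul_eq {G : Type*} [Group G] [Finite G] {X Y Z : Subgroup G} (hX : X ≤ Z) (hY : Y ≤ Z)
    (h : Nat.card X * Nat.card Y = Nat.card Z * Nat.card (X ⊓ Y : Subgroup G)) :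
    ((X : Set G) * (Y : Set G) : Set G) = (Z : Set G) := by
  have h1 : ((X : Set G) * (Y : Set G) : Set G) ⊆ (Z : Set G) := by
    rintro _ ⟨x, hx, y, hy, rfl⟩
    exact Z.mul_mem (hX hx) (hY hy)
  have h2 := Cfsg.Agent.Lib.ProductSet.card_mul_card_inf X Y
  rw [h] at h2
  have h3 := Nat.eq_of_mul_eq_mul_right Nat.card_pos h2
  refine Set.eq_of_subset_of_ncard_le h1 ?_ (Set.toFinite _)
  exact h3.ge

/-- tight subgroups of a flat group permute -/
theorem Flat.set_mul (ha : a ≠ 0) (hb : b ≠ 0) {R B D : Subgroup H} (h : Flat (fab M a b) R) (hB : B ≤ R) (hD : D ≤ R)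
    (tB : Tight (fab M a b) B) (tD : Tight (fab M a b) D) :
    ((B : Set H) * (D : Set H) : Set H) = ((B ⊔ D : Subgroup H) : Set H) :=
  set_mul_eq le_sup_left le_sup_right (h.eqs ha hb hB hD tB tD).1

/-- `C_M(B ∩ D) = C_M(B) C_M(D)` -/
theorem Flat.cv_mul (ha : a ≠ 0) (hb : b ≠ 0) {R B D : Subgroup H} (h : Flat (fab M a b) R) (hB : B ≤ R) (hD : D ≤ R)
    (tB : Tight (fab M a b) B) (tD : Tight (fab M a b) D) :
    ((cv M (B : Set H) : Set M) * (cv M (D : Set H) : Set M) : Set M) =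
      (cv M ((B ⊓ D : Subgroup H) : Set H) : Set M) := by
  apply set_mul_eq (cv_anti (SetLike.coe_subset_coe.2 inf_le_left)) (cv_anti (SetLike.coe_subset_coe.2 inf_le_right))
  rw [(h.eqs ha hb hB hD tB tD).2, cv_sup, mul_comm]

omit [Finite H] in
/-- if two distinct atoms normalise each other they commute -/
theorem Atom.comm_of_normalizer {R B D : Subgroup H} (hf : LS f) (hR : Flat f R) (hB : Atom f B) (hD : Atom f D)
    (hBR : B ≤ R) (hDR : D ≤ R) (hne : B ≠ D) (h1 : B ≤ normalizer (D : Set H)) (h2 : D ≤ normalizer (B : Set H)) :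
    ∀ x ∈ B, ∀ y ∈ D, x * y = y * x := by
  intro x hx y hy
  have h3 : x * y * x⁻¹ * y⁻¹ ∈ B ⊓ D := by
    constructor
    · have h4 := (mem_normalizer_iff.1 (h2 hy) x⁻¹).1 (inv_mem hx)
      have h5 : x * y * x⁻¹ * y⁻¹ = x * (y * x⁻¹ * y⁻¹) := by group
      rw [h5]
      exact B.mul_mem hx h4
    · exact D.mul_mem ((mem_normalizer_iff.1 (h1 hx) y).1 hy) (inv_mem hy)
  rw [hB.inf_eq_bot hf hR hD hBR hDR hne, mem_bot] at h3
  calc x * y = x * y * x⁻¹ * y⁻¹ * (y * x) := by group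
    _ = y * x := by rw [h3, one_mul]

/-- **(1) of #15357**: two distinct atoms in a flat 2-group commute. -/
theorem Atom.comm (ha : a ≠ 0) (hb : b ≠ 0) {R B D : Subgroup H} (hR : Flat (fab M a b) R) (h2 : IsPGroup 2 R)
    (hB : Atom (fab M a b) B) (hD : Atom (fab M a b) D) (hBR : B ≤ R) (hDR : D ≤ R) (hne : B ≠ D) :
    ∀ x ∈ B, ∀ y ∈ D, x * y = y * x := by
  have hf := ls_fab (H := H) M a b
  set S : Subgroup H := B ⊔ D with hS
  have hSR : S ≤ R := sup_le hBR hDR
  have hBD := hB.inf_eq_bot hf hR hD hBR hDR hne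
  have hcard : Nat.card S = Nat.card B * Nat.card D := by
    have h3 := (hR.eqs ha hb hBR hDR hB.tight hD.tight).1
    rw [hBD, card_bot, mul_one] at h3
    exact h3.symm
  -- each of two atoms generating `S` with the other one is normal in `S`
  have key : ∀ B D : Subgroup H, Atom (fab M a b) B → Atom (fab M a b) D → B ≤ S → D ≤ S → S ≤ B ⊔ D →
      Nat.card S = Nat.card B * Nat.card D → S ≤ normalizer (B : Set H) := by
    intro B D hB hD hBS hDS hgen hcard
    by_contra hcon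
    set N : Subgroup H := normalizer (B : Set H) ⊓ S with hN
    have hNS : N < S := lt_of_le_of_ne inf_le_right fun h3 => hcon (by rw [← h3]; exact inf_le_left)
    -- normalisers grow
    have hgrow : ∃ r ∈ S, r ∈ normalizer (N : Set H) ∧ r ∉ N := by
      have hSp : IsPGroup 2 S := h2.to_le hSR
      have : Fact (Nat.Prime 2) := ⟨Nat.prime_two⟩
      have hnil : Group.IsNilpotent S := hSp.isNilpotent
      have h4 : (N.subgroupOf S) < ⊤ := by
        rw [lt_top_iff_ne_top]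
        intro h5
        exact hNS.not_ge (subgroupOf_eq_top.1 h5)
      have h5 := Group.normalizerCondition_of_isNilpotent (N.subgroupOf S) h4
      obtain ⟨r, hr1, hr2⟩ := SetLike.exists_of_lt h5
      refine ⟨r, r.2, ?_, fun h6 => hr2 (mem_subgroupOf.2 h6)⟩
      rw [mem_normalizer_iff]
      intro y
      rw [mem_normalizer_iff] at hr1
      constructor
      · intro hy
        exact (hr1 ⟨y, hNS.le hy⟩).1 hy
      · intro hy
        have h6 : y ∈ S := by
          have h7 : y = (r : H)⁻¹ * (r * y * (r : H)⁻¹) * r := by group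
          rw [h7]
          exact S.mul_mem (S.mul_mem (S.inv_mem r.2) (hNS.le hy)) r.2
        exact (hr1 ⟨y, h6⟩).2 hy
    obtain ⟨r, hrS, hrN, hr⟩ := hgrow
    have hBN : B ≤ N := le_inf le_normalizer hBS
    have hBr : cj r B ≤ N := by
      rintro _ ⟨x, hx, rfl⟩
      exact (mem_normalizer_iff.1 hrN x).1 (hBN hx)
    have hne' : B ≠ cj r B := by
      intro h3
      apply hr
      have h4 : r ∈ normalizer (B : Set H) := by
        rw [Subgroup.mem_normalizer_iff_map_conj_eq]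
        exact h3.symm
      exact ⟨h4, hrS⟩
    have hBr' := hB.conj hf r
    have hR' : Flat (fab M a b) S := hR.mono hSR
    have hBrS : cj r B ≤ S := hBr.trans hNS.le
    have h3 := hB.inf_eq_bot hf hR' hBr' hBS hBrS hne'
    -- `D₁ = B B^r`
    set D₁ : Subgroup H := B ⊔ cj r B with hD₁
    have hD₁N : D₁ ≤ N := sup_le hBN hBr
    have t1 := (hR'.sup_inf hf hBS hBrS hB.tight hBr'.tight).1
    have hcard1 : Nat.card D₁ = Nat.card B * Nat.card B := by
      have h4 := (hR'.eqs ha hb hBS hBrS hB.tight hBr'.tight).1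
      rw [h3, card_bot, mul_one, card_cj] at h4
      exact h4.symm
    have t2 := (hR'.sup_inf hf (hD₁N.trans hNS.le) hDS t1 hD.tight).2
    rcases hD.min _ inf_le_right t2 with h4 | h4
    · -- too many elements
      have h5 := card_mul_card_le D₁ D
      rw [h4, card_bot, mul_one] at h5
      have h6 : Nat.card (D₁ ⊔ D : Subgroup H) ≤ Nat.card S :=
        card_le_of_le (sup_le (hD₁N.trans hNS.le) hDS)
      have h7 : 1 < Nat.card B := (one_lt_card_iff_ne_bot B).2 hB.ne_bot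
      have h8 : 0 < Nat.card D := Nat.card_pos
      rw [hcard1] at h5
      rw [hcard] at h6
      have h9 : Nat.card B * Nat.card B * Nat.card D ≤ Nat.card B * Nat.card D := h5.trans h6
      have h10 : Nat.card B * Nat.card D * 1 < Nat.card B * Nat.card D * Nat.card B :=
        Nat.mul_lt_mul_of_pos_left h7 (Nat.mul_pos Nat.card_pos h8)
      have h11 : Nat.card B * Nat.card B * Nat.card D = Nat.card B * Nat.card D * Nat.card B := by ring
      omega
    · -- `S = ⟨B, D⟩ ≤ D₁ ≤ N(B)`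
      have h5 : D ≤ D₁ := by rw [← h4]; exact inf_le_left
      have h6 : S ≤ D₁ := hgen.trans (sup_le le_sup_left h5)
      exact hcon (h6.trans (hD₁N.trans inf_le_left))
  have k1 := key B D hB hD le_sup_left le_sup_right le_rfl hcard
  have k2 := key D B hD hB le_sup_right le_sup_left (sup_comm B D).le (by rw [hcard, mul_comm])
  exact hB.comm_of_normalizer hf hR hD hBR hDR hne (le_sup_left.trans k2) (le_sup_right.trans k1)

/-! ### LEMMA EQ -/

variable (M) in
/-- `[M, X]` -/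
def br (X : Subgroup H) : Subgroup M := closure {w | ∃ x ∈ X, ∃ m : M, w = (x • m) * m⁻¹}

omit [Finite H] [Finite M] in
theorem mem_br {X : Subgroup H} {x : H} (hx : x ∈ X) (m : M) : (x • m) * m⁻¹ ∈ br M X :=
  subset_closure ⟨x, hx, m, rfl⟩

omit [Finite H] [Finite M] in
theorem br_mono {X Y : Subgroup H} (h : X ≤ Y) : br M X ≤ br M Y := by
  rw [br, closure_le]
  rintro _ ⟨x, hx, m, rfl⟩
  exact mem_br (h hx) m

omit [Finite H] [Finite M] in
theorem smul_mem_br {X : Subgroup H} {g : H} {m : M} (h : m ∈ br M X) : g • m ∈ br M (cj g X) := by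
  have h1 : br M X ≤ (br M (cj g X)).comap (MulDistribMulAction.toMonoidHom M g) := by
    rw [br, closure_le]
    rintro _ ⟨x, hx, m', rfl⟩
    change g • ((x • m') * m'⁻¹) ∈ br M (cj g X)
    have h3 : g * x * g⁻¹ ∈ cj g X := ⟨x, hx, rfl⟩
    have h2 := mem_br h3 (g • m')
    rw [smul_mul', smul_inv']
    rwa [← mul_smul, inv_mul_cancel_right, mul_smul] at h2
  exact h1 h

/-- `M = C_M(B) C_M(D)` -/
theorem Atom.exists_mul (ha : a ≠ 0) (hb : b ≠ 0) {R B D : Subgroup H} (hR : Flat (fab M a b) R)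
    (hB : Atom (fab M a b) B) (hD : Atom (fab M a b) D) (hBR : B ≤ R) (hDR : D ≤ R) (hne : B ≠ D) (m : M) :
    ∃ c ∈ cv M (D : Set H), ∃ d ∈ cv M (B : Set H), m = c * d := by
  have h1 := hR.cv_mul ha hb hDR hBR hD.tight hB.tight
  rw [hD.inf_eq_bot (ls_fab M a b) hR hB hDR hBR hne.symm, cv_bot] at h1
  have h2 : m ∈ ((⊤ : Subgroup M) : Set M) := mem_top m
  rw [← h1] at h2
  obtain ⟨c, hc, d, hd, h3⟩ := h2
  exact ⟨c, hc, d, hd, h3.symm⟩

/-- **LEMMA EQ**: `[M, B] ≤ C_M(D)` for distinct atoms `B`, `D` of a flat 2-group. -/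
theorem Atom.eq (ha : a ≠ 0) (hb : b ≠ 0) {R B D : Subgroup H} (hR : Flat (fab M a b) R) (h2 : IsPGroup 2 R)
    (hB : Atom (fab M a b) B) (hD : Atom (fab M a b) D) (hBR : B ≤ R) (hDR : D ≤ R) (hne : B ≠ D) :
    br M B ≤ cv M (D : Set H) := by
  rw [br, closure_le]
  rintro _ ⟨x, hx, m, rfl⟩ y hy
  obtain ⟨c, hc, d, hd, rfl⟩ := hB.exists_mul ha hb hR hD hBR hDR hne m
  have h3 : x • d = d := hd x hx
  have h4 : y • c = c := hc y hy
  have h5 : y • x • c = x • c := by
    rw [← mul_smul, ← hB.comm ha hb hR h2 hD hBR hDR hne x hx y hy, mul_smul, h4]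
  have h6 : x • (c * d) * (c * d)⁻¹ = x • c * c⁻¹ := by
    rw [smul_mul', h3]
    group
  rw [h6, smul_mul', smul_inv', h5, h4]

end Cfsg.Agent.Omega.ML.Ratio
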