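import Cfsg.Agent.KFacts.RgdRigid
import Cfsg.Agent.KFacts.RgdVJ
import Cfsg.Agent.KFacts.RgdSyl

/-!
# (ML), K-side, groups with a root group datum (OMEGA; helper949)

`Y` a finite group with a root group datum of characteristic `p` and trivial centre, generated by the root groups,
`Inn Y ≤ 𝔾 ≤ Aut Y`, `D` a `p`-subgroup with `𝔾 = Inn(Y) D` and `Inn(U) ≤ D`; `A ≤ D` lies in a normal `p`-subgroup of
every proper overgroup of `D` in `𝔾`.

* `mem_WJ_of_U`, `le_PJ_of_U`, `eq_top_of_U` : **Tits' lemma**, the overgroups of `U`;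
* `fix_PJ` : diagram automorphisms and parabolic subgroups;  `le_VJ` : `O_p(P_J) ≤ V_J`;
* `kopp` : either the proper overgroups of `D` are in one proper subgroup, or there is a `p`-subgroup `D'` of `𝔾` such
  that `A ⊓ R' = ⊥` for all proper overgroups `R'` of `D'` in `𝔾`.
-/

set_option autoImplicit false
set_option linter.unusedSectionVars false

namespace Cfsg.Agent.Omega.ML.LieRgd

open Subgroup CoxeterSystem Cfsg.Agent.ChevalleyStructure.CoxeterGeom Cfsg.Agent.Tits.Roots Cfsg.Agent.Tits.Core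
  Cfsg.Agent.Tits.Exchange Cfsg.Agent.Nodes.Reps Cfsg.Agent.Nodes.BNOf Cfsg.Agent.Nodes.StabComb
  Cfsg.Agent.Nodes.Bruhat Cfsg.Agent.Nodes.OppDec Cfsg.Agent.Nodes.LeviDec Cfsg.Agent.Nodes.NormalForm
  Cfsg.Agent.KFacts.RgdOpp Cfsg.Agent.KFacts.RgdAut Cfsg.Agent.KFacts.RgdDiag Cfsg.Agent.KFacts.RgdRigid
  Cfsg.Agent.KFacts.RgdVJ Cfsg.Agent.KFacts.RgdSyl

variable {I W Y : Type*} [Fintype I] [DecidableEq I] [Group W] [Group Y] {M : CoxeterMatrix I}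
  {cs : CoxeterSystem M W} {A : I → I → ℤ} {h : IsCartan M A} {p : ℕ} {T : Subgroup Y} {n : I → Y}
  {X : (I → ℤ) → Subgroup Y}

section tits

variable (R : RGD cs h p T n X)

include R

/-- **Tits' lemma**, elements of `N` -/
theorem mem_WJ_of_U [Finite W] {P : Subgroup Y} (hP : RGD.Sup X (RGD.Pos cs h) ≤ P) : ∀ {w : W} {k : Y},
    Rp cs R.nsys w k → k ∈ P → w ∈ WJ cs {i | X (-sr i) ≤ P} := by
  intro w
  induction hn : cs.length w using Nat.strong_induction_on generalizing w with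
  | _ N ih =>
  intro k hk hkP
  by_cases hw1 : w = 1
  · rw [hw1]; exact one_mem _
  obtain ⟨i, hi⟩ := cs.exists_leftDescent_of_ne_one hw1
  have hi' : cs.length (cs.simple i * w) < cs.length w := hi
  have hneg : rep cs h w⁻¹ (sr i) ≤ 0 := by
    refine nonpos_of_lt cs h w⁻¹ i ?_
    rw [← cs.length_inv w, ← cs.length_inv (cs.simple i * w), mul_inv_rev, inv_simple] at hi'
    exact hi'
  have hX : X (-sr i) ≤ P := by
    intro x hx
    have h3 : k⁻¹ * x * k ∈ X (-rep cs h w⁻¹ (sr i)) := by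
      have := R.conj_mem' hk (isRoot_sr cs h i).neg hx
      rwa [map_neg] at this
    have h4 : k⁻¹ * x * k ∈ P :=
      hP (RGD.le_Sup (S := RGD.Pos cs h) ⟨((isRoot_sr cs h i).act w⁻¹).neg, neg_nonneg.2 hneg⟩ h3)
    have e : x = k * (k⁻¹ * x * k) * k⁻¹ := by group
    rw [e]
    exact mul_mem (mul_mem hkP h4) (inv_mem hkP)
  obtain ⟨u, hu, hu1⟩ := exists_ne_one R i
  have h1 : n i * u * (n i)⁻¹ ∈ X (-sr i) := by
    have := R.conj_mem (rp_simple cs R.nsys i) (isRoot_sr cs h i) hu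
    rwa [rep_simple_sr] at this
  have h2 : n i * u * (n i)⁻¹ ≠ 1 := fun h3 => hu1 (mul_eq_left.1 (mul_inv_eq_one.1 h3))
  obtain ⟨a, ha, t, ht, b, hb, e⟩ := R.rk1 i _ h1 h2
  have hXi : X (sr i) ≤ P := le_trans (RGD.le_Sup (S := RGD.Pos cs h) ⟨isRoot_sr cs h i, sr_nonneg i⟩) hP
  have h6 : t * n i ∈ P := by
    have h3 : t * n i = a⁻¹ * (n i * u * (n i)⁻¹) * b⁻¹ := by
      conv_rhs => rw [e]
      group
    rw [h3]
    exact mul_mem (mul_mem (inv_mem (hXi ha)) (hX h1)) (inv_mem (hXi hb))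
  have hk1 : Rp cs R.nsys (cs.simple i) (t * n i) := by
    have := (rp_of_mem (cs := cs) (hN := R.nsys) ht).mul (rp_simple cs R.nsys i)
    rwa [one_mul] at this
  have hk2 : Rp cs R.nsys (cs.simple i * w) ((t * n i)⁻¹ * k) := by
    have := hk1.inv.mul hk
    rwa [inv_simple] at this
  have h7 := ih (cs.length (cs.simple i * w)) (by omega) rfl hk2 (mul_mem (inv_mem h6) hkP)
  have h8 : w = cs.simple i * (cs.simple i * w) := by rw [← mul_assoc, simple_mul_simple_self, one_mul]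
  rw [h8]
  exact mul_mem (simple_mem_WJ cs hX) h7

/-- **Tits' lemma**: an overgroup of `U` is in the parabolic subgroup of its nodes. -/
theorem le_PJ_of_U [Finite W] (hG : GG cs h T X = ⊤) {P : Subgroup Y} (hP : RGD.Sup X (RGD.Pos cs h) ≤ P) :
    P ≤ PJ cs h T X {i | X (-sr i) ≤ P} := by
  intro g hg
  obtain ⟨w, hw⟩ := (mem_GG R).1 (show g ∈ GG cs h T X by rw [hG]; exact mem_top g)
  rw [cell_mem_PJ_iff R hw]
  obtain ⟨b₁, hb₁, k, hk, b₂, hb₂, e⟩ := hw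
  obtain ⟨t₁, ht₁, u₁, hu₁, e₁⟩ := R.mem_B.1 (inv_mem hb₁)
  obtain ⟨t₂, ht₂, u₂, hu₂, e₂⟩ := R.mem_B.1 hb₂
  have hk' : Rp cs R.nsys w (t₁⁻¹ * k * t₂) := by
    have := ((rp_of_mem (cs := cs) (hN := R.nsys) (inv_mem ht₁)).mul hk).mul_mem_right ht₂
    rwa [one_mul] at this
  refine mem_WJ_of_U R hP hk' ?_
  have e3 : t₁⁻¹ * k * t₂ = u₁ * g * u₂⁻¹ := by
    have e4 : b₁ = u₁⁻¹ * t₁⁻¹ := by rw [← inv_inv b₁, e₁, mul_inv_rev]
    rw [e, e4, e₂]
    group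
  rw [e3]
  exact mul_mem (mul_mem (hP hu₁) hg) (inv_mem (hP hu₂))

theorem eq_top_of_U [Finite W] (hG1 : RGD.Sup X {x | IsRoot cs h x} = ⊤) {P : Subgroup Y}
    (hP : RGD.Sup X (RGD.Pos cs h) ≤ P) (hJ : ∀ i, X (-sr i) ≤ P) : P = ⊤ := by
  rw [eq_top_iff, ← hG1]
  exact Sup_le_of_simple R (fun i => le_trans (RGD.le_Sup (S := RGD.Pos cs h) ⟨isRoot_sr cs h i, sr_nonneg i⟩) hP) hJ

/-- the opposite form of `le_PJ_of_U` -/
theorem le_PNJ_of_UN [Finite W] (hG : GG cs h T X = ⊤) {P : Subgroup Y} (hP : UN cs h X ≤ P) :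
    P ≤ PNJ cs h T X {i | X (sr i) ≤ P} := by
  have h1 := le_PJ_of_U (opp R) (P := P) (by rw [GG_opp, hG]) (by rw [U_opp]; exact hP)
  rw [PJ_opp] at h1
  simpa only [neg_neg] using h1

theorem eq_top_of_UN [Finite W] (hG1 : RGD.Sup X {x | IsRoot cs h x} = ⊤) {P : Subgroup Y}
    (hP : UN cs h X ≤ P) (hJ : ∀ i, X (sr i) ≤ P) : P = ⊤ := by
  rw [eq_top_iff, ← hG1]
  exact Sup_le_of_simple R hJ (fun i => le_trans (X_le_UN (isRoot_sr cs h i).neg (by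
    rw [neg_nonpos]; exact sr_nonneg i)) hP)

/-- `U⁻ = (U⁻ ∩ L_J) V_J⁻` -/
theorem exists_UN {J : Set I} {x : Y} (hx : x ∈ UN cs h X) :
    ∃ a ∈ UN cs h X, ∃ v ∈ VNJ cs h X J, a ∈ LJ cs h T X J ∧ x = a * v := by
  have h2 : UN cs h X ≤ (LJ cs h T X J ⊓ UN cs h X) ⊔ VNJ cs h X J := by
    refine RGD.Sup_le fun z hz => ?_
    have hz0 : 0 ≤ -z := neg_nonneg.2 hz.2
    rcases mem_PosJ_or_NotJ J hz.1.neg hz0 with h1 | h1
    · refine le_trans (le_inf ?_ (X_le_UN hz.1 hz.2)) le_sup_left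
      have h3 := RootsJ.neg (PosJ_subset J h1)
      rw [neg_neg] at h3
      exact X_le_LJ h3
    · exact le_trans (RGD.le_Sup (S := NotNJ cs h J) h1) le_sup_right
  have h1 : x ∈ (((LJ cs h T X J ⊓ UN cs h X) ⊔ VNJ cs h X J : Subgroup Y) : Set Y) := h2 hx
  rw [Subgroup.coe_mul_of_left_le_normalizer_right _ _ (le_trans inf_le_left (LJ_le_normalizer_VNJ R J)),
    Set.mem_mul] at h1
  obtain ⟨a, ha, v, hv, e⟩ := h1
  exact ⟨a, ha.2, v, hv, ha.1, e.symm⟩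

/-- a diagram automorphism and an invariant set of nodes -/
theorem fix_PJ [Finite W] {β : MulAut Y} {σ : Equiv.Perm I} (hB : Fix β (RGD.B cs h T X)) (D : Diag T X β σ)
    {J : Set I} (hJ : ∀ i, σ i ∈ J ↔ i ∈ J) : Fix β (PJ cs h T X J) := by
  have key : ∀ (β : MulAut Y) (σ : Equiv.Perm I), Fix β (RGD.B cs h T X) → Diag T X β σ → (∀ i, σ i ∈ J ↔ i ∈ J) →
      ∀ x ∈ PJ cs h T X J, β x ∈ PJ cs h T X J := by
    intro β σ hB D hJ x hx
    obtain ⟨P, hP⟩ : ∃ P : Subgroup Y, ∀ x, x ∈ P ↔ β x ∈ PJ cs h T X J :=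
      ⟨(PJ cs h T X J).comap β.toMonoidHom, fun x => Iff.rfl⟩
    have hPB : RGD.B cs h T X ≤ P := fun x hx => (hP x).2 (B_le_PJ ((hB x).2 hx))
    obtain ⟨w, hw, hc⟩ := (mem_PJ_iff_cell R).1 hx
    rw [← hP, cell_mem_iff R hPB hc]
    refine WJ_mono cs ?_ hw
    intro i hi
    show n i ∈ P
    rw [hP]
    exact (cell_mem_PJ_iff R (cell_of_rp (D.rp (R := R) i))).2 (simple_mem_WJ cs ((hJ i).2 hi))
  intro x
  refine ⟨fun hx => ?_, key β σ hB D hJ x⟩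
  have h1 := key β⁻¹ σ⁻¹ hB.inv D.inv (fun i => by
    rw [← hJ (σ⁻¹ i)]
    have : σ (σ⁻¹ i) = i := σ.apply_symm_apply i
    rw [this]) _ hx
  rwa [MulAut.inv_apply_self] at h1

end tits

section core

variable [Finite Y] [hp : Fact p.Prime] (R : RGD cs h p T n X)

include R hp

/-- a `p`-group containing `U` is `U` -/
theorem le_U_of_isPGroup [Finite W] (hG : GG cs h T X = ⊤) {Q : Subgroup Y} (hQ : IsPGroup p Q)
    (hU : RGD.Sup X (RGD.Pos cs h) ≤ Q) : Q ≤ RGD.Sup X (RGD.Pos cs h) := by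
  rw [← relIndex_eq_one]
  have h1 := not_dvd_relIndex R
  rw [hG, relIndex_top_right] at h1
  have h2 : (RGD.Sup X (RGD.Pos cs h)).relIndex Q ∣ (RGD.Sup X (RGD.Pos cs h)).index :=
    ⟨Q.index, (relIndex_mul_index hU).symm⟩
  obtain ⟨k, hk⟩ := hQ.index (H := (RGD.Sup X (RGD.Pos cs h)).subgroupOf Q) |>.imp fun _ h => h
  have h3 : (RGD.Sup X (RGD.Pos cs h)).relIndex Q = p ^ k := hk
  rcases Nat.eq_zero_or_pos k with h0 | h0
  · rw [h3, h0, pow_zero]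
  · exfalso
    apply h1
    rw [h3] at h2
    exact (dvd_pow_self p h0.ne').trans h2

/-- `O_p(P_J) ≤ V_J` -/
theorem le_VJ [Finite W] (hG : GG cs h T X = ⊤) {J : Set I} {N : Subgroup Y} (hN : IsPGroup p N)
    (hn : ∀ g ∈ PJ cs h T X J, ∀ x ∈ N, g * x * g⁻¹ ∈ N) : N ≤ VJ cs h X J := by
  have hNU : N ≤ RGD.Sup X (RGD.Pos cs h) := by
    have h1 : RGD.Sup X (RGD.Pos cs h) ≤ normalizer (N : Set Y) := by
      intro u hu
      have hu' : u ∈ PJ cs h T X J := B_le_PJ (RGD.U_le_B hu)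
      rw [mem_normalizer_iff]
      intro x
      refine ⟨hn u hu' x, fun hx => ?_⟩
      have := hn u⁻¹ (inv_mem hu') _ hx
      rwa [show u⁻¹ * (u * x * u⁻¹) * u⁻¹⁻¹ = x by group] at this
    have h2 : IsPGroup p ↥(RGD.Sup X (RGD.Pos cs h) ⊔ N) := R.isPGroup_Upos.to_sup_of_normal_right' hN h1
    exact le_trans le_sup_right (le_U_of_isPGroup R hG h2 le_sup_left)
  intro x hx
  obtain ⟨t, ht, v, hv, e⟩ := mem_TV R (J := J) (c := x) fun g hg => RGD.U_le_B (hNU (hn g hg x hx))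
  have h1 : t ∈ RGD.Sup X (RGD.Pos cs h) := by
    have : t = x * v⁻¹ := by rw [e]; group
    rw [this]
    exact mul_mem (hNU hx) (inv_mem (VJ_le_U J hv))
  have h2 := U_inf_T R
  rw [Subgroup.eq_bot_iff_forall] at h2
  rw [e, h2 t ⟨h1, ht⟩, one_mul]
  exact hv

theorem PJ_ne_top [Finite W] {J : Set I} (hJ : J ≠ Set.univ) : PJ cs h T X J ≠ ⊤ := by
  intro h1
  obtain ⟨i, hi⟩ := (Set.ne_univ_iff_exists_notMem J).1 hJ
  apply X_ne_bot R (isRoot_sr cs h i).neg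
  have h2 : X (-sr i) ≤ VNJ cs h X J := RGD.le_Sup (S := NotNJ cs h J) (by
    show - -sr i ∈ NotJ cs h J
    rw [neg_neg]
    exact sr_mem_NotJ hi)
  have h3 := VNJ_inf_PJ R J
  rw [h1, inf_top_eq] at h3
  rw [eq_bot_iff, ← h3]
  exact h2

end core

end Cfsg.Agent.Omega.ML.LieRgd
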