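import Cfsg.Agent.Omega.ML.Rows

/-!
# (ML), the K-list end: a local criterion for `|A| ≤ 4` (helper600)

`Loc z P`: `P` is a Sylow 2-subgroup of `S`, `z` is the only involution of `C_S(P)` and of `O₂(C_S(z))`.
`AS.card_le_four_of_loc`: then `|A| ≤ 4` if `|X : S| ≤ 2`; `AS.index_dvd`: `|X : S|` divides `|Out(S)|`.
Examples: `L₃(3)`, `M₁₁`, `U₃(3)`.
-/

set_option autoImplicit false

namespace Cfsg.Agent.Omega.ML.RowLoc

open Subgroup Cfsg Cfsg.Agent.ZN Cfsg.Agent.Omega.ML.Rows
open Cfsg.Agent.MinSimple.VModule (o2_isPGroup o2_le le_o2 le_normalizer_o2)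

universe u

/-- `z` is the only involution of `C_S(P)`, `P` Sylow, and of the normal 2-subgroups of `C_S(z)` -/
structure Loc {S : Type*} [Group S] (z : S) (P : Subgroup S) : Prop where
  z1 : z ≠ 1
  zz : z * z = 1
  pP : IsPGroup 2 P
  odd : ¬ 2 ∣ P.index
  zc : ∀ p ∈ P, z * p = p * z
  uniq : ∀ x : S, (∀ p ∈ P, x * p = p * x) → x * x = 1 → x = 1 ∨ x = z
  oo : ∀ N : Subgroup S, IsPGroup 2 N → (∀ n ∈ N, n * z = z * n) →
    (∀ g, g * z = z * g → ∀ n ∈ N, g * n * g⁻¹ ∈ N) → ∀ n ∈ N, n * n = 1 → n = 1 ∨ n = z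

theorem Loc.of_equiv {S S' : Type*} [Group S] [Group S'] (e : S ≃* S') {z : S} {P : Subgroup S} (h : Loc z P) :
    Loc (e z) (P.map e.toMonoidHom) where
  z1 := fun h1 => h.z1 (e.injective (by rw [h1, map_one]))
  zz := by rw [← map_mul, h.zz, map_one]
  pP := h.pP.map _
  odd := by
    rw [index_map_of_bijective (f := e.toMonoidHom) e.bijective P]
    exact h.odd
  zc := by
    rintro _ ⟨p, hp, rfl⟩
    show e z * e p = e p * e z
    rw [← map_mul, h.zc p hp, map_mul]
  uniq := by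
    intro x hx hxx
    obtain ⟨w, rfl⟩ := e.surjective x
    have a1 : ∀ p ∈ P, w * p = p * w := by
      intro p hp
      have h1 : e w * e p = e p * e w := hx (e p) ⟨p, hp, rfl⟩
      rw [← map_mul, ← map_mul] at h1
      exact e.injective h1
    have a2 : w * w = 1 := by
      rw [← map_mul, ← map_one e] at hxx
      exact e.injective hxx
    rcases h.uniq w a1 a2 with h1 | h1
    · left; rw [h1, map_one]
    · right; rw [h1]
  oo := by
    intro N hN hc hn n hnN hnn
    obtain ⟨w, rfl⟩ := e.surjective n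
    have a1 : ∀ m ∈ N.comap e.toMonoidHom, m * z = z * m := by
      intro m hm
      have h1 : e m * e z = e z * e m := hc (e m) hm
      rw [← map_mul, ← map_mul] at h1
      exact e.injective h1
    have a2 : ∀ g, g * z = z * g → ∀ m ∈ N.comap e.toMonoidHom, g * m * g⁻¹ ∈ N.comap e.toMonoidHom := by
      intro g hg m hm
      show e (g * m * g⁻¹) ∈ N
      rw [map_mul, map_mul, map_inv]
      exact hn (e g) (by rw [← map_mul, ← map_mul, hg]) (e m) hm
    have a3 : w * w = 1 := by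
      rw [← map_mul, ← map_one e] at hnn
      exact e.injective hnn
    rcases h.oo (N.comap e.toMonoidHom) (hN.comap_of_injective _ e.injective) a1 a2 w hnN a3 with h1 | h1
    · left; rw [h1, map_one]
    · right; rw [h1]

variable {X : Type u} [Group X] {S T A : Subgroup X}

/-- `|X : S|` divides `|Out(S)|` -/
theorem AS.index_dvd (h : AS S T A) {n : ℕ} (hn : (MulAut.conj : S →* MulAut S).range.index ∣ n) : S.index ∣ n := by
  have hSn := h.norm
  have h1 : (MulAut.conj : S →* MulAut S).range.comap (MulAut.conjNormal (H := S)) = S := by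
    ext x
    constructor
    · rintro ⟨s, hs⟩
      have h2 : (s : X)⁻¹ * x ∈ centralizer (S : Set X) := by
        refine mem_centralizer_iff.2 fun y hy => ?_
        have h3 := congrArg (fun α : MulAut S => ((α ⟨y, hy⟩ : S) : X)) hs
        have h4 : (s : X) * y * (s : X)⁻¹ = x * y * x⁻¹ := by
          simpa [MulAut.conj_apply, MulAut.conjNormal_apply] using h3
        calc y * ((s : X)⁻¹ * x) = (s : X)⁻¹ * (s * y * (s : X)⁻¹) * x := by group
          _ = (s : X)⁻¹ * (x * y * x⁻¹) * x := by rw [h4]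
          _ = (s : X)⁻¹ * x * y := by group
      rw [h.cen, mem_bot, inv_mul_eq_one] at h2
      rw [← h2]
      exact s.2
    · intro hx
      refine ⟨⟨x, hx⟩, ?_⟩
      ext y
      simp [MulAut.conj_apply, MulAut.conjNormal_apply]
  have hInn : (MulAut.conj : S →* MulAut S).range.Normal := by
    refine ⟨?_⟩
    rintro _ ⟨s, rfl⟩ α
    refine ⟨α s, ?_⟩
    ext y
    simp [MulAut.conj_apply, MulAut.mul_apply]
  rw [← h1, index_comap]
  exact (relIndex_dvd_index_of_normal _ _).trans hn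

/-- **the local criterion** -/
theorem AS.card_le_four_of_loc [Finite X] (h : AS S T A) {z : S} {P : Subgroup S} (L : Loc z P)
    (hi : S.index ≤ 2) : Nat.card A ≤ 4 := by
  classical
  have : Fact (Nat.Prime 2) := ⟨Nat.prime_two⟩
  have hSn := h.norm
  -- a Sylow subgroup of `X` containing `P`, conjugate to `T`
  obtain ⟨Q0, hQ0⟩ := (L.pP.map S.subtype).exists_le_sylow
  have hTS : ∃ T0 : Sylow 2 X, (T0 : Subgroup X) = T := by
    refine ⟨h.two.toSylow h.syl, rfl⟩
  obtain ⟨T0, hT0⟩ := hTS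
  obtain ⟨g, hg⟩ := MulAction.exists_smul_eq X Q0 T0
  have hT : ∀ t, t ∈ T ↔ g⁻¹ * t * g ∈ (Q0 : Subgroup X) := by
    intro t
    rw [← hT0, ← hg, Sylow.coe_subgroup_smul, mem_pointwise_smul_iff_inv_smul_mem]
    simp [MulAut.smul_def, ← map_inv]
  -- `Q0 ∩ S = P`
  have hQS : ∀ x : S, (x : X) ∈ (Q0 : Subgroup X) → x ∈ P := by
    intro x hx
    set P0 : Sylow 2 S := L.pP.toSylow L.odd with hP0
    have h1 : (P : Subgroup S) ≤ (Q0 : Subgroup X).subgroupOf S := fun p hp => hQ0 ⟨p, hp, rfl⟩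
    have h2 : IsPGroup 2 ((Q0 : Subgroup X).subgroupOf S) :=
      Q0.isPGroup'.comap_of_injective _ S.subtype_injective
    have h3 : (Q0 : Subgroup X).subgroupOf S = P := P0.is_maximal' h2 h1
    rw [← h3]
    exact hx
  -- conjugation
  have hS : ∀ {x : X} (y : X), x ∈ S → y * x * y⁻¹ ∈ S := fun y hx => hSn.conj_mem _ hx y
  -- `Q0` centralises `z`
  have hz0 : ∀ u ∈ (Q0 : Subgroup X), u * (z : X) = z * u := by
    intro u hu
    have hu' : u⁻¹ ∈ (Q0 : Subgroup X) := inv_mem hu
    have h1 := L.uniq ⟨u * z * u⁻¹, hS u z.2⟩ (fun p hp => ?_) ?_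
    · rcases h1 with h1 | h1
      · exfalso
        apply L.z1
        have h2 : u * (z : X) * u⁻¹ = 1 := congrArg Subtype.val h1
        apply Subtype.ext
        calc (z : X) = u⁻¹ * (u * z * u⁻¹) * u := by group
          _ = 1 := by rw [h2]; group
      · exact mul_inv_eq_iff_eq_mul.1 (congrArg Subtype.val h1)
    · have hpQ : (p : X) ∈ (Q0 : Subgroup X) := hQ0 ⟨p, hp, rfl⟩
      have h2 : (⟨u⁻¹ * p * u⁻¹⁻¹, hS u⁻¹ p.2⟩ : S) ∈ P :=
        hQS _ (mul_mem (mul_mem hu' hpQ) (inv_mem hu'))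
      have h3 := congrArg Subtype.val (L.zc _ h2)
      have h4 : (z : X) * (u⁻¹ * p * u⁻¹⁻¹) = (u⁻¹ * p * u⁻¹⁻¹) * z := h3
      apply Subtype.ext
      show (u * (z : X) * u⁻¹) * p = p * (u * z * u⁻¹)
      calc (u * (z : X) * u⁻¹) * p = u * (z * (u⁻¹ * p * u⁻¹⁻¹)) * u⁻¹ := by group
        _ = u * ((u⁻¹ * p * u⁻¹⁻¹) * z) * u⁻¹ := by rw [h4]
        _ = p * (u * z * u⁻¹) := by group
    · apply Subtype.ext
      show (u * (z : X) * u⁻¹) * (u * z * u⁻¹) = 1
      calc (u * (z : X) * u⁻¹) * (u * z * u⁻¹) = u * (z * z) * u⁻¹ := by group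
        _ = 1 := by
            have h5 : (z : X) * z = 1 := congrArg Subtype.val L.zz
            rw [h5]; group
  -- `z' = g z g⁻¹`, `R = C(z')`
  set z' : X := g * z * g⁻¹ with hz'
  set R : Subgroup X := centralizer ({z'} : Set X) with hR
  have hRm : ∀ x, x ∈ R ↔ x * z' = z' * x := fun x => mem_centralizer_singleton_iff
  have hTR : T ≤ R := by
    intro t ht
    rw [hRm]
    have h1 := hz0 _ ((hT t).1 ht)
    calc t * (g * z * g⁻¹) = g * ((g⁻¹ * t * g) * z) * g⁻¹ := by group
      _ = g * (z * (g⁻¹ * t * g)) * g⁻¹ := by rw [h1]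
      _ = g * z * g⁻¹ * t := by group
  have hz'1 : z' ≠ 1 := by
    intro h1
    apply L.z1
    apply Subtype.ext
    calc (z : X) = g⁻¹ * z' * g := by rw [hz']; group
      _ = 1 := by rw [h1]; group
  have hRt : R ≠ ⊤ := by
    intro h1
    apply hz'1
    have h2 : z' ∈ centralizer (S : Set X) := by
      refine mem_centralizer_iff.2 fun y _ => ?_
      exact (hRm y).1 (h1 ▸ mem_top y)
    rwa [h.cen, mem_bot] at h2
  have hAR := h.low R hTR hRt
  -- `A ∩ S ≤ ⟨z'⟩`
  have hAS : ∀ b ∈ A, b ∈ S → b = 1 ∨ b = z' := by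
    intro b hb hbS
    let c : S →* X := (MulAut.conj g).toMonoidHom.comp S.subtype
    have hc : ∀ s : S, c s = g * s * g⁻¹ := fun s => rfl
    have hci : Function.Injective c := (MulAut.conj g).injective.comp S.subtype_injective
    have hb' : g⁻¹ * b * g ∈ S := by
      have := hS g⁻¹ hbS
      rwa [inv_inv] at this
    have a1 : ∀ n ∈ (o2 R).comap c, n * z = z * n := by
      intro n hn
      have h1 := (hRm _).1 (o2_le R hn)
      rw [hc, hz'] at h1
      apply Subtype.ext
      show (n : X) * z = z * n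
      calc (n : X) * z = g⁻¹ * (g * n * g⁻¹ * (g * z * g⁻¹)) * g := by group
        _ = g⁻¹ * (g * z * g⁻¹ * (g * n * g⁻¹)) * g := by rw [h1]
        _ = z * n := by group
    have a2 : ∀ k, k * z = z * k → ∀ n ∈ (o2 R).comap c, k * n * k⁻¹ ∈ (o2 R).comap c := by
      intro k hk n hn
      show c (k * n * k⁻¹) ∈ o2 R
      have hk' : (k : X) * z = z * k := congrArg Subtype.val hk
      have hkR : c k ∈ R := by
        rw [hRm, hc, hz']
        calc g * k * g⁻¹ * (g * z * g⁻¹) = g * (k * z) * g⁻¹ := by group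
          _ = g * (z * k) * g⁻¹ := by rw [hk']
          _ = g * z * g⁻¹ * (g * k * g⁻¹) := by group
      have h1 := (mem_normalizer_iff.1 (le_normalizer_o2 R hkR) (c n)).1 hn
      rwa [map_mul, map_mul, map_inv]
    have a3 : (⟨g⁻¹ * b * g, hb'⟩ : S) ∈ (o2 R).comap c := by
      show g * (g⁻¹ * b * g) * g⁻¹ ∈ o2 R
      have : g * (g⁻¹ * b * g) * g⁻¹ = b := by group
      rw [this]
      exact hAR hb
    have a4 : (⟨g⁻¹ * b * g, hb'⟩ : S) * ⟨g⁻¹ * b * g, hb'⟩ = 1 := by
      apply Subtype.ext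
      show (g⁻¹ * b * g) * (g⁻¹ * b * g) = 1
      calc (g⁻¹ * b * g) * (g⁻¹ * b * g) = g⁻¹ * (b * b) * g := by group
        _ = 1 := by rw [h.el b hb]; group
    rcases L.oo ((o2 R).comap c) ((o2_isPGroup R).comap_of_injective _ hci) a1 a2 _ a3 a4 with h1 | h1
    · left
      have h2 : g⁻¹ * b * g = 1 := congrArg Subtype.val h1
      calc b = g * (g⁻¹ * b * g) * g⁻¹ := by group
        _ = 1 := by rw [h2]; group
    · right
      have h2 : g⁻¹ * b * g = z := congrArg Subtype.val h1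
      calc b = g * (g⁻¹ * b * g) * g⁻¹ := by group
        _ = z' := by rw [h2]
  -- counting
  have h1 : Nat.card (S.subgroupOf A) ≤ 2 := by
    have h2 : ((S.subgroupOf A : Subgroup A) : Set A) ⊆ Subtype.val ⁻¹' ({1, z'} : Set X) := by
      intro b hb
      rcases hAS b b.2 (mem_subgroupOf.1 hb) with e | e
      · left; exact e
      · right; exact e
    have h3 : Nat.card (S.subgroupOf A) = (((S.subgroupOf A : Subgroup A) : Set A)).ncard := rfl
    rw [h3, ← Set.ncard_image_of_injective _ (Subtype.val_injective (p := fun x => x ∈ A))]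
    refine (Set.ncard_le_ncard (t := ({1, z'} : Set X)) ?_ (Set.toFinite _)).trans ?_
    · rintro _ ⟨b, hb, rfl⟩
      exact h2 hb
    · exact (Set.ncard_insert_le _ _).trans (by rw [Set.ncard_singleton])
  have h4 : Nat.card (S.subgroupOf A) * (S.subgroupOf A).index = Nat.card A := card_mul_index _
  have h5 : (S.subgroupOf A).index ≤ 2 := by
    have h6 : S.relIndex A ∣ S.index := relIndex_dvd_index_of_normal _ _
    have h7 : 0 < S.index := Nat.pos_of_ne_zero index_ne_zero_of_finite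
    exact (Nat.le_of_dvd h7 h6).trans hi
  calc Nat.card A = Nat.card (S.subgroupOf A) * (S.subgroupOf A).index := h4.symm
    _ ≤ 2 * 2 := Nat.mul_le_mul h1 h5

end Cfsg.Agent.Omega.ML.RowLoc
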