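import Cfsg.Agent.Omega.ML.ShE
import Cfsg.Agent.Omega.ML.Num
import Cfsg.Agent.Omega.TwoF.RowFiLB
import Cfsg.Agent.Omega.Lie.CenTwo
import Cfsg.Agent.Fischer.Fi22Order
import Cfsg.Agent.OddHalf.D8.Fi22.SylAut
import Cfsg.Agent.KFacts.FiTT.Final

/-!
# (ML), the K-list end: the row `Fi22` (helper178)

* `card_le_of` : in the situation `AS S T A`: `|A| ≤ n |X : S|` if the normal 2-subgroups of `C_S(z)` have order at
  most `n`, `⟨z⟩ = Z(S₀)`, `S₀` a Sylow 2-subgroup of `S`;
* `false_of_card` : the numerical criterion with a bound `|A| ≤ 2 ^ a`;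
* `dead` : the row `Fi22` (`|A| ≤ 2 ^ 12`, `|M| ≥ 2 ^ 54`).
-/

set_option autoImplicit false

namespace Cfsg.Agent.Omega.ML.RowFi22

open Subgroup Cfsg Cfsg.Agent.ZN Cfsg.Agent.Omega.ML.Rows Cfsg.Agent.Omega.TwoF Cfsg.Agent.Omega.Lie
open Cfsg.Agent.MinSimple.VModule (o2_isPGroup o2_le le_o2 le_normalizer_o2)

universe u v w

/-! ### The bound -/

/-- **`|A| ≤ n |X : S|`.** -/
theorem card_le_of {X : Type u} [Group X] [Finite X] {S T A : Subgroup X} (h : AS S T A) {z : S} (hz1 : z ≠ 1)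
    (hz : ∃ S₀ : Sylow 2 S, z ∈ S₀ ∧ (∀ x ∈ S₀, x * z = z * x) ∧ ∀ y ∈ S₀, (∀ x ∈ S₀, x * y = y * x) → y = 1 ∨ y = z)
    {n : ℕ} (hD : ∀ D : Subgroup S, (∀ y ∈ D, y * z = z * y) →
      (∀ x : S, x * z = z * x → ∀ y ∈ D, x * y * x⁻¹ ∈ D) → IsPGroup 2 D → Nat.card D ≤ n) :
    Nat.card A ≤ n * S.index := by
  have hS := h.norm
  obtain ⟨g, hg⟩ := ShE.exists_conj hS h.two h.syl hz
  have hne : centralizer ({((g : X) * z * (g : X)⁻¹)} : Set X) ≠ ⊤ := by
    intro h1
    have h2 : (z : X) ∈ centralizer (S : Set X) := by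
      rw [mem_centralizer_iff]
      intro y _
      have h3 : (g * y * (g : X)⁻¹) * (g * z * (g : X)⁻¹) = (g * z * (g : X)⁻¹) * (g * y * (g : X)⁻¹) :=
        mem_centralizer_singleton_iff.1 (h1 ▸ mem_top _)
      calc y * (z : X) = (g : X)⁻¹ * ((g * y * (g : X)⁻¹) * (g * z * (g : X)⁻¹)) * g := by group
        _ = (g : X)⁻¹ * ((g * z * (g : X)⁻¹) * (g * y * (g : X)⁻¹)) * g := by rw [h3]
        _ = z * y := by group
    rw [h.cen, mem_bot] at h2
    exact hz1 (Subtype.ext h2)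
  have hle := h.low _ hg hne
  set C := centralizer ({((g : X) * z * (g : X)⁻¹)} : Set X) with hC
  let f : S →* X := (MulAut.conj (g : X)).toMonoidHom.comp S.subtype
  have hf : Function.Injective f := (MulAut.conj (g : X)).injective.comp S.subtype_injective
  have hfx : ∀ x : S, f x = g * x * (g : X)⁻¹ := fun x => rfl
  set D : Subgroup S := (o2 C).comap f with hDd
  have h1 : Nat.card D ≤ n := by
    apply hD
    · intro y hy
      have h2 : f y ∈ C := o2_le _ hy
      rw [hC, mem_centralizer_singleton_iff] at h2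
      apply hf
      rw [map_mul, map_mul]
      exact h2
    · intro x hx y hy
      have h2 : f x ∈ C := by
        rw [hC, mem_centralizer_singleton_iff]
        have h3 := congrArg f hx
        rw [map_mul, map_mul] at h3
        exact h3
      show f (x * y * x⁻¹) ∈ o2 C
      rw [map_mul, map_mul, map_inv]
      exact (mem_normalizer_iff.1 (le_normalizer_o2 _ h2) (f y)).1 hy
    · exact (o2_isPGroup C).comap_of_injective f hf
  have h2 : Nat.card (S ⊓ A : Subgroup X) ≤ n := by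
    refine le_trans ?_ h1
    rw [← card_map_of_injective (K := D) hf]
    refine card_le_of_le ?_
    rintro a ⟨haS, haA⟩
    refine ⟨g⁻¹ * ⟨a, haS⟩ * g, ?_, ?_⟩
    · show f (g⁻¹ * ⟨a, haS⟩ * g) ∈ o2 C
      have h3 : f (g⁻¹ * ⟨a, haS⟩ * g) = a := by
        rw [hfx]
        simp only [Subgroup.coe_mul, Subgroup.coe_inv]
        group
      rw [h3]
      exact hle haA
    · rw [hfx]
      simp only [Subgroup.coe_mul, Subgroup.coe_inv]
      group
  have h3 : S.relIndex A ≤ S.index := by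
    have h4 : S.relIndex A ≤ S.relIndex ⊤ :=
      relIndex_le_of_le_right le_top (by rw [relIndex_top_right]; exact index_ne_zero_of_finite)
    rwa [relIndex_top_right] at h4
  have h4 : S.relIndex A * Nat.card (S ⊓ A : Subgroup X) = Nat.card A := by
    have h5 := relIndex_mul_relIndex ⊥ (S ⊓ A) A bot_le inf_le_right
    rw [relIndex_bot_left, relIndex_bot_left, inf_relIndex_right, mul_comm] at h5
    exact h5
  rw [← h4, mul_comm]
  exact Nat.mul_le_mul h2 h3

/-- **The numerical criterion with a given bound for `|A|`.** -/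
theorem false_of_card {H : Type u} [Group H] [Finite H] {M : Type v} [Group M] [Finite M] [MulDistribMulAction H M]
    {K T A : Subgroup H} (h : In H M K T A) {n a b : ℕ} (hA : Nat.card A ≤ 2 ^ a)
    (hl : Heis.LB.{u, u, v} (K ⧸ center K) n) (ho : Num.OutB.{u} (K ⧸ center K) b)
    (hn : Nat.card (K ⧸ center K) ^ (a - 1) * 2 ^ ((a - 1) * (a - 1 + b)) < 2 ^ (a * n)) : False := by
  obtain ⟨a', ha'⟩ := IsPGroup.iff_card.1 (Num.isPGroup_A h)
  have h1 : a' ≤ a := by
    rwa [ha', Nat.pow_le_pow_iff_right (by norm_num)] at hA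
  have h2 : 1 ≤ a' := by
    rcases Nat.eq_zero_or_pos a' with h3 | h3
    · subst h3
      have := h.eight
      rw [ha'] at this
      norm_num at this
    · exact h3
  have hp : IsPGroup 2 M := fun m => ⟨1, by rw [pow_one, pow_two]; exact h.sq m⟩
  have h3 := Glob.over_off Nat.prime_two hp h.faith h.irr ha' (Num.overOff h)
  have h4 := Num.card_H_le h ha' ho
  have h5 := Num.lb_le h hl
  have hs : 1 ≤ Nat.card (K ⧸ center K) := Nat.card_pos
  refine Num.num hs h2 h1 (n := n) (b := b) ?_ hn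
  rw [pow_mul]
  exact (Nat.pow_le_pow_left h5 _).trans (h3.trans (Nat.pow_le_pow_left h4 _))

/-! ### `Fi22` -/

/-- if the product of two elements outside `I` lies in `I` then `|A : I| ≤ 2` -/
theorem index_le_two {B : Type*} [Group B] (I : Subgroup B) (h : ∀ a b : B, a ∉ I → b ∉ I → a * b ∈ I) :
    I.index ≤ 2 := by
  by_cases hI : I = ⊤
  · rw [hI, index_top]
    norm_num
  · obtain ⟨a, ha⟩ : ∃ a, a ∉ I := by
      by_contra hcon
      push Not at hcon
      exact hI (eq_top_iff.2 fun x _ => hcon x)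
    have h2 : I.index = 2 := by
      rw [index_eq_two_iff]
      refine ⟨a, fun b => ?_⟩
      by_cases hb : b ∈ I
      · exact Or.inr ⟨hb, fun h3 => ha ((I.mul_mem_cancel_left hb).1 h3)⟩
      · exact Or.inl ⟨h b a hb ha, hb⟩
    rw [h2]

theorem isFi22 : Cfsg.IsFi22 Spor.Fi22 :=
  ⟨Cfsg.Agent.Fischer.Fi22Order.isSimple, Cfsg.Agent.Fischer.Fi22Order.card_fi22⟩

/-- `|Out(Fi22)| ≤ 2` -/
theorem index_le {X : Type u} [Group X] (N : Subgroup X) [N.Normal] (e : N ≃* Spor.Fi22)
    (hc : centralizer (N : Set X) = ⊥) : N.index ≤ 2 := by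
  have key : ∀ a : X, ∀ n : N, (MulAut.conjNormal a : MulAut N) = MulAut.conj n → a = n := by
    intro a n han
    have h1 : (n : X)⁻¹ * a ∈ centralizer (N : Set X) := by
      rw [mem_centralizer_iff]
      intro y hy
      have h2 : a * y * a⁻¹ = (n : X) * y * (n : X)⁻¹ := by
        have h3 := congrArg (fun β : MulAut N => ((β ⟨y, hy⟩ : N) : X)) han
        exact (MulAut.conjNormal_apply a (⟨y, hy⟩ : N)).symm.trans h3
      calc y * ((n : X)⁻¹ * a) = (n : X)⁻¹ * (n * y * (n : X)⁻¹) * a := by group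
        _ = (n : X)⁻¹ * (a * y * a⁻¹) * a := by rw [h2]
        _ = (n : X)⁻¹ * a * y := by group
    rw [hc, mem_bot, inv_mul_eq_one] at h1
    exact h1.symm
  refine index_le_two N fun a b ha hb => ?_
  obtain ⟨n, hn⟩ := Cfsg.Agent.OddHalf.D8.Fi22.SylAut.mul_outer' e (MulAut.conjNormal a) (MulAut.conjNormal b)
    (fun x hx => ha (by rw [key a x hx]; exact x.2)) (fun x hx => hb (by rw [key b x hx]; exact x.2))
  rw [← map_mul] at hn
  rw [key _ n hn]
  exact n.2

theorem outB {S : Type w} [Group S] (e : S ≃* Spor.Fi22) : Num.OutB.{u} S 1 := by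
  rintro X _ _ N hN ⟨f⟩ hc A - -
  exact index_le N (f.trans e) hc

/-- the normal 2-subgroups of `C(z)` have order at most `2 ^ 11` -/
theorem card_D {S : Type u} [Group S] [Finite S] {d d' : S} {R : Subgroup S} (F : KFacts.FiTT.Facts S d d' R)
    (D : Subgroup S) (h1 : ∀ y ∈ D, y * (d * d') = d * d' * y)
    (h2 : ∀ x : S, x * (d * d') = d * d' * x → ∀ y ∈ D, x * y * x⁻¹ ∈ D) (h3 : IsPGroup 2 D) :
    Nat.card D ≤ 2 ^ 11 := by
  set P := centralizer ({d, d'} : Set S) with hP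
  have mem_P : ∀ {x : S}, x ∈ P ↔ x * d = d * x ∧ x * d' = d' * x := by
    intro x
    rw [hP, mem_centralizer_iff]
    constructor
    · intro h
      exact ⟨(h d (by simp)).symm, (h d' (by simp)).symm⟩
    · rintro ⟨h1, h2⟩ y hy
      rcases hy with rfl | hy
      · exact h1.symm
      · rw [Set.mem_singleton_iff.1 hy]
        exact h2.symm
  have h4 : D ⊓ P ≤ R := by
    apply F.O2 _ inf_le_right
    · intro g hg hg' x hx
      have hgP : g ∈ P := mem_P.2 ⟨hg, hg'⟩
      refine ⟨h2 g ?_ x hx.1, P.mul_mem (P.mul_mem hgP hx.2) (P.inv_mem hgP)⟩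
      calc g * (d * d') = (g * d) * d' := by group
        _ = d * (g * d') := by rw [hg]; group
        _ = d * d' * g := by rw [hg']; group
    · exact h3.to_le inf_le_left
  have h5 : Nat.card (D ⊓ P : Subgroup S) ≤ 2 ^ 10 := by
    rw [← F.R_card]
    exact card_le_of_le h4
  have h6 : P.relIndex D ≤ 2 := by
    apply index_le_two
    intro a b ha hb
    rw [mem_subgroupOf] at ha hb ⊢
    have ha' := (F.cz a (h1 a a.2)).resolve_left fun h => ha (mem_P.2 h)
    have hb' := (F.cz b (h1 b b.2)).resolve_left fun h => hb (mem_P.2 h)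
    have e : ∀ x y w : S, x * y * x⁻¹ = w → x * y = w * x := fun x y w h => by rw [← h]; group
    rw [mem_P, Subgroup.coe_mul]
    constructor
    · rw [mul_assoc, e _ _ _ hb'.1, ← mul_assoc, e _ _ _ ha'.2, mul_assoc]
    · rw [mul_assoc, e _ _ _ hb'.2, ← mul_assoc, e _ _ _ ha'.1, mul_assoc]
  have h7 : P.relIndex D * Nat.card (D ⊓ P : Subgroup S) = Nat.card D := by
    have h5 := relIndex_mul_relIndex ⊥ (D ⊓ P) D bot_le inf_le_left
    rw [relIndex_bot_left, relIndex_bot_left, inf_relIndex_left, mul_comm] at h5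
    exact h5
  calc Nat.card D = P.relIndex D * Nat.card (D ⊓ P : Subgroup S) := h7.symm
    _ ≤ 2 * 2 ^ 10 := Nat.mul_le_mul h6 h5
    _ = 2 ^ 11 := by norm_num

/-- the Sylow 2-subgroups of `C(z)` -/
theorem exists_syl {S : Type u} [Group S] [Finite S] {d d' : S} {R : Subgroup S} (F : KFacts.FiTT.Facts S d d' R) :
    ∃ S₀ : Sylow 2 S, d * d' ∈ S₀ ∧ (∀ x ∈ S₀, x * (d * d') = d * d' * x) ∧
      ∀ y ∈ S₀, (∀ x ∈ S₀, x * y = y * x) → y = 1 ∨ y = d * d' := by
  obtain ⟨S₀, hS₀⟩ := CenTwo.exists_sylow_le (C := centralizer ({d * d'} : Set S)) F.odd.not_two_dvd_nat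
  have hz : ∀ x ∈ S₀, x * (d * d') = d * d' * x := fun x hx => mem_centralizer_singleton_iff.1 (hS₀ hx)
  refine ⟨S₀, ?_, hz, fun y hy h => F.center_S S₀ hS₀ y hy fun x hx => (h x hx).symm⟩
  have hsq : d * d' * (d * d') = 1 := by
    calc d * d' * (d * d') = d * (d' * d) * d' := by group
      _ = d * (d * d') * d' := by rw [F.comm]
      _ = (d * d) * (d' * d') := by group
      _ = 1 := by rw [F.dd, F.dd', one_mul]
  have hz2 : IsPGroup 2 (zpowers (d * d')) := by
    rintro ⟨x, hx⟩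
    obtain ⟨i, rfl⟩ := mem_zpowers_iff.1 hx
    refine ⟨1, Subtype.ext ?_⟩
    show ((d * d') ^ i) ^ (2 ^ 1) = 1
    rw [pow_one, pow_two, ← (Commute.refl (d * d')).mul_zpow, hsq, one_zpow]
  have hcen : (S₀ : Subgroup S) ≤ normalizer (zpowers (d * d') : Set S) := by
    intro x hx
    have h1 : Commute x (d * d') := hz x hx
    rw [mem_normalizer_iff]
    intro y
    constructor
    · rintro ⟨i, rfl⟩
      refine ⟨i, ?_⟩
      have := (h1.zpow_right i).eq
      show (d * d') ^ i = x * (d * d') ^ i * x⁻¹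
      rw [this, mul_inv_cancel_right]
    · rintro ⟨i, hi⟩
      refine ⟨i, ?_⟩
      have h2 := (h1.zpow_right i).eq
      have hi' : (d * d') ^ i = x * y * x⁻¹ := hi
      show (d * d') ^ i = y
      calc (d * d') ^ i = x⁻¹ * (x * (d * d') ^ i) := by group
        _ = x⁻¹ * ((d * d') ^ i * x) := by rw [h2]
        _ = x⁻¹ * (x * y * x⁻¹ * x) := by rw [hi']
        _ = y := by group
  have hsup : IsPGroup 2 ((S₀ : Subgroup S) ⊔ zpowers (d * d') : Subgroup S) :=
    IsPGroup.to_sup_of_normal_right' S₀.isPGroup' hz2 hcen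
  have h3 := S₀.is_maximal' hsup le_sup_left
  have h4 : d * d' ∈ (S₀ : Subgroup S) ⊔ zpowers (d * d') :=
    (le_sup_right : zpowers (d * d') ≤ _) (mem_zpowers _)
  rw [h3] at h4
  exact h4

/-- **`|A| ≤ 2 ^ 12`.** -/
theorem card_le {X : Type u} [Group X] [Finite X] {S T A : Subgroup X} (h : AS S T A) (hS : Spor.IsoFi22 S) :
    Nat.card A ≤ 2 ^ 12 := by
  obtain ⟨e⟩ := hS
  obtain ⟨d, d', R, F⟩ := KFacts.FiTT.has_of_iso (K := S) ⟨e⟩
  have hz1 : d * d' ≠ 1 := by
    intro h1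
    apply F.ne
    calc d = d * (d' * d') := by rw [F.dd', mul_one]
      _ = d * d' * d' := by group
      _ = d' := by rw [h1, one_mul]
  have h1 := card_le_of h hz1 (exists_syl F) (n := 2 ^ 11) fun D hD1 hD2 hD3 => card_D F D hD1 hD2 hD3
  have := h.norm
  have h2 : S.index ≤ 2 := index_le S e h.cen
  calc Nat.card A ≤ 2 ^ 11 * S.index := h1
    _ ≤ 2 ^ 11 * 2 := Nat.mul_le_mul_left _ h2
    _ = 2 ^ 12 := by norm_num

theorem isoClosed : IsoClosed.{u} fun S _ => Spor.IsoFi22 S := by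
  rintro S S' _ _ e ⟨f⟩
  exact ⟨e.symm.trans f⟩

/-- `|M| ≥ 2 ^ 54` -/
theorem lb {S : Type u} [Group S] (hS : Spor.IsoFi22 S) : Heis.LB.{u, u, v} S 54 := by
  obtain ⟨e⟩ := hS
  have := isFi22.1
  exact (RowFiLB.lb_fi22.{u, v} (Quasithin.Row.Cox.not_comm isFi22.1 (by rw [isFi22.2]; norm_num))).congr e.symm

set_option exponentiation.threshold 1000 in
/-- **The row `Fi22`.** -/
theorem dead : Dead.{u, v} fun S _ => Spor.IsoFi22 S := by
  intro H _ _ M _ _ _ K T A h hS
  have hZ := h.normalZ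
  have h1 := card_le (h.as hZ) (isoClosed _ _ (equivZ hZ) hS)
  rw [h.card_map hZ] at h1
  have hc : Nat.card (K ⧸ center K) = 64561751654400 := by
    obtain ⟨e⟩ := hS
    rw [Nat.card_congr e.toEquiv]
    exact isFi22.2
  refine false_of_card h h1 (lb hS) ?_ (b := 1) ?_
  · obtain ⟨e⟩ := hS
    exact outB e
  · rw [hc]
    norm_num

end Cfsg.Agent.Omega.ML.RowFi22
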