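import Cfsg.Agent.Omega.ML.ShE
import Cfsg.Agent.Omega.TwoF.RowJ3
import Cfsg.Agent.OddHalf.D8.RowJ3
import Cfsg.Agent.KFacts.J2.SheetX
import Cfsg.Agent.KFacts.J2.Facts

/-!
# (ML), the K-list end: the rows `J2` and `J3` (helper926)

`O₂(C_X(z)) ≤ R = 2^{1+4}_-` and the elementary abelian subgroups of `R` have order at most 4.
-/

set_option autoImplicit false

namespace Cfsg.Agent.Omega.ML.RowJ23

open Subgroup Cfsg Cfsg.Agent.OddHalf.D8.JTwo.Sheet Cfsg.Agent.Omega.ML.Rows Cfsg.Agent.Omega.ML.ShE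

universe u v

theorem deadG_J3 : DeadG.{u} (fun S _ => Spor.IsoJ3 S) := by
  refine deadG_of fun S _ _ hS => ?_
  obtain ⟨z, Q, v, ρ, M, -, -, h⟩ := Cfsg.Agent.OddHalf.D8.RowJ3.sheet' S hS
  exact ⟨z, _, _, of_sheetE h, fun B hB hBe => Cfsg.Agent.Omega.TwoF.RowJ3.card_le_Q M B hB hBe⟩

theorem iso_J3 : IsoClosed.{u} (fun S _ => Spor.IsoJ3 S) := by
  rintro S S' _ _ e ⟨F, i1, i2, ω, hF, hω, ⟨f⟩⟩
  exact ⟨F, i1, i2, ω, hF, hω, ⟨e.symm.trans f⟩⟩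

/-- **The row `J3`.** -/
theorem dead_J3 : Dead.{u, v} (fun S _ => Spor.IsoJ3 S) := deadG_J3.dead iso_J3

theorem deadG_J2 : DeadG.{u} (fun S _ => Spor.IsoJ2 S) := by
  refine deadG_of fun S _ _ hS => ?_
  obtain ⟨t, u, Q, v, ρ, D⟩ := Cfsg.Agent.KFacts.J2.Facts.exists_dat_of hS
  exact ⟨t, _, _, Cfsg.Agent.KFacts.J2.SheetX.sheetX D, fun B hB hBe =>
    Cfsg.Agent.Omega.TwoF.RowJ3.card_le_Q D.M B hB hBe⟩

theorem iso_J2 : IsoClosed.{u} (fun S _ => Spor.IsoJ2 S) := by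
  rintro S S' _ _ e ⟨f⟩
  exact ⟨e.symm.trans f⟩

/-- **The row `J2`.** -/
theorem dead_J2 : Dead.{u, v} (fun S _ => Spor.IsoJ2 S) := deadG_J2.dead iso_J2

end Cfsg.Agent.Omega.ML.RowJ23
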