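import Cfsg.Agent.Omega.ML.RowsRk
import Cfsg.Agent.Omega.TwoF.RowM11
import Cfsg.Agent.Omega.TwoF.RowJ1

/-!
# (ML), the K-list end: the rows M11 and J1 (helper809)

* `RowM11.deadG`, `RowM11.dead` : the 2-rank of `Aut(M11)` is 2;
* `card_le_four_of_eight` : simple groups with elementary abelian Sylow 2-subgroups of order 8 (`J1`, Ree groups,
  `L₂(8)`): involutory automorphisms are inner, so `T ≤ S = X` has order 8 and `A < T`;
* `RowJ1.deadG`, `RowJ1.dead`.
-/

set_option autoImplicit false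

namespace Cfsg.Agent.Omega.ML.RowMJ

open Subgroup Cfsg Cfsg.Agent.ZN Cfsg.Agent.Omega.TwoF Cfsg.Agent.Omega.ML.Rows
open Cfsg.Agent.MinSimple.VModule (o2_isPGroup o2_le le_o2 le_normalizer_o2)

universe u v

/-! ### M11 -/

theorem M11.rk {K : Type u} [Group K] (h : Spor.IsoM11 K) : RK K 2 := by
  obtain ⟨hfin, -, hc, -⟩ := RowM11.facts h
  exact RK.of_rk hc (rk_M11 h)

/-- **The row `M11`.** -/
theorem M11.deadG : DeadG.{u} (fun S _ => Spor.IsoM11 S) :=
  fun _ _ _ _ _ _ h hS => h.card_le_four_of_rk (M11.rk hS)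

theorem M11.dead : Dead.{u, v} (fun S _ => Spor.IsoM11 S) :=
  M11.deadG.dead fun _ _ _ _ e ⟨f⟩ => ⟨e.symm.trans f⟩

/-! ### Elementary abelian Sylow 2-subgroups of order 8 -/

section

variable {X : Type u} [Group X] {S T A : Subgroup X}

theorem card_le_four_of_eight [Finite X] (h : AS S T A)
    (hsyl : ∀ Q : Sylow 2 S, Nat.card Q = 8 ∧ ∀ x ∈ (Q : Subgroup S), x * x = 1) : Nat.card A ≤ 4 := by
  have hp : Fact (Nat.Prime 2) := ⟨Nat.prime_two⟩
  have hsim := h.simple
  have hna : ∃ a b : S, a * b ≠ b * a := by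
    by_contra hcon
    push Not at hcon
    have h9 : S ≤ centralizer (S : Set X) := fun s hs =>
      mem_centralizer_iff.2 fun y hy => congrArg Subtype.val (hcon ⟨y, hy⟩ ⟨s, hs⟩)
    rw [h.cen] at h9
    obtain ⟨x, hx⟩ := exists_ne (1 : S)
    exact hx (Subtype.ext (mem_bot.1 (h9 x.2)))
  have htop : S = ⊤ := h.top_of_inner fun α hα => by
    by_cases h1 : α = 1
    · exact ⟨1, by rw [h1, map_one]⟩
    · exact Cfsg.Agent.UGT.EndJ1.Inner.exists_conj hna hsyl α (orderOf_eq_prime hα h1)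
  by_cases hA : A = ⊥
  · rw [hA, card_bot]
    norm_num
  -- `T` is a Sylow subgroup of `S`
  have hT : Nat.card T = 8 := by
    have h1 : ¬ 2 ∣ (T.subgroupOf S).index := by
      intro h2
      have h3 : (T.subgroupOf S).index = T.index := by
        rw [htop]
        exact relIndex_top_right T
      exact h.syl (h3 ▸ h2)
    have h2 : IsPGroup 2 (T.subgroupOf S) := h.two.comap_subtype
    have h3 := (hsyl (h2.toSylow h1)).1
    have h4 : Nat.card (T.subgroupOf S) = 8 := h3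
    rw [← h4]
    exact (Nat.card_congr (subgroupOfEquivOfLe (htop ▸ le_top)).toEquiv).symm
  have h1 := h.two_mul_card_le hA
  omega

end

/-! ### J1 -/

/-- the Sylow 2-subgroups are elementary abelian of order 8 -/
theorem J1.syl {K : Type u} [Group K] (h : Spor.IsoJ1 K) (Q : Sylow 2 K) :
    Nat.card Q = 8 ∧ ∀ x ∈ (Q : Subgroup K), x * x = 1 := by
  have hp : Fact (Nat.Prime 2) := ⟨Nat.prime_two⟩
  obtain ⟨e⟩ := h
  have hJ : Nat.card Spor.J1 = 175560 := Cfsg.Agent.SporadicB.J1.Main.isJ1.2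
  have hfin0 : Finite Spor.J1 := Nat.finite_of_card_ne_zero (by rw [hJ]; norm_num)
  have hfin : Finite K := Finite.of_equiv _ e.symm.toEquiv
  have h1 : IsPGroup 2 ((Q : Subgroup K).map e.toMonoidHom) := Q.isPGroup'.map _
  have h2 : ¬ 2 ∣ ((Q : Subgroup K).map e.toMonoidHom).index := by
    intro h3
    exact Q.not_dvd_index (h3.trans (index_map_dvd _ e.surjective))
  have h3 := Cfsg.Agent.UGT.EndJ1.Data.bal.syl (h1.toSylow h2)
  refine ⟨?_, fun x hx => e.injective ?_⟩
  · have h4 : Nat.card ((Q : Subgroup K).map e.toMonoidHom) = 8 := h3.1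
    rw [← h4]
    exact Nat.card_congr ((Q : Subgroup K).equivMapOfInjective _ e.injective).toEquiv
  · rw [map_mul, map_one]
    exact h3.2 (e x) (mem_map_of_mem e.toMonoidHom hx)

/-- **The row `J1`.** -/
theorem J1.deadG : DeadG.{u} (fun S _ => Spor.IsoJ1 S) :=
  fun _ _ _ _ _ _ h hS => card_le_four_of_eight h (J1.syl hS)

theorem J1.dead : Dead.{u, v} (fun S _ => Spor.IsoJ1 S) :=
  J1.deadG.dead fun _ _ _ _ e ⟨f⟩ => ⟨e.symm.trans f⟩

end Cfsg.Agent.Omega.ML.RowMJ
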