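import Cfsg.Agent.Omega.ML.RowOpp
import Cfsg.Agent.TitsK.OverK
import Cfsg.Agent.TitsK.AutT

/-!
# (ML), the K-list end: the row of the Tits group, in opposite form (helper625)

* `exists_embed` : a group `X` with a normal subgroup `S ≃* T`, `C_X(S) = 1`, embeds in `H = ²F₄(2)`;
* `opp_of` : the opposite form for an embedding `X → H`;
* **`deadOpp_tits`**, `dead_tits`.
-/

set_option autoImplicit false

namespace Cfsg.Agent.Omega.ML.RowTits

open Subgroup Cfsg Cfsg.Agent.ZN Cfsg.Agent.TitsK Cfsg.Agent.TitsK.Abs Cfsg.Agent.Omega.ML.Rows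
open Cfsg.Agent.MinSimple.VModule (o2_isPGroup o2_le le_o2 le_normalizer_o2)

universe u v

variable {X : Type u} [Group X] {G : Type v} [Group G] (D : TData G)

theorem cent_T {h : G} (hh : h ∈ D.H) (hc : ∀ t ∈ D.T, h * t * h⁻¹ = t) : h = 1 := by
  have hU := D.cent_V h hh (hc _ (D.V_le_T D.z_mem_V)) (hc _ (D.V_le_T D.z1_mem_V))
  rcases D.cent_S h hU (fun c hcc => mul_inv_eq_iff_eq_mul.1 (hc c hcc.2)) with h1 | h1
  · exact h1
  · exfalso
    obtain ⟨t, ht, ht'⟩ := D.z_not_central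
    apply ht'
    have h2 := hc t ht
    rw [h1, mul_inv_eq_iff_eq_mul] at h2
    rw [← h2]
    group

/-- **Embedding.** -/
theorem exists_embed [Finite G] {S : Subgroup X} (hS : S.Normal) (e : S ≃* D.T) (hC : centralizer (S : Set X) = ⊥) :
    ∃ φ : X →* G, Function.Injective φ ∧ (∀ s : S, φ s = e s) ∧ ∀ x, φ x ∈ D.H := by
  -- conjugation by `x`, transported to `T`
  have key : ∀ x : X, ∃ h ∈ D.H, ∀ s : S, ((e ⟨x * s * x⁻¹, hS.conj_mem s s.2 x⟩ : D.T) : G) = h * (e s : G) * h⁻¹ := by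
    intro x
    let c : S →* S :=
      { toFun := fun s => ⟨x * s * x⁻¹, hS.conj_mem s s.2 x⟩
        map_one' := Subtype.ext (by simp)
        map_mul' := fun a b => Subtype.ext (by
          change x * ((a : X) * b) * x⁻¹ = (x * a * x⁻¹) * (x * b * x⁻¹)
          group) }
    let f : D.T →* G := D.T.subtype.comp (e.toMonoidHom.comp (c.comp e.symm.toMonoidHom))
    have hf : D.Inj f := by
      refine ⟨?_, fun t => (e (c (e.symm t))).2⟩
      intro a b hab
      have h1 : e (c (e.symm a)) = e (c (e.symm b)) := Subtype.ext hab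
      have h2 := congrArg Subtype.val (e.injective h1)
      change x * ((e.symm a : S) : X) * x⁻¹ = x * ((e.symm b : S) : X) * x⁻¹ at h2
      have h3 : ((e.symm a : S) : X) = (e.symm b : S) := mul_left_cancel (mul_right_cancel h2)
      exact e.symm.injective (Subtype.ext h3)
    obtain ⟨h, hh, h1⟩ := TData.exists_conj hf
    refine ⟨h, hh, fun s => ?_⟩
    have h2 := h1 (e s)
    have h3 : f (e s) = ((e ⟨x * s * x⁻¹, hS.conj_mem s s.2 x⟩ : D.T) : G) := by
      change ((e (c (e.symm (e s))) : D.T) : G) = _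
      rw [e.symm_apply_apply]
      rfl
    rw [← h3, h2]
  choose f hfH hf using key
  have huniq : ∀ (x : X) (h : G), h ∈ D.H →
      (∀ s : S, ((e ⟨x * s * x⁻¹, hS.conj_mem s s.2 x⟩ : D.T) : G) = h * (e s : G) * h⁻¹) → h = f x := by
    intro x h hh hs
    have h1 : (f x)⁻¹ * h = 1 := by
      refine cent_T D (mul_mem (inv_mem (hfH x)) hh) fun t ht => ?_
      have h2 := hs (e.symm ⟨t, ht⟩)
      rw [hf x, e.apply_symm_apply] at h2
      change f x * t * (f x)⁻¹ = h * t * h⁻¹ at h2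
      calc (f x)⁻¹ * h * t * ((f x)⁻¹ * h)⁻¹ = (f x)⁻¹ * (h * t * h⁻¹) * f x := by group
        _ = (f x)⁻¹ * (f x * t * (f x)⁻¹) * f x := by rw [h2]
        _ = t := by group
    rw [inv_mul_eq_one] at h1
    exact h1.symm
  have hmul : ∀ x y, f (x * y) = f x * f y := by
    intro x y
    symm
    refine huniq _ _ (mul_mem (hfH x) (hfH y)) fun s => ?_
    have h1 := hf x ⟨y * s * y⁻¹, hS.conj_mem s s.2 y⟩
    rw [hf y] at h1
    have e1 : (⟨x * y * s * (x * y)⁻¹, hS.conj_mem s s.2 (x * y)⟩ : S) =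
        ⟨x * ((⟨y * s * y⁻¹, hS.conj_mem s s.2 y⟩ : S) : X) * x⁻¹,
          hS.conj_mem _ (⟨y * s * y⁻¹, hS.conj_mem s s.2 y⟩ : S).2 x⟩ := by
      apply Subtype.ext
      change x * y * (s : X) * (x * y)⁻¹ = x * (y * s * y⁻¹) * x⁻¹
      group
    rw [e1, h1]
    group
  let φ : X →* G := MonoidHom.mk' f hmul
  refine ⟨φ, ?_, ?_, hfH⟩
  · rw [injective_iff_map_eq_one]
    intro x hx
    have h1 : x ∈ centralizer (S : Set X) := by
      rw [mem_centralizer_iff]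
      intro s hs
      have h2 := hf x ⟨s, hs⟩
      change f x = 1 at hx
      rw [hx] at h2
      simp only [one_mul, inv_one, mul_one] at h2
      have h3 := congrArg Subtype.val (e.injective (Subtype.ext h2))
      change x * s * x⁻¹ = s at h3
      rw [mul_inv_eq_iff_eq_mul] at h3
      exact h3.symm
    rw [hC] at h1
    exact mem_bot.1 h1
  · intro s
    symm
    refine huniq s _ (D.T_le (e s).2) fun t => ?_
    have h1 : (⟨(s : X) * t * (s : X)⁻¹, hS.conj_mem t t.2 s⟩ : S) = s * t * s⁻¹ := rfl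
    rw [h1, map_mul, map_mul, map_inv]
    rfl

/-- the index of `U ⊓ L` in `L` is odd -/
theorem odd_L {L : Subgroup G} (hTL : D.T ≤ L) (hLH : L ≤ D.H) : ¬ 2 ∣ (D.U ⊓ L).relIndex L := by
  have h1 := relIndex_mul_relIndex D.T L D.H hTL hLH
  rw [D.relIndex_T] at h1
  have h2 : D.T.relIndex L = 1 ∨ D.T.relIndex L = 2 := (Nat.dvd_prime Nat.prime_two).1 ⟨_, h1.symm⟩
  rcases h2 with h2 | h2
  · have h3 : L = D.T := le_antisymm (relIndex_eq_one.1 h2) hTL
    rw [h3]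
    exact D.odd_S
  · rw [h2] at h1
    have h3 : L.relIndex D.H = 1 := by omega
    have h4 : L = D.H := le_antisymm hLH (relIndex_eq_one.1 h3)
    rw [h4, inf_eq_left.2 D.U_le]
    exact D.odd_U

/-- **The opposite form for an embedding.** -/
theorem opp_of [Finite X] [Finite G] (O : Over D) {φ : X →* G} (hφ : Function.Injective φ) (hT : D.T ≤ φ.range)
    (hH : φ.range ≤ D.H) {T A : Subgroup X} (two : IsPGroup 2 T) (syl : ¬ 2 ∣ T.index)
    (low : ∀ R : Subgroup X, T ≤ R → R ≠ ⊤ → A ≤ o2 R) :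
    ∃ T' : Subgroup X, IsPGroup 2 T' ∧ ∀ R : Subgroup X, T' ≤ R → R ≠ ⊤ → A ⊓ R = ⊥ := by
  have : Fact (Nat.Prime 2) := ⟨Nat.prime_two⟩
  have hodd := odd_L D hT hH
  set L := φ.range with hL
  -- the Sylow 2-subgroup `φ⁻¹(U)`
  have hP1 : IsPGroup 2 (D.U.comap φ) := D.isPGroup_U.comap_of_injective φ hφ
  have hP2 : ¬ 2 ∣ (D.U.comap φ).index := by
    rw [index_comap, ← hL]
    have : D.U.relIndex L = (D.U ⊓ L).relIndex L := by rw [inf_relIndex_right]
    rw [this]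
    exact hodd
  obtain ⟨x, hx⟩ := MulAction.exists_smul_eq X (two.toSylow syl) (hP1.toSylow hP2)
  have hxm : ∀ g : X, g ∈ T ↔ φ (x * g * x⁻¹) ∈ D.U := by
    intro g
    have h1 : x * g * x⁻¹ ∈ D.U.comap φ ↔ x * g * x⁻¹ ∈ x • (two.toSylow syl : Sylow 2 X) := by
      rw [hx]
      rfl
    have h2 : x * g * x⁻¹ ∈ x • (two.toSylow syl : Sylow 2 X) ↔ g ∈ T := by
      constructor
      · rintro ⟨y, hy, hy'⟩
        have h3 : x * y * x⁻¹ = x * g * x⁻¹ := hy'
        have h4 : y = g := mul_left_cancel (mul_right_cancel h3)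
        rw [← h4]
        exact hy
      · intro hg
        exact ⟨g, hg, rfl⟩
    rw [← h2, ← h1]
    rfl
  -- the embedding `ψ`
  let ψ : X →* G := φ.comp (MulAut.conj x).toMonoidHom
  have hψ : ∀ g, ψ g = φ (x * g * x⁻¹) := fun g => rfl
  have hinj : Function.Injective ψ := hφ.comp (MulAut.conj x).injective
  have hrange : ψ.range = L := by
    apply le_antisymm
    · rintro _ ⟨g, rfl⟩
      exact ⟨_, rfl⟩
    · rintro _ ⟨g, rfl⟩
      refine ⟨x⁻¹ * g * x, ?_⟩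
      rw [hψ]
      congr 1
      group
  have hmT : ∀ g, g ∈ T ↔ ψ g ∈ D.U := hxm
  have main := fun (R : Subgroup G) (hRL : R ≤ L) h1 h2 => O.inf_eq_bot (A := A.map ψ) hT hH hodd (by
    intro R hRL hUR hR
    have h1 : T ≤ R.comap ψ := fun t ht => hUR ⟨(hmT t).1 ht, hrange ▸ ⟨t, rfl⟩⟩
    have h2 : R.comap ψ ≠ ⊤ := by
      intro h3
      apply hR
      apply le_antisymm hRL
      rw [← hrange]
      rintro _ ⟨g, rfl⟩
      exact (h3 ▸ mem_top g : g ∈ R.comap ψ)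
    have h3 := low _ h1 h2
    refine (map_mono h3).trans (le_o2 ?_ ((o2_isPGroup _).map ψ) ?_)
    · rw [map_le_iff_le_comap]
      exact o2_le _
    · intro r hr
      obtain ⟨g, rfl⟩ : r ∈ ψ.range := hrange ▸ hRL hr
      have h5 := le_normalizer_o2 (R.comap ψ) (show g ∈ R.comap ψ from hr)
      refine Over.mem_normalizer_of_le ?_
      rintro _ ⟨y, hy, rfl⟩
      refine ⟨g * y * g⁻¹, (mem_normalizer_iff.1 h5 y).1 hy, ?_⟩
      rw [map_mul, map_mul, map_inv]) hRL h1 h2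
  -- the opposite Sylow 2-subgroup
  have hw : D.w0⁻¹ = D.w0 := by rw [inv_eq_iff_mul_eq_one, D.w0_sq]
  have hcj : IsPGroup 2 (cj D.w0 D.U) := by
    intro g
    obtain ⟨n, hn⟩ := D.isPGroup_U ⟨D.w0⁻¹ * g * D.w0, g.2⟩
    refine ⟨n, Subtype.ext ?_⟩
    have h1 : (D.w0⁻¹ * (g : G) * D.w0) ^ 2 ^ n = 1 := congrArg Subtype.val hn
    have h2 : (D.w0⁻¹ * (g : G) * (D.w0⁻¹)⁻¹) ^ 2 ^ n = 1 := by rw [inv_inv]; exact h1
    rw [conj_pow] at h2
    have h3 : (g : G) ^ 2 ^ n = D.w0 * (D.w0⁻¹ * (g : G) ^ 2 ^ n * (D.w0⁻¹)⁻¹) * D.w0⁻¹ := by group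
    rw [h2] at h3
    change (g : G) ^ 2 ^ n = 1
    rw [h3]
    group
  refine ⟨(cj D.w0 D.U).comap ψ, hcj.comap_of_injective ψ hinj, fun R hTR hR => ?_⟩
  have h1 := main (R.map ψ) (by rw [← hrange]; rintro _ ⟨g, -, rfl⟩; exact ⟨g, rfl⟩) (by
    intro s hs
    have h2 : D.w0 * s * D.w0 ∈ L := mul_mem (mul_mem (hT D.w0_mem) hs.2) (hT D.w0_mem)
    obtain ⟨g, hg⟩ : D.w0 * s * D.w0 ∈ ψ.range := hrange ▸ h2
    refine ⟨g, hTR ?_, hg⟩
    rw [mem_comap, mem_cj, hg, hw]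
    have e : D.w0 * (D.w0 * s * D.w0) * D.w0 = (D.w0 * D.w0) * s * (D.w0 * D.w0) := by group
    rw [e, D.w0_sq, one_mul, mul_one]
    exact hs.1) (by
    intro h2
    apply hR
    rw [eq_top_iff]
    intro g _
    have h3 : ψ g ∈ R.map ψ := by rw [h2, ← hrange]; exact ⟨g, rfl⟩
    obtain ⟨r, hr, hr'⟩ := h3
    rw [← hinj hr']
    exact hr)
  rw [eq_bot_iff]
  intro a ha
  have h2 : ψ a ∈ A.map ψ ⊓ R.map ψ := ⟨⟨a, ha.1, rfl⟩, ⟨a, ha.2, rfl⟩⟩
  rw [h1, mem_bot] at h2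
  exact mem_bot.2 (hinj (h2.trans (map_one ψ).symm))

/-- **The row of the Tits group in opposite form.** -/
theorem deadOpp_tits : DeadOpp.{u} (fun S _ => Lie.IsoTits S) := by
  intro X _ _ S T A h hS
  obtain ⟨e⟩ := hS
  obtain ⟨e'⟩ := exists_equiv
  have e₀ : ↥S ≃* ↥(tdata.T) := e.trans e'
  obtain ⟨φ, h1, h2, h3⟩ := exists_embed tdata h.norm e₀ h.cen
  refine opp_of tdata overD h1 ?_ ?_ h.two h.syl h.low
  · intro t ht
    exact ⟨e₀.symm ⟨t, ht⟩, (h2 _).trans (congrArg Subtype.val (e₀.apply_symm_apply ⟨t, ht⟩))⟩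
  · rintro _ ⟨x, rfl⟩
    exact h3 x

theorem isoClosed_tits : IsoClosed.{u} (fun S _ => Lie.IsoTits S) := by
  intro S S' _ _ e h
  obtain ⟨e'⟩ := h
  exact ⟨e.symm.trans e'⟩

theorem dead_tits : Dead.{u, v} (fun S _ => Lie.IsoTits S) := deadOpp_tits.dead isoClosed_tits

end Cfsg.Agent.Omega.ML.RowTits
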