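import Cfsg.Agent.KFacts.TwF4.Perf

/-!
# Overgroups of a Sylow 2-subgroup of a group of type `²F₄(q)` ((ML), K-list end)

Over `S : Full σ G`, `G` simple:

* `inf_opp` : `X_k ∩ ⟨X_(k+1), …, X_(k+m)⟩ = 1` in every `ZSys m X`;
* `parab` : a proper subgroup containing `U = J 1 8` lies in the normaliser of `J 2 8` or of `J 1 7`;
* `opp` : an element of `J 2 8 ∩ J 1 7` in a proper subgroup containing `U⁻ = J 9 16` is trivial.
-/

set_option autoImplicit false
set_option linter.unusedSectionVars false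

namespace Cfsg.Agent.Omega.ML.TwF4Opp

open Cfsg.Agent.SplitTwo Cfsg.Agent.SplitTwo.ZS Cfsg.Agent.TitsThree.RankTwoZ Cfsg.Agent.SplitTwo.RootSysZ
open Cfsg.Agent.KFacts.TwF4 Cfsg.Agent.KFacts.TwF4.Arc Cfsg.Agent.KFacts.TwF4.Inv Cfsg.Agent.KFacts.TwF4.SylU
open Cfsg.Agent.KFacts.TwF4.Perf
open scoped commutatorElement

universe u

section abs

variable {G : Type u} [Group G] {X : ℤ → Subgroup G} {m : ℤ} (Z : ZSys m X)
include Z

theorem per_m (k : ℤ) : X (k - m) = X (k + m) := by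
  have := Z.per (k - m)
  rw [show k - m + 2 * m = k + m by ring] at this
  exact this.symm

/-- `X_k ∩ ⟨X_(k+1), …, X_(k+m)⟩ = 1` -/
theorem inf_opp {k : ℤ} {x : G} (hx : x ∈ X k) (hU : x ∈ J X (k + 1) (k + m)) : x = 1 := by
  have hm := Z.two_lt
  by_contra hx1
  obtain ⟨v, hv, v', hv', hn⟩ := Z.mu k x hx hx1
  rw [per_m Z] at hv hv'
  have hnU : v * x * v' ∈ J X (k + 1) (k + m) :=
    mul_mem (mul_mem (mem_J hv (by omega) le_rfl) hU) (mem_J hv' (by omega) le_rfl)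
  obtain ⟨y, hy, hy1⟩ := Z.exists_ne (k + 1)
  have h3 := hn.mem hy
  rw [show 2 * k - m - (k + 1) = (k + m - 1) - 2 * m by ring, Z.per'] at h3
  obtain ⟨a, ha, b, hb, e⟩ := Z.split_ll (a := k + 1) (b := k + m) (by omega) (by omega) hnU
  -- `[b, y]`
  have h4 : ⁅b, y⁆ ∈ J X (k + 1 + 1) (k + m - 1) := by
    have := Z.comm_J_left' (a := k + 1 + 1) (b := k + m) (c := k + 1) (by omega) (by omega) hb hy
    exact this
  rw [commutatorElement_def] at h4
  have h5 : a * (b * y * b⁻¹ * y⁻¹) * a⁻¹ ∈ J X (k + 1 + 1) (k + m - 1) :=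
    Z.conj_X (a := k + 1 + 1) (b := k + m - 1) (k := k + 1) (by omega) (by omega) (by omega) ha h4
  have h6 : a * y * a⁻¹ ∈ X (k + 1) := mul_mem (mul_mem ha hy) (inv_mem ha)
  have h7 : a * y * a⁻¹ ∈ J X (k + 1 + 1) (k + 1 + m - 1) := by
    have e1 : a * y * a⁻¹ = (a * (b * y * b⁻¹ * y⁻¹) * a⁻¹)⁻¹ * (v * x * v' * y * (v * x * v')⁻¹) := by
      rw [e]; group
    rw [e1]
    exact J_mono le_rfl (by omega) (mul_mem (inv_mem h5) (mem_J h3 (by omega) le_rfl))
  have h8 := Z.inter (k + 1) _ h6 h7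
  apply hy1
  have e2 : y = a⁻¹ * (a * y * a⁻¹) * a := by group
  rw [e2, h8]; group

/-- `X_k ∩ ⟨X_(k-m), …, X_(k-1)⟩ = 1` -/
theorem inf_opp' {k : ℤ} {x : G} (hx : x ∈ X k) (hU : x ∈ J X (k - m) (k - 1)) : x = 1 := by
  refine inf_opp (Z.rev 0) (k := -k) (by simpa using hx) ?_
  rw [ZSys.J_rev]
  exact J_mono (by omega) (by omega) hU

end abs

section abs2

variable {G : Type u} [Group G] {X : ℤ → Subgroup G} {m : ℤ} (Z : ZSys m X) (h2 : ∀ k, IsPGroup 2 (X k)) (a : ℤ)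
  (hmax : ∀ V : Subgroup G, IsPGroup 2 V → J X a (a + m - 1) ≤ V → V ≤ J X a (a + m - 1))

include Z h2 in
theorem two_arc {a b : ℤ} (hb : b < a + m) : IsPGroup 2 (J X a b) :=
  isPGroup_J Z h2 (b + 1 - a).toNat a b (by omega) hb

theorem two_sup' {G : Type*} [Group G] {A N : Subgroup G} (hA : IsPGroup 2 A) (hN : IsPGroup 2 N)
    (hn : A ≤ Subgroup.normalizer (N : Set G)) : IsPGroup 2 (A ⊔ N : Subgroup G) :=
  IsPGroup.to_sup_of_normal_right' hA hN hn

include Z in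
/-- `X_k`, `a ≤ k ≤ a + m`, normalises `J (a+1) (a+m-1)` -/
theorem le_norm {k : ℤ} (h1 : a ≤ k) (h2 : k ≤ a + m) :
    X k ≤ Subgroup.normalizer (J X (a + 1) (a + m - 1) : Set G) :=
  (X_le_J (by omega) (by omega)).trans (Z.le_normalizer (a := a + 1) (b := a + m - 1) (by omega))

include Z h2 hmax in
/-- a subgroup `W` containing `J (a+1) (a+m-1)`, `X_(a+m)` and an element `y q`, `1 ≠ y ∈ X_a`, is not a 2-group -/
theorem not_two {W : Subgroup G} (hW : IsPGroup 2 W) (hV : J X (a + 1) (a + m - 1) ≤ W) (ho : X (a + m) ≤ W)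
    {y : G} (hy : y ∈ X a) (hy1 : y ≠ 1) (hyW : y ∈ W) : False := by
  have hm := Z.two_lt
  obtain ⟨v, hv, v', hv', hn⟩ := Z.mu a y hy hy1
  rw [per_m Z] at hv hv'
  have hnW : v * y * v' ∈ W := mul_mem (mul_mem (ho hv) hyW) (ho hv')
  have hXa : X a ≤ W := by
    intro w hw
    have h1 : (v * y * v') * w * (v * y * v')⁻¹ ∈ X (2 * a - m - a) := hn.mem hw
    rw [show 2 * a - m - a = a - m by ring, per_m Z] at h1
    have e : w = (v * y * v')⁻¹ * ((v * y * v') * w * (v * y * v')⁻¹) * (v * y * v') := by group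
    rw [e]
    exact mul_mem (mul_mem (inv_mem hnW) (ho h1)) hnW
  have hU : J X a (a + m - 1) ≤ W := by
    refine J_le fun k h1 h2 w hw => ?_
    rcases eq_or_lt_of_le h1 with h3 | h3
    · rw [← h3] at hw; exact hXa hw
    · exact hV (mem_J hw (by omega) h2)
  obtain ⟨x, hx, hx1⟩ := Z.exists_ne (a + m)
  refine hx1 (inf_opp' Z hx (J_mono (by omega) (by omega) (hmax W hW hU (ho hx))))

include Z h2 hmax in
/-- **`O_2` of a parabolic subgroup** -/
theorem le_arc_of_norm {O : Subgroup G} (hO : IsPGroup 2 O)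
    (hn : ∀ k, a ≤ k → k ≤ a + m → X k ≤ Subgroup.normalizer (O : Set G)) : O ≤ J X (a + 1) (a + m - 1) := by
  have hm := Z.two_lt
  have hU : O ≤ J X a (a + m - 1) := by
    have h1 : J X a (a + m - 1) ≤ Subgroup.normalizer (O : Set G) := J_le fun k h3 h4 => hn k h3 (by omega)
    exact le_sup_right.trans (hmax _ (two_sup' (two_arc Z h2 (by omega)) hO h1) le_sup_left)
  intro x hx
  obtain ⟨y, hy, q, hq, e⟩ := Z.split_ll (a := a) (b := a + m - 1) (by omega) (by omega) (hU hx)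
  by_cases hy1 : y = 1
  · rw [e, hy1, one_mul]; exact hq
  exfalso
  have h1 : J X (a + 1) (a + m) ≤ Subgroup.normalizer (O : Set G) := J_le fun k h3 h4 => hn k (by omega) h4
  have hW : IsPGroup 2 (J X (a + 1) (a + m) ⊔ O : Subgroup G) :=
    two_sup' (two_arc Z h2 (by omega)) hO h1
  refine not_two Z h2 a hmax hW ((J_mono le_rfl (by omega)).trans le_sup_left)
    ((X_le_J (by omega) le_rfl).trans le_sup_left) hy hy1 ?_
  have e1 : y = x * q⁻¹ := by rw [e]; group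
  rw [e1]
  exact mul_mem (Subgroup.mem_sup_right hx)
    (inv_mem (Subgroup.mem_sup_left (J_mono le_rfl (by omega) hq)))

include Z h2 hmax in
/-- `U ∩ U⁻ ≤ J (a+1) (a+m-1)` -/
theorem inf_le_arc {x : G} (hx : x ∈ J X a (a + m - 1)) (hx' : x ∈ J X (a + m) (a + 2 * m - 1)) :
    x ∈ J X (a + 1) (a + m - 1) := by
  have hm := Z.two_lt
  obtain ⟨y, hy, q, hq, e⟩ := Z.split_ll (a := a) (b := a + m - 1) (by omega) (by omega) hx
  by_cases hy1 : y = 1
  · rw [e, hy1, one_mul]; exact hq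
  exfalso
  have hA : IsPGroup 2 (J X (a + m) (a + 2 * m - 1) : Subgroup G) := two_arc Z h2 (by omega)
  set A : Subgroup G := J X (a + m) (a + 2 * m - 1) ⊓ Subgroup.normalizer (J X (a + 1) (a + m - 1) : Set G) with hAd
  have hW : IsPGroup 2 (A ⊔ J X (a + 1) (a + m - 1) : Subgroup G) :=
    two_sup' (hA.to_le inf_le_left) (two_arc Z h2 (by omega)) inf_le_right
  have hVle : J X (a + 1) (a + m - 1) ≤ Subgroup.normalizer (J X (a + 1) (a + m - 1) : Set G) := Subgroup.le_normalizer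
  have ho : X (a + m) ≤ A := le_inf (X_le_J le_rfl (by omega)) (le_norm Z a (by omega) le_rfl)
  have hyn : y ∈ Subgroup.normalizer (J X (a + 1) (a + m - 1) : Set G) := le_norm Z a le_rfl (by omega) hy
  refine not_two Z h2 a hmax hW le_sup_right (ho.trans le_sup_left) hy hy1 ?_
  have hxA : x ∈ A := ⟨hx', by rw [e]; exact mul_mem hyn (hVle hq)⟩
  have e1 : y = x * q⁻¹ := by rw [e]; group
  rw [e1]
  exact mul_mem (Subgroup.mem_sup_left hxA) (inv_mem (Subgroup.mem_sup_right hq))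

end abs2

section full

variable {F : Type*} [Field F] {σ : F →+* F} {G : Type u} [Group G] (S : Full σ G)

theorem XZ_congr {a b : ℤ} (h : (16 : ℤ) ∣ a - b) : S.XZ a = S.XZ b := by
  show S.R.X ((a : ℤ) : ZMod (2 * 8)) = S.R.X ((b : ℤ) : ZMod (2 * 8))
  have e : ((a : ℤ) : ZMod (2 * 8)) = ((b : ℤ) : ZMod (2 * 8)) := by
    rw [ZMod.intCast_eq_intCast_iff]
    show a % ((2 * 8 : ℕ) : ℤ) = b % ((2 * 8 : ℕ) : ℤ)
    push_cast
    omega
  rw [e]

variable {S}

theorem cl_rot {R : Subgroup G} {w : G} (hw : w ∈ R) {c : ℤ}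
    (h : Maps S.R.X w (fun k => ((c : ℤ) : ZMod (2 * 8)) + k)) {k : ℤ} (hk : S.XZ k ≤ R) : S.XZ (c + k) ≤ R := by
  intro x hx
  have h1 := h (k : ZMod (2 * 8)) (w⁻¹ * x * w)
  have e1 : w * (w⁻¹ * x * w) * w⁻¹ = x := by group
  rw [e1] at h1
  have h2 : x ∈ S.R.X (((c : ℤ) : ZMod (2 * 8)) + ((k : ℤ) : ZMod (2 * 8))) := by
    rw [← Int.cast_add]; exact hx
  have h3 := hk (h1.1 h2)
  rw [← e1]
  exact mul_mem (mul_mem hw h3) (inv_mem hw)

theorem cl_ref {R : Subgroup G} {w : G} (hw : w ∈ R) {c : ℤ}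
    (h : Maps S.R.X w (fun k => ((c : ℤ) : ZMod (2 * 8)) - k)) {k : ℤ} (hk : S.XZ k ≤ R) : S.XZ (c - k) ≤ R := by
  intro x hx
  have h1 := h (k : ZMod (2 * 8)) (w⁻¹ * x * w)
  have e1 : w * (w⁻¹ * x * w) * w⁻¹ = x := by group
  rw [e1] at h1
  have h2 : x ∈ S.R.X (((c : ℤ) : ZMod (2 * 8)) - ((k : ℤ) : ZMod (2 * 8))) := by
    rw [← Int.cast_sub]; exact hx
  have h3 := hk (h1.1 h2)
  rw [← e1]
  exact mul_mem (mul_mem hw h3) (inv_mem hw)

theorem top_of_rot {R : Subgroup G} (hU : J S.XZ 1 8 ≤ R) {w : G} (hw : w ∈ R) {c : ℤ} (hc : ¬ (8 : ℤ) ∣ c)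
    (h : Maps S.R.X w (fun k => ((2 * c : ℤ) : ZMod (2 * 8)) + k)) : R = ⊤ := by
  have base : ∀ k : ℤ, 1 ≤ k → k ≤ 8 → S.XZ k ≤ R := fun k h1 h2 => (X_le_J h1 h2).trans hU
  have st : ∀ (n : ℕ) (k : ℤ), S.XZ k ≤ R → S.XZ (2 * c * n + k) ≤ R := by
    intro n
    induction n with
    | zero => intro k hk; simpa using hk
    | succ n ih =>
      intro k hk
      have h1 := cl_rot hw h (ih k hk)
      have e : 2 * c + (2 * c * (n : ℤ) + k) = 2 * c * ((n + 1 : ℕ) : ℤ) + k := by push_cast; ring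
      rwa [e] at h1
  have fin : ∀ (n : ℕ) (k t : ℤ), 1 ≤ k → k ≤ 8 → (16 : ℤ) ∣ 2 * c * n + k - t → S.XZ t ≤ R := by
    intro n k t h1 h2 h3
    rw [← XZ_congr S h3]
    exact st n k (base k h1 h2)
  have h7 : c % 8 = 1 ∨ c % 8 = 2 ∨ c % 8 = 3 ∨ c % 8 = 4 ∨ c % 8 = 5 ∨ c % 8 = 6 ∨ c % 8 = 7 := by omega
  refine eq_top_of S ?_ (base 1 le_rfl (by norm_num)) (base 8 (by norm_num) le_rfl) ?_
  · rcases h7 with h7 | h7 | h7 | h7 | h7 | h7 | h7
    · exact fin 4 8 0 (by norm_num) (by norm_num) (by push_cast; omega)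
    · exact fin 2 8 0 (by norm_num) (by norm_num) (by push_cast; omega)
    · exact fin 2 4 0 (by norm_num) (by norm_num) (by push_cast; omega)
    · exact fin 1 8 0 (by norm_num) (by norm_num) (by push_cast; omega)
    · exact fin 1 6 0 (by norm_num) (by norm_num) (by push_cast; omega)
    · exact fin 1 4 0 (by norm_num) (by norm_num) (by push_cast; omega)
    · exact fin 1 2 0 (by norm_num) (by norm_num) (by push_cast; omega)
  · rcases h7 with h7 | h7 | h7 | h7 | h7 | h7 | h7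
    · exact fin 1 7 9 (by norm_num) (by norm_num) (by push_cast; omega)
    · exact fin 1 5 9 (by norm_num) (by norm_num) (by push_cast; omega)
    · exact fin 1 3 9 (by norm_num) (by norm_num) (by push_cast; omega)
    · exact fin 1 1 9 (by norm_num) (by norm_num) (by push_cast; omega)
    · exact fin 2 5 9 (by norm_num) (by norm_num) (by push_cast; omega)
    · exact fin 2 1 9 (by norm_num) (by norm_num) (by push_cast; omega)
    · exact fin 4 1 9 (by norm_num) (by norm_num) (by push_cast; omega)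

theorem top_of_ref {R : Subgroup G} (hU : J S.XZ 1 8 ≤ R) {w : G} (hw : w ∈ R) {c : ℤ} (hc : c % 8 ≠ 4) (hc' : c % 8 ≠ 5)
    (h : Maps S.R.X w (fun k => ((2 * c : ℤ) : ZMod (2 * 8)) - k)) : R = ⊤ := by
  have base : ∀ k : ℤ, 1 ≤ k → k ≤ 8 → S.XZ k ≤ R := fun k h1 h2 => (X_le_J h1 h2).trans hU
  have fin : ∀ k t : ℤ, 1 ≤ k → k ≤ 8 → (16 : ℤ) ∣ 2 * c - k - t → S.XZ t ≤ R := by
    intro k t h1 h2 h3
    rw [← XZ_congr S h3]
    exact cl_ref hw h (base k h1 h2)
  have hn1 : S.XZ 9 ≤ R → R = ⊤ := by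
    intro h9
    have hn : S.n1 ∈ R := n1_mem_of S (base 1 le_rfl (by norm_num)) h9
    refine top_of_rot hU (w := w * S.n1) (mul_mem hw hn) (c := c - 5) (by omega) ?_
    refine (h.mul S.n1_maps).congr fun k => ?_
    show ((2 * c : ℤ) : ZMod (2 * 8)) - (10 - k) = ((2 * (c - 5) : ℤ) : ZMod (2 * 8)) + k
    push_cast
    ring
  have hn2 : S.XZ 0 ≤ R → R = ⊤ := by
    intro h0
    have hn : S.n2 ∈ R := n2_mem_of S h0 (base 8 (by norm_num) le_rfl)
    refine top_of_rot hU (w := w * S.n2) (mul_mem hw hn) (c := c - 4) (by omega) ?_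
    refine (h.mul S.n2_maps).congr fun k => ?_
    show ((2 * c : ℤ) : ZMod (2 * 8)) - (8 - k) = ((2 * (c - 4) : ℤ) : ZMod (2 * 8)) + k
    push_cast
    ring
  have h7 : c % 8 = 0 ∨ c % 8 = 1 ∨ c % 8 = 2 ∨ c % 8 = 3 ∨ c % 8 = 6 ∨ c % 8 = 7 := by omega
  rcases h7 with h7 | h7 | h7 | h7 | h7 | h7
  · exact hn1 (fin 7 9 (by norm_num) (by norm_num) (by omega))
  · exact hn2 (fin 2 0 (by norm_num) (by norm_num) (by omega))
  · exact hn2 (fin 4 0 (by norm_num) (by norm_num) (by omega))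
  · exact hn2 (fin 6 0 (by norm_num) (by norm_num) (by omega))
  · exact hn1 (fin 3 9 (by norm_num) (by norm_num) (by omega))
  · exact hn1 (fin 5 9 (by norm_num) (by norm_num) (by omega))

/-- a reflection normalises an arc -/
theorem ref_norm {w : G} {c a b : ℤ} (h : Maps S.R.X w (fun k => ((2 * c : ℤ) : ZMod (2 * 8)) - k))
    (hab : (16 : ℤ) ∣ 2 * c - a - b) : w ∈ Subgroup.normalizer (J S.XZ a b : Set G) := by
  have key : ∀ v : G, Maps S.R.X v (fun k => ((2 * c : ℤ) : ZMod (2 * 8)) - k) → ∀ x ∈ J S.XZ a b,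
      v * x * v⁻¹ ∈ J S.XZ a b := by
    intro v hv x hx
    have : J S.XZ a b ≤ (J S.XZ a b).comap (MulAut.conj v).toMonoidHom := by
      refine J_le fun k h1 h2 y hy => ?_
      have h3 := (hv (k : ZMod (2 * 8)) y).2 hy
      have h4 : v * y * v⁻¹ ∈ S.XZ (2 * c - k) := by
        show _ ∈ S.R.X _
        rw [Int.cast_sub]; exact h3
      have h5 : S.XZ (2 * c - k) = S.XZ (a + b - k) := XZ_congr S (by omega)
      rw [h5] at h4
      exact mem_J h4 (by omega) (by omega)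
    exact this hx
  have hinv : Maps S.R.X w⁻¹ (fun k => ((2 * c : ℤ) : ZMod (2 * 8)) - k) := h.inv (fun k => by ring)
  rw [Subgroup.mem_normalizer_iff]
  intro x
  refine ⟨fun hx => key w h x hx, fun hx => ?_⟩
  have h1 := key w⁻¹ hinv _ hx
  have e : w⁻¹ * (w * x * w⁻¹) * w⁻¹⁻¹ = x := by group
  rwa [e] at h1

theorem T_norm {t : G} (ht : t ∈ S.T) {a b : ℤ} : t ∈ Subgroup.normalizer (J S.XZ a b : Set G) := by
  rw [Subgroup.mem_normalizer_iff]
  intro x
  refine ⟨fun hx => S.T_conj_J ht hx, fun hx => ?_⟩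
  have h1 := S.T_conj_J (inv_mem ht) hx
  have e : t⁻¹ * (t * x * t⁻¹) * t⁻¹⁻¹ = x := by group
  rwa [e] at h1

/-- **a proper overgroup of `U` lies in a parabolic subgroup** -/
theorem parab {R : Subgroup G} (hU : J S.XZ 1 8 ≤ R) (hne : R ≠ ⊤) :
    R ≤ Subgroup.normalizer (J S.XZ 2 8 : Set G) ∨ R ≤ Subgroup.normalizer (J S.XZ 1 7 : Set G) := by
  have Z := S.zsys8
  have hU1 : J S.XZ 1 8 ≤ Subgroup.normalizer (J S.XZ 2 8 : Set G) :=
    (J_mono (by norm_num) (by norm_num)).trans (Z.le_normalizer (a := 2) (b := 8) (by norm_num))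
  have hU2 : J S.XZ 1 8 ≤ Subgroup.normalizer (J S.XZ 1 7 : Set G) :=
    (J_mono (by norm_num) (by norm_num)).trans (Z.le_normalizer (a := 1) (b := 7) (by norm_num))
  -- the classes of elements of `R`
  have cls : ∀ g ∈ R, ∃ b ∈ J S.XZ 1 8, ∃ t ∈ S.T, ∃ w, ∃ b' ∈ J S.XZ 1 8, g = b * t * w * b' ∧ t * w ∈ R ∧
      (w ∈ S.T ∨ Maps S.R.X (t * w) (fun k => ((2 * 5 : ℤ) : ZMod (2 * 8)) - k) ∨
        Maps S.R.X (t * w) (fun k => ((2 * 4 : ℤ) : ZMod (2 * 8)) - k)) := by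
    intro g hg
    obtain ⟨b, hb, t, ht, w, ⟨c, hc⟩, b', hb', e⟩ := S.bruhatE g
    have htw : t * w ∈ R := by
      have e1 : t * w = b⁻¹ * g * b'⁻¹ := by rw [e]; group
      rw [e1]
      exact mul_mem (mul_mem (inv_mem (hU hb)) hg) (inv_mem (hU hb'))
    refine ⟨b, hb, t, ht, w, b', hb', e, htw, ?_⟩
    have ht1 : Maps S.R.X t id := ht
    rcases hc with hc | hc
    · left
      have h1 : Maps S.R.X (t * w) (fun k => ((2 * c : ℤ) : ZMod (2 * 8)) + k) := (ht1.mul hc).congr fun k => rfl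
      have h2 : (8 : ℤ) ∣ c := by
        by_contra h3
        exact hne (top_of_rot hU htw h3 h1)
      show Maps S.R.X w id
      refine hc.congr fun k => ?_
      have h3 : ((2 * c : ℤ) : ZMod (2 * 8)) = 0 := by
        rw [ZMod.intCast_zmod_eq_zero_iff_dvd]
        push_cast
        omega
      rw [h3, zero_add]; rfl
    · right
      have h1 : Maps S.R.X (t * w) (fun k => ((2 * c : ℤ) : ZMod (2 * 8)) - k) := (ht1.mul hc).congr fun k => rfl
      have red : ∀ d : ℤ, c % 8 = d % 8 → ((2 * c : ℤ) : ZMod (2 * 8)) = ((2 * d : ℤ) : ZMod (2 * 8)) := by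
        intro d hd
        rw [ZMod.intCast_eq_intCast_iff]
        show (2 * c) % ((2 * 8 : ℕ) : ℤ) = (2 * d) % ((2 * 8 : ℕ) : ℤ)
        push_cast
        omega
      by_cases h4 : c % 8 = 4
      · right
        rw [red 4 (by omega)] at h1
        exact h1
      by_cases h5 : c % 8 = 5
      · left
        rw [red 5 (by omega)] at h1
        exact h1
      exact absurd (top_of_ref hU htw h4 h5 h1) hne
  by_contra hcon
  rw [not_or, SetLike.not_le_iff_exists, SetLike.not_le_iff_exists] at hcon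
  obtain ⟨⟨g, hg, hgn⟩, ⟨g', hg', hgn'⟩⟩ := hcon
  obtain ⟨b, hb, t, ht, w, b', hb', e, htw, hc⟩ := cls g hg
  obtain ⟨c, hc1, s, hs, v, c', hc1', e', hsv, hd⟩ := cls g' hg'
  -- `t w` induces `8 - k`, `s v` induces `10 - k`
  have h1 : Maps S.R.X (t * w) (fun k => ((2 * 4 : ℤ) : ZMod (2 * 8)) - k) := by
    rcases hc with hc | hc | hc
    · exfalso
      apply hgn
      rw [e]
      exact mul_mem (mul_mem (mul_mem (hU1 hb) (T_norm ht)) (T_norm hc)) (hU1 hb')
    · exfalso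
      apply hgn
      have e1 : g = b * (t * w) * b' := by rw [e]; group
      rw [e1]
      exact mul_mem (mul_mem (hU1 hb) (ref_norm hc (by norm_num))) (hU1 hb')
    · exact hc
  have h2 : Maps S.R.X (s * v) (fun k => ((2 * 5 : ℤ) : ZMod (2 * 8)) - k) := by
    rcases hd with hd | hd | hd
    · exfalso
      apply hgn'
      rw [e']
      exact mul_mem (mul_mem (mul_mem (hU2 hc1) (T_norm hs)) (T_norm hd)) (hU2 hc1')
    · exact hd
    · exfalso
      apply hgn'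
      have e1 : g' = c * (s * v) * c' := by rw [e']; group
      rw [e1]
      exact mul_mem (mul_mem (hU2 hc1) (ref_norm hd (by norm_num))) (hU2 hc1')
  refine hne (top_of_rot hU (w := (s * v) * (t * w)) (mul_mem hsv htw) (c := 1) (by norm_num) ?_)
  refine (h2.mul h1).congr fun k => ?_
  show ((2 * 5 : ℤ) : ZMod (2 * 8)) - (((2 * 4 : ℤ) : ZMod (2 * 8)) - k) = ((2 * 1 : ℤ) : ZMod (2 * 8)) + k
  push_cast
  ring

end full

section fin

variable {F : Type*} [Field F] {σ : F →+* F} {G : Type u} [Group G] (S : Full σ G) [Finite F] [Finite G]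

/-- every arc of length 8 is a maximal 2-subgroup -/
theorem arc_max (hF : ∃ c : Fˣ, c ≠ 1) (hR : S.R.p = 2) (c : ℤ) (V : Subgroup G) (hV : IsPGroup 2 V)
    (h : J S.XZ (1 + 2 * c) (8 + 2 * c) ≤ V) : V ≤ J S.XZ (1 + 2 * c) (8 + 2 * c) := by
  have h1 : J S.XZ 1 8 ≤ V.map (S.ck (-c)).toMonoidHom := by
    have h2 := Subgroup.map_mono (f := (S.ck (-c)).toMonoidHom) h
    rw [S.map_J] at h2
    rwa [show 1 + 2 * c + 2 * -c = 1 by ring, show 8 + 2 * c + 2 * -c = 8 by ring] at h2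
  have h3 := le_U_of_two S hF hR (hV.map (S.ck (-c)).toMonoidHom) h1
  have h4 := Subgroup.map_mono (f := (S.ck c).toMonoidHom) h3
  rw [S.map_J] at h4
  refine le_trans ?_ h4
  intro x hx
  rw [Subgroup.map_map]
  refine ⟨x, hx, ?_⟩
  show S.ck c (S.ck (-c) x) = x
  rw [S.ck_apply, S.ck_apply, zpow_neg]
  group

/-- the reversed system `k ↦ X_(9 - k)` -/
theorem rev_max (hF : ∃ c : Fˣ, c ≠ 1) (hR : S.R.p = 2) (c : ℤ) (V : Subgroup G) (hV : IsPGroup 2 V)
    (h : J (fun k => S.XZ (9 - k)) (1 + 2 * c) (1 + 2 * c + 8 - 1) ≤ V) :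
    V ≤ J (fun k => S.XZ (9 - k)) (1 + 2 * c) (1 + 2 * c + 8 - 1) := by
  rw [ZSys.J_rev] at h ⊢
  have e1 : (9 : ℤ) - (1 + 2 * c + 8 - 1) = 1 + 2 * -c := by ring
  have e2 : (9 : ℤ) - (1 + 2 * c) = 8 + 2 * -c := by ring
  rw [e1, e2] at h ⊢
  exact arc_max S hF hR (-c) V hV h

theorem two_rev (hR : S.R.p = 2) (k : ℤ) : IsPGroup 2 ((fun k => S.XZ (9 - k)) k) := two_X S hR _

/-- **`U ∩ U⁻ = 1`** -/
theorem inf_eq_one [IsSimpleGroup G] (hF : ∃ c : Fˣ, c ≠ 1) (hR : S.R.p = 2) {x : G} (hx : x ∈ J S.XZ 1 8)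
    (hx' : x ∈ J S.XZ 9 16) : x = 1 := by
  have Z := S.zsys8
  have h2 := two_X S hR
  have per : ∀ a b, J S.XZ (a + 16) (b + 16) = J S.XZ a b := by
    intro a b
    apply le_antisymm
    · refine J_le fun k h1 h2 => ?_
      rw [XZ_congr S (a := k) (b := k - 16) (by norm_num)]
      exact X_le_J (by omega) (by omega)
    · refine J_le fun k h1 h2 => ?_
      rw [XZ_congr S (a := k) (b := k + 16) (by norm_num)]
      exact X_le_J (by omega) (by omega)
  -- the four inclusions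
  have i1 : ∀ x ∈ J S.XZ 1 8, x ∈ J S.XZ 9 16 → x ∈ J S.XZ 2 8 := by
    intro x h3 h4
    have := inf_le_arc Z h2 (1 + 2 * 0) (fun V hV h => by
      have e : (1 : ℤ) + 2 * 0 + 8 - 1 = 8 + 2 * 0 := by norm_num
      rw [e] at h ⊢
      exact arc_max S hF hR 0 V hV h) (x := x) (by norm_num; exact h3) (by norm_num; exact h4)
    norm_num at this
    exact this
  have i2 : ∀ x ∈ J S.XZ 1 8, x ∈ J S.XZ 9 16 → x ∈ J S.XZ 1 7 := by
    intro x h3 h4
    have h5 : x ∈ J S.XZ (-7) 0 := by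
      have := per (-7) 0
      norm_num at this
      rw [← this]; exact h4
    have := inf_le_arc (Z.rev 9) (two_rev S hR) (1 + 2 * 0) (rev_max S hF hR 0) (x := x)
      (by rw [ZSys.J_rev]; norm_num; exact h3) (by rw [ZSys.J_rev]; norm_num; exact h5)
    rw [ZSys.J_rev] at this
    norm_num at this
    exact this
  have i3 : ∀ x ∈ J S.XZ 1 8, x ∈ J S.XZ 9 16 → x ∈ J S.XZ 10 16 := by
    intro x h3 h4
    have h5 : x ∈ J S.XZ 17 24 := by
      have := per 1 8
      norm_num at this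
      rw [this]; exact h3
    have := inf_le_arc Z h2 (1 + 2 * 4) (fun V hV h => by
      have e : (1 : ℤ) + 2 * 4 + 8 - 1 = 8 + 2 * 4 := by norm_num
      rw [e] at h ⊢
      exact arc_max S hF hR 4 V hV h) (x := x) (by norm_num; exact h4) (by norm_num; exact h5)
    norm_num at this
    exact this
  have i4 : ∀ x ∈ J S.XZ 1 8, x ∈ J S.XZ 9 16 → x ∈ J S.XZ 9 15 := by
    intro x h3 h4
    have h5 : x ∈ J S.XZ (1 : ℤ) 8 := h3
    have := inf_le_arc (Z.rev 9) (two_rev S hR) (1 + 2 * (-4)) (rev_max S hF hR (-4)) (x := x)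
      (by rw [ZSys.J_rev]; norm_num; exact h4) (by rw [ZSys.J_rev]; norm_num; exact h5)
    rw [ZSys.J_rev] at this
    norm_num at this
    exact this
  -- `D = U ∩ U⁻` is normal
  set D : Subgroup G := J S.XZ 1 8 ⊓ J S.XZ 9 16 with hD
  have d1 : ∀ y, y ∈ D ↔ y ∈ J S.XZ 2 8 ∧ y ∈ J S.XZ 10 16 := fun y =>
    ⟨fun h => ⟨i1 y h.1 h.2, i3 y h.1 h.2⟩, fun h => ⟨J_mono (by norm_num) le_rfl h.1, J_mono (by norm_num) le_rfl h.2⟩⟩
  have d2 : ∀ y, y ∈ D ↔ y ∈ J S.XZ 1 7 ∧ y ∈ J S.XZ 9 15 := fun y =>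
    ⟨fun h => ⟨i2 y h.1 h.2, i4 y h.1 h.2⟩, fun h => ⟨J_mono le_rfl (by norm_num) h.1, J_mono le_rfl (by norm_num) h.2⟩⟩
  have nm : ∀ {k a b : ℤ}, a - 1 ≤ k → k ≤ b + 1 → b < a + 7 →
      S.XZ k ≤ Subgroup.normalizer (J S.XZ a b : Set G) := fun {k a b} h1 h2 h3 =>
    (X_le_J h1 h2).trans (Z.le_normalizer (a := a) (b := b) (by omega))
  have inf_norm : ∀ {k : ℤ} {A B : Subgroup G}, (∀ y, y ∈ D ↔ y ∈ A ∧ y ∈ B) →
      S.XZ k ≤ Subgroup.normalizer (A : Set G) → S.XZ k ≤ Subgroup.normalizer (B : Set G) →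
      S.XZ k ≤ Subgroup.normalizer (D : Set G) := by
    intro k A B hAB hA hB g hg
    rw [Subgroup.mem_normalizer_iff]
    intro y
    rw [hAB, hAB]
    exact and_congr ((Subgroup.mem_normalizer_iff.1 (hA hg)) y) ((Subgroup.mem_normalizer_iff.1 (hB hg)) y)
  have n17 : S.XZ 1 = S.XZ 17 := XZ_congr S (by norm_num)
  have n16 : S.XZ 0 = S.XZ 16 := XZ_congr S (by norm_num)
  have htop : Subgroup.normalizer (D : Set G) = ⊤ := by
    refine eq_top_of S ?_ ?_ ?_ ?_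
    · exact inf_norm d2 (nm (by norm_num) (by norm_num) (by norm_num))
        (by rw [n16]; exact nm (by norm_num) (by norm_num) (by norm_num))
    · exact inf_norm d1 (nm (by norm_num) (by norm_num) (by norm_num))
        (by rw [n17]; exact nm (by norm_num) (by norm_num) (by norm_num))
    · exact inf_norm d2 (nm (by norm_num) (by norm_num) (by norm_num)) (nm (by norm_num) (by norm_num) (by norm_num))
    · exact inf_norm d1 (nm (by norm_num) (by norm_num) (by norm_num)) (nm (by norm_num) (by norm_num) (by norm_num))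
  have hDn : D.Normal := Subgroup.normalizer_eq_top_iff.1 htop
  rcases hDn.eq_bot_or_eq_top with h | h
  · have : x ∈ D := ⟨hx, hx'⟩
    rw [h] at this
    exact Subgroup.mem_bot.1 this
  · exfalso
    obtain ⟨y, hy, hy1⟩ := Z.exists_ne 1
    have h3 : y ∈ D := by rw [h]; exact Subgroup.mem_top _
    exact hy1 (Z.inter 1 y hy (J_mono (by norm_num) (by norm_num) ((d1 y).1 h3).1))

end fin

section fin2

variable {F : Type*} [Field F] {σ : F →+* F} {G : Type u} [Group G] (S : Full σ G) [Finite F] [Finite G]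
  [IsSimpleGroup G]

/-- `V ∩ N(V⁻) = 1`, abstract form -/
theorem inf_norm_aux (hF : ∃ c : Fˣ, c ≠ 1) (hR : S.R.p = 2) {V V' Y : Subgroup G} (hV : V ≤ J S.XZ 1 8)
    (hV' : V' ≤ J S.XZ 9 16) (hY : IsPGroup 2 Y) (hYV : Y ≤ Subgroup.normalizer (V : Set G))
    (hYV' : Y ≤ Subgroup.normalizer (V' : Set G)) (hsup : J S.XZ 9 16 ≤ Y ⊔ V') {x : G} (hx : x ∈ V)
    (hn : x ∈ Subgroup.normalizer (V' : Set G)) : x = 1 := by
  have hU : IsPGroup 2 (J S.XZ 1 8) := two_J S hR (by norm_num)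
  have hU' : IsPGroup 2 (J S.XZ 9 16) := two_J S hR (by norm_num)
  set E : Subgroup G := V ⊓ Subgroup.normalizer (V' : Set G) with hE
  have hEV : IsPGroup 2 (E ⊔ V' : Subgroup G) :=
    two_sup' (hU.to_le (inf_le_left.trans hV)) (hU'.to_le hV') inf_le_right
  have hYE : ∀ y ∈ Y, ∀ e ∈ E, y * e * y⁻¹ ∈ E := by
    intro y hy e he
    refine ⟨(Subgroup.mem_normalizer_iff.1 (hYV hy) e).1 he.1, ?_⟩
    exact (Subgroup.normalizer (V' : Set G)).mul_mem ((Subgroup.normalizer (V' : Set G)).mul_mem (hYV' hy) he.2)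
      ((Subgroup.normalizer (V' : Set G)).inv_mem (hYV' hy))
  have hYEn : Y ≤ Subgroup.normalizer (E : Set G) := by
    intro y hy
    rw [Subgroup.mem_normalizer_iff]
    intro e
    refine ⟨fun he => hYE y hy e he, fun he => ?_⟩
    have h1 := hYE y⁻¹ (inv_mem hy) _ he
    have e1 : y⁻¹ * (y * e * y⁻¹) * y⁻¹⁻¹ = e := by group
    rwa [e1] at h1
  have hYn : Y ≤ Subgroup.normalizer ((E ⊔ V' : Subgroup G) : Set G) := by
    intro y hy
    have h1 : ∀ y ∈ Y, E ⊔ V' ≤ (E ⊔ V').comap (MulAut.conj y).toMonoidHom := fun y hy => sup_le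
      (fun e he => Subgroup.mem_sup_left (hYE y hy e he))
      (fun e he => Subgroup.mem_sup_right ((Subgroup.mem_normalizer_iff.1 (hYV' hy) e).1 he))
    rw [Subgroup.mem_normalizer_iff]
    intro e
    refine ⟨fun he => h1 y hy he, fun he => ?_⟩
    have h3 : y⁻¹ * (y * e * y⁻¹) * y⁻¹⁻¹ ∈ E ⊔ V' := h1 y⁻¹ (Y.inv_mem hy) he
    have e1 : y⁻¹ * (y * e * y⁻¹) * y⁻¹⁻¹ = e := by group
    rwa [e1] at h3
  have hW : IsPGroup 2 (Y ⊔ (E ⊔ V') : Subgroup G) := two_sup' hY hEV hYn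
  have hle := arc_max S hF hR 4 _ hW (by
    norm_num
    exact hsup.trans (sup_le_sup_left le_sup_right _))
  norm_num at hle
  exact inf_eq_one S hF hR (hV hx) (hle.2.1 ⟨hx, hn⟩)

theorem inf_norm_one (hF : ∃ c : Fˣ, c ≠ 1) (hR : S.R.p = 2) {x : G} (hx : x ∈ J S.XZ 2 8)
    (hn : x ∈ Subgroup.normalizer (J S.XZ 10 16 : Set G)) : x = 1 := by
  have Z := S.zsys8
  refine inf_norm_aux S hF hR (J_mono (by norm_num) le_rfl) (J_mono (by norm_num) le_rfl) (two_X S hR 9)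
    ((X_le_J (by norm_num) (by norm_num)).trans (Z.le_normalizer (a := 2) (b := 8) (by norm_num)))
    ((X_le_J (by norm_num) (by norm_num)).trans (Z.le_normalizer (a := 10) (b := 16) (by norm_num))) ?_ hx hn
  refine J_le fun k h1 h2 => ?_
  rcases eq_or_lt_of_le h1 with h3 | h3
  · rw [← h3]; exact le_sup_left
  · exact (X_le_J (by omega) h2).trans le_sup_right

theorem inf_norm_two (hF : ∃ c : Fˣ, c ≠ 1) (hR : S.R.p = 2) {x : G} (hx : x ∈ J S.XZ 1 7)
    (hn : x ∈ Subgroup.normalizer (J S.XZ 9 15 : Set G)) : x = 1 := by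
  have Z := S.zsys8
  have n16 : S.XZ 16 = S.XZ 0 := XZ_congr S (by norm_num)
  refine inf_norm_aux S hF hR (J_mono le_rfl (by norm_num)) (J_mono le_rfl (by norm_num)) (two_X S hR 16)
    (by rw [n16]; exact (X_le_J (by norm_num) (by norm_num)).trans (Z.le_normalizer (a := 1) (b := 7) (by norm_num)))
    ((X_le_J (by norm_num) (by norm_num)).trans (Z.le_normalizer (a := 9) (b := 15) (by norm_num))) ?_ hx hn
  refine J_le fun k h1 h2 => ?_
  rcases eq_or_lt_of_le h2 with h3 | h3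
  · rw [h3]; exact le_sup_left
  · exact (X_le_J h1 (by omega)).trans le_sup_right

omit [Finite F] [Finite G] [IsSimpleGroup G] in
theorem ck_mem {a b : ℤ} {x : G} : S.ck (-4) x ∈ J S.XZ a b ↔ x ∈ J S.XZ (a + 8) (b + 8) := by
  have h1 := S.map_J (-4) (a + 8) (b + 8)
  rw [show a + 8 + 2 * -4 = a by ring, show b + 8 + 2 * -4 = b by ring] at h1
  rw [← h1]
  constructor
  · rintro ⟨y, hy, e⟩
    have e1 : y = x := (S.ck (-4)).injective e
    rwa [← e1]
  · intro hx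
    exact ⟨x, hx, rfl⟩

omit [Finite F] [Finite G] [IsSimpleGroup G] in
theorem parab' {R : Subgroup G} (hU : J S.XZ 9 16 ≤ R) (hne : R ≠ ⊤) :
    R ≤ Subgroup.normalizer (J S.XZ 10 16 : Set G) ∨ R ≤ Subgroup.normalizer (J S.XZ 9 15 : Set G) := by
  have h1 : J S.XZ 1 8 ≤ R.map (S.ck (-4)).toMonoidHom := by
    have h2 := Subgroup.map_mono (f := (S.ck (-4)).toMonoidHom) hU
    rw [S.map_J] at h2
    norm_num at h2
    exact h2
  have h2 : R.map (S.ck (-4)).toMonoidHom ≠ ⊤ := by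
    intro h3
    apply hne
    rw [eq_top_iff]
    intro x _
    have h4 : S.ck (-4) x ∈ R.map (S.ck (-4)).toMonoidHom := by rw [h3]; exact Subgroup.mem_top _
    obtain ⟨y, hy, e⟩ := h4
    have e1 : y = x := (S.ck (-4)).injective e
    rwa [← e1]
  have key : ∀ a b : ℤ, R.map (S.ck (-4)).toMonoidHom ≤ Subgroup.normalizer (J S.XZ a b : Set G) →
      R ≤ Subgroup.normalizer (J S.XZ (a + 8) (b + 8) : Set G) := by
    intro a b h3 r hr
    have h4 := h3 (Subgroup.mem_map_of_mem _ hr)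
    rw [Subgroup.mem_normalizer_iff] at h4 ⊢
    intro x
    have h5 := h4 (S.ck (-4) x)
    rw [← ck_mem S, ← ck_mem S, h5]
    show _ ↔ S.ck (-4) (r * x * r⁻¹) ∈ J S.XZ a b
    rw [map_mul, map_mul, map_inv]
    rfl
  rcases parab h1 h2 with h3 | h3
  · left
    have := key 2 8 h3
    norm_num at this
    exact this
  · right
    have := key 1 7 h3
    norm_num at this
    exact this

/-- **the opposite Sylow group** -/
theorem opp (hF : ∃ c : Fˣ, c ≠ 1) (hR : S.R.p = 2) {R : Subgroup G} (hU : J S.XZ 9 16 ≤ R) (hne : R ≠ ⊤)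
    {x : G} (h1 : x ∈ J S.XZ 2 8) (h2 : x ∈ J S.XZ 1 7) (hx : x ∈ R) : x = 1 := by
  rcases parab' S hU hne with h | h
  · exact inf_norm_one S hF hR h1 (h hx)
  · exact inf_norm_two S hF hR h2 (h hx)

/-- `O_2` of the first parabolic subgroup -/
theorem two_le_one (hF : ∃ c : Fˣ, c ≠ 1) (hR : S.R.p = 2) {O : Subgroup G} (hO : IsPGroup 2 O)
    (hn : Subgroup.normalizer (J S.XZ 2 8 : Set G) ≤ Subgroup.normalizer (O : Set G)) : O ≤ J S.XZ 2 8 := by
  have Z := S.zsys8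
  have := le_arc_of_norm Z (two_X S hR) (1 + 2 * 0) (fun V hV h => by
      have e : (1 : ℤ) + 2 * 0 + 8 - 1 = 8 + 2 * 0 := by norm_num
      rw [e] at h ⊢
      exact arc_max S hF hR 0 V hV h) hO (fun k h1 h2 => by
    refine le_trans ?_ hn
    exact (X_le_J (by omega) (by omega)).trans (Z.le_normalizer (a := 2) (b := 8) (by norm_num)))
  norm_num at this
  exact this

/-- `O_2` of the second parabolic subgroup -/
theorem two_le_two (hF : ∃ c : Fˣ, c ≠ 1) (hR : S.R.p = 2) {O : Subgroup G} (hO : IsPGroup 2 O)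
    (hn : Subgroup.normalizer (J S.XZ 1 7 : Set G) ≤ Subgroup.normalizer (O : Set G)) : O ≤ J S.XZ 1 7 := by
  have Z := S.zsys8
  have := le_arc_of_norm (Z.rev 9) (two_rev S hR) (1 + 2 * 0) (rev_max S hF hR 0) hO (fun k h1 h2 => by
    refine le_trans ?_ hn
    show S.XZ (9 - k) ≤ _
    exact (X_le_J (by omega) (by omega)).trans (Z.le_normalizer (a := 1) (b := 7) (by norm_num)))
  rw [ZSys.J_rev] at this
  norm_num at this
  exact this

omit [Finite F] [Finite G] in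
/-- the parabolic subgroups are proper -/
theorem norm_ne_top {a b : ℤ} (hab : a ≤ b) (hb : b < a + 7) :
    Subgroup.normalizer (J S.XZ a b : Set G) ≠ ⊤ := by
  have Z := S.zsys8
  intro h
  have hn : (J S.XZ a b).Normal := Subgroup.normalizer_eq_top_iff.1 h
  rcases hn.eq_bot_or_eq_top with h1 | h1
  · obtain ⟨y, hy, hy1⟩ := Z.exists_ne a
    have h2 : y ∈ J S.XZ a b := mem_J hy le_rfl hab
    rw [h1] at h2
    exact hy1 (Subgroup.mem_bot.1 h2)
  · obtain ⟨y, hy, hy1⟩ := Z.exists_ne (a - 1)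
    have h2 : y ∈ J S.XZ a b := by rw [h1]; exact Subgroup.mem_top _
    exact hy1 (Z.inter (a - 1) y hy (J_mono (by omega) (by omega) h2))

end fin2

end Cfsg.Agent.Omega.ML.TwF4Opp
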