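import Cfsg.Agent.Omega.ML.Rows
import Cfsg.Agent.Omega.Lie.HeisCover

/-!
# (ML), the K-list end: THEOREM EX, the module part (helper987)

* `TrivOn G E n` : `E ≤ G` acts trivially on all `G`-modules (elementary abelian 2-groups) of order at most `n`;
* `core` : a 2-group `Q` normal in `G`, all of whose proper `E`-invariant subgroups have index at least `2 ^ (2w)`, acts
  trivially on every `G`-module of order at most `2 ^ (2w)` if `TrivOn G E (2 ^ w)`;
* `trivOn_of_lb` : `TrivOn L ⊤` for a perfect group `L` which is a cover of a simple group modulo a normal 2-subgroup.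
-/

set_option autoImplicit false

namespace Cfsg.Agent.Omega.ML.ExCore

open Subgroup Cfsg.Agent.Omega.NOThree.NoOver

universe u v w u'

/-- `E` acts trivially on all elementary abelian 2-groups of order at most `n` with an action of `L` -/
def TrivOn (L : Type u) [Group L] (E : Subgroup L) (n : ℕ) : Prop :=
  ∀ (V : Type v) [Group V] [Finite V] [MulDistribMulAction L V], (∀ x : V, x * x = 1) → Nat.card V ≤ n →
    ∀ l ∈ E, ∀ x : V, l • x = x

section act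

variable {L : Type u} [Group L] {N : Type v} [Group N] [MulDistribMulAction L N]

/-- the action on an invariant subgroup -/
abbrev subA (V : Subgroup N) (hV : ∀ (l : L), ∀ x ∈ V, l • x ∈ V) : MulDistribMulAction L V where
  smul l x := ⟨l • (x : N), hV l x x.2⟩
  one_smul x := Subtype.ext (one_smul L (x : N))
  mul_smul l k x := Subtype.ext (mul_smul l k (x : N))
  smul_mul l x y := Subtype.ext (smul_mul' l (x : N) y)
  smul_one l := Subtype.ext (smul_one l)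

/-- the action on a quotient -/
abbrev quoA (U : Subgroup N) [U.Normal] (hU : ∀ (l : L), ∀ x ∈ U, l • x ∈ U) : MulDistribMulAction L (N ⧸ U) where
  smul l := QuotientGroup.map U U (MulDistribMulAction.toMonoidHom N l) fun x hx => hU l x hx
  one_smul q := by
    obtain ⟨x, rfl⟩ := QuotientGroup.mk_surjective q
    exact congrArg (QuotientGroup.mk (s := U)) (one_smul L x)
  mul_smul l k q := by
    obtain ⟨x, rfl⟩ := QuotientGroup.mk_surjective q
    exact congrArg (QuotientGroup.mk (s := U)) (mul_smul l k x)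
  smul_mul l p q := map_mul (QuotientGroup.map U U (MulDistribMulAction.toMonoidHom N l) fun x hx => hU l x hx) p q
  smul_one l := map_one (QuotientGroup.map U U (MulDistribMulAction.toMonoidHom N l) fun x hx => hU l x hx)

theorem comm_of_sq (sq : ∀ x : N, x * x = 1) (a b : N) : a * b = b * a := by
  have h1 := sq (a * b)
  have h2 : a⁻¹ = a := inv_eq_of_mul_eq_one_right (sq a)
  have h3 : b⁻¹ = b := inv_eq_of_mul_eq_one_right (sq b)
  calc a * b = (a * b)⁻¹ := (inv_eq_of_mul_eq_one_right h1).symm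
    _ = b⁻¹ * a⁻¹ := mul_inv_rev a b
    _ = b * a := by rw [h2, h3]

theorem normal_of_sq (sq : ∀ x : N, x * x = 1) (U : Subgroup N) : U.Normal :=
  ⟨fun u hu g => by rwa [comm_of_sq sq g u, mul_inv_cancel_right]⟩

theorem TrivOn.mono {E : Subgroup L} {m n : ℕ} (h : TrivOn.{u, v} L E n) (hmn : m ≤ n) : TrivOn.{u, v} L E m :=
  fun V _ _ _ h2 hc => h V h2 (hc.trans hmn)

/-- the property for sections -/
theorem TrivOn.sec [Finite N] {E : Subgroup L} {n : ℕ} (h : TrivOn.{u, v} L E n) (sq : ∀ x : N, x * x = 1)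
    {U V : Subgroup N} (hU : ∀ (l : L), ∀ x ∈ U, l • x ∈ U) (hV : ∀ (l : L), ∀ x ∈ V, l • x ∈ V) (hc : U.relIndex V ≤ n)
    {l : L} (hl : l ∈ E) {x : N} (hx : x ∈ V) : l • x * x⁻¹ ∈ U := by
  let _ := subA V hV
  have hn : (U.subgroupOf V).Normal := normal_of_sq (fun x => Subtype.ext (sq x)) _
  let _ := quoA (L := L) (U.subgroupOf V) (fun l x hx => hU l x hx)
  have h1 := h (V ⧸ U.subgroupOf V) (by
    intro q
    obtain ⟨y, rfl⟩ := QuotientGroup.mk_surjective q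
    exact congrArg (QuotientGroup.mk (s := U.subgroupOf V)) (Subtype.ext (sq y))) hc l hl
    (QuotientGroup.mk (⟨x, hx⟩ : V))
  have h2 : (QuotientGroup.mk (l • (⟨x, hx⟩ : V)) : V ⧸ U.subgroupOf V) = QuotientGroup.mk (⟨x, hx⟩ : V) := h1
  rw [eq_comm, QuotientGroup.eq] at h2
  have h3 : x⁻¹ * l • x ∈ U := h2
  rwa [comm_of_sq sq] at h3

/-- `[V, Q]` -/
def br (N : Type v) [Group N] [MulDistribMulAction L N] (Q : Subgroup L) (V : Subgroup N) : Subgroup N :=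
  closure {x | ∃ q ∈ Q, ∃ y ∈ V, x = q • y * y⁻¹}

theorem mem_br {Q : Subgroup L} {V : Subgroup N} {q : L} (hq : q ∈ Q) {y : N} (hy : y ∈ V) :
    q • y * y⁻¹ ∈ br N Q V := subset_closure ⟨q, hq, y, hy, rfl⟩

theorem br_le_iff {Q : Subgroup L} {V W : Subgroup N} : br N Q V ≤ W ↔ ∀ q ∈ Q, ∀ y ∈ V, q • y * y⁻¹ ∈ W := by
  rw [br, closure_le]
  constructor
  · intro h q hq y hy
    exact h ⟨q, hq, y, hy, rfl⟩
  · rintro h _ ⟨q, hq, y, hy, rfl⟩
    exact h q hq y hy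

theorem br_le {Q : Subgroup L} {V : Subgroup N} (hV : ∀ q ∈ Q, ∀ x ∈ V, q • x ∈ V) : br N Q V ≤ V :=
  br_le_iff.2 fun q hq y hy => V.mul_mem (hV q hq y hy) (V.inv_mem hy)

theorem smul_mem_br {Q : Subgroup L} (hQ : Q.Normal) {V : Subgroup N} (hV : ∀ (l : L), ∀ x ∈ V, l • x ∈ V) (l : L)
    {x : N} (hx : x ∈ br N Q V) : l • x ∈ br N Q V := by
  have h1 : br N Q V ≤ (br N Q V).comap (MulDistribMulAction.toMonoidHom N l) := by
    rw [br_le_iff]
    intro q hq y hy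
    rw [mem_comap]
    have h2 := mem_br (hQ.conj_mem q hq l) (hV l y hy)
    have h3 : (l * q * l⁻¹) • (l • y) = l • (q • y) := by rw [mul_smul, mul_smul, inv_smul_smul]
    rw [h3] at h2
    change l • (q • y * y⁻¹) ∈ _
    rwa [smul_mul', smul_inv']
  exact h1 hx

/-- the elements `q ∈ Q` with `[n, q] ∈ U` -/
def dn (Q : Subgroup L) (U : Subgroup N) (hU : ∀ q ∈ Q, ∀ x ∈ U, q • x ∈ U) (n : N) : Subgroup L where
  carrier := {q | q ∈ Q ∧ q • n * n⁻¹ ∈ U}
  one_mem' := ⟨Q.one_mem, by rw [one_smul, mul_inv_cancel]; exact U.one_mem⟩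
  mul_mem' := fun {a b} ha hb => ⟨Q.mul_mem ha.1 hb.1, by
    have h1 := U.mul_mem (hU a ha.1 _ hb.2) ha.2
    rwa [smul_mul', smul_inv', ← mul_assoc, inv_mul_cancel_right, ← mul_smul] at h1⟩
  inv_mem' := fun {a} ha => ⟨Q.inv_mem ha.1, by
    have h1 := U.inv_mem (hU a⁻¹ (Q.inv_mem ha.1) _ ha.2)
    rwa [smul_mul', smul_inv', inv_smul_smul, mul_inv_rev, inv_inv] at h1⟩

theorem mem_dn {Q : Subgroup L} {U : Subgroup N} {hU : ∀ q ∈ Q, ∀ x ∈ U, q • x ∈ U} {n : N} {q : L} :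
    q ∈ dn Q U hU n ↔ q ∈ Q ∧ q • n * n⁻¹ ∈ U := Iff.rfl

/-- `[n, Q] ≤ W` implies `|Q : dn| ≤ |W : U|` -/
theorem relIndex_dn_le [Finite L] [Finite N] (sq : ∀ x : N, x * x = 1) {Q : Subgroup L} {U W : Subgroup N}
    (hU : ∀ q ∈ Q, ∀ x ∈ U, q • x ∈ U) {n : N} (hn : ∀ q ∈ Q, q • n * n⁻¹ ∈ W)
    (hW : ∀ q ∈ Q, ∀ x ∈ W, q • x * x⁻¹ ∈ U) : (dn Q U hU n).relIndex Q ≤ U.relIndex W := by
  have hUn := normal_of_sq sq U
  let f : Q →* N ⧸ U :=
    { toFun := fun q => QuotientGroup.mk ((q : L) • n * n⁻¹)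
      map_one' := by
        change (QuotientGroup.mk ((1 : L) • n * n⁻¹) : N ⧸ U) = 1
        rw [one_smul, mul_inv_cancel]
        rfl
      map_mul' := fun a b => by
        change (QuotientGroup.mk (((a : L) * (b : L)) • n * n⁻¹) : N ⧸ U) =
          QuotientGroup.mk ((a : L) • n * n⁻¹) * QuotientGroup.mk ((b : L) • n * n⁻¹)
        have h1 := hW a a.2 _ (hn b b.2)
        have h2 : ((a : L) * (b : L)) • n * n⁻¹ =
            ((a : L) • ((b : L) • n * n⁻¹) * ((b : L) • n * n⁻¹)⁻¹) *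
              (((a : L) • n * n⁻¹) * ((b : L) • n * n⁻¹)) := by
          rw [comm_of_sq sq ((a : L) • n * n⁻¹), ← mul_assoc, inv_mul_cancel_right, smul_mul', smul_inv', ← mul_assoc,
            inv_mul_cancel_right, ← mul_smul]
        rw [h2, QuotientGroup.mk_mul, (QuotientGroup.eq_one_iff _).2 h1, one_mul, QuotientGroup.mk_mul] }
  have hk : f.ker = (dn Q U hU n).subgroupOf Q := by
    ext q
    rw [MonoidHom.mem_ker, mem_subgroupOf, mem_dn]
    change (QuotientGroup.mk ((q : L) • n * n⁻¹) : N ⧸ U) = 1 ↔ _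
    rw [QuotientGroup.eq_one_iff]
    exact ⟨fun h => ⟨q.2, h⟩, fun h => h.2⟩
  have h3 : (dn Q U hU n).relIndex Q = Nat.card f.range := by
    rw [relIndex, ← hk, index_ker]
  have h4 : f.range ≤ W.map (QuotientGroup.mk' U) := by
    rintro _ ⟨q, rfl⟩
    exact ⟨(q : L) • n * n⁻¹, hn q q.2, rfl⟩
  rw [h3]
  refine (card_le_of_le h4).trans ?_
  have h5 := relIndex_ker W (QuotientGroup.mk' U)
  rw [QuotientGroup.ker_mk'] at h5
  exact h5.ge

/-- the elements `n` with `[n, q] ∈ U` -/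
def cn (sq : ∀ x : N, x * x = 1) (q : L) (U : Subgroup N) : Subgroup N where
  carrier := {n | q • n * n⁻¹ ∈ U}
  one_mem' := by
    change q • (1 : N) * 1⁻¹ ∈ U
    rw [smul_one, one_mul, inv_one]
    exact U.one_mem
  mul_mem' := fun {a b} ha hb => by
    change q • (a * b) * (a * b)⁻¹ ∈ U
    have h1 : q • (a * b) * (a * b)⁻¹ = (q • a * a⁻¹) * (q • b * b⁻¹) := by
      rw [smul_mul', mul_inv_rev, comm_of_sq sq b⁻¹, mul_assoc, mul_assoc, ← mul_assoc (q • b),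
        comm_of_sq sq (q • b), mul_assoc]
    rw [h1]
    exact U.mul_mem ha hb
  inv_mem' := fun {a} ha => by
    change q • a⁻¹ * a⁻¹⁻¹ ∈ U
    have h1 := U.inv_mem ha
    rw [mul_inv_rev, ← smul_inv', comm_of_sq sq] at h1
    exact h1

theorem mem_cn {sq : ∀ x : N, x * x = 1} {q : L} {U : Subgroup N} {n : N} : n ∈ cn sq q U ↔ q • n * n⁻¹ ∈ U := Iff.rfl

/-- a fixed point in a section -/
theorem exists_fix [Finite N] (sq : ∀ x : N, x * x = 1) {Q : Subgroup L} (h2 : IsPGroup 2 Q) {X V : Subgroup N}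
    (hX : ∀ q ∈ Q, ∀ x ∈ X, q • x ∈ X) (hV : ∀ q ∈ Q, ∀ x ∈ V, q • x ∈ V) (hlt : X < V) :
    ∃ v ∈ V, v ∉ X ∧ ∀ q ∈ Q, q • v * v⁻¹ ∈ X := by
  have : Fact (Nat.Prime 2) := ⟨Nat.prime_two⟩
  let _ : MulDistribMulAction Q V := subA (L := Q) V fun q x hx => hV q q.2 x hx
  have hn : (X.subgroupOf V).Normal := normal_of_sq (fun x => Subtype.ext (sq x)) _
  let _ : MulDistribMulAction Q (V ⧸ X.subgroupOf V) :=
    quoA (L := Q) (X.subgroupOf V) (fun q x hx => hX q q.2 x hx)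
  have hsq : ∀ q : V ⧸ X.subgroupOf V, q ^ 2 = 1 := by
    intro q
    obtain ⟨y, rfl⟩ := QuotientGroup.mk_surjective q
    rw [pow_two]
    exact congrArg (QuotientGroup.mk (s := X.subgroupOf V)) (Subtype.ext (sq y))
  have hne : Nat.card (V ⧸ X.subgroupOf V) ≠ 1 := by
    intro h
    have h1 : X.relIndex V = 1 := h
    rw [relIndex_eq_one] at h1
    exact absurd h1 (not_le_of_gt hlt)
  have hcard : 2 ∣ Nat.card (V ⧸ X.subgroupOf V) := by
    have hp : IsPGroup 2 (V ⧸ X.subgroupOf V) := fun q => ⟨1, by rw [pow_one]; exact hsq q⟩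
    obtain ⟨k, hk⟩ := IsPGroup.iff_card.1 hp
    rw [hk]
    refine dvd_pow_self 2 ?_
    rintro rfl
    exact hne (by rw [hk, pow_zero])
  obtain ⟨b, hb1, hb2⟩ := h2.exists_fixed_point_of_prime_dvd_card_of_fixed_point (α := V ⧸ X.subgroupOf V) hcard
    (a := 1) (fun q => smul_one q)
  obtain ⟨v, rfl⟩ := QuotientGroup.mk_surjective b
  refine ⟨v, v.2, fun hv => hb2 ?_, fun q hq => ?_⟩
  · exact ((QuotientGroup.eq_one_iff v).2 hv).symm
  · have h3 := hb1 ⟨q, hq⟩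
    have h4 : (QuotientGroup.mk ((⟨q, hq⟩ : Q) • v) : V ⧸ X.subgroupOf V) = QuotientGroup.mk v := h3
    rw [eq_comm, QuotientGroup.eq] at h4
    have h5 : (v : N)⁻¹ * q • (v : N) ∈ X := h4
    rwa [comm_of_sq sq] at h5

/-- a maximal invariant subgroup -/
theorem exists_max [Finite N] {p : Subgroup N → Prop} {X₀ V : Subgroup N} (h0 : p X₀) (hlt : X₀ < V) :
    ∃ X, X₀ ≤ X ∧ p X ∧ X < V ∧ ∀ Y, X < Y → p Y → ¬ Y < V := by
  obtain ⟨X, hX, hm⟩ := Set.exists_max_image {X : Subgroup N | X₀ ≤ X ∧ p X ∧ X < V} (fun X => Nat.card X)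
    (Set.toFinite _) ⟨X₀, le_rfl, h0, hlt⟩
  refine ⟨X, hX.1, hX.2.1, hX.2.2, fun Y hXY hpY hYV => ?_⟩
  have h1 := hm Y ⟨hX.1.trans hXY.le, hpY, hYV⟩
  exact absurd (eq_of_le_of_card_ge hXY.le h1) hXY.ne

theorem le_sup_zpowers (X : Subgroup N) (v : N) : v ∈ X ⊔ zpowers v := (le_sup_right : zpowers v ≤ _) (mem_zpowers v)

/-- `[V, Q] < V` -/
theorem br_ne [Finite N] (sq : ∀ x : N, x * x = 1) {Q : Subgroup L} (h2 : IsPGroup 2 Q) {V : Subgroup N}
    (hV : ∀ q ∈ Q, ∀ x ∈ V, q • x ∈ V) (hne : V ≠ ⊥) : br N Q V ≠ V := by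
  obtain ⟨X, -, hX, hXV, hmax⟩ := exists_max (p := fun X : Subgroup N => ∀ q ∈ Q, ∀ x ∈ X, q • x ∈ X) (X₀ := ⊥) (V := V)
    (fun q _ x hx => by rw [mem_bot.1 hx, smul_one]; exact one_mem _) (bot_lt_iff_ne_bot.2 hne)
  obtain ⟨v, hv, hvX, hf⟩ := exists_fix sq h2 hX hV hXV
  have hlt : X < X ⊔ zpowers v := lt_of_le_of_ne le_sup_left fun h => hvX (h ▸ le_sup_zpowers X v)
  have hle : X ⊔ zpowers v ≤ V := sup_le hXV.le (zpowers_le.2 hv)
  have hcn : ∀ q ∈ Q, X ⊔ zpowers v ≤ cn sq q X := fun q hq =>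
    sup_le (fun x hx => X.mul_mem (hX q hq x hx) (X.inv_mem hx)) (zpowers_le.2 (hf q hq))
  have hinv : ∀ q ∈ Q, ∀ x ∈ X ⊔ zpowers v, q • x ∈ X ⊔ zpowers v := by
    intro q hq x hx
    have h1 : q • x * x⁻¹ ∈ X ⊔ zpowers v := hlt.le (hcn q hq hx)
    have h2 := mul_mem h1 hx
    rwa [inv_mul_cancel_right] at h2
  have hV' : X ⊔ zpowers v = V := by
    by_contra h
    exact hmax _ hlt hinv (lt_of_le_of_ne hle h)
  intro h
  have h3 : br N Q V ≤ X := by
    rw [br_le_iff, ← hV']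
    exact fun q hq y hy => hcn q hq hy
  rw [h] at h3
  exact absurd h3 (not_le_of_gt hXV)

/-- the elements `q ∈ Q` with `[V, q] ≤ U` -/
def dv (Q : Subgroup L) (U : Subgroup N) (hU : ∀ q ∈ Q, ∀ x ∈ U, q • x ∈ U) (V : Subgroup N) : Subgroup L :=
  Q ⊓ ⨅ n ∈ V, dn Q U hU n

theorem mem_dv {Q : Subgroup L} {U : Subgroup N} {hU : ∀ q ∈ Q, ∀ x ∈ U, q • x ∈ U} {V : Subgroup N} {q : L} :
    q ∈ dv Q U hU V ↔ q ∈ Q ∧ ∀ n ∈ V, q • n * n⁻¹ ∈ U := by
  simp only [dv, mem_inf, mem_iInf, mem_dn]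
  exact ⟨fun h => ⟨h.1, fun n hn => (h.2 n hn).2⟩, fun h => ⟨h.1, fun n hn => ⟨h.1, h.2 n hn⟩⟩⟩

/-- the bound `|Q : dv| ≤ |V : N₁|` -/
theorem relIndex_dv_le [Finite L] [Finite N] (sq : ∀ x : N, x * x = 1) {Q : Subgroup L} {Y N₁ : Subgroup N}
    (hY : ∀ q ∈ Q, ∀ x ∈ Y, q • x ∈ Y) (hN : ∀ (n : N), ∀ q ∈ Q, q • n * n⁻¹ ∈ N₁)
    (h1 : ∀ q ∈ Q, ∀ x ∈ N₁, q • x * x⁻¹ ∈ Y) (hY2 : Y.relIndex N₁ ≤ 2) (V : Subgroup N) (hV : N₁ ≤ V) :
    (dv Q Y hY V).relIndex Q ≤ N₁.relIndex V := by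
  induction h : Nat.card V using Nat.strong_induction_on generalizing V with
  | _ k ih =>
    rcases hV.eq_or_lt with rfl | hlt
    · rw [relIndex_self]
      have h2 : Q ≤ dv Q Y hY N₁ := fun q hq => mem_dv.2 ⟨hq, h1 q hq⟩
      rw [relIndex_eq_one.2 h2]
    · obtain ⟨V₀, h0, -, h0V, hmax⟩ := exists_max (p := fun _ => True) (X₀ := N₁) (V := V) trivial hlt
      obtain ⟨v, hv, hv0⟩ := SetLike.exists_of_lt h0V
      have hsup : V ≤ V₀ ⊔ zpowers v := by
        by_contra hc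
        have h2 : V₀ < V₀ ⊔ zpowers v := lt_of_le_of_ne le_sup_left fun h => hv0 (h ▸ le_sup_zpowers V₀ v)
        have h3 : V₀ ⊔ zpowers v ≤ V := sup_le h0V.le (zpowers_le.2 hv)
        exact hmax _ h2 trivial (lt_of_le_of_ne h3 fun h4 => hc h4.ge)
      have hc : Nat.card V₀ < k := by
        rw [← h]
        by_contra hc
        exact absurd (eq_of_le_of_card_ge h0V.le (not_lt.1 hc)) h0V.ne
      have h2 := ih _ hc V₀ h0 rfl
      have h3 : (dn Q Y hY v).relIndex Q ≤ 2 := (relIndex_dn_le sq hY (hN v) h1).trans hY2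
      have h4 : dv Q Y hY V₀ ⊓ dn Q Y hY v ≤ dv Q Y hY V := by
        intro q hq
        have hq0 := (mem_dv.1 hq.1).1
        refine mem_dv.2 ⟨hq0, fun n hn => ?_⟩
        have h5 : V₀ ⊔ zpowers v ≤ cn sq q Y := sup_le (fun x hx => (mem_dv.1 hq.1).2 x hx)
          (zpowers_le.2 hq.2.2)
        exact h5 (hsup hn)
      have h5 : 2 ≤ V₀.relIndex V := by
        have h6 : V₀.relIndex V ≠ 0 := relIndex_ne V₀ V
        have h7 : V₀.relIndex V ≠ 1 := fun h8 => absurd (relIndex_eq_one.1 h8) (not_le_of_gt h0V)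
        omega
      calc (dv Q Y hY V).relIndex Q ≤ (dv Q Y hY V₀ ⊓ dn Q Y hY v).relIndex Q := by
            exact relIndex_le_of_le_left h4 (relIndex_ne _ _)
        _ ≤ (dv Q Y hY V₀).relIndex Q * (dn Q Y hY v).relIndex Q := relIndex_inf_le
        _ ≤ N₁.relIndex V₀ * V₀.relIndex V := Nat.mul_le_mul h2 (h3.trans h5)
        _ = N₁.relIndex V := relIndex_mul_relIndex _ _ _ h0 h0V.le

/-- **The module part of THEOREM EX** -/
theorem core [Finite L] [Finite N] (sq : ∀ x : N, x * x = 1) {Q E : Subgroup L} (hQ : Q.Normal) (h2 : IsPGroup 2 Q)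
    {w : ℕ} (hN : Nat.card N ≤ 2 ^ (2 * w))
    (irr : ∀ D ≤ Q, (∀ l ∈ E, ∀ q ∈ D, l * q * l⁻¹ ∈ D) → 2 ^ (2 * w) ≤ D.relIndex Q ∨ D = Q)
    (tr : TrivOn.{u, v} L E (2 ^ w)) : ∀ q ∈ Q, ∀ n : N, q • n = n := by
  by_contra hcon
  push Not at hcon
  obtain ⟨q₀, hq₀, n₀, hn₀⟩ := hcon
  obtain ⟨N₁, hN₁⟩ : ∃ N₁, N₁ = br N Q ⊤ := ⟨_, rfl⟩
  have hinv1 : ∀ (l : L), ∀ x ∈ N₁, l • x ∈ N₁ := by
    rw [hN₁]
    exact fun l x hx => smul_mem_br hQ (fun _ _ _ => mem_top _) l hx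
  obtain ⟨N₂, hN₂⟩ : ∃ N₂, N₂ = br N Q N₁ := ⟨_, rfl⟩
  have hinv2 : ∀ (l : L), ∀ x ∈ N₂, l • x ∈ N₂ := by
    rw [hN₂]
    exact fun l x hx => smul_mem_br hQ hinv1 l hx
  have hb1 : ∀ q ∈ Q, ∀ n : N, q • n * n⁻¹ ∈ N₁ := fun q hq n => by
    rw [hN₁]; exact mem_br hq (mem_top n)
  have hb2 : ∀ q ∈ Q, ∀ n ∈ N₁, q • n * n⁻¹ ∈ N₂ := fun q hq n hn => by
    rw [hN₂]; exact mem_br hq hn
  have hne1 : N₁ ≠ ⊥ := by
    intro h
    have h1 := hb1 q₀ hq₀ n₀
    rw [h, mem_bot, mul_inv_eq_one] at h1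
    exact hn₀ h1
  have htop : (⊤ : Subgroup N) ≠ ⊥ := fun h => hne1 (le_bot_iff.1 (h ▸ le_top))
  have hne2 : N₁ ≠ ⊤ := by
    rw [hN₁]
    exact br_ne sq h2 (fun _ _ _ _ => mem_top _) htop
  have hlt2 : N₂ < N₁ := by
    refine lt_of_le_of_ne ?_ ?_
    · rw [hN₂]
      exact br_le fun q _ x hx => hinv1 q x hx
    · rw [hN₂]
      exact br_ne sq h2 (fun q _ x hx => hinv1 q x hx) hne1
  have hcard := card_mul_index N₁
  have hi : 2 ≤ N₁.index := by
    have h3 : N₁.index ≠ 0 := index_ne_zero_of_finite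
    have h4 : N₁.index ≠ 1 := fun e => hne2 (index_eq_one.1 e)
    omega
  have hc : 2 ≤ Nat.card N₁ := (one_lt_card_iff_ne_bot N₁).2 hne1
  have hc1 : Nat.card N₁ < 2 ^ (2 * w) := by
    refine lt_of_lt_of_le ?_ hN
    rw [← hcard]
    nlinarith
  have hi1 : N₁.index < 2 ^ (2 * w) := by
    refine lt_of_lt_of_le ?_ hN
    rw [← hcard]
    nlinarith
  by_cases hcase : N₁.index ≤ 2 ^ w
  · -- `L` is trivial on `N / N₁`
    have htr : ∀ l ∈ E, ∀ x : N, l • x * x⁻¹ ∈ N₁ := fun l hl x =>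
      tr.sec sq hinv1 (V := ⊤) (fun _ _ _ => mem_top _) (by rwa [relIndex_top_right]) hl (mem_top x)
    obtain ⟨n, q₁, hq₁, hn⟩ : ∃ n : N, ∃ q ∈ Q, q • n * n⁻¹ ∉ N₂ := by
      by_contra hc
      push Not at hc
      have h3 : N₁ ≤ N₂ := by
        rw [hN₁, br_le_iff]
        exact fun q hq y _ => hc y q hq
      exact absurd h3 (not_le_of_gt hlt2)
    have hU : ∀ q ∈ Q, ∀ x ∈ N₂, q • x ∈ N₂ := fun q _ x hx => hinv2 q x hx
    have hD : ∀ l ∈ E, ∀ q ∈ dn Q N₂ hU n, l * q * l⁻¹ ∈ dn Q N₂ hU n := by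
      refine fun l hl q hq => ⟨hQ.conj_mem q hq.1 l, ?_⟩
      have h3 := hb2 q hq.1 _ (htr l⁻¹ (E.inv_mem hl) n)
      have h4 : l⁻¹ • n = (l⁻¹ • n * n⁻¹) * n := by group
      have h5 : q • (l⁻¹ • n) * (l⁻¹ • n)⁻¹ ∈ N₂ := by
        have h6 : (l⁻¹ • n * n⁻¹) * n ∈ cn sq q N₂ := mul_mem h3 hq.2
        rw [← h4] at h6
        exact h6
      have h7 := hinv2 l _ h5
      rw [smul_mul', smul_inv', smul_inv_smul, ← mul_smul, ← mul_smul] at h7
      exact h7
    rcases irr (dn Q N₂ hU n) (fun q hq => hq.1) hD with h3 | h3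
    · have h4 := relIndex_dn_le sq hU (W := N₁) (fun q hq => hb1 q hq n) hb2
      have h5 : N₂.relIndex N₁ ≤ Nat.card N₁ := Nat.le_of_dvd Nat.card_pos (relIndex_dvd_card _ _)
      omega
    · have h4 : q₁ ∈ dn Q N₂ hU n := by rw [h3]; exact hq₁
      exact hn h4.2
  · -- `L` is trivial on `N₁`
    have hcase' : Nat.card N₁ ≤ 2 ^ w := by
      by_contra hc'
      rw [not_le] at hcase hc'
      have h3 : 2 ^ w * 2 ^ w < Nat.card N₁ * N₁.index := Nat.mul_lt_mul'' hc' hcase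
      rw [hcard, ← pow_add, ← two_mul] at h3
      omega
    have htr : ∀ l ∈ E, ∀ x ∈ N₁, l • x = x := by
      intro l hl x hx
      have h3 := tr.sec sq (U := ⊥) (V := N₁) (fun l x hx => by rw [mem_bot.1 hx, smul_one]; exact one_mem _)
        hinv1 (by rwa [relIndex_bot_left]) hl hx
      rwa [mem_bot, mul_inv_eq_one] at h3
    obtain ⟨Y, hY1, -, hY2, hY3⟩ := exists_max (p := fun _ => True) trivial hlt2
    obtain ⟨v, hv, hvY⟩ := SetLike.exists_of_lt hY2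
    have hsup : N₁ = Y ⊔ zpowers v := by
      by_contra hc
      have h2 : Y < Y ⊔ zpowers v := lt_of_le_of_ne le_sup_left fun h => hvY (h ▸ le_sup_zpowers Y v)
      have h3 : Y ⊔ zpowers v ≤ N₁ := sup_le hY2.le (zpowers_le.2 hv)
      exact hY3 _ h2 trivial (lt_of_le_of_ne h3 (Ne.symm hc))
    have hYi : Y.relIndex N₁ ≤ 2 := by
      have hn := normal_of_sq sq Y
      rw [hsup, sup_comm, relIndex_sup_right]
      have h3 : Y.relIndex (zpowers v) ≤ Nat.card (zpowers v) := Nat.le_of_dvd Nat.card_pos (relIndex_dvd_card _ _)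
      rw [Nat.card_zpowers] at h3
      exact h3.trans (orderOf_le_of_pow_eq_one (by norm_num) (by rw [pow_two]; exact sq v))
    have hYinv : ∀ l ∈ E, ∀ x ∈ Y, l • x ∈ Y := fun l hl x hx => by rwa [htr l hl x (hY2.le hx)]
    have hU : ∀ q ∈ Q, ∀ x ∈ Y, q • x ∈ Y := fun q hq x hx => by
      have h3 := Y.mul_mem (hY1 (hb2 q hq x (hY2.le hx))) hx
      rwa [inv_mul_cancel_right] at h3
    have hD : ∀ l ∈ E, ∀ q ∈ dv Q Y hU ⊤, l * q * l⁻¹ ∈ dv Q Y hU ⊤ := by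
      intro l hl q hq
      rw [mem_dv] at hq ⊢
      refine ⟨hQ.conj_mem q hq.1 l, fun n _ => ?_⟩
      have h7 := hYinv l hl _ (hq.2 (l⁻¹ • n) (mem_top _))
      rwa [smul_mul', smul_inv', smul_inv_smul, ← mul_smul, ← mul_smul] at h7
    rcases irr (dv Q Y hU ⊤) (fun q hq => (mem_dv.1 hq).1) hD with h3 | h3
    · have h4 := relIndex_dv_le sq hU (N₁ := N₁) (fun n q hq => hb1 q hq n) (fun q hq x hx => hY1 (hb2 q hq x hx)) hYi ⊤
        le_top
      rw [relIndex_top_right] at h4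
      omega
    · have h4 : N₁ ≤ Y := by
        rw [hN₁, br_le_iff]
        intro q hq n _
        rw [← h3] at hq
        exact (mem_dv.1 hq).2 n (mem_top n)
      exact absurd h4 (not_le_of_gt hY2)

end act

/-! ### `TrivOn` from the lower bound `LB` -/

section lb

open Cfsg.Agent.Omega.Lie.Heis

variable {K : Type u'} [Group K] {L : Type u} [Group L] [Finite L]

/-- `TrivOn L ⊤` for a perfect group which is a cover of `K` modulo a normal 2-subgroup -/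
theorem trivOn_of_lb {m n : ℕ} (hlb : LB.{u', u, v} K m) (hnm : n < m) (hL : commutator L = ⊤) {Q : Subgroup L}
    (hQ : Q.Normal) (h2 : IsPGroup 2 Q) (π : L →* K) (hπ : Function.Surjective π) (hQπ : Q ≤ π.ker)
    (hc : ∀ x ∈ π.ker, ∀ y : L, x * y * x⁻¹ * y⁻¹ ∈ Q) (ho : Odd (Q.relIndex π.ker)) :
    TrivOn.{u, v} L ⊤ (2 ^ n) := by
  intro V _ _ _ sq hV l _ x
  have hcomm : ∀ a b : V, a * b = b * a := comm_of_sq sq
  let _ : CommGroup V := { (inferInstance : Group V) with mul_comm := hcomm }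
  by_contra hne
  let φ : L →* MulAut V := MulDistribMulAction.toMulAut L V
  have hφ : φ ≠ 1 := fun h => hne (by
    have h1 := DFunLike.congr_fun (DFunLike.congr_fun h l) x
    exact h1)
  have hp : IsPGroup 2 V := fun y => ⟨1, by rw [pow_one, pow_two]; exact sq y⟩
  obtain ⟨W, _, _, ψ, h3, h4, h5, h6⟩ := exists_irr hL φ hφ hp
  -- `Q` is trivial on `W`
  have hWne : Nontrivial W := by
    by_contra hc
    rw [not_nontrivial_iff_subsingleton] at hc
    exact h4 (by ext g y; exact Subsingleton.elim _ _)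
  have hQ1 : ∀ q ∈ Q, ψ q = 1 := by
    let _ : MulDistribMulAction L W := MulDistribMulAction.compHom W ψ
    have hsm : ∀ (g : L) (y : W), g • y = ψ g y := fun _ _ => rfl
    have : Fact (Nat.Prime 2) := ⟨Nat.prime_two⟩
    have hcard : 2 ∣ Nat.card W := by
      obtain ⟨k, hk⟩ := IsPGroup.iff_card.1 h3
      rw [hk]
      refine dvd_pow_self 2 ?_
      rintro rfl
      have h7 : 1 < Nat.card W := Finite.one_lt_card
      rw [hk, pow_zero] at h7
      omega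
    obtain ⟨b, hb1, hb2⟩ := h2.exists_fixed_point_of_prime_dvd_card_of_fixed_point (α := W) hcard (a := 1)
      (fun q => smul_one (q : L))
    let U : Subgroup W :=
      { carrier := {y | ∀ q ∈ Q, ψ q y = y}
        one_mem' := fun q _ => map_one _
        mul_mem' := fun {a b} ha hb q hq => by rw [map_mul, ha q hq, hb q hq]
        inv_mem' := fun {a} ha q hq => by rw [map_inv, ha q hq] }
    have hU : ∀ g, ∀ y ∈ U, ψ g y ∈ U := by
      intro g y hy q hq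
      have h7 := hy (g⁻¹ * q * g) (by
        have h8 := hQ.conj_mem q hq g⁻¹
        rwa [inv_inv] at h8)
      have h8 : q * g = g * (g⁻¹ * q * g) := by group
      rw [← MulAut.mul_apply, ← map_mul, h8, map_mul, MulAut.mul_apply, h7]
    rcases h5 U hU with h7 | h7
    · exfalso
      have h8 : b ∈ U := fun q hq => hb1 ⟨q, hq⟩
      rw [h7, mem_bot] at h8
      exact hb2 h8.symm
    · intro q hq
      ext y
      have h8 : y ∈ U := h7 ▸ mem_top y
      exact h8 q hq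
  let ψ' : L ⧸ Q →* MulAut W := QuotientGroup.lift Q ψ hQ1
  let π' : L ⧸ Q →* K := QuotientGroup.lift Q π fun q hq => hQπ hq
  have hk : π'.ker = π.ker.map (QuotientGroup.mk' Q) := by
    ext y
    obtain ⟨g, rfl⟩ := QuotientGroup.mk_surjective y
    constructor
    · intro hg
      exact ⟨g, hg, rfl⟩
    · rintro ⟨a, ha, hag⟩
      have h8 : (a : L ⧸ Q) = (g : L ⧸ Q) := hag
      rw [MonoidHom.mem_ker, ← h8]
      exact ha
  have h7 := hlb (L ⧸ Q) π' (by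
      intro k
      obtain ⟨g, rfl⟩ := hπ k
      exact ⟨g, rfl⟩) (by
      rw [hk]
      rintro _ ⟨a, ha, rfl⟩
      rw [mem_center_iff]
      intro y
      obtain ⟨g, rfl⟩ := QuotientGroup.mk_surjective y
      change (QuotientGroup.mk (g * a) : L ⧸ Q) = QuotientGroup.mk (a * g)
      rw [eq_comm, QuotientGroup.eq]
      have h9 := hQ.conj_mem _ (hc a⁻¹ (π.ker.inv_mem ha) g) g⁻¹
      have h10 : (a * g)⁻¹ * (g * a) = g⁻¹ * (a⁻¹ * g * a⁻¹⁻¹ * g⁻¹) * g⁻¹⁻¹ := by group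
      rwa [h10]) (by
      rw [hk]
      have h8 := relIndex_ker π.ker (QuotientGroup.mk' Q)
      rw [QuotientGroup.ker_mk'] at h8
      rwa [h8] at ho) (by
      rw [eq_top_iff]
      rintro y -
      obtain ⟨g, rfl⟩ := QuotientGroup.mk_surjective y
      have h8 : g ∈ commutator L := hL ▸ mem_top g
      have h9 : (commutator L).map (QuotientGroup.mk' Q) ≤ commutator (L ⧸ Q) := by
        rw [_root_.commutator_def, _root_.commutator_def, map_commutator]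
        exact commutator_mono le_top le_top
      exact h9 ⟨g, h8, rfl⟩) W h3 ψ' (by
      intro h8
      apply h4
      ext g y
      have h9 := DFunLike.congr_fun (DFunLike.congr_fun h8 (QuotientGroup.mk g)) y
      exact h9)
  have h8 : 2 ^ n < 2 ^ m := Nat.pow_lt_pow_right (by norm_num) hnm
  omega

end lb

end Cfsg.Agent.Omega.ML.ExCore
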