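import Cfsg.Agent.Omega.ML.ExRec
import Cfsg.Agent.KFacts.FiTF.Frame
import Cfsg.Agent.OddHalf.D7Out.CzComp
import Cfsg.Agent.Lib.ElemAbGL

/-!
# (ML), the K-list end: the facts of THEOREM EX for `Fi24'`, abstract part (helper39)

`C = C_K(z) = 2^{1+12}.3.U₄(3).2`, `P = E = C^∞`, `R = 2^{1+12}`, `w = 6`.

* `not27` : a subgroup of `E` which centralises `E/R` has order not divisible by 27 (an element of order 3 acts
  fixed point freely on `R/⟨z⟩`);
* `E_le` : a normal subgroup of `E` of index not divisible by `3^5` is `E`;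
* `trivC` : `TrivC C P 6` (`3^5` does not divide `|GL_6(2)|`).
-/

set_option autoImplicit false

namespace Cfsg.Agent.Omega.ML.ExFi24

open Subgroup Cfsg Cfsg.Agent.KFacts.FiTF Cfsg.Agent.Omega.ML.ExCore Cfsg.Agent.Omega.ML.ExRec

universe u v w w'

section gen

theorem card_dvd_of_free {E X : Type*} [Group E] [Finite E] [MulAction E X] [Finite X]
    (h : ∀ (z : E) (x : X), z • x = x → z = 1) : Nat.card E ∣ Nat.card X := by
  classical
  have _ := Fintype.ofFinite E
  have _ := Fintype.ofFinite X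
  have e := MulAction.selfEquivSigmaOrbits E X
  rw [Nat.card_congr e, Nat.card_sigma]
  refine Finset.dvd_sum fun ω _ => ?_
  have h1 : Nat.card (MulAction.orbit E (Quotient.out ω : X)) = Nat.card E := by
    refine (Nat.card_congr (Equiv.ofBijective
      (fun z : E => (⟨z • (Quotient.out ω : X), MulAction.mem_orbit _ z⟩ :
        MulAction.orbit E (Quotient.out ω : X))) ⟨?_, ?_⟩)).symm
    · intro z w hzw
      have h2 : z • (Quotient.out ω : X) = w • (Quotient.out ω : X) := congrArg Subtype.val hzw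
      have h3 : (w⁻¹ * z) • (Quotient.out ω : X) = Quotient.out ω := by
        rw [mul_smul, h2, ← mul_smul, inv_mul_cancel, one_smul]
      have h4 := h _ _ h3
      exact (inv_mul_eq_one.1 h4).symm
    · rintro ⟨y, z, rfl⟩
      exact ⟨z, rfl⟩
  rw [h1]

/-- the order of `GL_n(2)` -/
theorem card_mulAut {V : Type v} [Group V] [Finite V] (sq : ∀ x : V, x * x = 1) {n : ℕ} (hc : Nat.card V = 2 ^ n) :
    Nat.card (MulAut V) = ∏ i ∈ Finset.range n, (2 ^ n - 2 ^ i) := by
  have : Fact (Nat.Prime 2) := ⟨Nat.prime_two⟩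
  let _ : CommGroup V := { (inferInstance : Group V) with mul_comm := comm_of_sq sq }
  obtain ⟨e⟩ := Cfsg.Agent.Lib.ElemAbGL.mulAut_equiv_GL (V := V) 2 n (fun x => by rw [pow_two]; exact sq x) hc
  have h := Matrix.card_GL_field (𝔽 := ZMod 2) (n := n)
  rw [ZMod.card, Fin.prod_univ_eq_prod_range (fun i => 2 ^ n - 2 ^ i) n] at h
  rw [← h]
  exact Nat.card_congr e.toEquiv

/-- `3^5` does not divide `|GL_n(2)|`, `n ≤ 6` -/
theorem not_dvd {V : Type v} [Group V] [Finite V] (sq : ∀ x : V, x * x = 1) (hV : Nat.card V ≤ 2 ^ 6) :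
    ¬ 243 ∣ Nat.card (MulAut V) := by
  have : Fact (Nat.Prime 2) := ⟨Nat.prime_two⟩
  have hp : IsPGroup 2 V := fun x => ⟨1, by rw [pow_one, pow_two]; exact sq x⟩
  obtain ⟨n, hn⟩ := IsPGroup.iff_card.1 hp
  have hn6 : n ≤ 6 := by
    rw [hn] at hV
    exact (Nat.pow_le_pow_iff_right (by norm_num)).1 hV
  rw [card_mulAut sq hn]
  interval_cases n <;> decide +kernel

variable {G : Type u} [Group G] {P : Type w} [Group P] {f : G →* P}

/-- the index of the image of the kernel of an action divides `|Aut V|` -/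
theorem relIndex_dvd {A : Type v} [Group A] (φ : G →* A) (hf : Function.Surjective f) (M : Subgroup P) :
    (φ.ker.map f).relIndex M ∣ Nat.card A := by
  have h1 : (φ.ker.map f).relIndex M = ((φ.ker.map f).comap f).relIndex (M.comap f) := by
    rw [relIndex_comap, map_comap_eq_self_of_surjective hf]
  have h2 : ((φ.ker.map f).comap f).relIndex (M.comap f) ∣ φ.ker.relIndex (M.comap f) :=
    relIndex_dvd_of_le_left _ (le_comap_map f φ.ker)
  rw [h1]
  refine h2.trans ?_
  rw [relIndex_ker]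
  exact card_subgroup_dvd_card _

/-- commutators of the preimage of a subgroup covered by the kernel -/
theorem comm_le {A : Type v} [Group A] {φ : G →* A} (hc : f.ker ≤ center G) {M : Subgroup P} (hM : M ≤ φ.ker.map f) :
    ⁅M.comap f, M.comap f⁆ ≤ φ.ker := by
  rw [commutator_le]
  intro a ha b hb
  obtain ⟨a', ha', hfa⟩ := hM ha
  obtain ⟨b', hb', hfb⟩ := hM hb
  have h1 : a * a'⁻¹ ∈ center G := hc (by
    rw [MonoidHom.mem_ker, map_mul, map_inv, hfa]
    exact mul_inv_cancel _)
  have h2 : b * b'⁻¹ ∈ center G := hc (by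
    rw [MonoidHom.mem_ker, map_mul, map_inv, hfb]
    exact mul_inv_cancel _)
  have ha1 : φ a' = 1 := ha'
  have e1 : φ a = φ (a * a'⁻¹) := by rw [map_mul, map_inv, ha1, inv_one, mul_one]
  rw [MonoidHom.mem_ker]
  rw [map_commutatorElement, commutatorElement_eq_one_iff_mul_comm, e1, ← map_mul, ← map_mul]
  congr 1
  exact (mem_center_iff.1 h1 b).symm

/-- **`TrivC` from indices**: `m ∤ |Aut V|` for `|V| ≤ 2 ^ n`, and a normal subgroup of `P` of index not divisible by `m`
is `P` -/
theorem trivC_of_index {X : Type w} [Group X] {C P : Subgroup X} {n m : ℕ} (hPC : P ≤ C)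
    (hm : ∀ (V : Type v) [Group V] [Finite V], (∀ x : V, x * x = 1) → Nat.card V ≤ 2 ^ n → ¬ m ∣ Nat.card (MulAut V))
    (hN : ∀ N ≤ P, (∀ x ∈ P, ∀ y ∈ N, x * y * x⁻¹ ∈ N) → ¬ m ∣ N.relIndex P → N = P) : TrivC.{u, v, w} C P n := by
  intro G _ _ p hp hc _ V _ _ _ sq hV l hl x
  let φ : G →* MulAut V := MulDistribMulAction.toMulAut G V
  have hNn : (φ.ker.map p).Normal := (MonoidHom.normal_ker φ).map p hp
  set N : Subgroup C := φ.ker.map p with hNdef
  have h1 : ((N ⊓ P.subgroupOf C).map C.subtype) = P := by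
    refine hN _ ?_ ?_ ?_
    · rintro _ ⟨y, hy, rfl⟩
      exact hy.2
    · rintro x hx _ ⟨y, hy, rfl⟩
      exact ⟨(⟨x, hPC hx⟩ : C) * y * (⟨x, hPC hx⟩ : C)⁻¹, ⟨hNn.conj_mem _ hy.1 _,
        P.mul_mem (P.mul_mem hx hy.2) (P.inv_mem hx)⟩, rfl⟩
    · have h2 : ((N ⊓ P.subgroupOf C).map C.subtype).relIndex P = N.relIndex (P.subgroupOf C) := by
        have h3 : (P.subgroupOf C).map C.subtype = P := by
          rw [subgroupOf_map_subtype, inf_of_le_left hPC]
        conv_lhs => rw [← h3]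
        rw [relIndex_map_map_of_injective _ _ C.subtype_injective, h3, inf_relIndex_right]
      rw [h2]
      exact fun h3 => hm V sq hV (h3.trans (relIndex_dvd φ hp _))
  have h2 : P.subgroupOf C ≤ N := by
    intro y hy
    have h3 : (y : X) ∈ (N ⊓ P.subgroupOf C).map C.subtype := by rw [h1]; exact hy
    obtain ⟨y', hy', he⟩ := h3
    have h4 : y' = y := Subtype.ext he
    rw [← h4]
    exact hy'.1
  have h5 : φ l = 1 := comm_le hc h2 hl
  exact DFunLike.congr_fun h5 x

/-- transport -/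
theorem TrivC.map {X : Type w} [Group X] {Y : Type w'} [Group Y] (e : X ≃* Y) {C P : Subgroup X} {n : ℕ}
    (h : TrivC.{u, v, w} C P n) : TrivC.{u, v, w'} (C.map e.toMonoidHom) (P.map e.toMonoidHom) n := by
  intro G _ _ p hp hc ho
  let f : C ≃* C.map e.toMonoidHom := C.equivMapOfInjective e.toMonoidHom e.injective
  have hf : ∀ c : C, ((f c : C.map e.toMonoidHom) : Y) = e c := fun _ => rfl
  have hk : (f.symm.toMonoidHom.comp p).ker = p.ker := by
    ext g
    rw [MonoidHom.mem_ker, MonoidHom.mem_ker, MonoidHom.comp_apply]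
    exact f.symm.map_eq_one_iff
  have h1 := h G (f.symm.toMonoidHom.comp p) (f.symm.surjective.comp hp) (by rw [hk]; exact hc) (by rw [hk]; exact ho)
  have h2 : (P.subgroupOf C).comap (f.symm.toMonoidHom.comp p) =
      ((P.map e.toMonoidHom).subgroupOf (C.map e.toMonoidHom)).comap p := by
    ext g
    rw [mem_comap, mem_comap, mem_subgroupOf, mem_subgroupOf]
    change ((f.symm (p g) : C) : X) ∈ P ↔ _
    obtain ⟨c, hc⟩ := f.surjective (p g)
    rw [← hc, f.symm_apply_apply, hf]
    constructor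
    · intro h3
      exact ⟨_, h3, rfl⟩
    · rintro ⟨y, hy, he⟩
      have h4 : y = c := e.injective he
      rwa [← h4]
  rwa [h2] at h1

end gen

section abs

variable {F : Type*} [Group F] {K : Subgroup F} {z : F} {R E : Subgroup F} {Om : Set F}

/-- an element of order 3 centralising `E/R` acts fixed point freely on `R/⟨z⟩` -/
theorem free (h : Frame K z R E Om) {t : F} (htE : t ∈ E) (ht3 : t * t * t = 1) (ht1 : t ≠ 1)
    (hc : ∀ g ∈ E, t * g * t⁻¹ * g⁻¹ ∈ R) {r : F} (hr : r ∈ R) (hf : t * r * t⁻¹ = r) : r = 1 ∨ r = z := by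
  have htz : t * z = z * t := h.Ez t htE
  have hz2 : z⁻¹ = z := inv_eq_of_mul_eq_one_right h.zz
  have hRz : ∀ s ∈ R, s * z = z * s := fun s hs => h.Ez s (h.RE hs)
  let B : Subgroup F :=
    { carrier := {s | s ∈ R ∧ (t * s * t⁻¹ = s ∨ t * s * t⁻¹ = s * z)}
      one_mem' := ⟨R.one_mem, Or.inl (by group)⟩
      mul_mem' := by
        rintro a b ⟨ha, ha'⟩ ⟨hb, hb'⟩
        refine ⟨R.mul_mem ha hb, ?_⟩
        have e1 : t * (a * b) * t⁻¹ = (t * a * t⁻¹) * (t * b * t⁻¹) := by group
        rw [e1]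
        rcases ha' with ha' | ha' <;> rcases hb' with hb' | hb' <;> rw [ha', hb']
        · exact Or.inl rfl
        · exact Or.inr (by group)
        · right
          rw [mul_assoc, mul_assoc, ← hRz b hb]
        · left
          calc a * z * (b * z) = a * (z * b) * z := by group
            _ = a * (b * z) * z := by rw [hRz b hb]
            _ = a * b * (z * z) := by group
            _ = a * b := by rw [h.zz, mul_one]
      inv_mem' := by
        rintro a ⟨ha, ha'⟩
        refine ⟨R.inv_mem ha, ?_⟩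
        have e1 : t * a⁻¹ * t⁻¹ = (t * a * t⁻¹)⁻¹ := by group
        rw [e1]
        rcases ha' with ha' | ha' <;> rw [ha']
        · exact Or.inl rfl
        · right
          rw [mul_inv_rev, hz2, ← hRz a⁻¹ (R.inv_mem ha)] }
  have hB : ∀ s, s ∈ B ↔ s ∈ R ∧ (t * s * t⁻¹ = s ∨ t * s * t⁻¹ = s * z) := fun _ => Iff.rfl
  rcases h.irr B (fun s hs => hs.1) (by
      rintro g hg b ⟨hb, hb'⟩
      have hgz := h.Ez g hg
      have hgb : g * b * g⁻¹ ∈ R := h.norm g hgz b hb
      refine ⟨hgb, ?_⟩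
      have hs := hc g hg
      set s := t * g * t⁻¹ * g⁻¹ with hsdef
      have e1 : t * (g * b * g⁻¹) * t⁻¹ = s * (g * (t * b * t⁻¹) * g⁻¹) * s⁻¹ := by
        rw [hsdef]; group
      have e2 : g * (t * b * t⁻¹) * g⁻¹ = g * b * g⁻¹ ∨ g * (t * b * t⁻¹) * g⁻¹ = g * b * g⁻¹ * z := by
        rcases hb' with hb' | hb' <;> rw [hb']
        · exact Or.inl rfl
        · right
          have h1 : g⁻¹ * z = z * g⁻¹ := h.Ez g⁻¹ (E.inv_mem hg)
          calc g * (b * z) * g⁻¹ = g * b * (z * g⁻¹) := by group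
            _ = g * b * (g⁻¹ * z) := by rw [h1]
            _ = g * b * g⁻¹ * z := by group
      have e3 : ∀ y ∈ R, s * y * s⁻¹ = y ∨ s * y * s⁻¹ = y * z := by
        intro y hy
        rcases h.com s hs y hy with h1 | h1
        · left; rw [h1, mul_inv_cancel_right]
        · right; rw [h1, ← mul_assoc, mul_inv_cancel_right, hRz y hy]
      rw [e1]
      rcases e2 with e2 | e2 <;> rw [e2]
      · exact e3 _ hgb
      · have h1 : s * (g * b * g⁻¹ * z) * s⁻¹ = (s * (g * b * g⁻¹) * s⁻¹) * z := by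
          have h2 : z * s⁻¹ = s⁻¹ * z := (hRz s⁻¹ (R.inv_mem hs)).symm
          calc s * (g * b * g⁻¹ * z) * s⁻¹ = s * (g * b * g⁻¹) * (z * s⁻¹) := by group
            _ = s * (g * b * g⁻¹) * (s⁻¹ * z) := by rw [h2]
            _ = _ := by group
        rw [h1]
        rcases e3 _ hgb with h2 | h2 <;> rw [h2]
        · exact Or.inr rfl
        · left
          rw [mul_assoc (g * b * g⁻¹), h.zz, mul_one]) with h1 | h1
  · exact h1 r ((hB r).2 ⟨hr, Or.inl hf⟩)
  · exfalso
    have hcen : ∀ s ∈ R, t * s = s * t := by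
      intro s hs
      rw [← h1, hB] at hs
      rcases hs.2 with h2 | h2
      · exact mul_inv_eq_iff_eq_mul.1 h2
      · exfalso
        have h3 : t * s = s * z * t := mul_inv_eq_iff_eq_mul.1 h2
        have h4 : t * t * t * s = s * z * (t * t * t) := by
          calc t * t * t * s = t * t * (t * s) := by group
            _ = t * t * (s * z * t) := by rw [h3]
            _ = t * (t * s) * z * t := by group
            _ = t * (s * z * t) * z * t := by rw [h3]
            _ = (t * s) * z * (t * z) * t := by group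
            _ = (s * z * t) * z * (z * t) * t := by rw [h3, htz]
            _ = s * z * t * (z * z) * t * t := by group
            _ = s * z * (t * t * t) := by rw [h.zz]; group
        rw [ht3, one_mul, mul_one] at h4
        have h5 : s * 1 = s * z := by rw [mul_one]; exact h4
        exact h.z1 (mul_left_cancel h5).symm
    rcases h.cent t hcen with h2 | h2
    · exact ht1 h2
    · rw [h2, h.zz, one_mul] at ht3
      exact h.z1 ht3

/-- a subgroup of `E` centralising `E/R` has order not divisible by 27 -/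
theorem not27 [Finite F] (h : Frame K z R E Om) {N : Subgroup F} (hN : N ≤ E)
    (hc : ∀ n ∈ N, ∀ g ∈ E, n * g * n⁻¹ * g⁻¹ ∈ R) : ¬ 27 ∣ Nat.card N := by
  intro h27
  have : Fact (Nat.Prime 3) := ⟨Nat.prime_three⟩
  obtain ⟨T, hT⟩ := Sylow.exists_subgroup_card_pow_prime (G := N) 3 (n := 3) (by norm_num; exact h27)
  let Ω : Type _ := {r : F // r ∈ (R : Set F) \ {1, z}}
  have hmem : ∀ (t : T) (r : Ω), ((t : N) : F) * r.1 * ((t : N) : F)⁻¹ ∈ (R : Set F) \ {1, z} := by
    intro t r
    have htE : ((t : N) : F) ∈ E := hN t.1.2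
    have htz := h.Ez _ htE
    refine ⟨h.norm _ htz _ r.2.1, ?_⟩
    rintro (h1 | h1)
    · have h2 : r.1 = 1 := by
        rw [mul_inv_eq_one] at h1
        exact mul_left_cancel (a := ((t : N) : F)) (by rw [h1, mul_one])
      exact r.2.2 (Or.inl h2)
    · have h1' : ((t : N) : F) * r.1 * ((t : N) : F)⁻¹ = z := h1
      have h2 : ((t : N) : F) * r.1 = ((t : N) : F) * z := by
        rw [htz]; exact mul_inv_eq_iff_eq_mul.1 h1'
      exact r.2.2 (Or.inr (mul_left_cancel h2))
  let _ : MulAction T Ω :=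
    { smul := fun t r => ⟨_, hmem t r⟩
      one_smul := fun r => Subtype.ext (by
        show ((1 : N) : F) * r.1 * ((1 : N) : F)⁻¹ = r.1
        rw [Subgroup.coe_one, one_mul, inv_one, mul_one])
      mul_smul := fun a b r => Subtype.ext (by
        show (((a : N) * (b : N) : N) : F) * r.1 * (((a : N) * (b : N) : N) : F)⁻¹ =
          ((a : N) : F) * (((b : N) : F) * r.1 * ((b : N) : F)⁻¹) * ((a : N) : F)⁻¹
        rw [Subgroup.coe_mul]; group) }
  have hsm : ∀ (t : T) (r : Ω), ((t • r : Ω) : F) = ((t : N) : F) * r.1 * ((t : N) : F)⁻¹ := fun _ _ => rfl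
  have hfree : ∀ (t : T) (r : Ω), t • r = r → t = 1 := by
    intro t r htr
    by_contra ht
    have hord : orderOf t ∣ 3 ^ 3 := by rw [← hT]; exact orderOf_dvd_natCard t
    obtain ⟨k, _, hk⟩ := (Nat.dvd_prime_pow Nat.prime_three).1 hord
    have hk0 : k ≠ 0 := by
      rintro rfl
      rw [pow_zero, orderOf_eq_one_iff] at hk
      exact ht hk
    obtain ⟨j, rfl⟩ := Nat.exists_eq_succ_of_ne_zero hk0
    set s : T := t ^ (3 ^ j) with hs
    have hs3 : s * s * s = 1 := by
      have h1 : s ^ 3 = 1 := by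
        rw [hs, ← pow_mul, ← pow_succ, ← hk]
        exact pow_orderOf_eq_one t
      rw [pow_succ, pow_two] at h1
      exact h1
    have hs1 : s ≠ 1 := by
      intro h1
      have h2 := orderOf_dvd_of_pow_eq_one h1
      rw [hk] at h2
      have h3 := Nat.le_of_dvd (by positivity) h2
      exact absurd h3 (not_le_of_gt (Nat.pow_lt_pow_right (by norm_num) (Nat.lt_succ_self j)))
    have hsr : s • r = r := by
      have h1 : ∀ n : ℕ, t ^ n • r = r := by
        intro n
        induction n with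
        | zero => rw [pow_zero, one_smul]
        | succ n ih => rw [pow_succ, mul_smul, htr, ih]
      exact h1 _
    have h1 : ((s : N) : F) * r.1 * ((s : N) : F)⁻¹ = r.1 := by rw [← hsm, hsr]
    rcases free h (hN s.1.2) (t := ((s : N) : F)) (by
        have h2 := congrArg (fun x : T => ((x : N) : F)) hs3
        exact h2) (fun h2 => hs1 (Subtype.ext (Subtype.ext h2)))
        (fun g hg => hc _ s.1.2 g hg) r.2.1 h1 with h2 | h2
    · exact r.2.2 (Or.inl h2)
    · exact r.2.2 (Or.inr h2)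
  have hdvd := card_dvd_of_free hfree
  have hΩ : Nat.card Ω = 8190 := by
    have h1 : Nat.card Ω = ((R : Set F) \ {1, z}).ncard := Nat.card_coe_set_eq _
    have h2 : ({1, z} : Set F) ⊆ (R : Set F) := by
      rintro x (rfl | rfl)
      · exact R.one_mem
      · exact h.zR
    have h3 : ({1, z} : Set F).ncard = 2 := Set.ncard_pair h.z1.symm
    have h4 : (R : Set F).ncard = 8192 := by rw [← h.cardR]; rfl
    rw [h1, Set.ncard_diff h2 (Set.toFinite _), h3, h4]
  rw [hT, hΩ] at hdvd
  norm_num at hdvd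

/-- **a normal subgroup of `E` of index not divisible by `3^5` is `E`** -/
theorem E_le [Finite F] (h : Frame K z R E Om) (hE : 3 ^ 7 ∣ Nat.card E)
    (hd : ∀ N : Subgroup F, N ≤ E → R ≤ N → (∀ e ∈ E, ∀ n ∈ N, e * n * e⁻¹ ∈ N) →
      (∀ n ∈ N, ∀ g ∈ E, n * g * n⁻¹ * g⁻¹ ∈ R) ∨ N = E)
    {N : Subgroup F} (hN : N ≤ E) (hn : ∀ e ∈ E, ∀ n ∈ N, e * n * e⁻¹ ∈ N) (hi : ¬ 243 ∣ N.relIndex E) : N = E := by
  have hRn : ∀ e ∈ E, ∀ r ∈ R, e * r * e⁻¹ ∈ R := fun e he r hr => h.norm e (h.Ez e he) r hr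
  rcases hd (N ⊔ R) (sup_le hN h.RE) le_sup_right (by
      intro e he
      have h1 : N ⊔ R ≤ (N ⊔ R).comap (MulAut.conj e).toMonoidHom :=
        sup_le (fun n hn' => mem_sup_left (hn e he n hn')) (fun r hr => mem_sup_right (hRn e he r hr))
      exact fun n hn' => h1 hn') with h1 | h1
  · exfalso
    have h2 := not27 h (sup_le hN h.RE) h1
    apply hi
    have h3 : (N ⊔ R).relIndex E ∣ N.relIndex E := relIndex_dvd_of_le_left _ le_sup_left
    refine dvd_trans ?_ h3
    have h4 : Nat.card (N ⊔ R : Subgroup F) * (N ⊔ R).relIndex E = Nat.card E := by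
      have h5 := relIndex_mul_relIndex ⊥ (N ⊔ R) E bot_le (sup_le hN h.RE)
      rwa [relIndex_bot_left, relIndex_bot_left] at h5
    rw [← h4] at hE
    have hp : Fact (Nat.Prime 3) := ⟨Nat.prime_three⟩
    have ha : Nat.card (N ⊔ R : Subgroup F) ≠ 0 := Nat.card_pos.ne'
    have hb : (N ⊔ R).relIndex E ≠ 0 := by
      intro h5
      rw [h5, mul_zero] at h4
      exact Nat.card_pos.ne h4
    rw [padicValNat_dvd_iff_le (mul_ne_zero ha hb), padicValNat.mul ha hb] at hE
    have h5 : ¬ 3 ≤ padicValNat 3 (Nat.card (N ⊔ R : Subgroup F)) := by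
      rw [← padicValNat_dvd_iff_le ha]
      norm_num
      exact h2
    have h6 : 3 ^ 5 ∣ (N ⊔ R).relIndex E := by
      rw [padicValNat_dvd_iff_le hb]
      omega
    norm_num at h6
    exact h6
  · apply le_antisymm hN
    have hR2 : IsPGroup 2 R := by
      have : Fact (Nat.Prime 2) := ⟨Nat.prime_two⟩
      exact IsPGroup.iff_card.2 ⟨13, by rw [h.cardR]; norm_num⟩
    have hsol : Group.IsSolvable R := by
      have : Fact (Nat.Prime 2) := ⟨Nat.prime_two⟩
      have h2 : Group.IsNilpotent R := hR2.isNilpotent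
      infer_instance
    refine Cfsg.Agent.OddHalf.D7Out.Cz.le_of_perfect_of_le_sup h.perf hsol ?_ (by rw [sup_comm, h1])
    intro r hr
    rw [mem_normalizer_iff]
    intro x
    refine ⟨fun hx => hn r (h.RE hr) x hx, fun hx => ?_⟩
    have h2 := hn r⁻¹ (E.inv_mem (h.RE hr)) _ hx
    have e1 : r⁻¹ * (r * x * r⁻¹) * r⁻¹⁻¹ = x := by group
    rwa [e1] at h2

/-- **`TrivC C P 6`** -/
theorem trivC {F : Type w} [Group F] [Finite F] {K : Subgroup F} {z : F} {R E : Subgroup F} {Om : Set F}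
    (h : Frame K z R E Om) (hE : 3 ^ 7 ∣ Nat.card E)
    (hd : ∀ N : Subgroup F, N ≤ E → R ≤ N → (∀ e ∈ E, ∀ n ∈ N, e * n * e⁻¹ ∈ N) →
      (∀ n ∈ N, ∀ g ∈ E, n * g * n⁻¹ * g⁻¹ ∈ R) ∨ N = E) {C : Subgroup K} (hC : E.subgroupOf K ≤ C) :
    TrivC.{u, v, w} C (E.subgroupOf K) 6 := by
  refine trivC_of_index (m := 243) hC (fun V _ _ sq hV => not_dvd sq hV) fun N hN hn hi => ?_
  have h1 := E_le h hE hd (N := N.map K.subtype) (by
      rintro _ ⟨x, hx, rfl⟩
      exact hN hx) (by
      rintro e he _ ⟨x, hx, rfl⟩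
      exact ⟨(⟨e, h.EK he⟩ : K) * x * (⟨e, h.EK he⟩ : K)⁻¹, hn _ he _ hx, rfl⟩) (by
      have h2 : (N.map K.subtype).relIndex E = N.relIndex (E.subgroupOf K) := by
        have h3 : (E.subgroupOf K).map K.subtype = E := by
          rw [subgroupOf_map_subtype, inf_of_le_left h.EK]
        conv_lhs => rw [← h3]
        exact relIndex_map_map_of_injective _ _ K.subtype_injective
      rw [h2]; exact hi)
  apply le_antisymm hN
  intro x hx
  have h2 : (x : F) ∈ N.map K.subtype := by rw [h1]; exact hx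
  obtain ⟨y, hy, he⟩ := h2
  have h3 : y = x := Subtype.ext he
  rwa [← h3]

end abs

end Cfsg.Agent.Omega.ML.ExFi24
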