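import Cfsg.Agent.Omega.ML.ExCore
import Cfsg.Agent.Omega.Lie.GLBound
import Cfsg.Agent.KFacts.HN.Sheet
import Cfsg.Agent.S1701

/-!
# (ML), the K-list end: the facts of THEOREM EX for `HN`

`C = PP = C(z)`, `L = MM = 2^{1+8}.(A₅ × A₅)`, `Q = RS = 2^{1+8}`, `w = 4`.

* `card_mulAut`: the order of `GL_n(2)`;
* `triv`: `L'` is trivial on the modules of order at most `2 ^ 4` of the odd central covers of `C`.
-/

set_option autoImplicit false

namespace Cfsg.Agent.Omega.ML.ExHN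

open Subgroup Cfsg Cfsg.Agent.Omega.ML.ExCore

universe u v w

/-- the order of `GL_n(2)` -/
theorem card_mulAut {V : Type v} [Group V] [Finite V] (sq : ∀ x : V, x * x = 1) {n : ℕ} (hc : Nat.card V = 2 ^ n) :
    Nat.card (MulAut V) = ∏ i ∈ Finset.range n, (2 ^ n - 2 ^ i) := by
  have : Fact (Nat.Prime 2) := ⟨Nat.prime_two⟩
  let _ : CommGroup V := { (inferInstance : Group V) with mul_comm := comm_of_sq sq }
  obtain ⟨e⟩ := Cfsg.Agent.Lib.ElemAbGL.mulAut_equiv_GL (V := V) 2 n (fun x => by rw [pow_two]; exact sq x) hc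
  have h := Matrix.card_GL_field (𝔽 := ZMod 2) (n := n)
  rw [ZMod.card, Fin.prod_univ_eq_prod_range (fun i => 2 ^ n - 2 ^ i) n] at h
  rw [← h]
  exact Nat.card_congr e.toEquiv

/-- divisors of `|GL_n(2)|` -/
theorem not_dvd {V : Type v} [Group V] [Finite V] (sq : ∀ x : V, x * x = 1) (hV : Nat.card V ≤ 2 ^ 4) :
    ¬ 256 ∣ Nat.card (MulAut V) ∧ ¬ 25 ∣ Nat.card (MulAut V) := by
  have : Fact (Nat.Prime 2) := ⟨Nat.prime_two⟩
  have hp : IsPGroup 2 V := fun x => ⟨1, by rw [pow_one, pow_two]; exact sq x⟩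
  obtain ⟨n, hn⟩ := IsPGroup.iff_card.1 hp
  have hn4 : n ≤ 4 := by
    rw [hn] at hV
    exact (Nat.pow_le_pow_iff_right (by norm_num)).1 hV
  rw [card_mulAut sq hn]
  interval_cases n <;> decide +kernel

section gen

variable {G : Type u} [Group G] {P : Type w} [Group P] {f : G →* P}

/-- the index of the image of the kernel of an action divides `|Aut V|` -/
theorem relIndex_dvd {A : Type v} [Group A] (φ : G →* A) (hf : Function.Surjective f) (M : Subgroup P) :
    (φ.ker.map f).relIndex M ∣ Nat.card A := by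
  have h1 : (φ.ker.map f).relIndex M = ((φ.ker.map f).comap f).relIndex (M.comap f) := by
    rw [relIndex_comap, map_comap_eq_self_of_surjective hf]
  have h2 : ((φ.ker.map f).comap f).relIndex (M.comap f) ∣ φ.ker.relIndex (M.comap f) :=
    relIndex_dvd_of_le_left _ (le_comap_map f φ.ker)
  rw [h1]
  refine h2.trans ?_
  rw [relIndex_ker]
  exact card_subgroup_dvd_card _

/-- commutators of the preimage of a subgroup covered by the kernel -/
theorem comm_le {A : Type v} [Group A] {φ : G →* A} (hc : f.ker ≤ center G) {M : Subgroup P} (hM : M ≤ φ.ker.map f) :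
    ⁅M.comap f, M.comap f⁆ ≤ φ.ker := by
  rw [commutator_le]
  intro a ha b hb
  obtain ⟨a', ha', hfa⟩ := hM ha
  obtain ⟨b', hb', hfb⟩ := hM hb
  have h1 : a * a'⁻¹ ∈ center G := hc (by
    rw [MonoidHom.mem_ker, map_mul, map_inv, hfa]
    exact mul_inv_cancel _)
  have h2 : b * b'⁻¹ ∈ center G := hc (by
    rw [MonoidHom.mem_ker, map_mul, map_inv, hfb]
    exact mul_inv_cancel _)
  have ha1 : φ a' = 1 := ha'
  have e1 : φ a = φ (a * a'⁻¹) := by rw [map_mul, map_inv, ha1, inv_one, mul_one]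
  rw [MonoidHom.mem_ker]
  rw [map_commutatorElement, commutatorElement_eq_one_iff_mul_comm, e1, ← map_mul, ← map_mul]
  congr 1
  exact (mem_center_iff.1 h1 b).symm

end gen

open Cfsg.Agent.KFacts.HN Cfsg.Agent.HN.P1408 Cfsg.Agent.HN.XWords in
/-- a normal subgroup of `C` with small index in `R` contains `R` -/
theorem RS_le {N : Subgroup PP} (hN : N.Normal) (h : ¬ 256 ∣ N.relIndex (RS.subgroupOf PP)) :
    RS.subgroupOf PP ≤ N := by
  have hfin := finite_HN
  set D : Subgroup Cfsg.Spor.HN := (N ⊓ RS.subgroupOf PP).map PP.subtype with hD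
  have hDle : D ≤ RS := by
    rintro _ ⟨x, hx, rfl⟩
    exact hx.2
  have hDn : ∀ u ∈ MM, ∀ x ∈ D, u * x * u⁻¹ ∈ D := by
    rintro u hu _ ⟨x, hx, rfl⟩
    refine ⟨(⟨u, MM_le_PP hu⟩ : PP) * x * (⟨u, MM_le_PP hu⟩ : PP)⁻¹, ⟨hN.conj_mem _ hx.1 _, ?_⟩, rfl⟩
    exact conj_RS (MM_le_PP hu) hx.2
  have hcQ : Nat.card (RS.subgroupOf PP) = 512 := by
    rw [← card_RS]
    exact Nat.card_congr (subgroupOfEquivOfLe RS_le_PP).toEquiv
  rcases irr hDle hDn with h1 | h1
  · exfalso
    apply h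
    have h2 : Nat.card ↥(N ⊓ RS.subgroupOf PP) ≤ 2 := by
      have h3 : Nat.card D = Nat.card ↥(N ⊓ RS.subgroupOf PP) :=
        card_map_of_injective PP.subtype_injective
      rw [← h3]
      have h4 : (D : Set Cfsg.Spor.HN) ⊆ {1, W0} := fun x hx => by
        rcases h1 x hx with h5 | h5
        · exact Or.inl h5
        · exact Or.inr h5
      calc Nat.card D = (D : Set Cfsg.Spor.HN).ncard := rfl
        _ ≤ ({1, W0} : Set Cfsg.Spor.HN).ncard := Set.ncard_le_ncard h4 (Set.toFinite _)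
        _ ≤ 2 := Set.ncard_insert_le _ _ |>.trans (by rw [Set.ncard_singleton])
    have h3 : N.relIndex (RS.subgroupOf PP) * Nat.card ↥(N ⊓ RS.subgroupOf PP) = 512 := by
      rw [← hcQ, ← inf_relIndex_right, mul_comm, ← relIndex_bot_left, ← relIndex_bot_left]
      exact relIndex_mul_relIndex _ _ _ bot_le inf_le_right
    have h4 : 0 < Nat.card ↥(N ⊓ RS.subgroupOf PP) := Nat.card_pos
    generalize Nat.card ↥(N ⊓ RS.subgroupOf PP) = c at h2 h3 h4
    generalize N.relIndex (RS.subgroupOf PP) = d at h3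
    interval_cases c
    · exact ⟨2, by omega⟩
    · exact ⟨1, by omega⟩
  · intro x hx
    have h2 : (x : Cfsg.Spor.HN) ∈ D := by
      rw [h1]
      exact hx
    obtain ⟨y, hy, hyx⟩ := h2
    have : y = x := Subtype.ext hyx
    rw [← this]
    exact hy.1

open Cfsg.Agent.KFacts.HN in
theorem subgroupOf_MM : MM.subgroupOf PP = LL.comap ρ := by
  ext u
  rw [mem_subgroupOf]
  constructor
  · intro h
    obtain ⟨_, h2⟩ := mem_MM.1 h
    exact h2
  · intro h
    exact mem_MM.2 ⟨u.2, h⟩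

open Cfsg.Agent.KFacts.HN in
/-- a nontrivial normal subgroup of `C / R` contains `A₅ × A₅` -/
theorem LL_le_of_normal {N : Subgroup Lq} (hN : N.Normal) (h : N ≠ ⊥) : LL ≤ N := by
  have h1 : AA ≤ N ∨ BB ≤ N := A_or_B_le (fun l _ n hn => hN.conj_mem n hn l) h
  have h2 : ∀ a, φA a ∈ N ↔ φB a ∈ N := by
    intro a
    rw [φB_apply]
    constructor
    · intro h
      have := hN.conj_mem _ h (e [1])⁻¹
      rwa [inv_inv] at this
    · intro h
      have := hN.conj_mem _ h (e [1])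
      have e1 : e [1] * ((e [1])⁻¹ * φA a * e [1]) * (e [1])⁻¹ = φA a := by group
      rwa [e1] at this
  rcases h1 with h1 | h1
  · refine LL_le h1 ?_
    rintro _ ⟨a, rfl⟩
    exact (h2 a).1 (h1 ⟨a, rfl⟩)
  · refine LL_le ?_ h1
    rintro _ ⟨a, rfl⟩
    exact (h2 a).2 (h1 ⟨a, rfl⟩)

open Cfsg.Agent.KFacts.HN in
theorem MM_le {N : Subgroup PP} (hN : N.Normal) (hR : RS.subgroupOf PP ≤ N)
    (h : ¬ 25 ∣ N.relIndex (MM.subgroupOf PP)) : MM.subgroupOf PP ≤ N := by
  have hk : ρ.ker ≤ N := by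
    intro x hx
    exact hR ⟨x, hx, rfl⟩
  have hNc : N = (N.map ρ).comap ρ := by
    rw [comap_map_eq, sup_eq_left.2 hk]
  have hnor : (N.map ρ).Normal := hN.map ρ ρ_surj
  by_cases hb : N.map ρ = ⊥
  · exfalso
    apply h
    rw [hNc, hb, subgroupOf_MM, relIndex_comap, map_comap_eq_self_of_surjective ρ_surj, relIndex_bot_left, card_LL]
    exact ⟨144, by norm_num⟩
  · rw [hNc, subgroupOf_MM]
    exact comap_mono (LL_le_of_normal hnor hb)

open Cfsg.Agent.KFacts.HN in
/-- **`C`-modules of order at most 16 are trivial for `L'`** -/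
theorem triv {G : Type u} [Group G] [Finite G] {f : G →* PP} (hf : Function.Surjective f) (hc : f.ker ≤ center G) :
    TrivOn.{u, v} G ⁅(MM.subgroupOf PP).comap f, (MM.subgroupOf PP).comap f⁆ (2 ^ 4) := by
  intro V _ _ _ sq hV l hl x
  have hfin := finite_HN
  let φ : G →* MulAut V := MulDistribMulAction.toMulAut G V
  obtain ⟨h1, h2⟩ := not_dvd sq hV
  have hN : (φ.ker.map f).Normal := (MonoidHom.normal_ker φ).map f hf
  have h3 := RS_le hN fun h => h1 (h.trans (relIndex_dvd φ hf _))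
  have h4 := MM_le hN h3 fun h => h2 (h.trans (relIndex_dvd φ hf _))
  have h5 : φ l = 1 := comm_le hc h4 hl
  exact DFunLike.congr_fun h5 x

/-! ### the other fields -/

section fields

open Cfsg.Agent.KFacts.HN Cfsg.Agent.HN.P1408 Cfsg.Agent.HN.XWords

theorem ne : PP ≠ ⊤ := by
  intro h
  have h1 : ∀ x, x * W0 = W0 * x := fun x => mem_PP.1 (h ▸ mem_top x)
  have hs := Cfsg.Agent.S1701.result.1
  have h2 : W0 ∈ center Cfsg.Spor.HN := mem_center_iff.2 h1
  rcases (inferInstance : (center Cfsg.Spor.HN).Normal).eq_bot_or_eq_top with h3 | h3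
  · rw [h3, mem_bot] at h2
    exact W0_ne h2
  · obtain ⟨a, ha, b, hb, hab⟩ := not_abelian
    have h4 : b ∈ center Cfsg.Spor.HN := by rw [h3]; exact mem_top b
    exact hab (mem_center_iff.1 h4 a)

theorem odd : ¬ 2 ∣ PP.index := by
  have hfin := finite_HN
  have : Fact (Nat.Prime 2) := ⟨Nat.prime_two⟩
  obtain ⟨S, -, hS, -⟩ := Fields.syl_field
  have h1 : (S : Subgroup Cfsg.Spor.HN) ≤ PP := fun x hx => mem_PP.2 (hS x hx)
  exact fun h => S.not_dvd_index (h.trans (index_dvd_of_le h1))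

theorem nQ : PP ≤ normalizer (RS : Set Cfsg.Spor.HN) := by
  intro u hu
  rw [mem_normalizer_iff]
  intro x
  refine ⟨fun hx => conj_RS hu hx, fun hx => ?_⟩
  have h1 := conj_RS (PP.inv_mem hu) hx
  have h2 : u⁻¹ * (u * x * u⁻¹) * u⁻¹⁻¹ = x := by group
  rwa [h2] at h1

theorem card : Nat.card RS = 2 ^ (2 * 4 + 1) := by
  rw [card_RS]; norm_num

theorem core {B : Subgroup Cfsg.Spor.HN} (hB : B ≤ PP) (h2 : IsPGroup 2 B) (hn : PP ≤ normalizer (B : Set Cfsg.Spor.HN)) :
    B ≤ RS :=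
  two_group_le hB (fun u hu x hx => (mem_normalizer_iff.1 (hn (MM_le_PP hu)) x).1 hx) h2

theorem irr' {D : Subgroup Cfsg.Spor.HN} (hD : D ≤ RS) (hn : MM ≤ normalizer (D : Set Cfsg.Spor.HN)) :
    Nat.card D ≤ 2 ∨ D = RS := by
  rcases Cfsg.Agent.KFacts.HN.irr hD (fun u hu x hx => (mem_normalizer_iff.1 (hn hu) x).1 hx) with h1 | h1
  · left
    have h4 : (D : Set Cfsg.Spor.HN) ⊆ {1, W0} := fun x hx => by
      rcases h1 x hx with h5 | h5
      · exact Or.inl h5
      · exact Or.inr h5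
    calc Nat.card D = (D : Set Cfsg.Spor.HN).ncard := rfl
      _ ≤ ({1, W0} : Set Cfsg.Spor.HN).ncard := Set.ncard_le_ncard h4 (Set.toFinite _)
      _ ≤ 2 := Set.ncard_insert_le _ _ |>.trans (by rw [Set.ncard_singleton])
  · exact Or.inr h1

end fields

end Cfsg.Agent.Omega.ML.ExHN
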