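import Cfsg.Agent.Omega.ML.ExTriv
import Cfsg.Agent.OddHalf.D8.SheetMap
import Cfsg.Agent.Omega.Lie.PairOrd

/-!
# (ML), the K-list end: THEOREM EX for a group with a sheet (helper987)

* `dead_of_iso` : the row of the groups isomorphic to `S₀`, if `S₀` has a sheet `SheetE z P R` of type (E),
  `|R| = 2 ^ (2n + 1)`, `ρ : P → L` is onto with kernel `R` and `LB L (n + 1)` holds;
* `simple_quo` : `P / R` is simple if no normal subgroup of `P` lies strictly between `R` and `P`.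
-/

set_option autoImplicit false

namespace Cfsg.Agent.Omega.ML.ExIso

open Subgroup Cfsg
open Cfsg.Agent.OddHalf.D8.Sheet Cfsg.Agent.OddHalf.D8.SheetMap Cfsg.Agent.OddHalf.D8.JTwo.Sheet
open Cfsg.Agent.Omega.ML.Rows Cfsg.Agent.Omega.ML.ExRec Cfsg.Agent.Omega.ML.ExRow Cfsg.Agent.Omega.ML.ExTriv

universe u v w u'

/-- the row of the groups isomorphic to `S₀` -/
theorem dead_of_iso {𝒮 : ∀ (S : Type u) [Group S], Prop} (h𝒮 : IsoClosed.{u} 𝒮) {S₀ : Type w} [Group S₀] [Finite S₀]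
    (hiso : ∀ (S : Type u) [Group S], 𝒮 S → Nonempty (S ≃* S₀)) {z : S₀} {P R : Subgroup S₀} (h : SheetE z P R)
    {n : ℕ} (hcard : Nat.card R = 2 ^ (2 * n + 1)) {L : Type u'} [Group L] (ρ : P →* L)
    (hρ : Function.Surjective ρ) (hρR : ∀ x : P, ρ x = 1 ↔ (x : S₀) ∈ R)
    (hlb : Cfsg.Agent.Omega.Lie.Heis.LB.{u', u, v} L (n + 1)) : Dead.{u, v} 𝒮 := by
  refine dead_of_sheet h𝒮 fun S _ _ hS => ?_
  obtain ⟨e⟩ := hiso S hS
  have hs := of_sheetE (sheetE_map e.symm h)
  obtain ⟨P', hP'⟩ : ∃ P' : Subgroup S, P' = P.map e.symm.toMonoidHom := ⟨_, rfl⟩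
  obtain ⟨R', hR'⟩ : ∃ R' : Subgroup S, R' = R.map e.symm.toMonoidHom := ⟨_, rfl⟩
  rw [← hP', ← hR'] at hs
  refine ⟨_, P', R', n, hs, ?_, ?_⟩
  · rw [hR', card_map_of_injective e.symm.injective, hcard]
  · -- `P' → P`
    have hmem : ∀ x : S, x ∈ P' → e x ∈ P := by
      rw [hP']
      rintro _ ⟨y, hy, rfl⟩
      change e (e.symm y) ∈ P
      rwa [e.apply_symm_apply]
    have hmemR : ∀ x : S, x ∈ R' ↔ e x ∈ R := by
      intro x
      rw [hR']
      constructor
      · rintro ⟨y, hy, rfl⟩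
        change e (e.symm y) ∈ R
        rwa [e.apply_symm_apply]
      · intro hx
        exact ⟨e x, hx, e.symm_apply_apply x⟩
    let f : P' →* P := (e.toMonoidHom.comp P'.subtype).codRestrict P fun x => hmem x x.2
    have hf : Function.Surjective f := by
      rintro ⟨y, hy⟩
      refine ⟨⟨e.symm y, ?_⟩, Subtype.ext (e.apply_symm_apply y)⟩
      rw [hP']
      exact ⟨y, hy, rfl⟩
    have hk : ∀ x : P', (ρ.comp f) x = 1 ↔ (x : S) ∈ R' := by
      intro x
      rw [hmemR]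
      exact hρR (f x)
    refine trivC_of_lb (R := R') (fun x hx => mem_centralizer_singleton_iff.2 (hs.cen x hx)) hs.R2 hs.Rn hs.perf
      (ρ.comp f) (hρ.comp hf) (fun x hx => (hk x).2 hx) ?_ ?_ hlb
    · intro x hx y
      have h1 := R'.mul_mem ((hk x).1 hx) (hs.Rn _ y.2 _ (R'.inv_mem ((hk x).1 hx)))
      have h2 : (x : S) * ((y : S) * (x : S)⁻¹ * (y : S)⁻¹) = (x : S) * y * (x : S)⁻¹ * (y : S)⁻¹ := by group
      rwa [h2] at h1
    · have h1 : (ρ.comp f).ker = R'.subgroupOf P' := by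
        ext x
        rw [MonoidHom.mem_ker, hk, mem_subgroupOf]
      rw [h1, relIndex_self]
      exact odd_one

/-- `P / R` is simple -/
theorem simple_quo {P : Type*} [Group P] {R : Subgroup P} [R.Normal] (hne : R ≠ ⊤)
    (h : ∀ N : Subgroup P, N.Normal → R ≤ N → N = R ∨ N = ⊤) : IsSimpleGroup (P ⧸ R) := by
  have hnt : Nontrivial (P ⧸ R) := by
    by_contra hc
    rw [not_nontrivial_iff_subsingleton] at hc
    apply hne
    rw [eq_top_iff]
    intro x _
    exact (QuotientGroup.eq_one_iff x).1 (Subsingleton.elim _ _)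
  refine ⟨fun N hN => ?_⟩
  have h1 : N = (N.comap (QuotientGroup.mk' R)).map (QuotientGroup.mk' R) :=
    (map_comap_eq_self_of_surjective (QuotientGroup.mk'_surjective R) N).symm
  rcases h (N.comap (QuotientGroup.mk' R)) (hN.comap _) (fun x hx => by
    rw [mem_comap]
    have h2 : QuotientGroup.mk' R x = 1 := (QuotientGroup.eq_one_iff x).2 hx
    rw [h2]
    exact one_mem _) with h2 | h2
  · left
    rw [h1, h2]
    rw [eq_bot_iff]
    rintro _ ⟨x, hx, rfl⟩
    exact mem_bot.2 ((QuotientGroup.eq_one_iff x).2 hx)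
  · right
    rw [h1, h2]
    exact map_top_of_surjective _ (QuotientGroup.mk'_surjective R)

end Cfsg.Agent.Omega.ML.ExIso
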