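import Cfsg.Agent.Omega.Lie.GLBound
import Cfsg.Agent.Co2Type.CardCo2
import Cfsg.Agent.Schreier.CoTwoStab

/-!
# (ML), the K-list end: lower bounds for THEOREM EX

`A₉` : 5 (`3 ^ 4`),  `Co₂` : 12 (`5 ^ 3`).
-/

set_option autoImplicit false

namespace Cfsg.Agent.Omega.ML.ExLB

open Cfsg Cfsg.Agent.Omega.Lie.Heis

universe u v w

theorem card_GL (n : ℕ) : Nat.card (Matrix.GeneralLinearGroup (Fin n) (ZMod 2)) =
    ∏ i ∈ Finset.range n, (2 ^ n - 2 ^ i) := by
  have := Matrix.card_GL_field (𝔽 := ZMod 2) (n := n)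
  rw [this, ZMod.card, ← Fin.prod_univ_eq_prod_range (fun i => 2 ^ n - 2 ^ i) n]

theorem lb_a9 : LB.{0, v, w} (alternatingGroup (Fin 9)) 5 := by
  have : IsSimpleGroup (alternatingGroup (Fin 9)) := alternatingGroup.isSimpleGroup (by simp)
  refine Cfsg.Agent.Omega.Lie.GLBound.LB.of_dvd (d := 81) ?_ ?_
  · rw [nat_card_alternatingGroup, Nat.card_eq_fintype_card, Fintype.card_fin]
    decide +kernel
  · intro n hn
    rw [card_GL]
    interval_cases n <;> decide +kernel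

theorem lb_co2 : LB.{0, v, w} Spor.Co2 12 := by
  have hs := Cfsg.Agent.Schreier.CoTwoStab.isSimpleGroup
  refine Cfsg.Agent.Omega.Lie.GLBound.LB.of_dvd (d := 125) ?_ ?_
  · rw [Cfsg.Agent.Co2Type.CardCo2.card_co2]
    norm_num
  · intro n hn
    rw [card_GL]
    interval_cases n <;> decide +kernel

end Cfsg.Agent.Omega.ML.ExLB
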