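import Cfsg.Agent.Omega.ML.ExCore
import Cfsg.Agent.Omega.ML.ShE

/-!
# (ML), the K-list end: THEOREM EX, the record (helper987)

* `Rec C P R w` : `R` is a nonabelian group of order `2 ^ (2w + 1)`, normal in `C`, `P ≤ C` perfect, irreducible on
  `R` modulo a subgroup of order 2, and for every odd central cover `G` of `C` the group `⁅P̂, P̂⁆` (`P̂` the preimage of
  `P`) acts trivially on the elementary abelian `G`-modules of order at most `2 ^ w`;
* `Rec.of_sheet` : `Rec` from helper915's sheet `SheetX z P R` (`C = C_S(z)`);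
* `TrivC C P w` : the last field;  `trivC_of_lb` : it follows from `LB P (w + 1)`, also from `LB L (w + 1)` for a
  quotient `L` of `P` by a 2-subgroup.
-/

set_option autoImplicit false

namespace Cfsg.Agent.Omega.ML.ExRec

open Subgroup Cfsg Cfsg.Agent.OddHalf.D8.Sheet Cfsg.Agent.OddHalf.D8.JTwo.Sheet Cfsg.Agent.Omega.ML.ExCore

universe u v w

/-- the modules of order at most `2 ^ n` of the odd central covers of `C` are trivial for `⁅P̂, P̂⁆` -/
def TrivC {X : Type w} [Group X] (C P : Subgroup X) (n : ℕ) : Prop :=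
  ∀ (G : Type u) [Group G] [Finite G] (p : G →* C), Function.Surjective p → p.ker ≤ center G →
    Odd (Nat.card p.ker) →
    TrivOn.{u, v} G ⁅(P.subgroupOf C).comap p, (P.subgroupOf C).comap p⁆ (2 ^ n)

/-- the record of THEOREM EX -/
structure Rec {X : Type w} [Group X] (C P R : Subgroup X) (n : ℕ) : Prop where
  PC : P ≤ C
  RC : R ≤ C
  nR : ∀ c ∈ C, ∀ r ∈ R, c * r * c⁻¹ ∈ R
  card : Nat.card R = 2 ^ (2 * n + 1)
  nab : ∃ a ∈ R, ∃ b ∈ R, a * b ≠ b * a
  perf : ⁅P, P⁆ = P
  irr : ∀ B : Subgroup X, B ≤ R → (∀ x ∈ P, ∀ b ∈ B, x * b * x⁻¹ ∈ B) → Nat.card B ≤ 2 ∨ B = R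
  triv : TrivC.{u, v, w} C P n

end Cfsg.Agent.Omega.ML.ExRec
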