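import Cfsg.Agent.Omega.ML.ExHN
import Cfsg.Agent.Omega.ML.ExRec

/-!
# (ML), the K-list end: the record of THEOREM EX for `HN`
-/

set_option autoImplicit false

namespace Cfsg.Agent.Omega.ML.ExHN

open Subgroup Cfsg Cfsg.Agent.Omega.ML.ExCore Cfsg.Agent.Omega.ML.ExRec Cfsg.Agent.KFacts.HN

universe u v

/-- **The record for `HN`** -/
theorem rec_hn : Rec.{u, v, 0} PP MM RS 4 where
  PC := MM_le_PP
  RC := RS_le_PP
  nR c hc r hr := conj_RS hc hr
  card := card
  nab := not_abelian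
  perf := MM_perfect
  irr B hB hn := by
    refine irr' hB fun u hu => ?_
    rw [mem_normalizer_iff]
    intro x
    refine ⟨fun hx => hn u hu x hx, fun hx => ?_⟩
    have h1 := hn u⁻¹ (MM.inv_mem hu) _ hx
    have h2 : u⁻¹ * (u * x * u⁻¹) * u⁻¹⁻¹ = x := by group
    rwa [h2] at h1
  triv G _ _ p hp hc _ := triv hp hc

end Cfsg.Agent.Omega.ML.ExHN
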