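import Cfsg.Agent.Omega.ML.Comp
import Cfsg.Agent.Omega.FFBr.Def

/-!
# (ML): the reduction to one component, for arbitrary `A` (#16589 of helper571, #16602 of helper270); K-free

Input: the abstract FF theorem `FFBr.AStmt` (proved in `FFBr.Final`).

* `Fr.nmax` : `T` lies in at least two maximal subgroups of `H`;
* `Fr.A_le_normalizer'` : `A` normalises the components which it does not centralise;
* `Fr.exists_comp''` : `H = LA`, `L ⊴ H` quasisimple, `C_H(L) = Z(H) ≤ L` of odd order.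
-/

set_option autoImplicit false

namespace Cfsg.Agent.Omega.ML.MinFrame

open Subgroup Cfsg Cfsg.Agent.ClassTwoFusion.Quad Cfsg.Agent.Omega.NOThree.NoOver Cfsg.Agent.Omega.ML.CD
open Cfsg.Agent.ZN Cfsg.Agent.MinSimple.VModule
open Cfsg.Agent.SignalizersComponents.Components Cfsg.Agent.SignalizersComponents.CompBasic

universe u v

/-- the action on the lifts -/
@[reducible] def liftAct (H : Type u) [Group H] (M : Type v) [Group M] [MulDistribMulAction H M] :
    MulDistribMulAction (ULift.{v} H) (ULift.{u} M) where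
  smul g m := ⟨g.down • m.down⟩
  one_smul m := ULift.ext _ _ (one_smul H m.down)
  mul_smul g k m := ULift.ext _ _ (mul_smul g.down k.down m.down)
  smul_mul g a b := ULift.ext _ _ (smul_mul' g.down a.down b.down)
  smul_one g := ULift.ext _ _ (smul_one g.down)

/-- central by 2-group: the normal Sylow 2-subgroup -/
theorem mem_of_two {X : Type*} [Group X] [Finite X] {D P : Subgroup X} (hD : D ≤ center X)
    (h2 : ∀ x : X, ∃ k : ℕ, x ^ 2 ^ k ∈ D) (hP : IsPGroup 2 P) (hPi : ¬ 2 ∣ P.index) {x : X} {k : ℕ}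
    (hx : x ^ 2 ^ k = 1) : x ∈ P := by
  have : Fact (Nat.Prime 2) := ⟨Nat.prime_two⟩
  have hDn : D.Normal := ⟨fun d hd g => by
    rw [mem_center_iff.1 (hD hd) g, mul_inv_cancel_right]
    exact hd⟩
  have h3 : IsPGroup 2 (X ⧸ D) := by
    intro q
    obtain ⟨y, rfl⟩ := QuotientGroup.mk_surjective q
    obtain ⟨j, hj⟩ := h2 y
    exact ⟨j, by rw [← QuotientGroup.mk_pow]; exact (QuotientGroup.eq_one_iff _).2 hj⟩
  have h4 : Group.IsNilpotent (X ⧸ D) := h3.isNilpotent
  have h5 : Group.IsNilpotent X := Subgroup.isNilpotent_of_ker_le_center (QuotientGroup.mk' D) (by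
    rw [QuotientGroup.ker_mk']
    exact hD)
  have h6 : ((hP.toSylow hPi : Sylow 2 X) : Subgroup X).Normal :=
    (Group.isNilpotent_of_finite_tfae.out 0 3 rfl rfl).1 h5 2 this _
  have h7 : P.Normal := h6
  refine mem_of_pow_mem (m := P.index) (n := 2 ^ k) ?_ (P.pow_index_mem x) (hx ▸ one_mem _)
  exact Nat.Coprime.pow_right _ ((Nat.prime_two.coprime_iff_not_dvd.2 hPi).symm)

namespace Fr

variable {K : Frame.Cls.{u}} {p : Prop} {H : Type u} [Group H] [Finite H] {M : Type v} [Group M] [Finite M]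
  [MulDistribMulAction H M] {T Q A : Subgroup H} {z : M}

omit [Finite H] [Finite M] in
theorem exists_moves (h : Fr K p H M T Q A z) : ∃ g : H, g • z ≠ z := by
  by_contra hc
  push Not at hc
  refine h.ne ((Subgroup.eq_bot_iff_forall A).2 fun a _ => h.faithful a fun m => ?_)
  have h1 : orb (⊤ : Subgroup H) z ≤ closure {z} := orb_le fun g _ => by
    rw [hc g]
    exact subset_closure rfl
  rw [h.gen] at h1
  obtain ⟨n, rfl⟩ := mem_closure_singleton.1 (h1 (mem_top m))
  rw [smul_zpow', hc a]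

omit [Finite H] [Finite M] in
/-- over-offender -/
theorem index_lt (h : Fr K p H M T Q A z) : (cv M (A : Set H)).index < Nat.card A := by
  have h1 := h.strict ⊥ (bot_lt_iff_ne_bot.2 h.ne)
  rw [fab_bot, fab, pow_one, pow_one, pow_one, ← Subgroup.index_mul_card (cv M (A : Set H))] at h1
  exact Nat.lt_of_mul_lt_mul_right h1

/-- **`T` lies in at least two maximal subgroups** (FF0) -/
theorem nmax (hFF : FFBr.AStmt.{max u v}) (h : Fr K p H M T Q A z) :
    ¬ ∃ N : Subgroup H, N ≠ ⊤ ∧ ∀ R : Subgroup H, T ≤ R → R ≠ ⊤ → R ≤ N := by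
  rintro ⟨N, hN, hmax⟩
  have hTne : T ≠ ⊤ := fun h1 => h.nontriv (h1 ▸ h.two)
  have hTN : T ≤ N := hmax T le_rfl hTne
  let _ := liftAct H M
  let e : ULift.{v} H →* H := (MulEquiv.ulift : ULift.{v} H ≃* H).toMonoidHom
  have hes : Function.Surjective e := (MulEquiv.ulift : ULift.{v} H ≃* H).surjective
  have hei : Function.Injective e := (MulEquiv.ulift : ULift.{v} H ≃* H).injective
  let f : ULift.{u} M →* M := (MulEquiv.ulift : ULift.{u} M ≃* M).toMonoidHom
  have hfs : Function.Surjective f := (MulEquiv.ulift : ULift.{u} M ≃* M).surjective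
  have hfi : Function.Injective f := (MulEquiv.ulift : ULift.{u} M ≃* M).injective
  have hsm : ∀ (g : ULift.{v} H) (m : ULift.{u} M), f (g • m) = e g • f m := fun _ _ => rfl
  have hT2 : IsPGroup 2 (T.comap e) := h.two.comap_of_injective e hei
  have hTi : ¬ 2 ∣ (T.comap e).index := by
    rw [index_comap_of_surjective T hes]
    exact h.odd
  obtain ⟨g0, hg0⟩ := h.exists_moves
  have abs : FFBr.Abs (ULift.{v} H) (ULift.{u} M) (hT2.toSylow hTi) (N.comap e) :=
    { comm := fun v w => hfi (comm_of_sq h.sq _ _)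
      sq := fun v => hfi (h.sq _)
      faith := fun x hx => hei (h.faithful _ fun m => by
        obtain ⟨m, rfl⟩ := hfs m
        rw [← hsm, hx])
      core := by
        intro B hB hB2
        have h1 := h.o2_eq_bot (hB.map e hes) (hB2.map e)
        rwa [Subgroup.map_eq_bot_iff_of_injective _ hei] at h1
      TM := comap_mono hTN
      Mne := fun h1 => hN (by
        rw [eq_top_iff]
        intro x _
        obtain ⟨y, rfl⟩ := hes x
        have h2 : y ∈ N.comap e := h1 ▸ mem_top y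
        exact h2)
      max := by
        intro B hB
        by_cases hBt : B.map e = ⊤
        · right
          rw [eq_top_iff]
          intro x _
          have h2 : e x ∈ B.map e := hBt ▸ mem_top _
          obtain ⟨y, hy, hyx⟩ := h2
          exact hei hyx ▸ hy
        · left
          have h1 : T ≤ B.map e := by
            intro t ht
            obtain ⟨y, rfl⟩ := hes t
            exact ⟨y, hB ht, rfl⟩
          intro x hx
          exact hmax _ h1 hBt ⟨x, hx, rfl⟩
      gen := by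
        intro W hW
        have h1 : orb (⊤ : Subgroup H) z ≤ W.map f := orb_le fun g _ => by
          obtain ⟨g, rfl⟩ := hes g
          obtain ⟨y, hy⟩ := hfs z
          refine ⟨g • y, hW y (fun t ht => hfi ?_) g, ?_⟩
          · rw [hsm, hy]
            exact h.fixT _ ht
          · rw [hsm, hy]
        rw [h.gen] at h1
        rw [eq_top_iff]
        intro w _
        obtain ⟨y, hy, hyw⟩ := h1 (mem_top (f w))
        exact hfi hyw ▸ hy
      nfix := by
        obtain ⟨g, rfl⟩ := hes g0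
        obtain ⟨y, hy⟩ := hfs z
        refine ⟨y, fun t ht => hfi ?_, g, fun h1 => hg0 ?_⟩
        · rw [hsm, hy]
          exact h.fixT _ ht
        · rw [← hy, ← hsm, h1] }
  have hA1 : ∀ a ∈ A.comap e, ∀ b ∈ A.comap e, a * b = b * a := fun a ha b hb => hei (h.A_comm ha hb)
  have hA2 : ∀ a ∈ A.comap e, a * a = 1 := fun a ha => hei (h.Asq _ ha)
  have hcard : Nat.card (A.comap e) = Nat.card A := by
    have h1 : (A.comap e).map e = A := map_comap_eq_self_of_surjective hes A
    rw [← card_map_of_injective hei, h1]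
  have hidx : (cv (ULift.{u} M) ((A.comap e : Subgroup (ULift.{v} H)) : Set (ULift.{v} H))).index =
      (cv M (A : Set H)).index := by
    rw [← index_comap_of_surjective (cv M (A : Set H)) hfs]
    congr 1
    ext m
    constructor
    · intro hm a ha
      obtain ⟨b, rfl⟩ := hes a
      rw [← hsm, hm b ha]
    · intro hm a ha
      exact hfi (by rw [hsm]; exact hm _ ha)
  have hlt := h.index_lt
  have hne : A.comap e ≠ ⊥ := fun h1 => h.ne (by
    have h2 : (A.comap e).map e = A := map_comap_eq_self_of_surjective hes A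
    rw [← h2, h1, Subgroup.map_bot])
  have hno := (hFF _ _ _ _ abs ⟨A.comap e, hA1, hA2, hne, by rw [hidx, hcard]; exact hlt.le⟩).1 (A.comap e) hA1 hA2
  rw [hidx, hcard] at hno
  omega

section comp

variable {L : Subgroup H}

/-- **`A` normalises `L`** -/
theorem A_le_normalizer' (h : Fr K p H M T Q A z)
    (hm : ¬ ∃ N : Subgroup H, N ≠ ⊤ ∧ ∀ R : Subgroup H, T ≤ R → R ≠ ⊤ → R ≤ N) (hL : IsComponent L)
    (hLA : ¬ A ≤ centralizer (L : Set H)) : A ≤ normalizer (L : Set H) := by
  intro a ha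
  by_contra hcon
  let L₂ : Subgroup H := L.map (MulAut.conj a).toMonoidHom
  have hL₂ : IsComponent L₂ := isComponent_conj a hL
  have hne : L ≠ L₂ := fun h1 => hcon (mem_normalizer_of_map h1.symm)
  have hcc := component_le_centralizer_of_ne hL hL₂ hne
  have hcomm : ∀ x ∈ L, ∀ y ∈ L₂, x * y = y * x := fun x hx y hy => (mem_centralizer_iff.1 (hcc hx) y hy).symm
  have hconj : ∀ x ∈ L, a * x * a⁻¹ ∈ L₂ := fun x hx => ⟨x, hx, rfl⟩
  have hDc : ∀ x ∈ L, ∀ d ∈ L ⊓ L₂, x * d = d * x := fun x hx d hd => hcomm x hx d hd.2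
  have hrel := not_dvd_relIndex_of_subnormal h.two h.odd hL.1
  let T₀ : Subgroup H := tcl T (T ⊓ L)
  have hT₀T : T₀ ≤ T := tcl_le fun t ht => by
    rintro _ ⟨x, hx, rfl⟩
    exact T.mul_mem (T.mul_mem ht hx.1) (T.inv_mem ht)
  have hT₀ne : T₀ ≠ ⊥ := by
    intro h1
    have h2 : T ⊓ L = ⊥ := le_bot_iff.1 (h1 ▸ le_tcl T (T ⊓ L))
    exact h.not_odd hL.1 hLA (odd_of_relIndex hrel h2)
  apply hm
  refine ⟨normalizer (T₀ : Set H), fun h1 => hT₀ne (h.o2_eq_bot (normalizer_eq_top_iff.1 h1) (h.two.to_le hT₀T)),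
    fun R hTR hR => ?_⟩
  have hAR := h.le_o2 hTR hR
  -- the 2-elements of `R ∩ L` are in `T`
  have key2 : ∀ x ∈ R ⊓ L, ∀ k : ℕ, x ^ 2 ^ k = 1 → x ∈ T := by
    intro x hx k hk
    have h1 : (⟨x, hx⟩ : (R ⊓ L : Subgroup H)) ∈ (T.subgroupOf (R ⊓ L)) := by
      refine mem_of_two (D := (L ⊓ L₂).subgroupOf (R ⊓ L)) (k := k) ?_ ?_
        (h.two.comap_of_injective _ (R ⊓ L).subtype_injective) ?_ (Subtype.ext hk)
      · intro d hd
        rw [mem_center_iff]
        exact fun y => Subtype.ext (hDc y y.2.2 d hd)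
      · intro y
        have hy := y.2
        have h2 : (y : H)⁻¹ * (a * y * a⁻¹) ∈ o2 R := by
          have h1 := conj_mem_of_le (le_normalizer_o2 R) (R.inv_mem hy.1) (hAR ha)
          rw [inv_inv] at h1
          have h2 := Subgroup.mul_mem _ h1 (Subgroup.inv_mem _ (hAR ha))
          have e : (y : H)⁻¹ * a * y * a⁻¹ = (y : H)⁻¹ * (a * y * a⁻¹) := by group
          rwa [e] at h2
        obtain ⟨j, hj⟩ := o2_isPGroup R ⟨_, h2⟩
        have hj1 : ((y : H)⁻¹ * (a * y * a⁻¹)) ^ 2 ^ j = 1 := congrArg Subtype.val hj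
        have hcn : Commute (y : H)⁻¹ (a * y * a⁻¹) := Commute.inv_left (hcomm y hy.2 _ (hconj y hy.2))
        rw [hcn.mul_pow, inv_pow, inv_mul_eq_one] at hj1
        have hj2 : (y : H) ^ 2 ^ j ∈ L₂ := by
          rw [hj1]
          exact L₂.pow_mem (hconj y hy.2) _
        exact ⟨j, L.pow_mem hy.2 _, hj2⟩
      · intro h3
        apply hrel
        rw [← inf_relIndex_right, ← relIndex_mul_relIndex (T ⊓ L) (R ⊓ L) L (inf_le_inf_right L hTR) inf_le_right]
        have h4 : T.relIndex (R ⊓ L) = (T ⊓ L).relIndex (R ⊓ L) := by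
          rw [← inf_relIndex_right T, ← inf_assoc, inf_eq_left.2 hTR]
        exact (h4 ▸ h3 : 2 ∣ (T ⊓ L).relIndex (R ⊓ L)).trans (Dvd.intro _ rfl)
    exact h1
  -- `R ∩ E` normalises `T₀`
  have key4 : ∀ e ∈ R, e ∈ tcl T L → e ∈ normalizer (T₀ : Set H) := by
    intro e heR heE
    change e ∈ normalizer (tcl T (T ⊓ L) : Set H)
    apply mem_normalizer_of_map
    rw [tcl, Subgroup.map_iSup]
    refine iSup_congr fun t => ?_
    apply map_conj_eq_of_mem
    have hen : ∀ e ∈ tcl T L, e ∈ normalizer ((L.map (MulAut.conj (t : H)).toMonoidHom : Subgroup H) : Set H) :=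
      fun e he => layer_le_normalizer_component (isComponent_conj (t : H) hL) (tcl_le_layer hL he)
    have hstep : ∀ e ∈ R ⊓ tcl T L, ∀ x ∈ (T ⊓ L).map (MulAut.conj (t : H)).toMonoidHom,
        e * x * e⁻¹ ∈ (T ⊓ L).map (MulAut.conj (t : H)).toMonoidHom := by
      rintro e ⟨he1, he2⟩ x ⟨y, hy, rfl⟩
      have hx1 : (t : H) * y * (t : H)⁻¹ ∈ L.map (MulAut.conj (t : H)).toMonoidHom := ⟨y, hy.2, rfl⟩
      have hx2 : (t : H) * y * (t : H)⁻¹ ∈ R := R.mul_mem (R.mul_mem (hTR t.2) (hTR hy.1)) (R.inv_mem (hTR t.2))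
      obtain ⟨w, hw, hwe⟩ := (mem_normalizer_iff.1 (hen e he2) _).1 hx1
      have hwe' : (t : H) * w * (t : H)⁻¹ = e * (t * y * (t : H)⁻¹) * e⁻¹ := hwe
      have hwR : w ∈ R := by
        have h1 : w = (t : H)⁻¹ * (e * (t * y * (t : H)⁻¹) * e⁻¹) * t := by
          rw [← hwe']
          group
        rw [h1]
        exact R.mul_mem (R.mul_mem (R.inv_mem (hTR t.2)) (R.mul_mem (R.mul_mem he1 hx2) (R.inv_mem he1))) (hTR t.2)
      obtain ⟨k, hk⟩ := h.two ⟨y, hy.1⟩
      have hk1 : y ^ 2 ^ k = 1 := congrArg Subtype.val hk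
      have hwk : w ^ 2 ^ k = 1 := by
        have h1 : w = ((t : H)⁻¹ * e * t) * y * ((t : H)⁻¹ * e * t)⁻¹ := by
          have h2 : w = (t : H)⁻¹ * (e * (t * y * (t : H)⁻¹) * e⁻¹) * t := by
            rw [← hwe']
            group
          rw [h2]
          group
        rw [h1, conj_pow, hk1, mul_one, mul_inv_cancel]
      have hwT := key2 w ⟨hwR, hw⟩ k hwk
      exact ⟨w, ⟨hwT, hw⟩, hwe⟩
    rw [mem_normalizer_iff]
    intro x
    refine ⟨hstep e ⟨heR, heE⟩ x, fun hx => ?_⟩
    have h1 := hstep e⁻¹ (Subgroup.inv_mem _ ⟨heR, heE⟩) _ hx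
    have e1 : e⁻¹ * (e * x * e⁻¹) * e⁻¹⁻¹ = x := by group
    rwa [e1] at h1
  intro r hr
  have h1 : r ∈ tcl T L ⊔ T := (h.sup_eq_top hL hLA) ▸ mem_top r
  obtain ⟨e, he, t, ht, rfl⟩ := sup_eq_mul (le_normalizer_tcl T L) h1
  have heR : e ∈ R := by
    have := R.mul_mem hr (R.inv_mem (hTR ht))
    rwa [mul_inv_cancel_right] at this
  exact Subgroup.mul_mem _ (key4 e heR he) (le_normalizer_tcl T (T ⊓ L) ht)

/-- **Summary, arbitrary `A`** -/
theorem exists_comp'' (hFF : FFBr.AStmt.{max u v}) (h : Fr K p H M T Q A z) :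
    ∃ L : Subgroup H, L.Normal ∧ IsQuasisimple L ∧ L ⊔ A = ⊤ ∧ centralizer (L : Set H) = center H ∧
      center H ≤ L ∧ Odd (Nat.card (center H)) ∧ layer H = L :=
  h.exists_comp' fun _ hL hLA => h.A_le_normalizer' (h.nmax hFF) hL hLA

end comp

end Fr

end Cfsg.Agent.Omega.ML.MinFrame
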