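import Cfsg.Agent.Omega.TwoF.GTwoLB
import Cfsg.Agent.Omega.Lie.HeisLift

/-!
# (ML), the K-list end: the lower bound for `G₂(q)`, characteristic at least 5 (helper484)

The unipotent radical of the parabolic of the highest root `3a + 2b` is a Heisenberg configuration with the TWO pairs
`(b, 3a + b)`, `(2a + b, a + b)`:  `LB (G₂(q)) (ord_p(2) * q ^ 2)` in all odd covers, `p ≥ 5`.

General tools: `LC.of_commutator`, `LC.of_scalars`.
-/

set_option autoImplicit false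

universe u v w

namespace Cfsg.Agent.Omega.Lie.HeisF

section tools

variable {K : Type u} [Group K]

/-- The lifts of a commutator of two elements commuting with `g'` commute with the lifts of `g'`. -/
theorem LC.of_commutator {x y g' : K} (hx : x * g' = g' * x) (hy : y * g' = g' * y) :
    LC.{u, v} (x * y * x⁻¹ * y⁻¹) g' := by
  intro L _ π hπ a b ha hb
  obtain ⟨x', hx'⟩ := hπ.surj x
  obtain ⟨y', hy'⟩ := hπ.surj y
  have h1 : π (x' * b * x'⁻¹ * b⁻¹) = 1 := by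
    rw [map_mul, map_mul, map_mul, map_inv, map_inv, hx', hb, hx]; group
  have h2 : π (y' * b * y'⁻¹ * b⁻¹) = 1 := by
    rw [map_mul, map_mul, map_mul, map_inv, map_inv, hy', hb, hy]; group
  have h3 : π (a⁻¹ * (x' * y' * x'⁻¹ * y'⁻¹)) = 1 := by
    rw [map_mul, map_mul, map_mul, map_mul, map_inv, map_inv, map_inv, hx', hy', ha, inv_mul_cancel]
  set z := x' * b * x'⁻¹ * b⁻¹ with hz
  set w := y' * b * y'⁻¹ * b⁻¹ with hw
  set c := a⁻¹ * (x' * y' * x'⁻¹ * y'⁻¹) with hc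
  have ez : x' * b * x'⁻¹ = z * b := by rw [hz]; group
  have ew : y' * b * y'⁻¹ = w * b := by rw [hw]; group
  have ez' : x'⁻¹ * b * x' = b * z⁻¹ := by
    calc x'⁻¹ * b * x' = x'⁻¹ * (b * z⁻¹) * z * x' := by group
      _ = x'⁻¹ * (b * z⁻¹) * (z * x') := by group
      _ = x'⁻¹ * (b * z⁻¹) * (x' * z) := by rw [hπ.comm h1]
      _ = x'⁻¹ * (z⁻¹ * (z * b) * z⁻¹) * x' * z := by group
      _ = x'⁻¹ * (z⁻¹ * (x' * b * x'⁻¹) * z⁻¹) * x' * z := by rw [ez]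
      _ = x'⁻¹ * (z⁻¹ * x') * b * x'⁻¹ * (z⁻¹ * x') * z := by group
      _ = x'⁻¹ * (x' * z⁻¹) * b * x'⁻¹ * (x' * z⁻¹) * z := by
          rw [((show Commute x' z from hπ.comm h1 x').inv_right).eq]
      _ = z⁻¹ * b := by group
      _ = b * z⁻¹ := ((show Commute b z from hπ.comm h1 b).inv_right).eq.symm
  have ew' : y'⁻¹ * b * y' = b * w⁻¹ := by
    calc y'⁻¹ * b * y' = y'⁻¹ * (b * w⁻¹) * w * y' := by group
      _ = y'⁻¹ * (b * w⁻¹) * (w * y') := by group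
      _ = y'⁻¹ * (b * w⁻¹) * (y' * w) := by rw [hπ.comm h2]
      _ = y'⁻¹ * (w⁻¹ * (w * b) * w⁻¹) * y' * w := by group
      _ = y'⁻¹ * (w⁻¹ * (y' * b * y'⁻¹) * w⁻¹) * y' * w := by rw [ew]
      _ = y'⁻¹ * (w⁻¹ * y') * b * y'⁻¹ * (w⁻¹ * y') * w := by group
      _ = y'⁻¹ * (y' * w⁻¹) * b * y'⁻¹ * (y' * w⁻¹) * w := by
          rw [((show Commute y' w from hπ.comm h2 y').inv_right).eq]
      _ = w⁻¹ * b := by group
      _ = b * w⁻¹ := ((show Commute b w from hπ.comm h2 b).inv_right).eq.symm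
  have hzw : z * w = w * z := (hπ.comm h1 w).symm
  have key : (x' * y' * x'⁻¹ * y'⁻¹) * b * (x' * y' * x'⁻¹ * y'⁻¹)⁻¹ = b := by
    calc (x' * y' * x'⁻¹ * y'⁻¹) * b * (x' * y' * x'⁻¹ * y'⁻¹)⁻¹
        = x' * (y' * (x'⁻¹ * (y'⁻¹ * b * y') * x') * y'⁻¹) * x'⁻¹ := by group
      _ = x' * (y' * (x'⁻¹ * (b * w⁻¹) * x') * y'⁻¹) * x'⁻¹ := by rw [ew']
      _ = x' * (y' * (x'⁻¹ * b * (w⁻¹ * x')) * y'⁻¹) * x'⁻¹ := by group
      _ = x' * (y' * (x'⁻¹ * b * (x' * w⁻¹)) * y'⁻¹) * x'⁻¹ := by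
          rw [((show Commute x' w from hπ.comm h2 x').inv_right).eq]
      _ = x' * (y' * ((x'⁻¹ * b * x') * w⁻¹) * y'⁻¹) * x'⁻¹ := by group
      _ = x' * (y' * ((b * z⁻¹) * w⁻¹) * y'⁻¹) * x'⁻¹ := by rw [ez']
      _ = x' * (y' * b * (z⁻¹ * w⁻¹ * y'⁻¹)) * x'⁻¹ := by group
      _ = x' * (y' * b * (y'⁻¹ * (z⁻¹ * w⁻¹))) * x'⁻¹ := by
          rw [show z⁻¹ * w⁻¹ * y'⁻¹ = y'⁻¹ * (z⁻¹ * w⁻¹) from
            (((show Commute y'⁻¹ z from hπ.comm h1 _).inv_right).mul_right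
              ((show Commute y'⁻¹ w from hπ.comm h2 _).inv_right)).eq.symm]
      _ = x' * ((y' * b * y'⁻¹) * (z⁻¹ * w⁻¹)) * x'⁻¹ := by group
      _ = x' * ((w * b) * (z⁻¹ * w⁻¹)) * x'⁻¹ := by rw [ew]
      _ = (x' * w) * b * (z⁻¹ * w⁻¹ * x'⁻¹) := by group
      _ = (w * x') * b * (x'⁻¹ * (z⁻¹ * w⁻¹)) := by
          rw [hπ.comm h2 x', show z⁻¹ * w⁻¹ * x'⁻¹ = x'⁻¹ * (z⁻¹ * w⁻¹) from
            (((show Commute x'⁻¹ z from hπ.comm h1 _).inv_right).mul_right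
              ((show Commute x'⁻¹ w from hπ.comm h2 _).inv_right)).eq.symm]
      _ = w * (x' * b * x'⁻¹) * (z⁻¹ * w⁻¹) := by group
      _ = w * (z * b) * (z⁻¹ * w⁻¹) := by rw [ez]
      _ = w * (z * (b * z⁻¹)) * w⁻¹ := by group
      _ = w * (z * (z⁻¹ * b)) * w⁻¹ := by
          rw [((show Commute b z from hπ.comm h1 b).inv_right).eq]
      _ = (w * b) * w⁻¹ := by group
      _ = (b * w) * w⁻¹ := by rw [hπ.comm h2 b]
      _ = b := by group
  have ha' : a = (x' * y' * x'⁻¹ * y'⁻¹) * c⁻¹ := by rw [hc]; group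
  have hcomm : ∀ t : L, t * c = c * t := hπ.comm h3
  have h4 : (x' * y' * x'⁻¹ * y'⁻¹) * b = b * (x' * y' * x'⁻¹ * y'⁻¹) := by
    rw [mul_inv_eq_iff_eq_mul] at key
    exact key
  rw [ha']
  calc (x' * y' * x'⁻¹ * y'⁻¹) * c⁻¹ * b = (x' * y' * x'⁻¹ * y'⁻¹) * (c⁻¹ * b) := by group
    _ = (x' * y' * x'⁻¹ * y'⁻¹) * (b * c⁻¹) := by rw [((show Commute b c from hcomm b).inv_right).eq]
    _ = ((x' * y' * x'⁻¹ * y'⁻¹) * b) * c⁻¹ := by group
    _ = (b * (x' * y' * x'⁻¹ * y'⁻¹)) * c⁻¹ := by rw [h4]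
    _ = b * ((x' * y' * x'⁻¹ * y'⁻¹) * c⁻¹) := by group

/-- The lifts of the elements of a root group with all scalars commute. -/
theorem LC.of_scalars {F : Type w} [Field F] {X : F → K} (hX : ∀ t u, X (t + u) = X t * X u)
    (hh : ∀ u : F, u ≠ 0 → ∃ h : K, ∀ t, h * X t * h⁻¹ = X (u * t)) (s t : F) : LC.{u, v} (X s) (X t) := by
  intro L _ π hπ a b ha hb
  have hXc : ∀ t u, X t * X u = X u * X t := fun t u => by rw [← hX, ← hX, add_comm]
  choose x' hx' using fun t => hπ.surj (X t)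
  -- the commutator of lifts
  have key : ∀ (a a' b b' : L), π a = π a' → π b = π b' → a * b * a⁻¹ * b⁻¹ = a' * b' * a'⁻¹ * b'⁻¹ := by
    intro a a' b b' h1 h2
    have h3 : π (a'⁻¹ * a) = 1 := by rw [map_mul, map_inv, h1, inv_mul_cancel]
    have h4 : π (b'⁻¹ * b) = 1 := by rw [map_mul, map_inv, h2, inv_mul_cancel]
    obtain ⟨z, hz, rfl⟩ : ∃ z, π z = 1 ∧ a = a' * z := ⟨a'⁻¹ * a, h3, by group⟩
    obtain ⟨w, hw, rfl⟩ : ∃ w, π w = 1 ∧ b = b' * w := ⟨b'⁻¹ * b, h4, by group⟩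
    have cz := fun t => (show Commute t z from hπ.comm hz t)
    have cw := fun t => (show Commute t w from hπ.comm hw t)
    calc a' * z * (b' * w) * (a' * z)⁻¹ * (b' * w)⁻¹
        = a' * (z * b') * (w * z⁻¹) * a'⁻¹ * (w⁻¹ * b'⁻¹) := by group
      _ = a' * (b' * z) * (z⁻¹ * w) * a'⁻¹ * (w⁻¹ * b'⁻¹) := by rw [(cz b').eq, ((cz w).inv_right).eq]
      _ = a' * b' * (w * a'⁻¹) * (w⁻¹ * b'⁻¹) := by group
      _ = a' * b' * (a'⁻¹ * w) * (w⁻¹ * b'⁻¹) := by rw [(cw a'⁻¹).eq]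
      _ = a' * b' * a'⁻¹ * b'⁻¹ := by group
  have hc1 : ∀ s t, π (x' s * x' t * (x' s)⁻¹ * (x' t)⁻¹) = 1 := by
    intro s t
    rw [map_mul, map_mul, map_mul, map_inv, map_inv, hx', hx', hXc]; group
  have hcz : ∀ s t g, g * (x' s * x' t * (x' s)⁻¹ * (x' t)⁻¹) = (x' s * x' t * (x' s)⁻¹ * (x' t)⁻¹) * g :=
    fun s t g => hπ.comm (hc1 s t) g
  have h0 := HeisLift.alt_zero (F := F) (fun s t => x' s * x' t * (x' s)⁻¹ * (x' t)⁻¹)
    (fun s t h => hπ.eq_one (hc1 s t) h) (fun s t s' t' => (hcz s t _).symm)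
    (fun s s' t => by
      have h1 := key (x' (s + s')) (x' s * x' s') (x' t) (x' t) (by rw [map_mul, hx', hx', hx', hX]) rfl
      show x' (s + s') * x' t * (x' (s + s'))⁻¹ * (x' t)⁻¹ = _
      rw [h1]
      calc x' s * x' s' * x' t * (x' s * x' s')⁻¹ * (x' t)⁻¹
          = (x' s * (x' s' * x' t * (x' s')⁻¹ * (x' t)⁻¹)) * x' t * (x' s)⁻¹ * (x' t)⁻¹ := by group
        _ = (x' s' * x' t * (x' s')⁻¹ * (x' t)⁻¹ * x' s) * x' t * (x' s)⁻¹ * (x' t)⁻¹ := by rw [hcz s' t (x' s)]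
        _ = (x' s' * x' t * (x' s')⁻¹ * (x' t)⁻¹) * (x' s * x' t * (x' s)⁻¹ * (x' t)⁻¹) := by group
        _ = _ := (hcz s' t _).symm)
    (fun s t t' => by
      have h1 := key (x' s) (x' s) (x' (t + t')) (x' t * x' t') rfl (by rw [map_mul, hx', hx', hx', hX])
      show x' s * x' (t + t') * (x' s)⁻¹ * (x' (t + t'))⁻¹ = _
      rw [h1]
      calc x' s * (x' t * x' t') * (x' s)⁻¹ * (x' t * x' t')⁻¹
          = (x' s * x' t * (x' s)⁻¹ * (x' t)⁻¹) * (x' t * (x' s * x' t' * (x' s)⁻¹ * (x' t')⁻¹)) * (x' t)⁻¹ := by group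
        _ = (x' s * x' t * (x' s)⁻¹ * (x' t)⁻¹) * ((x' s * x' t' * (x' s)⁻¹ * (x' t')⁻¹) * x' t) * (x' t)⁻¹ := by
            rw [hcz s t' (x' t)]
        _ = (x' s * x' t * (x' s)⁻¹ * (x' t)⁻¹) * (x' s * x' t' * (x' s)⁻¹ * (x' t')⁻¹) := by group)
    (fun s => by group)
    (fun u hu s t => by
      obtain ⟨h, hh⟩ := hh u hu
      obtain ⟨h', rfl⟩ := hπ.surj h
      have h1 := key (x' (u * s)) (h' * x' s * h'⁻¹) (x' (u * t)) (h' * x' t * h'⁻¹)
        (by rw [map_mul, map_mul, map_inv, hx', hx', hh]) (by rw [map_mul, map_mul, map_inv, hx', hx', hh])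
      show x' (u * s) * x' (u * t) * (x' (u * s))⁻¹ * (x' (u * t))⁻¹ = _
      rw [h1]
      calc h' * x' s * h'⁻¹ * (h' * x' t * h'⁻¹) * (h' * x' s * h'⁻¹)⁻¹ * (h' * x' t * h'⁻¹)⁻¹
          = h' * (x' s * x' t * (x' s)⁻¹ * (x' t)⁻¹) * h'⁻¹ := by group
        _ = (x' s * x' t * (x' s)⁻¹ * (x' t)⁻¹) * h' * h'⁻¹ := by rw [hcz s t h']
        _ = _ := by group) s t
  have h1 := key a (x' s) b (x' t) (by rw [ha, hx']) (by rw [hb, hx'])
  have h2 : a * b * a⁻¹ * b⁻¹ = 1 := by rw [h1]; exact h0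
  calc a * b = (a * b * a⁻¹ * b⁻¹) * (b * a) := by group
    _ = b * a := by rw [h2, one_mul]

end tools

end Cfsg.Agent.Omega.Lie.HeisF

namespace Cfsg.Agent.Omega.ML.GTwoLB

open Cfsg Cfsg.Lie Cfsg.Agent.Omega.Lie.HeisF Cfsg.Agent.Omega.Lie
open Cfsg.Agent.Omega.TwoF.GTwoLB hiding lb

variable {F : Type u} [Field F]

theorem c11_9 (t u : F) : X 11 t * X 9 u = X 9 u * X 11 t :=
  rel0 (r := 9) (s := 11) (by norm_num) (by norm_num) (by decide) (by decide) (by decide +kernel) u t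

theorem c11_8 (t u : F) : X 11 t * X 8 u = X 8 u * X 11 t :=
  rel0 (r := 8) (s := 11) (by norm_num) (by norm_num) (by decide) (by decide) (by decide +kernel) u t

theorem c6_9 (t u : F) : X 6 t * X 9 u = X 9 u * X 6 t :=
  rel0 (r := 9) (s := 6) (by norm_num) (by norm_num) (by decide) (by decide) (by decide +kernel) u t

theorem c10_9 (t u : F) : X 10 t * X 9 u = X 9 u * X 10 t :=
  rel0 (r := 9) (s := 10) (by norm_num) (by norm_num) (by decide) (by decide) (by decide +kernel) u t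

theorem c8_6 (t u : F) : X 8 t * X 6 u = X 6 u * X 8 t :=
  rel0 (r := 6) (s := 8) (by norm_num) (by norm_num) (by decide) (by decide) (by decide +kernel) u t

/-- `[x_8(t), x_9(u)] = x_11(3 t u)` up to sign -/
theorem conj8_9 (t u : F) : X 8 t * X 9 u * (X 8 t)⁻¹ = X 9 u * X 11 (3 * t * u) := by
  have h := rel1 (r := 8) (s := 9) (k := 11) (c := 3) (by norm_num) (by norm_num) (by decide) (by decide)
    (by decide +kernel) t u
  rw [mul_inv_eq_iff_eq_mul, mul_assoc, c11_8, ← mul_assoc, h]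
  rw [mul_assoc (X 8 t * X 9 u), ← X_add]
  have e : ((3 : ℤ) : F) * -t * u + 3 * t * u = 0 := by push_cast; ring
  rw [e, TwoF.GTwoLB.X_zero, mul_one]

theorem lc11_9 (t u : F) : LC.{u, v} (X 11 t) (X 9 u) :=
  LC.of_inv (s := T F 1) (c11_9 t u) (T_inv (by norm_num) (by norm_num) (by decide) t)
    (T_fix (by norm_num) (by norm_num) (by decide) u)

/-- `X_9` is contained in the commutator subgroup of the centraliser of `X_6` (`q ≥ 5`) -/
theorem lc9_6 (hF : ∃ x : F, x ≠ 0 ∧ x ^ 2 ≠ 1) (t u : F) : LC.{u, v} (X 9 t) (X 6 u) := by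
  obtain ⟨x, hx, hx2⟩ := hF
  set h : ↥(chevG2.group F) := H 0 (x ^ 2) * H 1 (x ^ 3) with hh
  have h9 : ∀ t : F, h * X 9 t * h⁻¹ = X 9 (x ^ 2 * t) := by
    intro t
    have e : h * X 9 t * h⁻¹ = H 0 (x ^ 2) * (H 1 (x ^ 3) * X 9 t * (H 1 (x ^ 3))⁻¹) * (H 0 (x ^ 2))⁻¹ := by
      rw [hh]; group
    rw [e, H_conj (by norm_num) (by norm_num) (pow_ne_zero 3 hx),
      H_conj (by norm_num) (by norm_num) (pow_ne_zero 2 hx)]
    have e1 : chevG2.cartan 1 9 = 0 := by decide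
    have e2 : chevG2.cartan 0 9 = 1 := by decide
    rw [e1, e2, zpow_zero, one_mul, zpow_one]
  have h6 : h * X 6 u * h⁻¹ = X 6 u := by
    have e : h * X 6 u * h⁻¹ = H 0 (x ^ 2) * (H 1 (x ^ 3) * X 6 u * (H 1 (x ^ 3))⁻¹) * (H 0 (x ^ 2))⁻¹ := by
      rw [hh]; group
    rw [e, H_conj (by norm_num) (by norm_num) (pow_ne_zero 3 hx),
      H_conj (by norm_num) (by norm_num) (pow_ne_zero 2 hx)]
    have e1 : chevG2.cartan 1 6 = 2 := by decide
    have e2 : chevG2.cartan 0 6 = -3 := by decide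
    congr 1
    rw [e1, e2, ← mul_assoc]
    have e3 : (x ^ 2) ^ (-3 : ℤ) * (x ^ 3) ^ (2 : ℤ) = 1 := by
      rw [show ((x ^ 3) ^ (2 : ℤ)) = (x ^ 2) ^ (3 : ℤ) by
        rw [zpow_ofNat, zpow_ofNat, ← pow_mul, ← pow_mul], ← zpow_add₀ (pow_ne_zero 2 hx)]
      norm_num
    rw [e3, one_mul]
  have h1 : x ^ 2 - 1 ≠ 0 := sub_ne_zero.2 hx2
  have h2 : X 9 t = h * X 9 ((x ^ 2 - 1)⁻¹ * t) * h⁻¹ * (X 9 ((x ^ 2 - 1)⁻¹ * t))⁻¹ := by
    rw [h9, ← X_neg, ← X_add]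
    congr 1
    field_simp
    ring
  rw [h2]
  exact LC.of_commutator ((mul_inv_eq_iff_eq_mul).1 h6) (c6_9 u _).symm

theorem lc9_9 (t u : F) : LC.{u, v} (X 9 t) (X 9 u) :=
  LC.of_scalars (X := X (F := F) 9) (X_add 9) (fun c hc => ⟨H 0 c, fun t => by
    rw [H_conj (by norm_num) (by norm_num) hc]
    have e2 : chevG2.cartan 0 9 = 1 := by decide
    rw [e2, zpow_one]⟩) t u

/-- **The lower bound** `ord_p(2) q²` for `G₂(q)` in all odd covers, `p ≥ 5`. -/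
theorem lb [Finite F] {p : ℕ} [Fact p.Prime] [CharP F p] (hp2 : p ≠ 2) (hp3 : p ≠ 3)
    [IsSimpleGroup ↥(chevG2.group F)] :
    Heis.LB.{u, v, w} ↥(chevG2.group F) (orderOf (2 : ZMod p) * Nat.card F ^ 2) := by
  have hx : ∃ x : F, x ≠ 0 ∧ x ^ 2 ≠ 1 := by
    have h2 : (2 : F) ≠ 0 := by
      intro h
      have h3 : ((2 : ℕ) : F) = 0 := by exact_mod_cast h
      rw [CharP.cast_eq_zero_iff F p] at h3
      exact hp2 ((Nat.prime_dvd_prime_iff_eq Fact.out Nat.prime_two).1 h3)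
    refine ⟨2, h2, fun h => ?_⟩
    have h3 : ((3 : ℕ) : F) = 0 := by
      have e : (3 : F) = 2 ^ 2 - 1 := by norm_num
      push_cast
      rw [e, h, sub_self]
    rw [CharP.cast_eq_zero_iff F p] at h3
    exact hp3 ((Nat.prime_dvd_prime_iff_eq Fact.out Nat.prime_three).1 h3)
  have h3 : (3 : F) ≠ 0 := by
    intro h
    have h3 : ((3 : ℕ) : F) = 0 := by exact_mod_cast h
    rw [CharP.cast_eq_zero_iff F p] at h3
    exact hp3 ((Nat.prime_dvd_prime_iff_eq Fact.out Nat.prime_three).1 h3)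
  have key : ∀ P : Fin 2 → Prop, P 0 → P 1 → ∀ j, P j := by
    intro P h0 h1 j
    fin_cases j
    · exact h0
    · exact h1
  have hH : FH p 2 (X (F := F) 11) ![X 6, X 9] ![X 10, X 8] ![(-1 : F), 3] :=
    { add := X_add 11
      A_pow := key _ (fun t => by
          show X 6 t ^ p = 1
          rw [TwoF.GTwoLB.X_pow, CharP.cast_eq_zero, zero_mul, TwoF.GTwoLB.X_zero]) (fun t => by
          show X 9 t ^ p = 1
          rw [TwoF.GTwoLB.X_pow, CharP.cast_eq_zero, zero_mul, TwoF.GTwoLB.X_zero])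
      XA := key _ (fun t u => c11_6 t u) (fun t u => c11_9 t u)
      XB := key _ (fun t u => c11_10 t u) (fun t u => c11_8 t u)
      AA := key _ (key _ (fun t u => X_comm 6 t u) (fun t u => c6_9 t u))
        (key _ (fun t u => (c6_9 u t).symm) (fun t u => X_comm 9 t u))
      BA := key _ (key _ (fun h => absurd rfl h) (fun _ t u => c10_9 t u))
        (key _ (fun _ t u => c8_6 t u) (fun h => absurd rfl h))
      conj := key _ (fun t u => conj10_6 t u) (fun t u => conj8_9 t u)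
      c_ne := key _ (neg_ne_zero.2 one_ne_zero) h3 }
  have hs : ∀ (i : ℕ) (t : F), T F 0 * T F 1 * X i t * (T F 0 * T F 1)⁻¹ =
      T F 0 * (T F 1 * X i t * (T F 1)⁻¹) * (T F 0)⁻¹ := fun i t => by group
  exact LB.fh.{u, v, w} hp2 hH (s := T F 0 * T F 1)
    (fun t => by
      rw [hs, T_inv (by norm_num) (by norm_num) (by decide), ← X_neg, T_fix (by norm_num) (by norm_num) (by decide)])
    (key _ (fun t => by
        show T F 0 * T F 1 * X 6 t * (T F 0 * T F 1)⁻¹ = (X 6 t)⁻¹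
        rw [hs, T_fix (by norm_num) (by norm_num) (by decide), T_inv (by norm_num) (by norm_num) (by decide)])
      (fun t => by
        show T F 0 * T F 1 * X 9 t * (T F 0 * T F 1)⁻¹ = (X 9 t)⁻¹
        rw [hs, T_fix (by norm_num) (by norm_num) (by decide), T_inv (by norm_num) (by norm_num) (by decide)]))
    (key _ (fun t => by
        show T F 0 * T F 1 * X 10 t * (T F 0 * T F 1)⁻¹ = X 10 t
        rw [hs, T_inv (by norm_num) (by norm_num) (by decide), ← X_neg,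
          T_inv (by norm_num) (by norm_num) (by decide), ← X_neg, neg_neg])
      (fun t => by
        show T F 0 * T F 1 * X 8 t * (T F 0 * T F 1)⁻¹ = X 8 t
        rw [hs, T_inv (by norm_num) (by norm_num) (by decide), ← X_neg,
          T_inv (by norm_num) (by norm_num) (by decide), ← X_neg, neg_neg]))
    lc11_11 (key _ (fun t u => lc11_6 t u) (fun t u => lc11_9 t u))
    (key _ (key _ (fun t u => lc6_6 t u) (fun t u => (lc9_6 hx u t).symm))
      (key _ (fun t u => lc9_6 hx t u) (fun t u => lc9_9 t u)))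
    ⟨1, fun h => one_ne_zero ((X_eq_one (by norm_num)).1 h)⟩

end Cfsg.Agent.Omega.ML.GTwoLB
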