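import Cfsg.Agent.Omega.ML.Num
import Cfsg.Agent.Omega.ML.InvRow

set_option autoImplicit false

/-!
# (ML), the K-list end: rows killed by generation (helper130)

`|M| ≤ 2 ^ ((a - 1) m)` if `|A| ≤ 2 ^ a` and `m` conjugates of some `x ∈ A ∩ K` generate `K` modulo its centre.
-/

namespace Cfsg.Agent.Omega.ML.GenRow

open Subgroup Cfsg Cfsg.Agent.ZN Cfsg.Agent.Omega.NOThree.NoOver Cfsg.Agent.Omega.ML.CD
open Cfsg.Agent.Omega.ML.Rows Cfsg.Agent.Omega.ML.InvChain Cfsg.Agent.Omega.TwoF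
open Cfsg.Agent.ClassTwoFusion.Quad Cfsg.Agent.Omega.Lie
open scoped commutatorElement

universe u v

/-- a subgroup covering a perfect group modulo the centre is the whole group -/
theorem eq_top_of_map {G : Type*} [Group G] (hG : _root_.commutator G = ⊤) {X : Subgroup G}
    (hX : X.map (QuotientGroup.mk' (center G)) = ⊤) : X = ⊤ := by
  have key : ∀ g : G, ∃ x ∈ X, ∃ z ∈ center G, g = x * z := by
    intro g
    have h1 : QuotientGroup.mk' (center G) g ∈ X.map (QuotientGroup.mk' (center G)) := by rw [hX]; exact mem_top _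
    obtain ⟨x, hx, hxg⟩ := h1
    exact ⟨x, hx, x⁻¹ * g, QuotientGroup.eq.1 hxg, by group⟩
  rw [eq_top_iff, ← hG, commutator_def, commutator_le]
  intro a _ b _
  obtain ⟨x, hx, z, hz, rfl⟩ := key a
  obtain ⟨y, hy, w, hw, rfl⟩ := key b
  have hz' := fun g => (mem_center_iff.1 hz g).symm
  have hw' := fun g => (mem_center_iff.1 hw g).symm
  have h1 : ⁅x * z, y * w⁆ = ⁅x, y⁆ := by
    rw [commutatorElement_def, commutatorElement_def]
    calc x * z * (y * w) * (x * z)⁻¹ * (y * w)⁻¹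
        = x * (z * y) * w * z⁻¹ * x⁻¹ * w⁻¹ * y⁻¹ := by group
      _ = x * (y * z) * w * z⁻¹ * x⁻¹ * w⁻¹ * y⁻¹ := by rw [hz' y]
      _ = x * y * (z * w) * z⁻¹ * x⁻¹ * w⁻¹ * y⁻¹ := by group
      _ = x * y * (w * z) * z⁻¹ * x⁻¹ * w⁻¹ * y⁻¹ := by rw [hz' w]
      _ = x * y * (w * x⁻¹) * w⁻¹ * y⁻¹ := by group
      _ = x * y * (x⁻¹ * w) * w⁻¹ * y⁻¹ := by rw [hw' x⁻¹]
      _ = x * y * x⁻¹ * y⁻¹ := by group
  rw [h1]
  exact mul_mem (mul_mem (mul_mem hx hy) (inv_mem hx)) (inv_mem hy)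

variable {H : Type u} [Group H] [Finite H] {M : Type v} [Group M] [Finite M] [MulDistribMulAction H M]
  {K T A : Subgroup H}

omit [Finite H] [Finite M] in
/-- `C_M(K) = 1` -/
theorem cv_eq_bot (h : In H M K T A) : cv M (K : Set H) = ⊥ := by
  have hN := h.norm
  rcases h.irr (cv M (K : Set H)) (fun g w hw => by
    intro k hk
    have h1 : g⁻¹ * k * g ∈ K := by
      have h2 := hN.conj_mem k hk g⁻¹
      rwa [inv_inv] at h2
    have h3 := hw _ h1
    have e : k • g • w = g • (g⁻¹ * k * g) • w := by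
      rw [smul_smul, smul_smul]
      congr 1
      group
    rw [e, h3]) with h1 | h1
  · exact h1
  · exfalso
    have h2 : ∀ k : K, k = 1 := by
      intro k
      apply Subtype.ext
      apply h.faith
      intro m
      have h3 : m ∈ cv M (K : Set H) := by rw [h1]; exact mem_top m
      exact h3 k k.2
    have h3 : IsSimpleGroup (K ⧸ center K) := h.qs.2
    obtain ⟨x, hx⟩ := exists_ne (1 : K ⧸ center K)
    obtain ⟨k, rfl⟩ := QuotientGroup.mk_surjective x
    exact hx (by rw [h2 k]; rfl)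

omit [Finite H] [Finite M] in
/-- `|M| ≤ d ^ m` -/
theorem card_le_pow (h : In H M K T A) {m d : ℕ} (f : Fin m → H) (hf : ∀ i, (cv M ({f i} : Set H)).index ≤ d)
    (hgen : K ≤ closure (Set.range f)) : Nat.card M ≤ d ^ m := by
  have h1 : (⨅ i, cv M ({f i} : Set H)) = ⊥ := by
    rw [eq_bot_iff, ← cv_eq_bot h]
    intro w hw k hk
    have h2 : ∀ i, f i • w = w := fun i => by
      have h3 : w ∈ cv M ({f i} : Set H) := (mem_iInf.1 hw) i
      exact h3 _ rfl
    have h3 : closure (Set.range f) ≤ MulAction.stabilizer H w := by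
      rw [closure_le]
      rintro _ ⟨i, rfl⟩
      exact h2 i
    exact h3 (hgen hk)
  calc Nat.card M = (⨅ i, cv M ({f i} : Set H)).index := by rw [h1, index_bot]
    _ ≤ ∏ i, (cv M ({f i} : Set H)).index := index_iInf_le _
    _ ≤ ∏ _i : Fin m, d := Finset.prod_le_prod' fun i _ => hf i
    _ = d ^ m := by rw [Finset.prod_const, Finset.card_univ, Fintype.card_fin]

/-- `|M : C_M(x)| ≤ 2 ^ (a - 1)` -/
theorem index_le_pow (h : In H M K T A) {a : ℕ} (ha : Nat.card A ≤ 2 ^ a) {x : H} (hx : x ∈ A) :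
    (cv M ({x} : Set H)).index ≤ 2 ^ (a - 1) := by
  have hA : A ≠ ⊥ := by
    rintro rfl
    have := h.eight
    rw [card_bot] at this
    omega
  have h1 := InvFrob.lt_card h.strict hA hx
  obtain ⟨k, hk⟩ := InvFrob.index_pow h.sq (cv M ({x} : Set H))
  rw [hk] at h1 ⊢
  have h2 : k < a := (Nat.pow_lt_pow_iff_right (by norm_num : 1 < 2)).1 (h1.trans_le ha)
  exact Nat.pow_le_pow_right (by norm_num) (by omega)

/-- **Kill by generation.** -/
theorem false_of_gen (h : In H M K T A) {n a m : ℕ} (hl : Heis.LB.{u, u, v} (K ⧸ center K) n)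
    (ha : Nat.card A ≤ 2 ^ a) {x : K} (hxA : (x : H) ∈ A)
    (hx : ∃ f : Fin m → K ⧸ center K, closure (Set.range f) = ⊤ ∧ ∀ i, ∃ c, f i = c * (x : K ⧸ center K) * c⁻¹)
    (hn : (a - 1) * m < n) : False := by
  obtain ⟨f, hf, hc⟩ := hx
  choose c hc using hc
  have hcl : ∀ i, ∃ k : K, (k : K ⧸ center K) = c i := fun i => QuotientGroup.mk_surjective (c i)
  choose k hk using hcl
  have h1 : closure (Set.range fun i => k i * x * (k i)⁻¹) = ⊤ := by
    apply eq_top_of_map (Num.perf h)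
    rw [MonoidHom.map_closure, ← Set.range_comp, ← hf]
    congr 1
    ext y
    simp only [Set.mem_range, Function.comp_apply, QuotientGroup.mk'_apply, QuotientGroup.mk_mul,
      QuotientGroup.mk_inv, hk, ← hc]
  have h2 : K ≤ closure (Set.range fun i => ((k i * x * (k i)⁻¹ : K) : H)) := by
    have h3 := congrArg (Subgroup.map K.subtype) h1
    rw [MonoidHom.map_closure, ← Set.range_comp, ← MonoidHom.range_eq_map, range_subtype] at h3
    exact le_of_eq h3.symm
  have h3 := card_le_pow h (fun i => ((k i * x * (k i)⁻¹ : K) : H)) (d := 2 ^ (a - 1)) (fun i => by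
    have e : ((k i * x * (k i)⁻¹ : K) : H) = (k i : H) * x * (k i : H)⁻¹ := rfl
    rw [e, InvFrob.index_cv_conj]
    exact index_le_pow h ha hxA) h2
  have h4 := Num.lb_le h hl
  rw [← pow_mul] at h3
  have h5 := (Nat.pow_le_pow_iff_right (by norm_num : 1 < 2)).1 (h4.trans h3)
  omega

end Cfsg.Agent.Omega.ML.GenRow
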