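import Cfsg.Agent.FixBN.HeCent

/-!
# `H⁴` inverts the centre `⟨Z⟩` of the Sylow 7-subgroup `7^{1+2}` of the Held group (helper40)
-/

set_option autoImplicit false

namespace Cfsg.Agent.Omega.ML.HeInv

open Cfsg.Agent.FixBN.HeCent

theorem conj_P₂ : MulAut.conj H P₂ = Z := by
  rw [MulAut.conj_apply, H_P₂, mul_inv_cancel_right]

theorem conj_Z : MulAut.conj H Z = P₂ ^ 6 * Z ^ 3 := by
  rw [MulAut.conj_apply, H_Z, mul_inv_cancel_right]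

theorem pow_mod {a : Cfsg.Spor.He} (h : a ^ 7 = 1) (i : ℕ) : a ^ i = a ^ (i % 7) := by
  conv_lhs => rw [← Nat.div_add_mod i 7, pow_add, pow_mul, h, one_pow, one_mul]

/-- the action of `H` on `⟨P₂, Z⟩` -/
theorem conj_el (i j : ℕ) : MulAut.conj H (P₂ ^ i * Z ^ j) = P₂ ^ (6 * j % 7) * Z ^ ((i + 3 * j) % 7) := by
  have h0 : Commute P₂ Z := comm_P₂_Z
  have h1 : (P₂ ^ 6 * Z ^ 3) ^ j = P₂ ^ (6 * j) * Z ^ (3 * j) := by
    rw [(h0.pow_pow 6 3).mul_pow, ← pow_mul, ← pow_mul]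
  rw [← pow_mod P₂_pow, ← pow_mod Z_pow, map_mul, map_pow, map_pow, conj_P₂, conj_Z, h1, ← mul_assoc,
    (h0.pow_pow (6 * j) i).symm.eq, mul_assoc, ← pow_add]

theorem conj_four (i j : ℕ) : H ^ 4 * (P₂ ^ i * Z ^ j) * (H ^ 4)⁻¹ = MulAut.conj H (MulAut.conj H (MulAut.conj H
    (MulAut.conj H (P₂ ^ i * Z ^ j)))) := by
  simp only [MulAut.conj_apply]
  have e : (H ^ 4 : Cfsg.Spor.He) = H * H * H * H := by
    rw [pow_succ, pow_succ, pow_succ, pow_one]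
  rw [e]; group

theorem inv_of {a b : Cfsg.Spor.He} (h : a ^ 7 = 1) (hb : b = a ^ 6) : b = a⁻¹ := by
  rw [hb, eq_inv_iff_mul_eq_one, ← pow_succ]
  exact h

/-- **`H⁴` inverts `Z`.** -/
theorem inv_Z : H ^ 4 * Z * (H ^ 4)⁻¹ = Z⁻¹ := by
  refine inv_of Z_pow ?_
  have h1 := conj_four 0 1
  rw [conj_el, conj_el, conj_el, conj_el] at h1
  simpa using h1

/-- **`H⁴` inverts `P₂`.** -/
theorem inv_P₂ : H ^ 4 * P₂ * (H ^ 4)⁻¹ = P₂⁻¹ := by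
  refine inv_of P₂_pow ?_
  have h1 := conj_four 1 0
  rw [conj_el, conj_el, conj_el, conj_el] at h1
  simpa using h1

end Cfsg.Agent.Omega.ML.HeInv
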