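import Cfsg.Agent.Omega.Lie.HeisOdd

/-!
# The doubled Heisenberg bound for the prime 7 (helper728)

`z, x, y` a Heisenberg configuration for `7` and `s` inverts `z`: on a faithful `F_2`-module both factors
`t³ + t + 1`, `t³ + t² + 1` of the cyclotomic polynomial occur, `|V| ≥ 2 ^ (2 * 3 * 7)`.

* `two_pow_double` : additive form, `n` pairs;
* `LC.of_two` : `d` centralises `g` and `g' ^ d = g' ^ 2`: all lifts of `g`, `g'` commute;
* `LB.seven` : `LB K 42`.
-/

set_option autoImplicit false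

namespace Cfsg.Agent.Omega.ML.HeisSeven

open Cfsg.Agent.Omega.Lie.Heis Cfsg.Agent.Omega.Lie.HeisF

universe u v w

section add

variable {E A : Type*} [Group E] [AddCommGroup A] [DistribMulAction E A]

/-- the kernel of `z³ + z + 1` -/
def kf (z : E) : AddSubgroup A where
  carrier := {v | z • z • z • v + z • v + v = 0}
  zero_mem' := by simp
  add_mem' := by
    intro v w hv hw
    show z • z • z • (v + w) + z • (v + w) + (v + w) = 0
    have hv' : z • z • z • v + z • v + v = 0 := hv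
    have hw' : z • z • z • w + z • w + w = 0 := hw
    have : z • z • z • (v + w) + z • (v + w) + (v + w) = (z • z • z • v + z • v + v) + (z • z • z • w + z • w + w) := by
      simp only [smul_add]; abel
    rw [this, hv', hw', add_zero]
  neg_mem' := by
    intro v hv
    show z • z • z • (-v) + z • (-v) + (-v) = 0
    have hv' : z • z • z • v + z • v + v = 0 := hv
    have : z • z • z • (-v) + z • (-v) + (-v) = -(z • z • z • v + z • v + v) := by
      simp only [smul_neg]; abel
    rw [this, hv', neg_zero]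

/-- the kernel of `z³ + z² + 1` -/
def kg (z : E) : AddSubgroup A where
  carrier := {v | z • z • z • v + z • z • v + v = 0}
  zero_mem' := by simp
  add_mem' := by
    intro v w hv hw
    show z • z • z • (v + w) + z • z • (v + w) + (v + w) = 0
    have hv' : z • z • z • v + z • z • v + v = 0 := hv
    have hw' : z • z • z • w + z • z • w + w = 0 := hw
    have : z • z • z • (v + w) + z • z • (v + w) + (v + w) =
        (z • z • z • v + z • z • v + v) + (z • z • z • w + z • z • w + w) := by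
      simp only [smul_add]; abel
    rw [this, hv', hw', add_zero]
  neg_mem' := by
    intro v hv
    show z • z • z • (-v) + z • z • (-v) + (-v) = 0
    have hv' : z • z • z • v + z • z • v + v = 0 := hv
    have : z • z • z • (-v) + z • z • (-v) + (-v) = -(z • z • z • v + z • z • v + v) := by
      simp only [smul_neg]; abel
    rw [this, hv', neg_zero]

theorem mem_kf {z : E} {v : A} : v ∈ kf z ↔ z • z • z • v + z • v + v = 0 := Iff.rfl

theorem mem_kg {z : E} {v : A} : v ∈ kg z ↔ z • z • z • v + z • z • v + v = 0 := Iff.rfl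

theorem eq_of_add {v w : A} (h2 : ∀ v : A, v + v = 0) (h : v + w = 0) : v = w := by
  have h1 : v + w = w + w := by rw [h, h2]
  exact add_right_cancel h1

theorem kf_comm {z g : E} (hg : z * g = g * z) {v : A} (hv : v ∈ kf z) : g • v ∈ kf z := by
  rw [mem_kf] at hv ⊢
  have h1 : ∀ w : A, z • g • w = g • z • w := fun w => by rw [smul_smul, hg, mul_smul]
  rw [h1, h1, h1, ← smul_add, ← smul_add, hv, smul_zero]

theorem kg_comm {z g : E} (hg : z * g = g * z) {v : A} (hv : v ∈ kg z) : g • v ∈ kg z := by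
  rw [mem_kg] at hv ⊢
  have h1 : ∀ w : A, z • g • w = g • z • w := fun w => by rw [smul_smul, hg, mul_smul]
  rw [h1, h1, h1, ← smul_add, ← smul_add, hv, smul_zero]

/-- an element inverting `z` interchanges the two kernels -/
theorem swap {z s : E} (sz : s * z * s⁻¹ = z⁻¹) {v : A} (hv : v ∈ kf z) : s • v ∈ kg z := by
  rw [mem_kf] at hv
  rw [mem_kg]
  have h0 : z * s = s * z⁻¹ := by
    have : s * z = z⁻¹ * s := by rw [← sz]; group
    calc z * s = z * (z⁻¹ * s) * z⁻¹ * (z * s⁻¹ * z * s) := by group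
      _ = z * (z⁻¹ * s) * z⁻¹ * (z * (s⁻¹ * z * s)) := by group
      _ = s * z⁻¹ := by
          have h1 : s⁻¹ * z * s = z⁻¹ := by
            have h2 : z⁻¹ * s * z⁻¹ = s := by rw [← this]; group
            calc s⁻¹ * z * s = s⁻¹ * z * (z⁻¹ * s * z⁻¹) := by rw [h2]
              _ = z⁻¹ := by group
          rw [h1]; group
  have h1 : ∀ w : A, z • s • w = s • z⁻¹ • w := fun w => by rw [smul_smul, h0, mul_smul]
  rw [h1, h1, h1, ← smul_add, ← smul_add]
  have h3 : z⁻¹ • z⁻¹ • z⁻¹ • v + z⁻¹ • z⁻¹ • v + v = z⁻¹ • z⁻¹ • z⁻¹ • (z • z • z • v + z • v + v) := by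
    simp only [smul_add, inv_smul_smul]
    abel
  rw [h3, hv, smul_zero, smul_zero, smul_zero, smul_zero]

theorem swap' {z s : E} (sz : s * z * s⁻¹ = z⁻¹) {v : A} (hv : v ∈ kg z) : s • v ∈ kf z := by
  rw [mem_kg] at hv
  rw [mem_kf]
  have h0 : z * s = s * z⁻¹ := by
    have : s * z = z⁻¹ * s := by rw [← sz]; group
    have h2 : z⁻¹ * s * z⁻¹ = s := by rw [← this]; group
    calc z * s = z * (z⁻¹ * s * z⁻¹) := by rw [h2]
      _ = s * z⁻¹ := by group
  have h1 : ∀ w : A, z • s • w = s • z⁻¹ • w := fun w => by rw [smul_smul, h0, mul_smul]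
  rw [h1, h1, h1, ← smul_add, ← smul_add]
  have h3 : z⁻¹ • z⁻¹ • z⁻¹ • v + z⁻¹ • v + v = z⁻¹ • z⁻¹ • z⁻¹ • (z • z • z • v + z • z • v + v) := by
    simp only [smul_add, inv_smul_smul]
    abel
  rw [h3, hv, smul_zero, smul_zero, smul_zero, smul_zero]

theorem three (h2 : ∀ v : A, v + v = 0) (v : A) : v + v + v = v := by rw [h2, zero_add]

theorem kf_free (h2 : ∀ v : A, v + v = 0) {z : E} {v : A} (hv : v ∈ kf z) (hz : z • v = v) : v = 0 := by
  rw [mem_kf, hz, hz, hz, three h2] at hv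
  exact hv

theorem kg_free (h2 : ∀ v : A, v + v = 0) {z : E} {v : A} (hv : v ∈ kg z) (hz : z • v = v) : v = 0 := by
  rw [mem_kg, hz, hz, hz, three h2] at hv
  exact hv

theorem inter (h2 : ∀ v : A, v + v = 0) {z : E} {v : A} (hf : v ∈ kf z) (hg : v ∈ kg z) : v = 0 := by
  have h1 : z • v = z • z • v := by
    rw [mem_kf] at hf
    rw [mem_kg] at hg
    have h3 : z • z • z • v + z • v + v = z • z • z • v + z • z • v + v := hf.trans hg.symm
    exact add_left_cancel (add_right_cancel h3)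
  exact kf_free h2 hf (smul_left_cancel z h1).symm

/-- one of the kernels is not trivial -/
theorem exists_ne (h2 : ∀ v : A, v + v = 0) {z : E} (hz : z ^ 7 = 1) (hf : ∃ v : A, z • v ≠ v) :
    (kf z : AddSubgroup A) ≠ ⊥ ∨ (kg z : AddSubgroup A) ≠ ⊥ := by
  obtain ⟨v, hv⟩ := hf
  set w : A := z • v - v with hw
  have hw0 : w ≠ 0 := fun h => hv (sub_eq_zero.1 h)
  have hz7 : z • z • z • z • z • z • z • v = v := by
    have h1 : z ^ 7 • v = v := by rw [hz, one_smul]
    simp only [pow_succ, pow_zero, one_mul, mul_smul] at h1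
    exact h1
  by_cases hg : w ∈ kg z
  · right
    intro h
    rw [h] at hg
    exact hw0 hg
  · left
    intro h
    apply hg
    rw [mem_kg]
    have h3 : z • z • z • w + z • z • w + w ∈ (kf z : AddSubgroup A) := by
      rw [mem_kf]
      have e : z • z • z • (z • z • z • w + z • z • w + w) + z • (z • z • z • w + z • z • w + w) +
          (z • z • z • w + z • z • w + w) =
          (z • z • z • z • z • z • w + z • z • z • z • z • w + z • z • z • z • w + z • z • z • w + z • z • w +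
            z • w + w) + (z • z • z • w + z • z • z • w) := by
        simp only [smul_add]
        abel
      rw [e, h2, add_zero, hw]
      simp only [smul_sub]
      rw [hz7]
      abel
    rw [h] at h3
    exact h3

/-- `|B| ≥ 2 ^ (3 * 7 ^ n)` for a nontrivial subgroup `B` invariant under `C(z)` on which `z` acts freely -/
theorem card_ge [Finite A] (h2 : ∀ v : A, v + v = 0) {n : ℕ} {z : E} {x y : Fin n → E} (h : Heis 7 n z x y)
    {B : AddSubgroup A} (hB0 : B ≠ ⊥) (hB : ∀ g : E, z * g = g * z → ∀ v ∈ B, g • v ∈ B)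
    (hf : ∀ v ∈ B, z • v = v → v = 0) : 2 ^ (3 * 7 ^ n) ≤ Nat.card B := by
  obtain ⟨C, hC, hCi, hle⟩ := h.exists_sub hB0 hB (fun v _ hv => by
    have h3 : 7 • v = v := by
      have : (7 : ℕ) • v = (v + v) + (v + v) + (v + v) + v := by
        simp only [succ_nsmul, zero_nsmul, zero_add]
        abel
      rw [this, h2, zero_add, h2, zero_add]
    rw [← h3, hv]) hf
  have h6 := modEq_one h.prime h.zr (B := C)
    (fun v hv => (hCi _).2 ⟨hB z rfl _ ((hCi v).1 hv).1, fun i => by
      rw [smul_smul, ← h.zx i, mul_smul, ((hCi v).1 hv).2 i]⟩)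
    (fun v hv => hf v ((hCi v).1 hv).1)
  have hp : IsPGroup 2 (Multiplicative A) := fun g => ⟨1, by
    rw [pow_one, pow_two]
    exact congrArg Multiplicative.ofAdd (h2 (Multiplicative.toAdd g))⟩
  have : Fact (Nat.Prime 2) := ⟨Nat.prime_two⟩
  obtain ⟨m, hm⟩ := IsPGroup.iff_card.1 hp
  have hm' : Nat.card A = 2 ^ m := hm
  obtain ⟨k, -, hk⟩ := (Nat.dvd_prime_pow Nat.prime_two).1 (hm' ▸ AddSubgroup.card_addSubgroup_dvd_card C)
  have h7 : 3 ≤ k := by
    by_contra hcon
    push Not at hcon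
    rw [hk] at h6
    interval_cases k
    · exact hC (AddSubgroup.card_eq_one.1 (by rw [hk]; rfl))
    · exact absurd h6 (by decide)
    · exact absurd h6 (by decide)
  calc 2 ^ (3 * 7 ^ n) ≤ 2 ^ (k * 7 ^ n) := Nat.pow_le_pow_right (by norm_num) (Nat.mul_le_mul_right _ h7)
    _ = Nat.card C ^ 7 ^ n := by rw [hk, pow_mul]
    _ ≤ Nat.card B := hle

/-- **The doubled Heisenberg bound.** -/
theorem two_pow_double [Finite A] (h2 : ∀ v : A, v + v = 0) {n : ℕ} {z s : E} {x y : Fin n → E}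
    (h : Heis 7 n z x y) (sz : s * z * s⁻¹ = z⁻¹) (hf : ∃ v : A, z • v ≠ v) :
    2 ^ (2 * (3 * 7 ^ n)) ≤ Nat.card A := by
  have hne : (kf z : AddSubgroup A) ≠ ⊥ ∧ (kg z : AddSubgroup A) ≠ ⊥ := by
    have key1 : (kf z : AddSubgroup A) ≠ ⊥ → (kg z : AddSubgroup A) ≠ ⊥ := by
      intro h1 h3
      apply h1
      rw [AddSubgroup.eq_bot_iff_forall] at h3 ⊢
      intro v hv
      have := h3 _ (swap sz hv)
      rwa [smul_eq_zero_iff_eq] at this
    have key2 : (kg z : AddSubgroup A) ≠ ⊥ → (kf z : AddSubgroup A) ≠ ⊥ := by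
      intro h1 h3
      apply h1
      rw [AddSubgroup.eq_bot_iff_forall] at h3 ⊢
      intro v hv
      have := h3 _ (swap' sz hv)
      rwa [smul_eq_zero_iff_eq] at this
    rcases exists_ne h2 h.zr hf with h1 | h1
    · exact ⟨h1, key1 h1⟩
    · exact ⟨key2 h1, h1⟩
  have h3 := card_ge h2 h hne.1 (fun g hg v hv => kf_comm hg hv) (fun v hv => kf_free h2 hv)
  have h4 := card_ge h2 h hne.2 (fun g hg v hv => kg_comm hg hv) (fun v hv => kg_free h2 hv)
  have hinj : Function.Injective (fun p : Prod (kf z : AddSubgroup A) (kg z : AddSubgroup A) => (p.1 : A) + p.2) := by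
    rintro ⟨a, b⟩ ⟨a', b'⟩ hab
    have hab' : (a : A) + b = a' + b' := hab
    have h5 : (a : A) - a' = b' - b := by
      rw [sub_eq_sub_iff_add_eq_add, hab', add_comm]
    have h6 : (a : A) - a' ∈ (kf z : AddSubgroup A) := AddSubgroup.sub_mem _ a.2 a'.2
    have h7 : (a : A) - a' ∈ (kg z : AddSubgroup A) := by rw [h5]; exact AddSubgroup.sub_mem _ b'.2 b.2
    have h8 := inter h2 h6 h7
    have h9 : a = a' := Subtype.ext (sub_eq_zero.1 h8)
    rw [h8] at h5
    have h10 : b = b' := Subtype.ext (sub_eq_zero.1 h5.symm).symm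
    rw [h9, h10]
  have h5 := Nat.card_le_card_of_injective _ hinj
  rw [Nat.card_prod] at h5
  calc 2 ^ (2 * (3 * 7 ^ n)) = 2 ^ (3 * 7 ^ n) * 2 ^ (3 * 7 ^ n) := by rw [two_mul, pow_add]
    _ ≤ _ := (Nat.mul_le_mul h3 h4).trans h5

end add

/-- Group form. -/
theorem two_pow_double_mulAut {E : Type u} [Group E] {n : ℕ} {z s : E} {x y : Fin n → E} {V : Type v} [CommGroup V]
    [Finite V] (φ : E →* MulAut V) (h : Heis 7 n z x y) (sz : s * z * s⁻¹ = z⁻¹) (h2 : ∀ v : V, v * v = 1)
    (hz : φ z ≠ 1) : 2 ^ (2 * (3 * 7 ^ n)) ≤ Nat.card V := by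
  letI : DistribMulAction E (Additive V) :=
    { smul := fun g v => Additive.ofMul (φ g v.toMul)
      one_smul := fun v => by
        show Additive.ofMul (φ 1 v.toMul) = v
        rw [map_one]; rfl
      mul_smul := fun g k v => by
        show Additive.ofMul (φ (g * k) v.toMul) = Additive.ofMul (φ g (φ k v.toMul))
        rw [map_mul]; rfl
      smul_zero := fun g => by
        show Additive.ofMul (φ g 1) = 0
        rw [map_one]; rfl
      smul_add := fun g v w => by
        show Additive.ofMul (φ g (v.toMul * w.toMul)) = _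
        rw [map_mul]; rfl }
  have : Finite (Additive V) := inferInstanceAs (Finite V)
  have h3 : ∃ v : Additive V, z • v ≠ v := by
    by_contra hcon
    push Not at hcon
    apply hz
    ext v
    exact congrArg Additive.toMul (hcon (Additive.ofMul v))
  exact two_pow_double (A := Additive V) (fun v => h2 v.toMul) h sz h3

/-- **Lifts commute, odd form.** -/
theorem LC.of_two {K : Type u} [Group K] {g g' d : K} (hc : g * g' = g' * g) (h1 : d * g * d⁻¹ = g)
    (h2 : d * g' * d⁻¹ = g' * g') : LC.{u, v} g g' := by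
  intro L _ π hπ a b ha hb
  obtain ⟨δ, hδ⟩ := hπ.surj d
  set c := a * b * a⁻¹ * b⁻¹ with hcd
  have hc1 : π c = 1 := by
    rw [hcd, map_mul, map_mul, map_mul, map_inv, map_inv, ha, hb, hc]; group
  have hz : π (a⁻¹ * (δ * a * δ⁻¹)) = 1 := by
    rw [map_mul, map_mul, map_mul, map_inv, map_inv, ha, hδ, h1, inv_mul_cancel]
  have hw : π ((b * b)⁻¹ * (δ * b * δ⁻¹)) = 1 := by
    rw [map_mul, map_mul, map_mul, map_inv, map_inv, map_mul, hb, hδ, h2, inv_mul_cancel]
  set z := a⁻¹ * (δ * a * δ⁻¹) with hzd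
  set w := (b * b)⁻¹ * (δ * b * δ⁻¹) with hwd
  have h3 : δ * a * δ⁻¹ = a * z := by rw [hzd]; group
  have h4 : δ * b * δ⁻¹ = b * b * w := by rw [hwd]; group
  have h5 : δ * c * δ⁻¹ = c := by
    rw [hπ.comm hc1, mul_inv_cancel_right]
  have h6 : δ * c * δ⁻¹ = (a * z) * (b * b * w) * (a * z)⁻¹ * (b * b * w)⁻¹ := by
    rw [← h3, ← h4, hcd]; group
  have h7 : (a * z) * (b * b * w) * (a * z)⁻¹ * (b * b * w)⁻¹ = a * b * b * a⁻¹ * b⁻¹ * b⁻¹ := by
    calc (a * z) * (b * b * w) * (a * z)⁻¹ * (b * b * w)⁻¹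
        = a * (z * (b * b * w)) * z⁻¹ * a⁻¹ * (b * b * w)⁻¹ := by group
      _ = a * ((b * b * w) * z) * z⁻¹ * a⁻¹ * (b * b * w)⁻¹ := by rw [← hπ.comm hz]
      _ = a * b * b * (w * a⁻¹) * w⁻¹ * b⁻¹ * b⁻¹ := by group
      _ = a * b * b * (a⁻¹ * w) * w⁻¹ * b⁻¹ * b⁻¹ := by rw [← hπ.comm hw]
      _ = a * b * b * a⁻¹ * b⁻¹ * b⁻¹ := by group
  have h8 : a * b * b * a⁻¹ * b⁻¹ * b⁻¹ = c * c := by
    calc a * b * b * a⁻¹ * b⁻¹ * b⁻¹ = c * (b * c) * b⁻¹ := by rw [hcd]; group
      _ = c * (c * b) * b⁻¹ := by rw [hπ.comm hc1 b]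
      _ = c * c := by group
  have h9 : c * c = c := by rw [← h8, ← h7, ← h6, h5]
  have h10 : c = 1 := mul_eq_left.1 h9
  have h11 : a * b = c * (b * a) := by rw [hcd]; group
  rw [h11, h10, one_mul]

/-- all lifts of powers of one element commute -/
theorem LC.self {K : Type u} [Group K] (g : K) : LC.{u, v} g g := by
  intro L _ π hπ a b ha hb
  have h1 : π (a⁻¹ * b) = 1 := by rw [map_mul, map_inv, ha, hb, inv_mul_cancel]
  calc a * b = a * (a * (a⁻¹ * b)) := by group
    _ = a * ((a⁻¹ * b) * a) := by rw [← hπ.comm h1 a]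
    _ = b * a := by group

/-- **`LB K 42`.** -/
theorem LB.seven {K : Type u} [Group K] [IsSimpleGroup K] {z x y s : K} (hz : z ≠ 1) (z7 : z ^ 7 = 1)
    (x7 : x ^ 7 = 1) (zy : z * y = y * z) (conj : y * x * y⁻¹ = x * z) (sz : s * z * s⁻¹ = z⁻¹)
    (sx : s * x * s⁻¹ = x⁻¹) (sy : s * y * s⁻¹ = y) (hlc : LC.{u, v} z x) : LB.{u, v, w} K 42 := by
  apply LB.of_irr
  intro L _ _ π hπ hc ho hL V _ _ h2 φ hφ hirr
  have hcov : Cov π := ⟨hπ, hc, ho⟩
  obtain ⟨σ, hσ⟩ := hπ s
  obtain ⟨z', hz', hsz⟩ := hcov.exists_inv_lift (σ := σ) (g := z) (by rw [hσ, sz])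
  obtain ⟨x', hx', hsx⟩ := hcov.exists_inv_lift (σ := σ) (g := x) (by rw [hσ, sx])
  obtain ⟨y', hy'⟩ := hπ y
  have czx : z' * x' = x' * z' := hlc L π hcov _ _ hz' hx'
  have czy : z' * y' = y' * z' := LC.of_inv zy sz sy L π hcov _ _ hz' hy'
  have pow_lift : ∀ (a : L) (g : K), π a = g → g ^ 7 = 1 → σ * a * σ⁻¹ = a⁻¹ → a ^ 7 = 1 := by
    intro a g ha hg hs
    have h1 : π (a ^ 7) = 1 := by rw [map_pow, ha, hg]
    apply hcov.eq_one h1
    have h3 : σ * a ^ 7 * σ⁻¹ = (a ^ 7)⁻¹ := by rw [← conj_pow, hs, inv_pow]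
    rw [hcov.comm h1, mul_inv_cancel_right] at h3
    rw [eq_inv_iff_mul_eq_one] at h3
    exact h3
  have hconj : y' * x' * y'⁻¹ = x' * z' := by
    set w := y' * x' * y'⁻¹ * x'⁻¹ with hw
    have hπw : π w = z := by
      rw [hw, map_mul, map_mul, map_mul, map_inv, map_inv, hy', hx', conj]
      have hzx : z * x = x * z := by rw [← hz', ← hx', ← map_mul, czx, map_mul]
      rw [← hzx]; group
    have hwx : w * x' = x' * w := hlc L π hcov _ _ hπw hx'
    have hyx : y' * x' * y'⁻¹ = w * x' := by rw [hw]; group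
    have hζ : π (y'⁻¹ * (σ * y' * σ⁻¹)) = 1 := by
      rw [map_mul, map_mul, map_mul, map_inv, map_inv, hy', hσ, sy, inv_mul_cancel]
    set ζ := y'⁻¹ * (σ * y' * σ⁻¹) with hζd
    have h1 : σ * y' * σ⁻¹ = y' * ζ := by rw [hζd]; group
    have h3 : σ * w * σ⁻¹ = w⁻¹ := by
      have h4 : σ * w * σ⁻¹ = (σ * y' * σ⁻¹) * (σ * x' * σ⁻¹) * (σ * y' * σ⁻¹)⁻¹ * (σ * x' * σ⁻¹)⁻¹ := by
        rw [hw]; group
      rw [h4, h1, hsx]
      calc y' * ζ * x'⁻¹ * (y' * ζ)⁻¹ * (x'⁻¹)⁻¹
          = y' * (ζ * x'⁻¹) * (ζ⁻¹ * y'⁻¹) * x' := by group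
        _ = y' * (x'⁻¹ * ζ) * (ζ⁻¹ * y'⁻¹) * x' := by rw [hcov.comm hζ]
        _ = (y' * x' * y'⁻¹)⁻¹ * x' := by group
        _ = (w * x')⁻¹ * x' := by rw [hyx]
        _ = (x' * w)⁻¹ * x' := by rw [hwx]
        _ = w⁻¹ := by group
    have h4 : w = z' := hcov.inv_lift_unique (by rw [hπw, hz']) h3 hsz
    rw [hyx, h4, czx]
  have hH : Heis 7 1 z' (fun _ => x') (fun _ => y') :=
    { prime := by norm_num
      zr := pow_lift z' z hz' z7 hsz
      xr := fun _ => pow_lift x' x hx' x7 hsx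
      zx := fun _ => czx
      zy := fun _ => czy
      xx := fun _ _ => rfl
      yx := fun i j h => absurd (Subsingleton.elim i j) h
      conj := fun _ => hconj }
  have hz1 : φ z' ≠ 1 := by
    intro h
    have h3 : z' = 1 := hφ (h.trans (map_one φ).symm)
    apply hz
    rw [← hz', h3, map_one]
  -- `V` is elementary abelian
  have hV : ∀ v : V, v * v = 1 := by
    let U : Subgroup V :=
      { carrier := {v | v * v = 1}
        one_mem' := mul_one 1
        mul_mem' := fun {a b} ha hb => by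
          show a * b * (a * b) = 1
          rw [mul_mul_mul_comm, show a * a = 1 from ha, show b * b = 1 from hb, mul_one]
        inv_mem' := fun {a} ha => by
          show a⁻¹ * a⁻¹ = 1
          rw [← mul_inv_rev, show a * a = 1 from ha, inv_one] }
    have hU : ∀ g, ∀ x ∈ U, φ g x ∈ U := by
      intro g x hx
      show φ g x * φ g x = 1
      rw [← map_mul, show x * x = 1 from hx, map_one]
    rcases hirr U hU with h | h
    · exfalso
      have hnt : Nontrivial V := by
        by_contra hcon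
        rw [not_nontrivial_iff_subsingleton] at hcon
        exact hz1 (MulEquiv.ext fun v => Subsingleton.elim _ _)
      obtain ⟨v, hv1, hv⟩ : ∃ v : V, v ≠ 1 ∧ v * v = 1 := by
        obtain ⟨v, hv⟩ := _root_.exists_ne (1 : V)
        obtain ⟨k, hk⟩ := h2 v
        classical
        have hex : ∃ k : ℕ, v ^ 2 ^ k = 1 := ⟨k, hk⟩
        set m := Nat.find hex with hm
        have hm1 : v ^ 2 ^ m = 1 := Nat.find_spec hex
        have hm0 : m ≠ 0 := by
          intro h0
          rw [h0, pow_zero, pow_one] at hm1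
          exact hv hm1
        obtain ⟨l, hl⟩ := Nat.exists_eq_succ_of_ne_zero hm0
        refine ⟨v ^ 2 ^ l, Nat.find_min hex (by omega), ?_⟩
        rw [← pow_add, ← two_mul, ← pow_succ']
        rw [hl] at hm1
        exact hm1
      have : v ∈ U := hv
      rw [h] at this
      exact hv1 (Subgroup.mem_bot.1 this)
    · intro v
      have : v ∈ U := h ▸ Subgroup.mem_top v
      exact this
  have := two_pow_double_mulAut φ hH hsz hV hz1
  simpa using this

end Cfsg.Agent.Omega.ML.HeisSeven
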