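import Cfsg.Agent.Omega.Lie.HeisLB

/-!
# Unitary Heisenberg configurations and odd central extensions

`Herm σ p T Zs g U i₀`: root elements `T i c` (`c` in a field `F` with an involution `σ`) whose commutators lie in a
set `Zs` of central elements, inverted by `g`, and tori multiplying the parameter `c` by the elements `ζ` of a set
`U` of elements of norm one which generates `F` additively.

In an odd central extension the commutator form of the lifts inverted by `g` is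
`β (c, d) = f (σ c * d)` with `f` trivial on the norms; hence the configuration lifts to an `FHeis` over the fixed
field of `σ` (`Herm.lift`; tori multiply the parameter of the centre by norms), and one gets the lower bound `ord_p(2) * |F₀| ^ |ι|` (`Herm.lb`).
-/

set_option autoImplicit false
set_option linter.dupNamespace false

universe u v w

namespace Cfsg.Agent.Omega.ML.HermLift

open Cfsg.Agent.Omega.Lie.FHeis Cfsg.Agent.Omega.Lie.HeisLift Cfsg.Agent.Omega.Lie.Heis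

/-- The configuration. -/
structure Herm {F : Type*} [Field F] (σ : F →+* F) {ι : Type*} {K : Type*} [Group K] (p : ℕ) (T : ι → F → K)
    (Zs : Set K) (g : K) (U : Set F) (i₀ : ι) : Prop where
  zp : ∀ z ∈ Zs, z ^ p = 1
  zT : ∀ z ∈ Zs, ∀ i c, z * T i c = T i c * z
  zg : ∀ z ∈ Zs, z * g = g * z
  gT : ∀ i c, g * T i c * g⁻¹ = (T i c)⁻¹
  com : ∀ i c d, T i c * T i d * (T i c)⁻¹ * (T i d)⁻¹ ∈ Zs
  add : ∀ i c d, ∃ z ∈ Zs, T i (c + d) = T i c * T i d * z
  add' : ∀ i c d, σ c * d = c * σ d → T i (c + d) = T i c * T i d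
  cr : ∀ i j c d, i ≠ j → T i c * T j d = T j d * T i c
  tor : ∀ i, ∀ ζ ∈ U, ∃ t, t * g = g * t ∧ (∀ z ∈ Zs, t * z = z * t) ∧ Nat.Coprime (orderOf t) p ∧
    ∀ c, t * T i c * t⁻¹ = T i (ζ * c)
  tor2 : ∀ i j, i ≠ j → ∀ ζ ∈ U, ∃ t, t * g = g * t ∧ (∀ c, t * T i c * t⁻¹ = T i (ζ * c)) ∧
    ∀ c, t * T j c * t⁻¹ = T j (σ ζ * c)
  tor3 : ∀ i j, i ≠ j → ∃ a b, a * b ≠ 1 ∧ ∃ t, t * g = g * t ∧ (∀ c, t * T i c * t⁻¹ = T i (a * c)) ∧
    ∀ c, t * T j c * t⁻¹ = T j (b * c)
  perm : ∀ i, ∃ w, w * g = g * w ∧ (∀ z ∈ Zs, w * z = z * w) ∧ Nat.Coprime (orderOf w) p ∧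
    ∀ c, w * T i₀ c * w⁻¹ = T i c

/-- A homomorphism maps configurations to configurations. -/
theorem Herm.map {F : Type*} [Field F] {σ : F →+* F} {ι : Type*} {K : Type*} [Group K] {p : ℕ} {T : ι → F → K}
    {Zs : Set K} {g : K} {U : Set F} {i₀ : ι} (h : Herm σ p T Zs g U i₀) {H : Type*} [Group H] (f : K →* H) :
    Herm σ p (fun i c => f (T i c)) (f '' Zs) (f g) U i₀ where
  zp := by
    rintro _ ⟨z, hz, rfl⟩
    rw [← map_pow, h.zp z hz, map_one]
  zT := by
    rintro _ ⟨z, hz, rfl⟩ i c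
    rw [← map_mul, h.zT z hz, map_mul]
  zg := by
    rintro _ ⟨z, hz, rfl⟩
    rw [← map_mul, h.zg z hz, map_mul]
  gT i c := by rw [← map_inv, ← map_mul, ← map_mul, h.gT, map_inv]
  com i c d := ⟨_, h.com i c d, by rw [map_mul, map_mul, map_mul, map_inv, map_inv]⟩
  add i c d := by
    obtain ⟨z, hz, e⟩ := h.add i c d
    exact ⟨_, ⟨z, hz, rfl⟩, by rw [e, map_mul, map_mul]⟩
  add' i c d hcd := by rw [h.add' i c d hcd, map_mul]
  cr i j c d hij := by rw [← map_mul, h.cr i j c d hij, map_mul]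
  tor i ζ hζ := by
    obtain ⟨t, h1, h2, h3, h4⟩ := h.tor i ζ hζ
    refine ⟨f t, by rw [← map_mul, h1, map_mul], ?_, Nat.Coprime.coprime_dvd_left (orderOf_map_dvd f _) h3,
      fun c => by rw [← map_inv, ← map_mul, ← map_mul, h4]⟩
    rintro _ ⟨z, hz, rfl⟩
    rw [← map_mul, h2 z hz, map_mul]
  tor2 i j hij ζ hζ := by
    obtain ⟨t, h1, h2, h3⟩ := h.tor2 i j hij ζ hζ
    exact ⟨f t, by rw [← map_mul, h1, map_mul], fun c => by rw [← map_inv, ← map_mul, ← map_mul, h2],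
      fun c => by rw [← map_inv, ← map_mul, ← map_mul, h3]⟩
  tor3 i j hij := by
    obtain ⟨a, b, hab, t, h1, h2, h3⟩ := h.tor3 i j hij
    exact ⟨a, b, hab, f t, by rw [← map_mul, h1, map_mul], fun c => by rw [← map_inv, ← map_mul, ← map_mul, h2],
      fun c => by rw [← map_inv, ← map_mul, ← map_mul, h3]⟩
  perm i := by
    obtain ⟨w, h1, h2, h3, h4⟩ := h.perm i
    refine ⟨f w, by rw [← map_mul, h1, map_mul], ?_, Nat.Coprime.coprime_dvd_left (orderOf_map_dvd f _) h3,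
      fun c => by rw [← map_inv, ← map_mul, ← map_mul, h4]⟩
    rintro _ ⟨z, hz, rfl⟩
    rw [← map_mul, h2 z hz, map_mul]

/-- The fixed field. -/
def fix {F : Type*} [Field F] (σ : F →+* F) : Subfield F := RingHom.eqLocusField σ (RingHom.id F)

theorem mem_fix {F : Type*} [Field F] {σ : F →+* F} {x : F} : x ∈ fix σ ↔ σ x = x := Iff.rfl

theorem fix_coe {F : Type*} [Field F] {σ : F →+* F} (x : fix σ) : σ x = x := mem_fix.1 x.2

/-- A biadditive map adjoint on the generators. -/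
theorem adj {F : Type*} [Field F] {L : Type*} [Group L] {f : F → F → L} (σ τ : F → F)
    (hσ : ∀ a b, σ (a + b) = σ a + σ b) (hτ : ∀ a b, τ (a + b) = τ a + τ b)
    (hl : ∀ a b d, f (a + b) d = f a d * f b d) (hr : ∀ c a b, f c (a + b) = f c a * f c b) {U : Set F}
    (hU : AddSubgroup.closure U = ⊤) (h : ∀ ζ ∈ U, ∀ c d, f (σ ζ * c) d = f c (τ ζ * d)) (a c d : F) :
    f (σ a * c) d = f c (τ a * d) := by
  have hσ0 : σ 0 = 0 := by
    have := hσ 0 0
    rw [add_zero] at this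
    exact left_eq_add.1 this
  have hτ0 : τ 0 = 0 := by
    have := hτ 0 0
    rw [add_zero] at this
    exact left_eq_add.1 this
  have hσn : ∀ a, σ (-a) = -σ a := by
    intro a
    have := hσ a (-a)
    rw [add_neg_cancel, hσ0] at this
    exact (neg_eq_of_add_eq_zero_right this.symm).symm
  have hτn : ∀ a, τ (-a) = -τ a := by
    intro a
    have := hτ a (-a)
    rw [add_neg_cancel, hτ0] at this
    exact (neg_eq_of_add_eq_zero_right this.symm).symm
  have ha : a ∈ AddSubgroup.closure U := hU ▸ AddSubgroup.mem_top a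
  induction ha using AddSubgroup.closure_induction generalizing c d with
  | mem x hx => exact h x hx c d
  | zero =>
    rw [hσ0, hτ0, zero_mul, zero_mul, add_zero' (f := fun a => f a d) (fun a b => hl a b d),
      add_zero' (f := fun a => f c a) (fun a b => hr c a b)]
  | add x y _ _ ihx ihy => rw [hσ, hτ, add_mul, add_mul, hl, hr, ihx, ihy]
  | neg x _ ih =>
    rw [hσn, hτn, neg_mul, neg_mul, add_neg' (f := fun a => f a d) (fun a b => hl a b d),
      add_neg' (f := fun a => f c a) (fun a b => hr c a b), ih]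

variable {F : Type*} [Field F] {σ : F →+* F} {ι : Type*} {K : Type u} [Group K] {L : Type v} [Group L] {π : L →* K}
  {p : ℕ} {T : ι → F → K} {Zs : Set K} {g : K} {U : Set F} {i₀ : ι}

/-- **The lift of a unitary Heisenberg configuration.** -/
theorem Herm.lift (h : Herm σ p T Zs g U i₀) (hσ : ∀ x, σ (σ x) = x) (hU1 : ∀ ζ ∈ U, σ ζ * ζ = 1)
    (hU : AddSubgroup.closure U = ⊤) (hN : ∀ a, σ a = a → ∃ c, σ c * c = a) {τ : F} (hτ : σ τ = -τ)
    (hπ : Function.Surjective π) (hc : π.ker ≤ Subgroup.center L) (ho : Odd (Nat.card π.ker)) :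
    ∃ (z' : fix σ → L) (x' y' : ι → fix σ → L), FHeis z' x' y' ∧
      (∀ s, π (z' s) = T i₀ 1 * T i₀ (-τ * s) * (T i₀ 1)⁻¹ * (T i₀ (-τ * s))⁻¹) ∧
      ∀ (t : L) (a : F), π t * g = g * π t → (∀ c, π t * T i₀ c * (π t)⁻¹ = T i₀ (a * c)) →
        ∀ s s' : fix σ, (s' : F) = σ a * a * s → t * z' s * t⁻¹ = z' s' := by
  obtain ⟨g, rfl⟩ := hπ g
  choose X hX1 hX2 using fun i c => exists_inv_lift hπ hc ho (h.gT i c)
  -- lifts of `Zs` commute with all `X`
  have zX : ∀ a : L, π a ∈ Zs → ∀ i c, a * X i c = X i c * a := by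
    intro a ha i c
    exact comm_of_inv hc ho (hX2 i c) (by rw [hX1, h.zT _ ha]) (h.zg _ ha)
  have hsum : ∀ i c d, ∃ a : L, (∀ j r, a * X j r = X j r * a) ∧ X i (c + d) = X i c * X i d * a := by
    intro i c d
    obtain ⟨z, hz, e⟩ := h.add i c d
    refine ⟨(X i c * X i d)⁻¹ * X i (c + d), zX _ ?_, by group⟩
    rw [map_mul, map_inv, map_mul, hX1, hX1, hX1, e, inv_mul_cancel_left]
    exact hz
  -- the commutators `β`
  let γ : ι → ι → F → F → L := fun i j c d => X i c * X j d * (X i c)⁻¹ * (X j d)⁻¹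
  have hγ : ∀ i j c d, π (γ i j c d) = T i c * T j d * (T i c)⁻¹ * (T j d)⁻¹ := by
    intro i j c d
    show π (X i c * X j d * (X i c)⁻¹ * (X j d)⁻¹) = _
    rw [map_mul, map_mul, map_mul, map_inv, map_inv, hX1, hX1]
  have γX : ∀ i j c d l r, γ i j c d * X l r = X l r * γ i j c d := by
    intro i j c d l r
    by_cases hij : i = j
    · subst hij
      exact zX _ (by rw [hγ]; exact h.com i c d) l r
    · refine (mem_center hc (c := γ i j c d) ?_ _).symm
      rw [hγ, h.cr i j c d hij]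
      group
  have γl : ∀ i j c c' d, γ i j (c + c') d = γ i j c d * γ i j c' d := by
    intro i j c c' d
    obtain ⟨a, ha, e⟩ := hsum i c c'
    show X i (c + c') * X j d * (X i (c + c'))⁻¹ * (X j d)⁻¹ = _
    rw [e]
    calc X i c * X i c' * a * X j d * (X i c * X i c' * a)⁻¹ * (X j d)⁻¹
        = X i c * X i c' * (a * X j d) * a⁻¹ * (X i c * X i c')⁻¹ * (X j d)⁻¹ := by group
      _ = X i c * X i c' * (X j d * a) * a⁻¹ * (X i c * X i c')⁻¹ * (X j d)⁻¹ := by rw [ha]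
      _ = X i c * γ i j c' d * (X j d * (X i c)⁻¹ * (X j d)⁻¹) := by
          show _ = X i c * (X i c' * X j d * (X i c')⁻¹ * (X j d)⁻¹) * (X j d * (X i c)⁻¹ * (X j d)⁻¹)
          group
      _ = γ i j c' d * (X i c * (X j d * (X i c)⁻¹ * (X j d)⁻¹)) := by rw [← γX i j c' d i c]; group
      _ = γ i j c' d * γ i j c d := by
          show _ = γ i j c' d * (X i c * X j d * (X i c)⁻¹ * (X j d)⁻¹)
          group
      _ = γ i j c d * γ i j c' d := by
          have h1 : Commute (γ i j c' d) (X i c) := γX i j c' d i c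
          have h2 : Commute (γ i j c' d) (X j d) := γX i j c' d j d
          exact ((h1.mul_right h2).mul_right h1.inv_right).mul_right h2.inv_right
  have γr : ∀ i j c d d', γ i j c (d + d') = γ i j c d * γ i j c d' := by
    intro i j c d d'
    have hinv : ∀ r, γ i j c r = (γ j i r c)⁻¹ := by
      intro r
      show X i c * X j r * (X i c)⁻¹ * (X j r)⁻¹ = (X j r * X i c * (X j r)⁻¹ * (X i c)⁻¹)⁻¹
      group
    have h1 : Commute (γ j i d c) (X j d') := γX j i d c j d'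
    have h2 : Commute (γ j i d c) (X i c) := γX j i d c i c
    have h3 : Commute (γ j i d c) (γ j i d' c) :=
      ((h1.mul_right h2).mul_right h1.inv_right).mul_right h2.inv_right
    rw [hinv, hinv, hinv, γl, mul_inv_rev, ← mul_inv_rev, h3.eq, mul_inv_rev]
  -- conjugation
  have hconj : ∀ (t : L) (i : ι) (a : F), π t * π g = π g * π t → (∀ c, π t * T i c * (π t)⁻¹ = T i (a * c)) →
      ∀ c, t * X i c * t⁻¹ = X i (a * c) := by
    intro t i a h1 h2 c
    exact inv_lift_unique hc ho (conj_inv hc (hX2 i c) h1) (hX2 i _) (by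
      rw [map_mul, map_mul, map_inv, hX1, hX1, h2])
  have hγconj : ∀ (t : L) (i j : ι) (c d : F), t * γ i j c d * t⁻¹ =
      (t * X i c * t⁻¹) * (t * X j d * t⁻¹) * (t * X i c * t⁻¹)⁻¹ * (t * X j d * t⁻¹)⁻¹ := by
    intro t i j c d
    show t * (X i c * X j d * (X i c)⁻¹ * (X j d)⁻¹) * t⁻¹ = _
    group
  have hcop : ∀ (t z : L), π z ∈ Zs → (∀ z ∈ Zs, π t * z = z * π t) → Nat.Coprime (orderOf (π t)) p →
      t * z * t⁻¹ = z := by
    intro t z hz h1 h2
    have h3 : t * z = z * t := comm_of_coprime hc (m := orderOf (π t)) (n := p) (h1 _ hz)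
      (pow_orderOf_eq_one _) (h.zp _ hz) h2
    rw [h3, mul_inv_cancel_right]
  -- the form on the root groups
  have βU : ∀ i, ∀ ζ ∈ U, ∀ c d, γ i i (ζ * c) (ζ * d) = γ i i c d := by
    intro i ζ hζ c d
    obtain ⟨t, h1, h2, h3, h4⟩ := h.tor i ζ hζ
    obtain ⟨t, rfl⟩ := hπ t
    have h5 := hconj t i ζ h1 h4
    have h6 := hcop t (γ i i c d) (by rw [hγ]; exact h.com i c d) h2 h3
    rw [hγconj, h5, h5] at h6
    exact h6
  have βadj : ∀ i a c d, γ i i (a * c) d = γ i i c (σ a * d) := by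
    intro i
    refine adj (f := γ i i) id σ (fun _ _ => rfl) (map_add σ) (γl i i) (γr i i) hU ?_
    intro ζ hζ c d
    show γ i i (ζ * c) d = γ i i c (σ ζ * d)
    rw [← βU i ζ hζ c, ← mul_assoc, mul_comm ζ (σ ζ), hU1 ζ hζ, one_mul]
  have β1 : ∀ i c d, γ i i c d = γ i i 1 (σ c * d) := by
    intro i c d
    rw [← βadj i c 1 d, mul_one]
  have βN : ∀ i a, σ a = a → γ i i 1 a = 1 := by
    intro i a ha
    obtain ⟨c, rfl⟩ := hN a ha
    rw [← β1]
    show X i c * X i c * (X i c)⁻¹ * (X i c)⁻¹ = 1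
    group
  have βsym : ∀ i c d, σ c * d = c * σ d → γ i i c d = 1 := by
    intro i c d hcd
    rw [β1, βN]
    rw [map_mul, hσ, hcd]
  have comm_of : ∀ i j c d, γ i j c d = 1 → X i c * X j d = X j d * X i c := by
    intro i j c d h1
    calc X i c * X j d = (X i c * X j d * (X i c)⁻¹ * (X j d)⁻¹) * (X j d * X i c) := by group
      _ = X j d * X i c := by
        have : X i c * X j d * (X i c)⁻¹ * (X j d)⁻¹ = 1 := h1
        rw [this, one_mul]
  have hadd : ∀ i c d, σ c * d = c * σ d → X i (c + d) = X i c * X i d := by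
    intro i c d hcd
    apply inv_lift_unique hc ho (hX2 _ _) _ (by rw [map_mul, hX1, hX1, hX1, h.add' i c d hcd])
    calc g * (X i c * X i d) * g⁻¹ = (g * X i c * g⁻¹) * (g * X i d * g⁻¹) := by group
      _ = (X i d * X i c)⁻¹ := by rw [hX2, hX2]; group
      _ = (X i c * X i d)⁻¹ := by rw [comm_of i i c d (βsym i c d hcd)]
  -- all pairs give the same form
  have βw : ∀ i c d, γ i i c d = γ i₀ i₀ c d := by
    intro i c d
    obtain ⟨t, h1, h2, h3, h4⟩ := h.perm i
    obtain ⟨t, rfl⟩ := hπ t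
    have h5 : ∀ c, t * X i₀ c * t⁻¹ = X i c := fun c =>
      inv_lift_unique hc ho (conj_inv hc (hX2 i₀ c) h1) (hX2 i _) (by rw [map_mul, map_mul, map_inv, hX1, hX1, h4])
    have h6 := hcop t (γ i₀ i₀ c d) (by rw [hγ]; exact h.com i₀ c d) h2 h3
    rw [hγconj, h5, h5] at h6
    exact h6
  -- different root groups commute
  have hcr : ∀ i j, i ≠ j → ∀ c d, X i c * X j d = X j d * X i c := by
    intro i j hij
    have hk : ∀ c d (t : L), t * γ i j c d * t⁻¹ = γ i j c d := by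
      intro c d t
      rw [mem_center hc (c := γ i j c d) (by rw [hγ, h.cr i j c d hij]; group) t, mul_inv_cancel_right]
    have h1 : ∀ a c d, γ i j (a * c) d = γ i j c (a * d) := by
      refine adj (f := γ i j) id id (fun _ _ => rfl) (fun _ _ => rfl) (γl i j) (γr i j) hU ?_
      intro ζ hζ c d
      show γ i j (ζ * c) d = γ i j c (ζ * d)
      obtain ⟨t, h1, h2, h3⟩ := h.tor2 i j hij ζ hζ
      obtain ⟨t, rfl⟩ := hπ t
      have h4 := hk c (ζ * d) t
      rw [hγconj, hconj t i ζ h1 h2, hconj t j _ h1 h3, ← mul_assoc, hU1 ζ hζ, one_mul] at h4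
      exact h4
    obtain ⟨a, b, hab, t, h2, h3, h4⟩ := h.tor3 i j hij
    obtain ⟨t, rfl⟩ := hπ t
    have h5 : ∀ x, γ i j 1 (a * b * x) = γ i j 1 x := by
      intro x
      have h6 := hk 1 x t
      rw [hγconj, hconj t i a h2 h3, hconj t j b h2 h4] at h6
      have h7 : γ i j (a * 1) (b * x) = γ i j 1 x := h6
      rw [h1, ← mul_assoc] at h7
      exact h7
    have h6 : ∀ x, γ i j 1 x = 1 := by
      intro x
      have h7 : a * b - 1 ≠ 0 := sub_ne_zero.2 hab
      have h8 := γr i j 1 (a * b * ((a * b - 1)⁻¹ * x)) (-((a * b - 1)⁻¹ * x))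
      rw [h5, add_neg' (f := fun a => γ i j 1 a) (fun a b => γr i j 1 a b), mul_inv_cancel] at h8
      rw [← h8]
      congr 1
      field_simp
      ring
    intro c d
    apply comm_of
    have h7 := h1 c 1 d
    rw [mul_one] at h7
    rw [h7, h6]
  -- the configuration
  have hneg : σ (-τ) = τ := by rw [map_neg, hτ, neg_neg]
  refine ⟨fun s => γ i₀ i₀ 1 (-τ * s), fun i s => X i s, fun i s => X i (τ * s), ?_, fun s => hγ i₀ i₀ 1 _, ?_⟩
  swap
  · intro t a h1 h2 s s' hs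
    show t * γ i₀ i₀ 1 (-τ * s) * t⁻¹ = γ i₀ i₀ 1 (-τ * s')
    rw [hγconj, hconj t i₀ a h1 h2, hconj t i₀ a h1 h2]
    show γ i₀ i₀ (a * 1) (a * (-τ * s)) = γ i₀ i₀ 1 (-τ * s')
    rw [β1, mul_one, hs]
    congr 1
    ring
  refine ⟨fun s t => ?_, fun i s t => ?_, fun i s t => ?_, fun i s t => γX i₀ i₀ 1 _ i _,
    fun i s t => γX i₀ i₀ 1 _ i _, fun i j s t hij => hcr i j hij _ _, fun i j s t hij => (hcr j i (Ne.symm hij) _ _).symm,
    fun i s t => ?_⟩
  · show γ i₀ i₀ 1 (-τ * ((s + t : fix σ) : F)) = γ i₀ i₀ 1 (-τ * s) * γ i₀ i₀ 1 (-τ * t)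
    rw [← γr]
    congr 1
    push_cast
    ring
  · show X i ((s + t : fix σ) : F) = X i s * X i t
    rw [← hadd i _ _ (by rw [fix_coe, fix_coe])]
    rfl
  · show X i (τ * ((s + t : fix σ) : F)) = X i (τ * s) * X i (τ * t)
    rw [← hadd i _ _ (by rw [map_mul, map_mul, fix_coe, fix_coe, hτ]; ring)]
    congr 1
    push_cast
    ring
  · show X i (τ * t) * X i s * (X i (τ * t))⁻¹ = X i s * γ i₀ i₀ 1 (-τ * ((s * t : fix σ) : F))
    have h1 : γ i i (τ * t) s = γ i₀ i₀ 1 (-τ * ((s * t : fix σ) : F)) := by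
      rw [β1, βw, map_mul, hτ, fix_coe]
      congr 1
      push_cast
      ring
    rw [← h1, ← γX]
    show _ = X i (τ * t) * X i s * (X i (τ * t))⁻¹ * (X i s)⁻¹ * X i s
    group

/-- **The lower bound in all odd covers** of a simple group `K` with a unitary Heisenberg configuration. -/
theorem Herm.lb [Finite F] [Finite ι] {p : ℕ} [Fact p.Prime] [CharP F p] (hp2 : p ≠ 2) [IsSimpleGroup K]
    (h : Herm σ p T Zs g U i₀) (hσ : ∀ x, σ (σ x) = x) (hU1 : ∀ ζ ∈ U, σ ζ * ζ = 1)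
    (hU : AddSubgroup.closure U = ⊤) (hN : ∀ a, σ a = a → ∃ c, σ c * c = a) {τ : F} (hτ : σ τ = -τ)
    (hne : T i₀ 1 * T i₀ τ ≠ T i₀ τ * T i₀ 1) :
    LB.{u, v, w} K (orderOf (2 : ZMod p) * Nat.card (fix σ) ^ Nat.card ι) := by
  intro L _ _ π hπ hc ho hL V _ _ h2 φ hφ
  have : CharP (fix σ) p := (algebraMap (fix σ) F).charP (algebraMap (fix σ) F).injective p
  obtain ⟨z', x', y', h', hz', -⟩ := h.lift hσ hU1 hU hN hτ hπ hc ho
  refine two_pow_le hp2 h' φ h2 ⟨-1, fun h1 => hne ?_⟩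
  have h3 : z' (-1) ∈ π.ker := ker_le_ker hπ hc hL hφ (MonoidHom.mem_ker.2 h1)
  rw [MonoidHom.mem_ker, hz'] at h3
  have h4 : -τ * ((-1 : fix σ) : F) = τ := by
    push_cast
    ring
  rw [h4] at h3
  calc T i₀ 1 * T i₀ τ = (T i₀ 1 * T i₀ τ * (T i₀ 1)⁻¹ * (T i₀ τ)⁻¹) * (T i₀ τ * T i₀ 1) := by group
    _ = T i₀ τ * T i₀ 1 := by rw [h3, one_mul]

end Cfsg.Agent.Omega.ML.HermLift
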