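import Cfsg.Agent.Omega.Lie.HeisLB

/-!
# The Heisenberg bound with a torus

`X : F → E` additive (`F` a finite field of characteristic `p ≠ 2`), every nonzero functional `f` on `F` has dual
elements `x i, y i` (`i < n`) modulo `X (ker f)` (`Dual`), `T i ∈ E` (`i ∈ ι`) with `T i * X t * (T i)⁻¹ = X (c i * t)`,
`c` injective with values in `F ∖ {0}`. Then `2 ^ (|ι| * p ^ n) ≤ |V|` for every finite abelian `2`-group `V` on
which `X F` acts nontrivially (`two_pow_le_dual`). For a configuration `FH` or `FHeis` with `h` pairs and the full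
torus: `2 ^ ((|F| - 1) * |F| ^ h) ≤ |V|` (`FH.two_pow_le_torus`, `two_pow_le_torus`).

Method: `K = 𝔽_{2^d}` with `p`-th roots of unity, `W = K ⊗ V`, the weight spaces of `X F` in `W`.
-/

set_option autoImplicit false
set_option linter.dupNamespace false
set_option linter.unusedSectionVars false
set_option linter.style.haveILetI false

universe u v w

namespace Cfsg.Agent.Omega.ML.TorusLB

open Finset Cfsg.Agent.Omega.Lie.Heis Cfsg.Agent.Omega.Lie.HeisF

variable {E : Type u} [Group E] {F : Type w} [Field F] {p : ℕ} [Fact p.Prime] [Algebra (ZMod p) F]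

/-- Dual elements for the functional `f`. -/
def Dual (X : F → E) (n : ℕ) (f : F →ₗ[ZMod p] ZMod p) : Prop :=
  ∃ (x y : Fin n → E) (w : Fin n → Fin n → F),
    (∀ i, x i ^ p = 1) ∧ (∀ i t, X t * x i = x i * X t) ∧ (∀ i t, X t * y i = y i * X t) ∧
    (∀ i j, x i * x j = x j * x i) ∧ (∀ i j, y i * x j * (y i)⁻¹ = x j * X (w i j)) ∧
    ∀ i j, f (w i j) = if i = j then 1 else 0

section weights

variable {K : Type*} [Field K] {W : Type*} [AddCommGroup W] [Module K W] (ρ : E →* (W →ₗ[K] W)) (X : F → E)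
  (ψ : AddChar (ZMod p) K)

/-- The weight space of the functional `f`. -/
def Wt (f : F →ₗ[ZMod p] ZMod p) : Submodule K W where
  carrier := {v | ∀ t, ρ (X t) v = ψ (f t) • v}
  zero_mem' := fun t => by rw [map_zero, smul_zero]
  add_mem' := fun {a b} ha hb t => by rw [map_add, ha t, hb t, smul_add]
  smul_mem' := fun c v hv t => by rw [map_smul, hv t, smul_comm]

variable {ρ X ψ}

theorem mem_Wt {f : F →ₗ[ZMod p] ZMod p} {v : W} : v ∈ Wt ρ X ψ f ↔ ∀ t, ρ (X t) v = ψ (f t) • v := Iff.rfl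

variable (hX : ∀ t u, X (t + u) = X t * X u)

/-- Existence of a nontrivial weight. -/
theorem exists_wt [Finite F] (hX : ∀ t u, X (t + u) = X t * X u) (hψ : ψ.IsPrimitive) (hp : (p : K) ≠ 0)
    (hne : ∃ t, ρ (X t) ≠ 1) : ∃ f : F →ₗ[ZMod p] ZMod p, f ≠ 0 ∧ Wt ρ X ψ f ≠ ⊥ := by
  classical
  letI : DistribMulAction E W :=
    { smul := fun g v => ρ g v
      one_smul := fun v => by
        show ρ 1 v = v
        rw [map_one]; rfl
      mul_smul := fun g k v => by
        show ρ (g * k) v = ρ g (ρ k v)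
        rw [map_mul]; rfl
      smul_zero := fun g => map_zero (ρ g)
      smul_add := fun g v w => map_add (ρ g) v w }
  have hs : ∀ (g : E) (v : W), g • v = ρ g v := fun _ _ => rfl
  have ht : ∀ v : W, p • v = 0 → v = 0 := by
    intro v hv
    rw [← Nat.cast_smul_eq_nsmul K] at hv
    exact (smul_eq_zero.1 hv).resolve_left hp
  have hne' : ∃ (t : F) (v : W), X t • v ≠ v := by
    obtain ⟨t, ht⟩ := hne
    by_contra hcon
    push Not at hcon
    apply ht
    ext v
    exact hcon t v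
  obtain ⟨f, hf, v, hv, t₁, ht₁⟩ := exists_functional hX ht hne'
  obtain ⟨s, hs1⟩ : ∃ s, f s = 1 := by
    obtain ⟨s, hs⟩ : ∃ s, f s ≠ 0 := by
      by_contra hcon
      push Not at hcon
      exact hf (LinearMap.ext hcon)
    exact ⟨(f s)⁻¹ • s, by rw [map_smul, smul_eq_mul, inv_mul_cancel₀ hs]⟩
  let P : ZMod p → W → W := fun a v => ∑ b : ZMod p, ψ (-(a * b)) • ρ (X (b • s)) v
  have hmulρ : ∀ (g k : E) (v : W), ρ g (ρ k v) = ρ (g * k) v := fun g k v => by rw [map_mul]; rfl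
  have hP : ∀ a b' v, ρ (X (b' • s)) (P a v) = ψ (a * b') • P a v := by
    intro a b' v
    show ρ (X (b' • s)) (∑ b : ZMod p, ψ (-(a * b)) • ρ (X (b • s)) v) =
      ψ (a * b') • ∑ b : ZMod p, ψ (-(a * b)) • ρ (X (b • s)) v
    rw [map_sum, smul_sum]
    refine Fintype.sum_equiv (Equiv.addLeft b') _ _ fun b => ?_
    rw [Equiv.coe_addLeft, map_smul, hmulρ, ← hX, ← add_smul, smul_smul, ← AddChar.map_add_eq_mul]
    congr 2
    ring
  have hsum : ∀ v, ∑ a : ZMod p, P a v = (p : K) • v := by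
    intro v
    show ∑ a : ZMod p, ∑ b : ZMod p, ψ (-(a * b)) • ρ (X (b • s)) v = _
    rw [sum_comm]
    have h1 : ∀ b : ZMod p, ∑ a : ZMod p, ψ (-(a * b)) • ρ (X (b • s)) v = if b = 0 then (p : K) • v else 0 := by
      intro b
      rw [← sum_smul]
      have h2 : ∑ a : ZMod p, ψ (-(a * b)) = if b = 0 then (p : K) else 0 := by
        have h3 := AddChar.sum_mulShift (-b) hψ
        simp only [neg_eq_zero, ZMod.card, Nat.cast_ite, Nat.cast_zero] at h3
        rw [← h3]
        exact sum_congr rfl fun a _ => by rw [mul_neg]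
      rw [h2]
      split_ifs with hb
      · subst hb
        rw [zero_smul, X_zero hX, map_one]
        rfl
      · rw [zero_smul]
    rw [sum_congr rfl fun b _ => h1 b, sum_ite_eq' univ 0]
    simp
  obtain ⟨a, ha, haP⟩ : ∃ a, a ≠ 0 ∧ P a v ≠ 0 := by
    by_contra hcon
    push Not at hcon
    have h1 : P 0 v = (p : K) • v := by
      rw [← hsum v, sum_eq_single 0 (fun b _ hb => hcon b hb) (fun h => absurd (mem_univ _) h)]
    have h2 : ∀ b' : ZMod p, ρ (X (b' • s)) v = v := by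
      intro b'
      have h3 := hP 0 b' v
      rw [h1, map_smul, zero_mul, AddChar.map_zero_eq_one, one_smul] at h3
      exact smul_right_injective W hp h3
    apply ht₁
    have h4 : t₁ = f t₁ • s + (t₁ - f t₁ • s) := by abel
    rw [h4, hX, mul_smul, hv (t₁ - f t₁ • s) (by rw [map_sub, map_smul, hs1, smul_eq_mul, mul_one, sub_self]), hs, h2]
  refine ⟨a • f, smul_ne_zero ha hf, ?_⟩
  intro hbot
  apply haP
  have hker : ∀ t, f t = 0 → ρ (X t) (P a v) = P a v := by
    intro t htf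
    show ρ (X t) (∑ b : ZMod p, ψ (-(a * b)) • ρ (X (b • s)) v) = _
    rw [map_sum]
    refine sum_congr rfl fun b _ => ?_
    rw [map_smul, hmulρ, X_comm hX, ← hmulρ]
    congr 2
    exact hv t htf
  have hmem : P a v ∈ Wt ρ X ψ (a • f) := by
    intro t
    have h4 : t = f t • s + (t - f t • s) := by abel
    have h5 : ρ (X t) (P a v) = ρ (X (f t • s)) (ρ (X (t - f t • s)) (P a v)) := by
      rw [hmulρ, ← hX, ← h4]
    rw [h5, hker _ (by rw [map_sub, map_smul, hs1, smul_eq_mul, mul_one, sub_self]), hP]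
    rfl
  rw [hbot] at hmem
  exact (Submodule.mem_bot K).1 hmem

/-- Translation of weights by the torus. -/
theorem Wt_torus {f : F →ₗ[ZMod p] ZMod p} {c : F} {T : E} (hT : ∀ t, T * X t * T⁻¹ = X (c * t))
    (hf : Wt ρ X ψ f ≠ ⊥) : Wt ρ X ψ (f ∘ₗ LinearMap.mulLeft (ZMod p) c) ≠ ⊥ := by
  obtain ⟨v, hv, hv0⟩ := (Submodule.ne_bot_iff _).1 hf
  intro hbot
  have hmulρ : ∀ (g k : E) (v : W), ρ g (ρ k v) = ρ (g * k) v := fun g k v => by rw [map_mul]; rfl
  have h1 : ρ T⁻¹ v ∈ Wt ρ X ψ (f ∘ₗ LinearMap.mulLeft (ZMod p) c) := by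
    intro t
    have h2 : X t * T⁻¹ = T⁻¹ * X (c * t) := by rw [← hT]; group
    rw [hmulρ, h2, ← hmulρ, hv (c * t), map_smul]
    rfl
  rw [hbot, Submodule.mem_bot] at h1
  apply hv0
  have h3 : ρ T (ρ T⁻¹ v) = v := by rw [hmulρ, mul_inv_cancel, map_one]; rfl
  rw [← h3, h1, map_zero]

/-- Different functionals of the form `f (c t)`. -/
theorem comp_inj {f : F →ₗ[ZMod p] ZMod p} (hf : f ≠ 0) {c c' : F}
    (h : f ∘ₗ LinearMap.mulLeft (ZMod p) c = f ∘ₗ LinearMap.mulLeft (ZMod p) c') : c = c' := by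
  by_contra hcc
  apply hf
  ext t
  have h1 := DFunLike.congr_fun h ((c - c')⁻¹ * t)
  have h2 : f (c * ((c - c')⁻¹ * t)) = f (c' * ((c - c')⁻¹ * t)) := h1
  have h3 : c * ((c - c')⁻¹ * t) - c' * ((c - c')⁻¹ * t) = t := by
    rw [← sub_mul, ← mul_assoc, mul_inv_cancel₀ (sub_ne_zero.2 hcc), one_mul]
  rw [← h3, map_sub, h2, sub_self]
  rfl

/-- Weight vectors of different weights are independent. -/
theorem sum_injective [Finite F] (hψ : ψ.IsPrimitive) (hp : (Nat.card F : K) ≠ 0) {ι : Type*} [Fintype ι]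
    {f : ι → F →ₗ[ZMod p] ZMod p} (hf : Function.Injective f) :
    Function.Injective fun w : (∀ i, Wt ρ X ψ (f i)) => ∑ i, (w i : W) := by
  classical
  letI : Fintype F := Fintype.ofFinite F
  intro w w' hww
  funext j
  have key : ∀ w : (∀ i, Wt ρ X ψ (f i)), ∑ t : F, ψ (-(f j t)) • ρ (X t) (∑ i, (w i : W)) =
      (Nat.card F : K) • (w j : W) := by
    intro w
    have h1 : ∀ i, ∑ t : F, ψ (-(f j t)) • ρ (X t) (w i : W) =
        if i = j then (Nat.card F : K) • (w j : W) else 0 := by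
      intro i
      have h2 : ∀ t, ψ (-(f j t)) • ρ (X t) (w i : W) = ψ ((f i - f j) t) • (w i : W) := by
        intro t
        rw [mem_Wt.1 (w i).2 t, smul_smul, ← AddChar.map_add_eq_mul]
        congr 2
        rw [LinearMap.sub_apply]; abel
      rw [sum_congr rfl fun t _ => h2 t, ← sum_smul]
      split_ifs with hij
      · subst hij
        simp [Nat.card_eq_fintype_card]
      · have h3 : f i - f j ≠ 0 := sub_ne_zero.2 fun h => hij (hf h)
        have h4 : (ψ.compAddMonoidHom (f i - f j).toAddMonoidHom) ≠ 1 := by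
          intro h5
          obtain ⟨s, hs⟩ : ∃ s, (f i - f j) s ≠ 0 := by
            by_contra hcon
            push Not at hcon
            exact h3 (LinearMap.ext hcon)
          have h6 : ∀ a : ZMod p, ψ a = 1 := by
            intro a
            have h7 := DFunLike.congr_fun h5 ((a * ((f i - f j) s)⁻¹) • s)
            have h8 : ψ ((f i - f j) ((a * ((f i - f j) s)⁻¹) • s)) = 1 := h7
            rwa [map_smul, smul_eq_mul, mul_assoc, inv_mul_cancel₀ hs, mul_one] at h8
          have h9 := hψ (a := 1) one_ne_zero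
          apply h9
          ext a
          simpa using h6 a
        have h5 : ∑ t, ψ ((f i - f j) t) = 0 := AddChar.sum_eq_zero_of_ne_one h4
        rw [h5, zero_smul]
    have h2 : ∑ t : F, ψ (-(f j t)) • ρ (X t) (∑ i, (w i : W)) =
        ∑ i, ∑ t : F, ψ (-(f j t)) • ρ (X t) (w i : W) := by
      rw [sum_comm]
      refine sum_congr rfl fun t _ => ?_
      rw [map_sum, smul_sum]
    rw [h2, sum_congr rfl fun i _ => h1 i, sum_ite_eq' univ j]
    simp
  have h1 := key w
  have hww' : ∑ i, (w i : W) = ∑ i, (w' i : W) := hww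
  rw [hww', key w'] at h1
  exact (Subtype.ext (smul_right_injective W hp h1)).symm

/-- **The Heisenberg bound in a weight space.** -/
theorem le_finrank_Wt [Finite K] [Finite W] (hψ : ψ.IsPrimitive) (hp : (p : K) ≠ 0) (hK : (Nat.card K : ZMod p) ≠ 0)
    (hX : ∀ t u, X (t + u) = X t * X u)
    {n : ℕ} {f : F →ₗ[ZMod p] ZMod p} (hf : f ≠ 0) (hD : Dual X n f) (hW : Wt ρ X ψ f ≠ ⊥) :
    p ^ n ≤ Module.finrank K (Wt ρ X ψ f) := by
  classical
  obtain ⟨x, y, w, hxr, hXx, hXy, hxx, hyx, hfw⟩ := hD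
  have hmulρ : ∀ (g k : E) (v : W), ρ g (ρ k v) = ρ (g * k) v := fun g k v => by rw [map_mul]; rfl
  let N : Subgroup E := Subgroup.centralizer (Set.range X)
  have hmem : ∀ g : E, (∀ t, X t * g = g * X t) → g ∈ N := by
    intro g hg
    rw [Subgroup.mem_centralizer_iff]
    rintro _ ⟨t, rfl⟩
    exact hg t
  have hN : ∀ g ∈ N, ∀ v ∈ Wt ρ X ψ f, ρ g v ∈ Wt ρ X ψ f := by
    intro g hg v hv t
    have h1 := Subgroup.mem_centralizer_iff.1 hg (X t) ⟨t, rfl⟩
    rw [hmulρ, h1, ← hmulρ, mem_Wt.1 hv t, map_smul]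
  let σ : N →* (Wt ρ X ψ f →ₗ[K] Wt ρ X ψ f) :=
    { toFun := fun g => (ρ g).restrict (hN g g.2)
      map_one' := by
        ext v
        show ρ 1 (v : W) = v
        rw [map_one]; rfl
      map_mul' := fun g k => by
        ext v
        show ρ ((g : E) * k) (v : W) = ρ g (ρ k v)
        rw [hmulρ] }
  have hσ : ∀ (g : E) (hg : g ∈ N) (v : Wt ρ X ψ f), ((σ ⟨g, hg⟩ v : Wt ρ X ψ f) : W) = ρ g v := fun _ _ _ => rfl
  let τ : N →* (Wt ρ X ψ f →ₗ[K] Wt ρ X ψ f)ˣ := σ.toHomUnits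
  have hτ : ∀ g, ((τ g : (Wt ρ X ψ f →ₗ[K] Wt ρ X ψ f)ˣ) : Wt ρ X ψ f →ₗ[K] Wt ρ X ψ f) = σ g := fun g => rfl
  have hXN : ∀ t, X t ∈ N := fun t => hmem _ fun t' => X_comm hX t' t
  have hXt : ∀ t u, f t = f u → τ ⟨X t, hXN t⟩ = τ ⟨X u, hXN u⟩ := by
    intro t u htu
    apply Units.ext
    rw [hτ, hτ]
    ext v
    rw [hσ, hσ, mem_Wt.1 v.2 t, mem_Wt.1 v.2 u, htu]
  obtain ⟨s, hs⟩ : ∃ s, f s = 1 := by
    obtain ⟨s, hs⟩ : ∃ s, f s ≠ 0 := by
      by_contra hcon
      push Not at hcon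
      exact hf (LinearMap.ext hcon)
    exact ⟨(f s)⁻¹ • s, by rw [map_smul, smul_eq_mul, inv_mul_cancel₀ hs]⟩
  have hX0 : ∀ t, f t = 0 → τ ⟨X t, hXN t⟩ = 1 := by
    intro t ht
    rw [hXt t 0 (by rw [ht, map_zero]), ← map_one τ]
    congr 1
    exact Subtype.ext (X_zero hX)
  have hH : Heis p n (τ ⟨X s, hXN s⟩) (fun i => τ ⟨x i, hmem _ (hXx i)⟩) (fun i => τ ⟨y i, hmem _ (hXy i)⟩) := by
    refine ⟨Fact.out, ?_, fun i => ?_, fun i => ?_, fun i => ?_, fun i j => ?_, fun i j hij => ?_, fun i => ?_⟩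
    · rw [← map_pow, ← map_one τ]
      congr 1
      exact Subtype.ext (X_pow hX s)
    · rw [← map_pow, ← map_one τ]
      congr 1
      exact Subtype.ext (hxr i)
    · rw [← map_mul, ← map_mul]
      congr 1
      exact Subtype.ext (hXx i s)
    · rw [← map_mul, ← map_mul]
      congr 1
      exact Subtype.ext (hXy i s)
    · rw [← map_mul, ← map_mul]
      congr 1
      exact Subtype.ext (hxx i j)
    · have h5 : (⟨y i, hmem _ (hXy i)⟩ : N) * ⟨x j, hmem _ (hXx j)⟩ =
          ⟨x j, hmem _ (hXx j)⟩ * ⟨X (w i j), hXN (w i j)⟩ * ⟨y i, hmem _ (hXy i)⟩ := by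
        apply Subtype.ext
        show y i * x j = x j * X (w i j) * y i
        rw [← hyx]; group
      rw [← map_mul, h5, map_mul, map_mul, hX0 _ (by rw [hfw, if_neg hij]), mul_one]
    · have h5 : (⟨y i, hmem _ (hXy i)⟩ : N) * ⟨x i, hmem _ (hXx i)⟩ * (⟨y i, hmem _ (hXy i)⟩ : N)⁻¹ =
          ⟨x i, hmem _ (hXx i)⟩ * ⟨X (w i i), hXN (w i i)⟩ := by
        apply Subtype.ext
        show y i * x i * (y i)⁻¹ = x i * X (w i i)
        exact hyx i i
      rw [← map_inv, ← map_mul, ← map_mul, h5, map_mul, hXt (w i i) s (by rw [hfw, if_pos rfl, hs])]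
  have hz : (Units.coeHom (Wt ρ X ψ f →ₗ[K] Wt ρ X ψ f)) (τ ⟨X s, hXN s⟩) ≠ 1 := by
    intro h1
    obtain ⟨v, hv, hv0⟩ := (Submodule.ne_bot_iff _).1 hW
    have h2 : ((σ ⟨X s, hXN s⟩ ⟨v, hv⟩ : Wt ρ X ψ f) : W) = v := by
      have h3 : σ ⟨X s, hXN s⟩ = 1 := h1
      rw [h3]; rfl
    rw [hσ, mem_Wt.1 hv s, hs] at h2
    have h4 : (ψ 1 - 1) • v = 0 := by rw [sub_smul, h2, one_smul, sub_self]
    have h5 : ψ 1 = 1 := sub_eq_zero.1 ((smul_eq_zero.1 h4).resolve_right hv0)
    have h9 := hψ (a := 1) one_ne_zero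
    apply h9
    ext a
    have h6 : ∀ k : ℕ, ψ (k : ZMod p) = 1 := by
      intro k
      induction k with
      | zero => simp
      | succ k ih => rw [Nat.cast_succ, AddChar.map_add_eq_mul, ih, h5, one_mul]
    have h7 := h6 a.val
    rw [ZMod.natCast_zmod_val] at h7
    simpa using h7
  have h10 := hH.finrank_le (Units.coeHom (Wt ρ X ψ f →ₗ[K] Wt ρ X ψ f)) hp hz
  refine le_trans ?_ h10
  refine Nat.le_mul_of_pos_left _ ?_
  rw [orderOf_pos_iff, isOfFinOrder_iff_pow_eq_one]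
  exact ⟨p - 1, Nat.sub_pos_of_lt (Fact.out : p.Prime).one_lt, ZMod.pow_card_sub_one_eq_one hK⟩

/-- **The count** over `K`. -/
theorem card_le [Finite F] [Finite K] [Finite W] (hψ : ψ.IsPrimitive) (hp : (p : K) ≠ 0)
    (hpF : (Nat.card F : K) ≠ 0) (hK : (Nat.card K : ZMod p) ≠ 0)
    (hX : ∀ t u, X (t + u) = X t * X u) (hne : ∃ t, ρ (X t) ≠ 1) {n : ℕ}
    (hD : ∀ f : F →ₗ[ZMod p] ZMod p, f ≠ 0 → Dual X n f) {ι : Type*} [Finite ι] {c : ι → F} {T : ι → E}
    (hc : Function.Injective c) (hc0 : ∀ i, c i ≠ 0) (hT : ∀ i t, T i * X t * (T i)⁻¹ = X (c i * t)) :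
    (Nat.card K) ^ (Nat.card ι * p ^ n) ≤ Nat.card W := by
  classical
  letI : Fintype ι := Fintype.ofFinite ι
  obtain ⟨f, hf, hW⟩ := exists_wt hX hψ hp hne
  let g : ι → F →ₗ[ZMod p] ZMod p := fun i => f ∘ₗ LinearMap.mulLeft (ZMod p) (c i)
  have hg : Function.Injective g := fun i j hij => hc (comp_inj hf hij)
  have hg0 : ∀ i, g i ≠ 0 := by
    intro i h
    apply hf
    ext t
    have h1 := DFunLike.congr_fun h ((c i)⁻¹ * t)
    have h2 : f (c i * ((c i)⁻¹ * t)) = 0 := h1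
    rw [← mul_assoc, mul_inv_cancel₀ (hc0 i), one_mul] at h2
    exact h2
  have hgW : ∀ i, Wt ρ X ψ (g i) ≠ ⊥ := fun i => Wt_torus (hT i) hW
  have h1 : ∀ i, (Nat.card K) ^ (p ^ n) ≤ Nat.card (Wt ρ X ψ (g i)) := by
    intro i
    rw [Module.natCard_eq_pow_finrank (K := K) (V := Wt ρ X ψ (g i))]
    exact Nat.pow_le_pow_right Nat.card_pos (le_finrank_Wt hψ hp hK hX (hg0 i) (hD _ (hg0 i)) (hgW i))
  have h2 := Nat.card_le_card_of_injective _ (sum_injective (ρ := ρ) (X := X) hψ hpF hg)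
  rw [Nat.card_pi] at h2
  refine le_trans ?_ h2
  calc (Nat.card K) ^ (Nat.card ι * p ^ n) = ∏ _i : ι, (Nat.card K) ^ (p ^ n) := by
        rw [prod_const, card_univ, ← pow_mul, ← Nat.card_eq_fintype_card (α := ι), mul_comm]
    _ ≤ _ := prod_le_prod' fun i _ => h1 i

end weights

/-! ### Actions on `2`-groups -/

section two

variable {X : F → E}

theorem two_ne_zero' (hp2 : p ≠ 2) : (2 : ZMod p) ≠ 0 := by
  intro h
  have h1 : ((2 : ℕ) : ZMod p) = 0 := by exact_mod_cast h
  rw [ZMod.natCast_eq_zero_iff] at h1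
  exact hp2 ((Nat.prime_dvd_prime_iff_eq Fact.out Nat.prime_two).1 h1)

/-- A finite field of characteristic `2` with `p`-th roots of unity. -/
theorem exists_field (hp2 : p ≠ 2) : ∃ (K : Type) (_ : Field K) (_ : Finite K) (_ : Algebra (ZMod 2) K)
    (ψ : AddChar (ZMod p) K), ψ.IsPrimitive := by
  haveI : Fact (Nat.Prime 2) := ⟨Nat.prime_two⟩
  let d := orderOf (2 : ZMod p)
  have hp : p.Prime := Fact.out
  have hd : d ≠ 0 := by
    have h1 : 0 < d := by
      show 0 < orderOf (2 : ZMod p)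
      rw [orderOf_pos_iff, isOfFinOrder_iff_pow_eq_one]
      exact ⟨p - 1, Nat.sub_pos_of_lt hp.one_lt, ZMod.pow_card_sub_one_eq_one (two_ne_zero' hp2)⟩
    omega
  let K := GaloisField 2 d
  have hcard : Nat.card K = 2 ^ d := GaloisField.card 2 d hd
  haveI : Finite K := Nat.finite_of_card_ne_zero (by rw [hcard]; positivity)
  have hdvd : p ∣ Nat.card Kˣ := by
    rw [Nat.card_units, hcard]
    have h1 : ((1 : ℕ) : ZMod p) = ((2 ^ d : ℕ) : ZMod p) := by
      push_cast
      exact (pow_orderOf_eq_one _).symm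
    exact (Nat.modEq_iff_dvd' Nat.one_le_two_pow).1 ((ZMod.natCast_eq_natCast_iff _ _ _).1 h1)
  obtain ⟨ζ, hζ⟩ := exists_prime_orderOf_dvd_card' p hdvd
  have h3 : IsPrimitiveRoot (ζ : K) p := by
    rw [IsPrimitiveRoot.coe_units_iff, ← hζ]
    exact IsPrimitiveRoot.orderOf ζ
  exact ⟨K, inferInstance, inferInstance, inferInstance, _, AddChar.zmodChar_primitive_of_primitive_root p h3⟩

/-- Linear actions over `𝔽₂`. -/
theorem two_pow_le_linear [Finite F] (hp2 : p ≠ 2) (hX : ∀ t u, X (t + u) = X t * X u) {A : Type v}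
    [AddCommGroup A] [Module (ZMod 2) A] [Finite A] (ρ : E →* Module.End (ZMod 2) A) (hne : ∃ t, ρ (X t) ≠ 1)
    {n : ℕ} (hD : ∀ f : F →ₗ[ZMod p] ZMod p, f ≠ 0 → Dual X n f) {ι : Type*} [Finite ι] {c : ι → F} {T : ι → E}
    (hc : Function.Injective c) (hc0 : ∀ i, c i ≠ 0) (hT : ∀ i t, T i * X t * (T i)⁻¹ = X (c i * t)) :
    2 ^ (Nat.card ι * p ^ n) ≤ Nat.card A := by
  haveI : Fact (Nat.Prime 2) := ⟨Nat.prime_two⟩
  obtain ⟨K, i1, i2, i3, ψ, hψ⟩ := exists_field (p := p) hp2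
  have hchar : CharP K 2 := charP_of_injective_algebraMap (algebraMap (ZMod 2) K).injective 2
  have hp : p.Prime := Fact.out
  have hodd : ∀ m : ℕ, Odd m → (m : K) ≠ 0 := by
    intro m hm h
    rw [CharP.cast_eq_zero_iff K 2] at h
    exact (Nat.not_even_iff_odd.2 hm) (even_iff_two_dvd.2 h)
  have hpodd : Odd p := hp.odd_of_ne_two hp2
  have hFodd : Odd (Nat.card F) := by
    haveI : Module.Finite (ZMod p) F := Module.Finite.of_finite
    rw [Module.natCard_eq_pow_finrank (K := ZMod p) (V := F), Nat.card_zmod]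
    exact hpodd.pow
  haveI : Module.Finite (ZMod 2) A := Module.Finite.of_finite
  haveI : Module.Finite (ZMod 2) K := Module.Finite.of_finite
  haveI : Finite (TensorProduct (ZMod 2) K A) := Module.finite_of_finite K
  have hKne : (Nat.card K : ZMod p) ≠ 0 := by
    rw [Module.natCard_eq_pow_finrank (K := ZMod 2) (V := K), Nat.card_zmod]
    push_cast
    exact pow_ne_zero _ (two_ne_zero' hp2)
  let β : Module.End (ZMod 2) A →* Module.End K (TensorProduct (ZMod 2) K A) :=
    (Module.End.baseChangeHom (ZMod 2) K A).toMonoidHom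
  have hβ : Function.Injective β := by
    intro f g h
    exact LinearMap.baseChangeHom_injective (ZMod 2) A K h
  have h1 := card_le (ρ := β.comp ρ) (X := X) (ψ := ψ) hψ (hodd p hpodd) (hodd _ hFodd) hKne hX
    (by
      obtain ⟨t, ht⟩ := hne
      exact ⟨t, fun h => ht (hβ (h.trans (map_one β).symm))⟩) hD hc hc0 hT
  rw [Module.natCard_eq_pow_finrank (K := K) (V := TensorProduct (ZMod 2) K A), Module.finrank_baseChange,
    Nat.pow_le_pow_iff_right (Finite.one_lt_card)] at h1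
  rw [Module.natCard_eq_pow_finrank (K := ZMod 2) (V := A), Nat.card_zmod]
  exact Nat.pow_le_pow_right (by norm_num) h1

/-- A `2`-group of exponent `2`. -/
theorem two_pow_le_elem [Finite F] (hp2 : p ≠ 2) (hX : ∀ t u, X (t + u) = X t * X u) {V : Type v}
    [CommGroup V] [Finite V] (hV : ∀ v : V, v ^ 2 = 1) (φ : E →* MulAut V) (hne : ∃ t, φ (X t) ≠ 1)
    {n : ℕ} (hD : ∀ f : F →ₗ[ZMod p] ZMod p, f ≠ 0 → Dual X n f) {ι : Type*} [Finite ι] {c : ι → F} {T : ι → E}
    (hc : Function.Injective c) (hc0 : ∀ i, c i ≠ 0) (hT : ∀ i t, T i * X t * (T i)⁻¹ = X (c i * t)) :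
    2 ^ (Nat.card ι * p ^ n) ≤ Nat.card V := by
  letI : Module (ZMod 2) (Additive V) := AddCommGroup.zmodModule fun v => hV v.toMul
  haveI : Finite (Additive V) := inferInstanceAs (Finite V)
  let ρ : E →* Module.End (ZMod 2) (Additive V) :=
    { toFun := fun g => (MonoidHom.toAdditive (φ g).toMonoidHom).toZModLinearMap 2
      map_one' := by
        ext v
        show Additive.ofMul (φ 1 v.toMul) = v
        rw [map_one]; rfl
      map_mul' := fun g h => by
        ext v
        show Additive.ofMul (φ (g * h) v.toMul) = Additive.ofMul (φ g (φ h v.toMul))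
        rw [map_mul]; rfl }
  have h1 := two_pow_le_linear hp2 hX ρ (by
    obtain ⟨t, ht⟩ := hne
    refine ⟨t, fun h => ht ?_⟩
    ext v
    exact congrArg Additive.toMul (DFunLike.congr_fun h (Additive.ofMul v))) hD hc hc0 hT
  exact h1

/-- **The Heisenberg bound with a torus**, all functionals. -/
theorem two_pow_le_dual [Finite F] (hp2 : p ≠ 2) (hX : ∀ t u, X (t + u) = X t * X u) {V : Type v}
    [CommGroup V] [Finite V] (h2 : IsPGroup 2 V) (φ : E →* MulAut V) (hne : ∃ t, φ (X t) ≠ 1)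
    {n : ℕ} (hD : ∀ f : F →ₗ[ZMod p] ZMod p, f ≠ 0 → Dual X n f) {ι : Type*} [Finite ι] {c : ι → F} {T : ι → E}
    (hc : Function.Injective c) (hc0 : ∀ i, c i ≠ 0) (hT : ∀ i t, T i * X t * (T i)⁻¹ = X (c i * t)) :
    2 ^ (Nat.card ι * p ^ n) ≤ Nat.card V := by
  classical
  let U : Subgroup V :=
    { carrier := {v | v ^ 2 = 1}
      one_mem' := one_pow 2
      mul_mem' := fun {a b} ha hb => by
        show (a * b) ^ 2 = 1
        rw [mul_pow, show a ^ 2 = 1 from ha, show b ^ 2 = 1 from hb, one_mul]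
      inv_mem' := fun {a} ha => by
        show a⁻¹ ^ 2 = 1
        rw [inv_pow, show a ^ 2 = 1 from ha, inv_one] }
  have hU : ∀ g, ∀ x ∈ U, φ g x ∈ U := by
    intro g x hx
    show (φ g x) ^ 2 = 1
    rw [← map_pow, show x ^ 2 = 1 from hx, map_one]
  have h1 : ∃ t, resAct φ U hU (X t) ≠ 1 := by
    obtain ⟨t, ht⟩ := hne
    refine ⟨t, fun h => ht ?_⟩
    letI := addAct φ
    haveI : Finite (Additive V) := inferInstanceAs (Finite V)
    have h4 : IsPGroup 2 (Multiplicative (Additive V)) := by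
      intro g
      obtain ⟨k, hk⟩ := h2 (Additive.toMul (Multiplicative.toAdd g))
      exact ⟨k, hk⟩
    have htor := tors_of_two (A := Additive V) (Fact.out : p.Prime) h4 hp2
    have hbot : Heis.comm (Additive V) (X t) = ⊥ := by
      by_contra hb
      obtain ⟨v, hv0⟩ := AddSubgroup.ne_bot_iff_exists_ne_zero.1 hb
      have hv : (v : Additive V) ∈ Heis.comm (Additive V) (X t) := v.2
      -- an element of order `2`
      obtain ⟨k, hk⟩ := h2 (Additive.toMul (v : Additive V))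
      have hk' : (2 ^ k) • (v : Additive V) = 0 := hk
      have hex : ∃ m : ℕ, (2 ^ m) • (v : Additive V) = 0 := ⟨k, hk'⟩
      have hm := Nat.find_spec hex
      have hm0 : Nat.find hex ≠ 0 := by
        intro h0
        rw [h0, pow_zero, one_smul] at hm
        exact hv0 (Subtype.ext hm)
      obtain ⟨m, hmm⟩ := Nat.exists_eq_succ_of_ne_zero hm0
      have hm1 : (2 ^ m) • (v : Additive V) ≠ 0 := Nat.find_min hex (by omega)
      apply hm1
      have hw : (2 ^ m) • (v : Additive V) ∈ Heis.comm (Additive V) (X t) :=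
        AddSubgroup.nsmul_mem _ hv _
      refine Heis.comm_free (X_pow hX t) htor hw ?_
      have hwU : Additive.toMul ((2 ^ m) • (v : Additive V)) ∈ U := by
        show (Additive.toMul ((2 ^ m) • (v : Additive V))) ^ 2 = 1
        have h5 : 2 • ((2 ^ m) • (v : Additive V)) = 0 := by
          rw [hmm, Nat.succ_eq_add_one, pow_succ] at hm
          rw [smul_smul, mul_comm]
          exact hm
        exact congrArg Additive.toMul h5
      have h6 := congrArg Subtype.val (DFunLike.congr_fun h ⟨_, hwU⟩)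
      exact congrArg Additive.ofMul h6
    ext v
    have h5 : X t • (Additive.ofMul v) - Additive.ofMul v ∈ Heis.comm (Additive V) (X t) := ⟨_, rfl⟩
    rw [hbot] at h5
    exact congrArg Additive.toMul (sub_eq_zero.1 h5)
  have h3 := two_pow_le_elem hp2 hX (V := U) (fun v => Subtype.ext v.2) (resAct φ U hU) h1 hD hc hc0 hT
  exact h3.trans (Nat.card_le_card_of_injective _ Subtype.val_injective)

end two

/-! ### Heisenberg configurations over fields -/

section field

variable {X : F → E} {h : ℕ} {A B : Fin h → F → E} {c : Fin h → F}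

/-- Dual elements from a configuration. -/
theorem FH.dual [Finite F] (hH : FH p h X A B c) {f : F →ₗ[ZMod p] ZMod p} (hf : f ≠ 0) :
    Dual X (h * Module.finrank (ZMod p) F) f := by
  classical
  haveI : Module.Finite (ZMod p) F := Module.Finite.of_finite
  let e := Module.finrank (ZMod p) F
  let Bf : LinearMap.BilinForm (ZMod p) F := LinearMap.mk₂ (ZMod p) (fun t u => f (t * u))
    (fun t t' u => by rw [add_mul, map_add]) (fun a t u => by rw [smul_mul_assoc, map_smul])
    (fun t u u' => by rw [mul_add, map_add]) (fun a t u => by rw [mul_smul_comm, map_smul])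
  have hBf : ∀ t u, Bf t u = f (t * u) := fun t u => rfl
  have hnd : Bf.Nondegenerate := by
    obtain ⟨s, hs⟩ : ∃ s, f s ≠ 0 := by
      by_contra hcon
      push Not at hcon
      exact hf (LinearMap.ext hcon)
    constructor
    · intro t ht
      by_contra ht0
      apply hs
      have := ht (t⁻¹ * s)
      rwa [hBf, ← mul_assoc, mul_inv_cancel₀ ht0, one_mul] at this
    · intro t ht
      by_contra ht0
      apply hs
      have := ht (s * t⁻¹)
      rwa [hBf, mul_assoc, inv_mul_cancel₀ ht0, mul_one] at this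
  let b : Module.Basis (Fin e) (ZMod p) F := Module.finBasis (ZMod p) F
  let b' : Fin e → F := fun i => Bf.dualBasis hnd b i
  have hbb : ∀ i j, f (b' i * b j) = if i = j then 1 else 0 := by
    intro i j
    have := LinearMap.BilinForm.apply_dualBasis_left hnd b i j
    rw [hBf] at this
    rw [this]
    simp only [eq_comm]
  let ε : Fin (h * e) ≃ Fin h × Fin e := finProdFinEquiv.symm
  refine ⟨fun i => A (ε i).1 (b (ε i).2), fun i => B (ε i).1 ((c (ε i).1)⁻¹ * b' (ε i).2),
    fun i j => if (ε i).1 = (ε j).1 then b' (ε i).2 * b (ε j).2 else 0, fun i => hH.A_pow _ _, fun i t => hH.XA _ _ _,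
    fun i t => hH.XB _ _ _, fun i j => hH.AA _ _ _ _, fun i j => ?_, fun i j => ?_⟩
  · by_cases hij : (ε i).1 = (ε j).1
    · simp only
      rw [if_pos hij, hij, hH.conj, ← mul_assoc, mul_inv_cancel₀ (hH.c_ne _), one_mul]
    · simp only
      rw [if_neg hij, X_zero hH.add, mul_one, hH.BA _ _ hij]
      group
  · by_cases hij : (ε i).1 = (ε j).1
    · simp only
      rw [if_pos hij, hbb]
      by_cases hij2 : (ε i).2 = (ε j).2
      · have : i = j := ε.injective (Prod.ext hij hij2)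
        rw [if_pos hij2, if_pos this]
      · rw [if_neg hij2, if_neg (fun h => hij2 (by rw [h]))]
    · simp only
      rw [if_neg hij, map_zero, if_neg (fun h => hij (by rw [h]))]

end field

end Cfsg.Agent.Omega.ML.TorusLB

namespace Cfsg.Agent.Omega.ML.TorusLB

open Finset Cfsg.Agent.Omega.Lie.Heis Cfsg.Agent.Omega.Lie.HeisF Cfsg.Agent.Omega.Lie.FHeis

variable {E : Type u} [Group E] {F : Type w} [Field F] [Finite F] {p : ℕ} [Fact p.Prime] [CharP F p]

/-- **The Heisenberg bound over a field with a torus**: multipliers `c i`, `i ∈ ι`. -/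
theorem FH.two_pow_le {X : F → E} {h : ℕ} {A B : Fin h → F → E} {c : Fin h → F} (hH : FH p h X A B c)
    (hp2 : p ≠ 2) {V : Type v} [CommGroup V] [Finite V] (h2 : IsPGroup 2 V) (φ : E →* MulAut V)
    (hne : ∃ t, φ (X t) ≠ 1) {ι : Type*} [Finite ι] {d : ι → F} {T : ι → E}
    (hd : Function.Injective d) (hd0 : ∀ i, d i ≠ 0) (hT : ∀ i t, T i * X t * (T i)⁻¹ = X (d i * t)) :
    2 ^ (Nat.card ι * Nat.card F ^ h) ≤ Nat.card V := by
  letI : Algebra (ZMod p) F := ZMod.algebra F p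
  haveI : Module.Finite (ZMod p) F := Module.Finite.of_finite
  have h1 := two_pow_le_dual hp2 hH.add h2 φ hne (fun f hf => FH.dual hH hf) hd hd0 hT
  have h3 : Nat.card F = p ^ Module.finrank (ZMod p) F := by
    rw [Module.natCard_eq_pow_finrank (K := ZMod p) (V := F), Nat.card_zmod]
  rwa [mul_comm h, pow_mul p, ← h3] at h1

/-- The full torus. -/
theorem FH.two_pow_le_torus {X : F → E} {h : ℕ} {A B : Fin h → F → E} {c : Fin h → F} (hH : FH p h X A B c)
    (hp2 : p ≠ 2) {V : Type v} [CommGroup V] [Finite V] (h2 : IsPGroup 2 V) (φ : E →* MulAut V)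
    (hne : ∃ t, φ (X t) ≠ 1) {T : F → E} (hT : ∀ c, c ≠ 0 → ∀ t, T c * X t * (T c)⁻¹ = X (c * t)) :
    2 ^ ((Nat.card F - 1) * Nat.card F ^ h) ≤ Nat.card V := by
  have h1 := FH.two_pow_le hH hp2 h2 φ hne (ι := Fˣ) (d := fun c => (c : F)) (T := fun c => T c)
    Units.val_injective (fun c => c.ne_zero) (fun c t => hT c c.ne_zero t)
  rwa [Nat.card_units] at h1

variable {ι : Type*} {z : F → E} {x y : ι → F → E}

theorem fh_of_fheis [Finite ι] (h : FHeis z x y) : ∃ e : Fin (Nat.card ι) ≃ ι,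
    FH p (Nat.card ι) z (fun j => x (e j)) (fun j => y (e j)) (fun _ => 1) := by
  let e : Fin (Nat.card ι) ≃ ι := (Finite.equivFin ι).symm
  refine ⟨e, h.z_add, fun j t => add_pow_char (h.x_add _) t, fun j t u => h.zx _ _ _, fun j t u => h.zy _ _ _,
      fun i j t u => ?_, fun i j hij t u => h.yx _ _ _ _ fun h' => hij (e.injective h'), fun j t u => ?_,
      fun j => one_ne_zero⟩
  · by_cases hij : i = j
    · subst hij
      exact add_comm' (h.x_add _) t u
    · exact h.xx _ _ _ _ fun h' => hij (e.injective h')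
  · show y (e j) t * x (e j) u * (y (e j) t)⁻¹ = x (e j) u * z (1 * t * u)
    rw [h.conj, one_mul, mul_comm t u]

/-- **The Heisenberg bound with a torus for `FHeis`**: multipliers `d j`, `j ∈ κ`. -/
theorem two_pow_le [Finite ι] (hp2 : p ≠ 2) (h : FHeis z x y) {V : Type v} [CommGroup V] [Finite V]
    (φ : E →* MulAut V) (h2 : IsPGroup 2 V) (hne : ∃ t, φ (z t) ≠ 1) {κ : Type*} [Finite κ] {d : κ → F}
    {T : κ → E} (hd : Function.Injective d) (hd0 : ∀ i, d i ≠ 0) (hT : ∀ i t, T i * z t * (T i)⁻¹ = z (d i * t)) :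
    2 ^ (Nat.card κ * Nat.card F ^ Nat.card ι) ≤ Nat.card V := by
  obtain ⟨e, hH⟩ := fh_of_fheis (p := p) h
  exact FH.two_pow_le hH hp2 h2 φ hne hd hd0 hT

/-- **The Heisenberg bound with the full torus for `FHeis`.** -/
theorem two_pow_le_torus [Finite ι] (hp2 : p ≠ 2) (h : FHeis z x y) {V : Type v} [CommGroup V] [Finite V]
    (φ : E →* MulAut V) (h2 : IsPGroup 2 V) (hne : ∃ t, φ (z t) ≠ 1) {T : F → E}
    (hT : ∀ c, c ≠ 0 → ∀ t, T c * z t * (T c)⁻¹ = z (c * t)) :
    2 ^ ((Nat.card F - 1) * Nat.card F ^ Nat.card ι) ≤ Nat.card V := by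
  obtain ⟨e, hH⟩ := fh_of_fheis (p := p) h
  exact FH.two_pow_le_torus hH hp2 h2 φ hne hT

end Cfsg.Agent.Omega.ML.TorusLB
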