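import Cfsg.Agent.Omega.ML.HermLift
import Cfsg.Agent.Omega.ML.TorusLB

/-!
# Unitary Heisenberg configurations and the torus

`Herm.lb_torus`: `HermLift.Herm.lb` together with elements `t` (commuting with `g`) which multiply the parameter of
the root group `T i₀` by `a` with `σ a * a = c`, for all `c ≠ 0` in the fixed field `F₀`:
`LB K ((|F₀| - 1) * |F₀| ^ |ι|)` (helper351; `HermLift` is due to helper529).
-/

set_option autoImplicit false
set_option linter.dupNamespace false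

universe u v w

namespace Cfsg.Agent.Omega.ML.HermLift

open Cfsg.Agent.Omega.Lie.FHeis Cfsg.Agent.Omega.Lie.HeisLift Cfsg.Agent.Omega.Lie.Heis

variable {F : Type*} [Field F] {σ : F →+* F} {ι : Type*} {K : Type u} [Group K] {p : ℕ} {T : ι → F → K} {Zs : Set K}
  {g : K} {U : Set F} {i₀ : ι}

/-- **The lower bound with the torus in all odd covers.** -/
theorem Herm.lb_torus [Finite F] [Finite ι] [Fact p.Prime] [CharP F p] (hp2 : p ≠ 2) [IsSimpleGroup K]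
    (h : Herm σ p T Zs g U i₀) (hσ : ∀ x, σ (σ x) = x) (hU1 : ∀ ζ ∈ U, σ ζ * ζ = 1)
    (hU : AddSubgroup.closure U = ⊤) (hN : ∀ a, σ a = a → ∃ c, σ c * c = a) {τ : F} (hτ : σ τ = -τ)
    (hne : T i₀ 1 * T i₀ τ ≠ T i₀ τ * T i₀ 1)
    (htor : ∀ c : F, σ c = c → c ≠ 0 → ∃ (t : K) (a : F), t * g = g * t ∧ (∀ d, t * T i₀ d * t⁻¹ = T i₀ (a * d)) ∧
      σ a * a = c) :
    LB.{u, v, w} K ((Nat.card (fix σ) - 1) * Nat.card (fix σ) ^ Nat.card ι) := by
  intro L _ _ π hπ hc ho hL V _ _ h2 φ hφ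
  have : CharP (fix σ) p := (algebraMap (fix σ) F).charP (algebraMap (fix σ) F).injective p
  obtain ⟨z', x', y', h', hz', hz''⟩ := h.lift hσ hU1 hU hN hτ hπ hc ho
  have hT : ∀ c : fix σ, ∃ T' : L, c ≠ 0 → ∀ s, T' * z' s * T'⁻¹ = z' (c * s) := by
    intro c
    by_cases hc0 : c = 0
    · exact ⟨1, fun h => absurd hc0 h⟩
    · obtain ⟨t, a, h1, h3, h4⟩ := htor c (fix_coe c) (fun h => hc0 (Subtype.ext h))
      obtain ⟨t, rfl⟩ := hπ t
      exact ⟨t, fun _ s => hz'' t a h1 h3 s (c * s) (by rw [h4]; rfl)⟩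
  choose T' hT' using hT
  refine TorusLB.two_pow_le_torus hp2 h' φ h2 ⟨-1, fun h1 => hne ?_⟩ hT'
  have h3 : z' (-1) ∈ π.ker := ker_le_ker hπ hc hL hφ (MonoidHom.mem_ker.2 h1)
  rw [MonoidHom.mem_ker, hz'] at h3
  have h4 : -τ * ((-1 : fix σ) : F) = τ := by
    push_cast
    ring
  rw [h4] at h3
  calc T i₀ 1 * T i₀ τ = (T i₀ 1 * T i₀ τ * (T i₀ 1)⁻¹ * (T i₀ τ)⁻¹) * (T i₀ τ * T i₀ 1) := by group
    _ = T i₀ τ * T i₀ 1 := by rw [h3, one_mul]

end Cfsg.Agent.Omega.ML.HermLift
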