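import Cfsg.Agent.Omega.ML.InOf
import Cfsg.Agent.Omega.ML.Final
import Cfsg.Agent.Omega.FFBr.Final

/-!
# (ML): the reduction socket `Final.InOf` is discharged

* `inOf` : `Final.InOf`;
* `mlk_of_rows` : `MLK` from the rows alone.
-/

set_option autoImplicit false

namespace Cfsg.Agent.Omega.ML.InOfEnd

open Subgroup Cfsg Cfsg.Agent.Omega.ML.MinFrame Cfsg.Agent.Omega.ML.LocRow

universe u v

/-- **THE REDUCTION OF (ML)** -/
theorem inOf : Final.InOf.{u, v} := by
  intro H _ _ M _ _ _ T Q A z h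
  obtain ⟨L, B, hin⟩ := h.exists_in FFBr.aStmt
  obtain ⟨z', -, hb⟩ := hin.exists_base
  exact ⟨L, T, _, B, z', ⟨hin, hb⟩⟩

/-- **(ML) for K-groups from the rows** -/
theorem mlk_of_rows (hR : Rows.Dead.{u, v} fun S _ => IsKnownSimple' S) : Final.MLK.{u, v} :=
  Final.mlk_of inOf (Dead.deadZ hR)

end Cfsg.Agent.Omega.ML.InOfEnd
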