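import Cfsg.Agent.Omega.ML.InvRow

/-!
# (ML), the K-list end: tools for `InvRow.dead` (helper226)

* `chain_of_sylow` : `Chain w m` for all elements of the same prime order `q`, `q ^ 2 ∤ |G|`;
* `index_conj_eq` : `|Out|` and isomorphisms;  `dead_of_model` : the row from a model;
* `inv_mul_conj` : `x` inverts `x (h x h⁻¹)`.
-/

set_option autoImplicit false

namespace Cfsg.Agent.Omega.ML.InvTool

open Subgroup Cfsg Cfsg.Agent.Omega.ML.Rows Cfsg.Agent.Omega.ML.InvChain Cfsg.Agent.Omega.ML.InvRow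
open Cfsg.Agent.Omega.TwoF

universe u v w

theorem chain_conj {G : Type*} [Group G] {w : G} {m : ℕ} (h : Chain w m) (g : G) :
    Chain (g * w * g⁻¹) m := h.map (MulAut.conj g).toMonoidHom (MulAut.conj g).injective

/-- `x` inverts `x y` -/
theorem inv_mul {G : Type*} [Group G] {x y : G} (hx : x * x = 1) (hy : y * y = 1) : x * (x * y) * x⁻¹ = (x * y)⁻¹ := by
  rw [mul_inv_rev, ← mul_assoc, hx, one_mul, inv_eq_of_mul_eq_one_right hy]

/-- `x` inverts `x (h x h⁻¹)` -/
theorem inv_mul_conj {G : Type*} [Group G] {x : G} (hx : x * x = 1) (h : G) :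
    x * (x * (h * x * h⁻¹)) * x⁻¹ = (x * (h * x * h⁻¹))⁻¹ := by
  apply inv_mul hx
  have e : h * x * h⁻¹ * (h * x * h⁻¹) = h * (x * x) * h⁻¹ := by group
  rw [e, hx, mul_one, mul_inv_cancel]

/-- **`x` and its conjugate `h x h⁻¹`** -/
theorem invAt_of_mul {G : Type*} [Group G] {x : G} (hx : x * x = 1) {h : G} {n m : ℕ}
    (hw : Chain (x * (h * x * h⁻¹)) m) (hn : 2 * n ≤ m + 1) : InvAt x n :=
  ⟨_, m, hw, inv_mul_conj hx h, hn⟩

/-- an element of prime order `q`, `q ^ 2 ∤ |G|`, is conjugate to a power of any other such element -/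
theorem exists_conj_pow {G : Type*} [Group G] [Finite G] {w w₀ : G} (hq : (orderOf w₀).Prime)
    (hcard : ¬ orderOf w₀ ^ 2 ∣ Nat.card G) (hw : orderOf w = orderOf w₀) :
    ∃ (g : G) (i : ℕ), g * w * g⁻¹ = w₀ ^ i := by
  have hf : Fact (orderOf w₀).Prime := ⟨hq⟩
  have hfac : (Nat.card G).factorization (orderOf w₀) = 1 := by
    have hpG : orderOf w₀ ∣ Nat.card G := orderOf_dvd_natCard w₀
    have h1 : 1 ≤ (Nat.card G).factorization (orderOf w₀) :=
      (hq.dvd_iff_one_le_factorization Nat.card_pos.ne').mp hpG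
    have h2 : ¬ 2 ≤ (Nat.card G).factorization (orderOf w₀) := fun h =>
      hcard ((hq.pow_dvd_iff_le_factorization Nat.card_pos.ne').mpr h)
    omega
  have hc : ∀ v : G, orderOf v = orderOf w₀ →
      Nat.card (zpowers v) = orderOf w₀ ^ (Nat.card G).factorization (orderOf w₀) := by
    intro v hv
    rw [Nat.card_zpowers, hv, hfac, pow_one]
  let P : Sylow (orderOf w₀) G := Sylow.ofCard (zpowers w) (hc w hw)
  let Q : Sylow (orderOf w₀) G := Sylow.ofCard (zpowers w₀) (hc w₀ rfl)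
  obtain ⟨g, hg⟩ := MulAction.exists_smul_eq G P Q
  have hP : (P : Subgroup G) = zpowers w := rfl
  have hQ : (Q : Subgroup G) = zpowers w₀ := rfl
  have h3 : g * w * g⁻¹ ∈ (Q : Subgroup G) := by
    rw [← hg, Sylow.coe_subgroup_smul, hP]
    exact ⟨w, mem_zpowers w, by simp [MulAut.smul_def, MulAut.conj_apply]⟩
  rw [hQ] at h3
  obtain ⟨i, hi⟩ := mem_powers_iff_mem_zpowers.2 h3
  exact ⟨g, i, hi.symm⟩

/-- **All elements of order `q`** (`q ^ 2 ∤ |G|`) **from one Frobenius group of order `p q`.** -/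
theorem chain_of_sylow {G : Type*} [Group G] [Finite G] {u w₀ : G} {m m' k : ℕ} (hu : Chain u m)
    (hq : (orderOf w₀).Prime) (h2 : orderOf w₀ ≠ 2) (hk : w₀ * u * w₀⁻¹ = u ^ k) (hne : w₀ * u ≠ u * w₀)
    (hm : orderOf w₀ * m' < m * (orderOf w₀ - 1) + orderOf w₀) (hcard : ¬ orderOf w₀ ^ 2 ∣ Nat.card G) {w : G}
    (hw : orderOf w = orderOf w₀) : Chain w m' := by
  obtain ⟨g, i, hi⟩ := exists_conj_pow hq hcard hw
  have hord : orderOf (w₀ ^ i) = orderOf w₀ := by
    rw [← hi, ← hw]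
    exact (MulAut.conj g).orderOf_eq w
  have h3 : Chain (w₀ ^ i) m' := by
    have hpow : ∀ n : ℕ, w₀ ^ n * u * (w₀ ^ n)⁻¹ = u ^ k ^ n := by
      intro n
      induction n with
      | zero => simp
      | succ n ih =>
        have e : w₀ ^ (n + 1) * u * (w₀ ^ (n + 1))⁻¹ = w₀ * (w₀ ^ n * u * (w₀ ^ n)⁻¹) * w₀⁻¹ := by
          rw [pow_succ']; group
        rw [e, ih, ← conj_pow, hk, ← pow_mul, ← pow_succ']
    refine Chain.step u (w₀ ^ i) m m' (k ^ i) hu (hord ▸ hq) (hord ▸ h2) (hpow i) ?_ (by rwa [hord])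
    intro hcomm
    apply hne
    have h4 : w₀ ∈ zpowers (w₀ ^ i) := by
      have h5 : zpowers (w₀ ^ i) = zpowers w₀ := by
        refine Subgroup.eq_of_le_of_card_ge ((zpowers_le).2 (pow_mem (mem_zpowers _) _)) ?_
        rw [Nat.card_zpowers, Nat.card_zpowers, hord]
      rw [h5]
      exact mem_zpowers _
    obtain ⟨j, hj⟩ := mem_powers_iff_mem_zpowers.2 h4
    have hj : (w₀ ^ i) ^ j = w₀ := hj
    have h6 : Commute (w₀ ^ i) u := hcomm
    have h7 := h6.pow_left j
    rw [hj] at h7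
    exact h7
  rw [← hi] at h3
  have h8 := chain_conj h3 g⁻¹
  have e : g⁻¹ * (g * w * g⁻¹) * g⁻¹⁻¹ = w := by group
  rwa [e] at h8

/-- `|Out|` and isomorphisms -/
theorem index_conj_eq {S S' : Type*} [Group S] [Group S'] (e : S ≃* S') :
    (MulAut.conj : S →* MulAut S).range.index = (MulAut.conj : S' →* MulAut S').range.index := by
  have h1 : (MulAut.conj : S →* MulAut S).range =
      ((MulAut.conj : S' →* MulAut S').range).comap (MulAut.congr e).toMonoidHom := by
    ext φ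
    constructor
    · rintro ⟨g, rfl⟩
      refine ⟨e g, ?_⟩
      ext x
      simp [MulAut.congr]
    · rintro ⟨g, hg⟩
      refine ⟨e.symm g, ?_⟩
      ext x
      have h2 := congrArg (fun ψ : MulAut S' => ψ (e x)) hg
      simp only [MulAut.conj_apply] at h2 ⊢
      apply e.injective
      rw [map_mul, map_mul, map_inv, e.apply_symm_apply, h2]
      simp [MulAut.congr]
  rw [h1]
  exact index_comap_of_surjective _ (MulAut.congr e).surjective

/-- **The row from a model.** -/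
theorem dead_of_model {S₀ : Type w} [Group S₀] {n : ℕ} (hrk : RK S₀ n)
    (hout : (MulAut.conj : S₀ →* MulAut S₀).range.index < 8) (hinv : ∀ x : S₀, x * x = 1 → x ≠ 1 → InvAt x n) :
    Dead.{u, v} (fun S _ => Nonempty (S ≃* S₀)) := by
  apply InvRow.dead
  rintro S _ _ ⟨e⟩
  refine ⟨n, hrk.equiv e, by rwa [index_conj_eq e], fun x h2 h1 => ?_⟩
  have h3 := hinv (e x) (by rw [← map_mul, h2, map_one]) (fun h => h1 (e.injective (h.trans (map_one e).symm)))
  have h4 := h3.map e.symm.toMonoidHom e.symm.injective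
  have h5 : e.symm.toMonoidHom (e x) = x := e.symm_apply_apply x
  rwa [h5] at h4

end Cfsg.Agent.Omega.ML.InvTool
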