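import Cfsg.Agent.Omega.ML.LocK
import Cfsg.Agent.CoOneType.CoOneE
import Cfsg.Agent.CoOneType.FrameFix
import Cfsg.Agent.CoOneType.ClosingCo1

/-!
# (ML), THEOREM LOC: the K-fact of `Co1`: `2¹¹:M24`, an element of order 23 (helper907)
-/

set_option autoImplicit false

namespace Cfsg.Agent.Omega.ML.LocCo1

open Subgroup Cfsg
open Cfsg.Agent.SporadicA.Co0Mono Cfsg.Agent.SporadicA.Co1Simple
open Cfsg.Agent.CoOneType.SignFacts (sup wt mem_sup wt_add_allOne)
open Cfsg.Agent.CoOneType.CoOneE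
open Cfsg.Agent.Omega.ML.LocK
open scoped Pointwise

/-- A permutation of `M24` which fixes all the octads is trivial. -/
theorem perm_eq_one_of {σ : M24} (h : ∀ c : golayCode, wt c = 8 → wordPerm σ c = c) : σ = 1 := by
  obtain ⟨o, ho⟩ := Cfsg.Agent.CoOneType.ClosingCo1.exists_octad
  have hin : ∃ i, i ∈ sup o := by
    by_contra hcon
    push Not at hcon
    have h1 : sup o = ∅ := Finset.eq_empty_of_forall_notMem hcon
    unfold wt at ho
    rw [h1, Finset.card_empty] at ho
    omega
  have hout : ∃ j, j ∉ sup o := by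
    by_contra hcon
    push Not at hcon
    have h1 : sup o = Finset.univ := Finset.eq_univ_of_forall hcon
    unfold wt at ho
    rw [h1, Finset.card_univ, Cfsg.Agent.Leech.Code.card_golayPt] at ho
    omega
  obtain ⟨i, hi⟩ := hin
  obtain ⟨j, hj⟩ := hout
  have hij : i ≠ j := fun e => hj (e ▸ hi)
  apply Subtype.ext
  ext1 p
  by_contra hp
  change ¬ (σ : Equiv.Perm GolayPt) p = p at hp
  obtain ⟨τ, hτi, hτj⟩ := Cfsg.Agent.S0399.two_transitive i j p ((σ : Equiv.Perm GolayPt) p) hij (Ne.symm hp)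
  have hs := sup_wordPerm τ o
  have hw : wt (wordPerm τ o) = 8 := by
    unfold wt
    rw [hs, Finset.card_smul_finset]
    exact ho
  have h1 := h _ hw
  have h2 := sup_wordPerm σ (wordPerm τ o)
  rw [h1, hs] at h2
  have hpm : p ∈ τ • sup o := by
    rw [Finset.mem_smul_finset]
    exact ⟨i, hi, hτi⟩
  have hqm : (σ : Equiv.Perm GolayPt) p ∈ τ • sup o := by
    rw [h2, Finset.mem_smul_finset]
    exact ⟨p, hpm, rfl⟩
  rw [Finset.mem_smul_finset] at hqm
  obtain ⟨k, hk, hk'⟩ := hqm
  have h3 : k = j := (τ : Equiv.Perm GolayPt).injective (by rw [hτj]; exact hk')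
  exact hj (h3 ▸ hk)

theorem E_comm (a : Spor.Co1) (ha : a ∈ E) (b : Spor.Co1) (hb : b ∈ E) : a * b = b * a := by
  obtain ⟨c, rfl⟩ := ha
  obtain ⟨d, rfl⟩ := hb
  rw [← map_mul, ← map_mul, ← signCo0_add, ← signCo0_add, add_comm]

/-- `E` contains its centralizer. -/
theorem cent_E (g : Spor.Co1) (hg : ∀ a ∈ E, g * a = a * g) : g ∈ E := by
  obtain ⟨d, hd⟩ := Cfsg.Agent.CoOneType.ClosingCo1.exists_dodecad
  obtain ⟨x, hx, rfl⟩ := centralizer_dodecad_le d hd (mem_centralizer_singleton_iff.2 (hg _ ⟨d, rfl⟩))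
  obtain ⟨a, σ, rfl⟩ := exists_sign_perm hx
  have hσ : σ = 1 := by
    apply perm_eq_one_of
    intro c hc
    have h1 : pr (permCo0 σ) * pr (signCo0 c) = pr (signCo0 c) * pr (permCo0 σ) := by
      have h2 := hg _ ⟨c, rfl⟩
      rw [map_mul, mul_assoc, ← mul_assoc (pr (signCo0 c)), E_comm _ ⟨c, rfl⟩ _ ⟨a, rfl⟩, mul_assoc] at h2
      exact mul_left_cancel h2
    have h3 : pr (signCo0 c) = pr (signCo0 (wordPerm σ c)) := by
      rw [← perm_mul_sign_mul_inv, map_mul, map_mul, map_inv, h1, mul_inv_cancel_right]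
    rcases (pr_sign_eq_iff _ _).1 h3 with h2 | h2
    · exact h2
    · exfalso
      have h3 : wt (wordPerm σ c) = 8 := by
        unfold wt
        rw [sup_wordPerm, Finset.card_smul_finset]
        exact hc
      have h4 := wt_add_allOne c
      rw [← h2] at h4
      omega
  rw [hσ, map_one, mul_one]
  exact ⟨a, rfl⟩

theorem conj_mem {g : Co0} (hg : g ∈ N) {a : Spor.Co1} (ha : a ∈ E) : pr g * a * (pr g)⁻¹ ∈ E := by
  obtain ⟨c, rfl⟩ := ha
  obtain ⟨d, hd⟩ := N_normalises g hg c
  exact ⟨d, by rw [← hd, map_mul, map_mul, map_inv]⟩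

theorem map_N_le : N.map pr ≤ normalizer (E : Set Spor.Co1) := by
  rintro _ ⟨g, hg, rfl⟩
  refine mem_normalizer_of (fun a ha => conj_mem hg ha) fun a ha => ?_
  have h := conj_mem (N.inv_mem hg) ha
  rwa [map_inv, inv_inv] at h

theorem odd_index : ¬ 2 ∣ (normalizer (E : Set Spor.Co1)).index := by
  intro h
  have h1 := h.trans (index_dvd_of_le map_N_le)
  have h2 : (N.map pr).index = N.index := by
    refine index_map_eq N pr_surjective ?_
    intro x hx
    have h3 : x ∈ center Co0 := by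
      rw [MonoidHom.mem_ker] at hx
      have h4 : pr 1 = pr x := by rw [map_one, hx]
      rw [mem_center_iff]
      rcases (pr_eq_iff 1 x).1 h4 with h5 | h5
      · exact Or.inl h5
      · rw [one_mul] at h5; exact Or.inr h5
    rcases (mem_center_iff x).1 h3 with rfl | rfl
    · exact N.one_mem
    · exact sign_mem_N _
  rw [h2, Cfsg.Agent.CoOneType.FrameFix.index_N] at h1
  omega

theorem orderOf_pr : orderOf (pr x23) = 23 := by
  have : Fact (Nat.Prime 23) := ⟨by norm_num⟩
  apply orderOf_eq_prime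
  · rw [← map_pow, x23_pow, map_one]
  · intro h
    have h4 : pr 1 = pr x23 := by rw [map_one, h]
    rcases (pr_eq_iff 1 x23).1 h4 with h5 | h5
    · exact x23_ne_one h5
    · rw [one_mul] at h5
      have h6 : x23 ^ 2 = 1 := by rw [h5, pow_two, signCo0_mul_self]
      have h7 := orderOf_dvd_of_pow_eq_one h6
      rw [orderOf_x23] at h7
      omega

/-- **The K-fact of `Co1`.** -/
theorem loc : Loc Spor.Co1 E (pr x23) 23 11 where
  comm := E_comm
  sq := E_sq
  card := by rw [card_E]; norm_num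
  odd := odd_index
  cent := cent_E
  prime := by norm_num
  p2 := by norm_num
  ord := orderOf_pr
  nd := by
    intro k h0 h1
    interval_cases k <;> omega
  norm := fun a ha => conj_mem x23_mem_N ha
  ne := by
    by_contra hcon
    push Not at hcon
    have h1 := cent_E _ hcon
    have h2 := E_sq _ h1
    have h3 := orderOf_dvd_of_pow_eq_one (show (pr x23) ^ 2 = 1 by rw [pow_two, h2])
    rw [orderOf_pr] at h3
    omega

theorem hasLoc {K : Type*} [Group K] (h : Spor.IsoCo1 K) : HasLoc K := by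
  obtain ⟨e⟩ := h
  exact HasLoc.congr e.symm ⟨_, _, _, _, loc⟩

end Cfsg.Agent.Omega.ML.LocCo1
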