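import Cfsg.Agent.Omega.ML.LocLift
import Cfsg.Agent.Omega.ML.LocCo1
import Cfsg.Agent.Omega.ML.LocCo2
import Cfsg.Agent.ConwayFacts.AutCo1
import Cfsg.Agent.KFacts.CoTwo.Main
import Cfsg.Agent.CoOneType.Identify

/-!
# (ML), the K-list end: the rows `Co1` and `Co2` (helper907)
-/

set_option autoImplicit false

namespace Cfsg.Agent.Omega.ML.RowLocCo

open Subgroup Cfsg Cfsg.Agent.Omega.ML.Rows Cfsg.Agent.Omega.ML.LocRow

universe u v

/-- **The row `Co1`.** -/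
theorem dead_co1 : Dead.{u, v} (fun S _ => Spor.IsoCo1 S) := by
  refine dead_of_loc fun S _ _ hS => ?_
  obtain ⟨e⟩ := hS
  refine ⟨⟨_, _, _, _, LocCo1.loc.map e.symm, ?_⟩, fun α => ?_⟩
  · rw [Nat.card_congr e.toEquiv, Cfsg.Agent.CoOneType.Identify.card_co1]
    norm_num
  · obtain ⟨s, hs⟩ := Cfsg.Agent.ConwayFacts.AutCo1.inner_of_equiv e α
    exact ⟨s, MulEquiv.ext hs⟩

/-- **The row `Co2`.** -/
theorem dead_co2 : Dead.{u, v} (fun S _ => Spor.IsoCo2 S) := by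
  refine dead_of_loc fun S _ _ hS => ?_
  obtain ⟨e⟩ := hS
  refine ⟨⟨_, _, _, _, LocCo2.loc.map e.symm, ?_⟩, fun α => Cfsg.Agent.KFacts.CoTwo.Main.allInner_iso e α⟩
  rw [Nat.card_congr e.toEquiv, Cfsg.Agent.Co2Type.CardCo2.card_co2]
  norm_num

end Cfsg.Agent.Omega.ML.RowLocCo
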