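import Cfsg.Agent.Omega.ML.LocOf
import Cfsg.Agent.J4Type.EElems
import Cfsg.Agent.SporadicA.M24Trans

/-!
# (ML), THEOREM LOC: the K-fact of `J4`: `2¹¹:M24`, an element of order 23 (helper907)
-/

set_option autoImplicit false

namespace Cfsg.Agent.Omega.ML.LocJ4

open Subgroup Cfsg Cfsg.Agent.J4Type
open Cfsg.Agent.Omega.ML.LocK

variable {G : Type*} [Group G]

theorem card_N [Finite G] (C : Frame G) : Nat.card (normalizer (C.E hex0 : Set G)) = 2 ^ 11 * 244823040 := by
  have h1 := Subgroup.card_mul_index C.π.ker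
  have h2 : Nat.card C.π.ker = 2 ^ 11 := by
    rw [← C.E_card hex0 HexPerms.hex0_isHex]
    have h3 : C.π.ker.map (Subgroup.subtype _) = C.E hex0 := by
      ext g
      rw [Subgroup.mem_map]
      constructor
      · rintro ⟨n, hn, rfl⟩
        exact (C.π_ker n).1 hn
      · intro hg
        exact ⟨⟨g, Subgroup.le_normalizer hg⟩, (C.π_ker ⟨g, Subgroup.le_normalizer hg⟩).2 hg, rfl⟩
    conv_rhs => rw [← h3]
    exact Nat.card_congr (Subgroup.equivMapOfInjective _ _
      (Subgroup.subtype_injective (Subgroup.normalizer (C.E hex0 : Set G)))).toEquiv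
  rw [h2, Subgroup.index_ker, MonoidHom.range_eq_top.2 C.π_surj, Subgroup.card_top,
    SporadicA.M24Trans.card_M24] at h1
  exact h1.symm

/-- **The K-fact of `J4`.** -/
theorem exists_loc [Finite G] (C : Frame G) (hc : Nat.card G = 86775571046077562880) :
    ∃ x : G, Loc G (C.E hex0) x 23 11 := by
  refine exists_loc_of (fun a ha => EElems.E_sq C.toHex ha) (C.E_card hex0 HexPerms.hex0_isHex) ?_
    (fun g hg => C.A_cent hex0 HexPerms.hex0_isHex g fun a ha _ => hg a ha) (by norm_num) (by norm_num) ?_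
    (by rw [card_N]; norm_num)
  · intro h
    have h1 := Subgroup.card_mul_index (normalizer (C.E hex0 : Set G))
    rw [card_N, hc] at h1
    omega
  · intro k h0 h1
    interval_cases k <;> omega

end Cfsg.Agent.Omega.ML.LocJ4
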