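import Cfsg.Agent.Omega.ML.LocLift
import Cfsg.Agent.Omega.ML.LocM22X

/-!
# (ML), the K-list end: the row `M22` (with `M22:2` and the covers of odd index) (helper278)
-/

set_option autoImplicit false

namespace Cfsg.Agent.Omega.ML.RowMLoc

open Subgroup Cfsg Cfsg.Agent.Omega.ML.Rows Cfsg.Agent.Omega.ML.LocRow

universe u v

theorem M22.isoClosed : IsoClosed.{u} @Spor.IsoM22 := fun _ _ _ _ e h => by
  obtain ⟨f⟩ := h
  exact ⟨e.symm.trans f⟩

/-- an element centralising the socle is trivial -/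
theorem eq_one_of_conj {X : Type u} [Group X] {S T A : Subgroup X} (h : AS S T A) (x : X)
    (hx : ∀ s ∈ S, x * s * x⁻¹ = s) : x = 1 := by
  have h1 : x ∈ centralizer (S : Set X) := by
    refine mem_centralizer_iff.2 fun s hs => ?_
    have h2 := hx s hs
    rw [mul_inv_eq_iff_eq_mul] at h2
    exact h2.symm
  rw [h.cen] at h1
  exact mem_bot.1 h1

/-- **The row `M22`.** -/
theorem M22.dead : Dead.{u, v} @Spor.IsoM22 :=
  dead_of_locX M22.isoClosed fun X _ _ S T A h _ hS => by
    have := h.norm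
    obtain ⟨⟨E, x, hE⟩, h5⟩ := LocM22X.exists_loc (eq_one_of_conj h) hS
    exact ⟨E, x, 5, 4, hE, h5⟩

end Cfsg.Agent.Omega.ML.RowMLoc
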