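import Cfsg.Agent.Omega.ML.Known
import Cfsg.Agent.Omega.ML.InOfEnd
import Cfsg.Agent.Omega.ML.LieRow.Lie
import Cfsg.Agent.Omega.ML.AltDead
import Cfsg.Agent.Omega.ML.RowMJ
import Cfsg.Agent.Omega.ML.RowM12
import Cfsg.Agent.Omega.ML.RowMLoc
import Cfsg.Agent.Omega.ML.RowM23
import Cfsg.Agent.Omega.ML.RowM24
import Cfsg.Agent.Omega.ML.RowJ23
import Cfsg.Agent.Omega.ML.RowLocJ4
import Cfsg.Agent.Omega.ML.RowLocCo
import Cfsg.Agent.Omega.ML.RowCo3
import Cfsg.Agent.Omega.ML.RowMT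
import Cfsg.Agent.Omega.ML.RowHS
import Cfsg.Agent.Omega.ML.RowHe
import Cfsg.Agent.Omega.ML.RowRu
import Cfsg.Agent.Omega.ML.RowON
import Cfsg.Agent.Omega.ML.RowFi22
import Cfsg.Agent.Omega.ML.RowFi23
import Cfsg.Agent.Omega.ML.RowFi24
import Cfsg.Agent.Omega.ML.RowHN
import Cfsg.Agent.Omega.ML.RowBM

/-!
# (ML), the K-list end: the landed rows (helper484)

`rowsOf` : `RowsML` from the rows which are not yet on main; `mlk_of` : (ML) for K-groups (`Final.MLK`) from them.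
-/

set_option autoImplicit false

namespace Cfsg.Agent.Omega.ML.KnownDone

open Cfsg Cfsg.Agent.Omega.ML.LocRow Cfsg.Agent.Omega.ML.Known

universe u v

/-- **The rows.** -/
theorem rowsOf (odd : DeadZ.{u, v} fun S _ => OddLie S ∧ ¬ IsLieTypeChar 2 S) (tits : DeadZ.{u, v} @Lie.IsoTits)
    (suz : DeadZ.{u, v} @Spor.IsoSuz) : RowsML.{u, v} where
  lie2 := Dead.deadZ LieRow.dead_lie
  alt := Dead.deadZ AltDead.alt
  a6 := Dead.deadZ AltDead.a6
  odd := odd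
  tits := tits
  m11 := Dead.deadZ RowMJ.M11.dead
  m12 := Dead.deadZ RowM12.dead
  m22 := Dead.deadZ RowMLoc.M22.dead
  m23 := Dead.deadZ RowM23.dead
  m24 := Dead.deadZ RowM24.dead
  j1 := Dead.deadZ RowMJ.J1.dead
  j2 := Dead.deadZ RowJ23.dead_J2
  j3 := Dead.deadZ RowJ23.dead_J3
  j4 := Dead.deadZ RowLocJ4.dead_j4
  co1 := Dead.deadZ RowLocCo.dead_co1
  co2 := Dead.deadZ RowLocCo.dead_co2
  co3 := RowCo3.deadZ
  mcl := Dead.deadZ RowMT.McL.dead
  hs := Dead.deadZ RowHS.dead_HS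
  suz := suz
  he := Dead.deadZ RowHe.dead
  ru := Dead.deadZ RowRu.dead
  on := Dead.deadZ RowON.dead
  ly := Dead.deadZ RowMT.Ly.dead
  fi22 := Dead.deadZ RowFi22.dead
  fi23 := RowFi23.deadZ
  fi24 := Dead.deadZ RowFi24.dead
  hn := Dead.deadZ RowHN.dead_HN
  th := Dead.deadZ RowBM.thompson
  b := Dead.deadZ RowBM.baby
  m := Dead.deadZ RowBM.monster

/-- **(ML) for K-groups**, from the rows which are not yet on main. -/
theorem mlk_of (odd : DeadZ.{u, v} fun S _ => OddLie S ∧ ¬ IsLieTypeChar 2 S) (tits : DeadZ.{u, v} @Lie.IsoTits)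
    (suz : DeadZ.{u, v} @Spor.IsoSuz) : Final.MLK.{u, v} :=
  Final.mlk_of InOfEnd.inOf (rowsOf odd tits suz).known

end Cfsg.Agent.Omega.ML.KnownDone
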