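import Cfsg.Agent.Omega.ML.CD
import Cfsg.Agent.Omega.NO3b.Dual
import Cfsg.Agent.Omega.NO3S.TwoOne.Four
import Cfsg.Agent.Involutions.BaerSuzuki
import Cfsg.Agent.ZN.ChoiceSit

/-!
# LEMMA BS (OMEGA, (ML); #16024 of helper567, fill-ins #16345 of helper705); K-free

`H` finite, acting faithfully on the elementary abelian 2-group `M`; `AA` is an `H`-invariant set of elementary abelian
strict subgroups of `H` (`Fam`), `D` is (inclusion-) maximal among the fixed spaces `C_M(⟨A, A'⟩)`, `A, A' ∈ AA`,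
`⟨A, A'⟩` not a 2-group (`MaxD`); `X = ch H D` the centraliser of `D` in `H`, `A ∈ AA`, `A ≤ X`, `A ≰ O₂(X)` (`Cfg`).

* `quad` : a strict elementary abelian subgroup is quadratic (Timmesfeld);
* `exists_conj`, `Cfg.exists_g`, `Cfg.surj`, `Cfg.lt` : (1);
* `Cfg.fix_le` : (2): `C_U(A) ≤ D` for each `X`-invariant `U ≤ M` centralised by `A ∩ O₂(X)`; `Cfg.fix_o2`,
  `Cfg.exists_moves`, `Cfg.d_mem`, `Cfg.inf_ne_bot`, `Cfg.cv_syl` (`C_M(T_X) = D`), `Cfg.cv_le_of_le`, `Cfg.ne_bot`;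
* `MaxD.le_o2`, `MaxD.ww_le_o2` : (3);
* `Cfg.not_mem`, `Cfg.exists_moves'`, `Cfg.smul_not_mem`, `Cfg.not_le_normalizer` : (4);
* `MaxD.ww_eq`, `MaxD.le_normalizer_ww`, `MaxD.ti` : (5);
* `exists_cfg` : a configuration exists if some `A ∈ AA` is not in `O₂(H)`.
-/

set_option autoImplicit false
set_option linter.unusedSectionVars false

namespace Cfsg.Agent.Omega.ML.BS

open Subgroup Cfsg.Agent.ClassTwoFusion.Quad Cfsg.Agent.MinSimple.MinParabolic
open Cfsg.Agent.Omega.NOThree.NoOver Cfsg.Agent.Omega.ML.CD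
open Cfsg.Agent.ZN (o2)
open Cfsg.Agent.ZN.ChoiceSit (o2_le isPGroup_o2 le_o2 le_normalizer_o2 Syl exists_syl syl_conj o2_le_syl)

variable {H : Type*} [Group H] {M : Type*} [Group M] [MulDistribMulAction H M]

/-! ### Generalities -/

variable (H) in
/-- the centraliser of `D ≤ M` in `H` -/
def ch (D : Subgroup M) : Subgroup H where
  carrier := {x | ∀ d ∈ D, x • d = d}
  one_mem' := fun d _ => one_smul _ _
  mul_mem' := fun {x y} hx hy d hd => by rw [mul_smul, hy d hd, hx d hd]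
  inv_mem' := fun {x} hx d hd => by rw [inv_smul_eq_iff, hx d hd]

theorem mem_ch {D : Subgroup M} {x : H} : x ∈ ch H D ↔ ∀ d ∈ D, x • d = d := Iff.rfl

theorem le_ch_iff {D : Subgroup M} {B : Subgroup H} : B ≤ ch H D ↔ D ≤ cv M (B : Set H) :=
  ⟨fun h _ hd _ hb => h hb _ hd, fun h _ hb _ hd => h hd _ hb⟩

theorem ch_anti {D E : Subgroup M} (h : D ≤ E) : ch H E ≤ ch H D := fun _ hx d hd => hx d (h hd)

theorem mem_cv_cj {g : H} {A : Subgroup H} {m : M} : m ∈ cv M (cj g A : Set H) ↔ g⁻¹ • m ∈ cv M (A : Set H) := by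
  constructor
  · intro h a ha
    have h1 := h (g * a * g⁻¹) ⟨a, ha, rfl⟩
    rw [mul_smul, mul_smul] at h1
    exact (inv_smul_eq_iff.2 h1.symm).symm
  · rintro h _ ⟨a, ha, rfl⟩
    change (g * a * g⁻¹) • m = m
    rw [mul_smul, mul_smul, h a ha, smul_inv_smul]

theorem smul_mem_cv_cj {g : H} {A : Subgroup H} {m : M} (h : m ∈ cv M (A : Set H)) :
    g • m ∈ cv M (cj g A : Set H) := mem_cv_cj.2 (by rwa [inv_smul_smul])

theorem mul_comm_of_sq (sq : ∀ v : M, v * v = 1) (v w : M) : v * w = w * v := by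
  have hv : v⁻¹ = v := inv_eq_of_mul_eq_one_right (sq v)
  have hw : w⁻¹ = w := inv_eq_of_mul_eq_one_right (sq w)
  calc v * w = (w⁻¹ * v⁻¹)⁻¹ := by group
    _ = (w * v)⁻¹ := by rw [hv, hw]
    _ = w * v := inv_eq_of_mul_eq_one_right (sq _)

theorem d_hom (sq : ∀ v : M, v * v = 1) (x : H) (v w : M) : d x (v * w) = d x v * d x w := by
  have hc := mul_comm_of_sq sq
  unfold d
  rw [smul_mul']
  calc x • v * x • w * (v * w) = x • v * (x • w * v) * w := by group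
    _ = x • v * (v * x • w) * w := by rw [hc (x • w) v]
    _ = x • v * v * (x • w * w) := by group

theorem d_eq_one (sq : ∀ v : M, v * v = 1) {x : H} {v : M} : d x v = 1 ↔ x • v = v := by
  unfold d
  constructor
  · intro h
    rw [← inv_eq_of_mul_eq_one_left h, inv_eq_of_mul_eq_one_right (sq v)]
  · intro h
    rw [h, sq]

theorem smul_eq_d (sq : ∀ v : M, v * v = 1) (x : H) (v : M) : x • v = d x v * v := by
  unfold d
  rw [mul_assoc, sq, mul_one]

theorem d_mul_left' (sq : ∀ v : M, v * v = 1) (x y : H) (v : M) : d (x * y) v = x • d y v * d x v := by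
  have e : d (x * y) v = (x • d y v) * (x • v * x • v) * d x v * 1 := by
    rw [sq, mul_one, mul_one]
    unfold d
    rw [smul_mul', mul_smul]
    have h1 : x • v * (x • v * v) = v := by rw [← mul_assoc, sq, one_mul]
    rw [mul_assoc (x • y • v), h1]
  rw [e, sq, mul_one, mul_one]

theorem card_cv_cj [Finite M] (g : H) (A : Subgroup H) :
    Nat.card (cv M (cj g A : Set H)) = Nat.card (cv M (A : Set H)) := by
  have h3 : cv M (cj g A : Set H) = _ := QData.cv_map_conj (V := M) A g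
  rw [h3]
  exact (Nat.card_congr ((cv M (A : Set H)).equivMapOfInjective _
    (MulDistribMulAction.toMulEquiv M g : M ≃* M).injective).toEquiv).symm

/-! ### (0) quadratic action -/

theorem card_fib [Finite H] [Finite M] {A S : Subgroup H} {C W : Subgroup M} (hCW : C ≤ W) (f : H → M)
    (hf : ∀ a ∈ A, f a ∈ W) (hfib : ∀ a ∈ A, ∀ b ∈ A, (f b)⁻¹ * f a ∈ C → b⁻¹ * a ∈ S) :
    Nat.card A * Nat.card C ≤ Nat.card S * Nat.card W := by
  classical
  let F : A × C → W := fun p => ⟨f p.1 * p.2, W.mul_mem (hf _ p.1.2) (hCW p.2.2)⟩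
  let r : W → A × C := fun w => if h : ∃ p, F p = w then h.choose else 1
  have hr : ∀ p, F (r (F p)) = F p := by
    intro p
    have h : ∃ q, F q = F p := ⟨p, rfl⟩
    have e : r (F p) = h.choose := dif_pos h
    rw [e]; exact h.choose_spec
  have hS : ∀ p q : A × C, F q = F p → (q.1 : H)⁻¹ * p.1 ∈ S := by
    intro p q h
    refine hfib _ p.1.2 _ q.1.2 ?_
    have h1 : f q.1 * q.2 = f p.1 * p.2 := congrArg Subtype.val h
    have h2 : (f q.1)⁻¹ * f p.1 = q.2 * (p.2 : M)⁻¹ := by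
      rw [inv_mul_eq_iff_eq_mul, ← mul_assoc, h1, mul_inv_cancel_right]
    rw [h2]
    exact C.mul_mem q.2.2 (C.inv_mem p.2.2)
  rw [← Nat.card_prod, ← Nat.card_prod]
  refine Nat.card_le_card_of_injective
    (fun p : A × C => ((⟨((r (F p)).1 : H)⁻¹ * p.1, hS p (r (F p)) (hr p)⟩ : S), F p)) ?_
  intro p q h
  simp only [Prod.mk.injEq, Subtype.mk.injEq] at h
  obtain ⟨h1, h2⟩ := h
  rw [h2] at h1
  have h3 : (p.1 : H) = q.1 := mul_left_cancel h1
  have h4 : f p.1 * p.2 = f q.1 * q.2 := congrArg Subtype.val h2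
  rw [h3] at h4
  exact Prod.ext (Subtype.ext h3) (Subtype.ext (mul_left_cancel h4))

/-- `C_A([u, A])` -/
def st (A : Subgroup H) (u : M) : Subgroup H where
  carrier := {c | c ∈ A ∧ ∀ a ∈ A, c • d a u = d a u}
  one_mem' := ⟨A.one_mem, fun a _ => one_smul _ _⟩
  mul_mem' := fun {c e} hc he => ⟨A.mul_mem hc.1 he.1, fun a ha => by rw [mul_smul, he.2 a ha, hc.2 a ha]⟩
  inv_mem' := fun {c} hc => ⟨A.inv_mem hc.1, fun a ha => by rw [inv_smul_eq_iff, hc.2 a ha]⟩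

/-- a strict abelian subgroup is quadratic -/
theorem quad [Finite H] [Finite M] (sq : ∀ v : M, v * v = 1) {A : Subgroup H}
    (hA : ∀ a ∈ A, ∀ b ∈ A, a * b = b * a) (hs : Strict (fo M) A) {a : H} (ha : a ∈ A) (u : M) :
    d a u ∈ cv M (A : Set H) := by
  have hc := mul_comm_of_sq sq
  have hinv : ∀ v : M, v⁻¹ = v := fun v => inv_eq_of_mul_eq_one_right (sq v)
  have hle : st A u ≤ A := fun c hc => hc.1
  have h1 : fo M A ≤ fo M (st A u) := by
    unfold fo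
    refine card_fib (cv_anti (SetLike.coe_subset_coe.2 hle)) (fun a => d a u)
      (fun a ha c hc => hc.2 a ha) ?_
    intro a ha b hb h
    refine ⟨A.mul_mem (A.inv_mem hb) ha, fun e he => ?_⟩
    set c := b⁻¹ * a with hcdef
    have hcA : c ∈ A := A.mul_mem (A.inv_mem hb) ha
    have h0 : a = b * c := by rw [hcdef, mul_inv_cancel_left]
    -- `d c u ∈ C_M(A)`
    have h2 : d c u ∈ cv M (A : Set H) := by
      have h3 : (d b u)⁻¹ * d a u = b • d c u := by
        rw [hinv, h0, d_mul_left' sq, hc (b • d c u), ← mul_assoc, sq, one_mul]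
      rw [h3] at h
      intro x hx
      have h4 := h b⁻¹ (A.inv_mem hb)
      rw [inv_smul_smul] at h4
      rw [h4]
      exact h x hx
    -- `c` and `e` commute
    have h3 : d (c * e) u = d (e * c) u := by rw [hA c hcA e he]
    rw [d_mul_left' sq c e, d_mul_left' sq e c, h2 e he, hc (d c u)] at h3
    exact mul_right_cancel h3
  have h2 : st A u = A := by
    by_contra hne
    exact absurd h1 (not_le.2 (hs _ (lt_of_le_of_ne hle hne)))
  intro b hb
  have h3 : b ∈ st A u := by rw [h2]; exact hb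
  exact h3.2 a ha

/-! ### Families of strict subgroups -/

variable (M) in
/-- an `H`-invariant set of elementary abelian strict subgroups, `M` faithful of exponent 2 -/
structure Fam (AA : Set (Subgroup H)) : Prop where
  sq : ∀ v : M, v * v = 1
  faith : ∀ x : H, (∀ v : M, x • v = v) → x = 1
  conj : ∀ g : H, ∀ A ∈ AA, cj g A ∈ AA
  ea : ∀ A ∈ AA, ∀ a ∈ A, a * a = 1
  strict : ∀ A ∈ AA, Strict (fo M) A

/-- `D` is maximal among the fixed spaces of bad pairs -/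
def MaxD (AA : Set (Subgroup H)) (D : Subgroup M) : Prop :=
  ∀ A ∈ AA, ∀ A' ∈ AA, ¬ IsPGroup 2 (A ⊔ A' : Subgroup H) → D ≤ cv M ((A ⊔ A' : Subgroup H) : Set H) →
    cv M ((A ⊔ A' : Subgroup H) : Set H) ≤ D

/-- `a ∈ A - O₂(X)`: `⟨A^g, A^{ga}⟩` is not a 2-group for some `g ∈ X` (Baer–Suzuki) -/
theorem exists_conj [Finite H] {A X : Subgroup H} (hAX : A ≤ X) {a : H} (ha : a ∈ A) (haO : a ∉ o2 X)
    (ha2 : a * a = 1) : ∃ g ∈ X, ¬ IsPGroup 2 (cj g A ⊔ cj (a * g) A : Subgroup H) := by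
  have hf : Fact (Nat.Prime 2) := ⟨Nat.prime_two⟩
  by_contra hcon
  push Not at hcon
  refine haO ?_
  have key : (⟨a, hAX ha⟩ : X) ∈ Cfsg.pCore 2 X := by
    refine Involutions.BaerSuzuki.mem_pCore_of_conj_pairs _ fun g => ?_
    have h1 := hcon g g.2
    set Y : Subgroup H := cj (g : H) A ⊔ cj (a * g) A with hY
    have hai : a⁻¹ = a := inv_eq_of_mul_eq_one_left ha2
    have hnorm : cj a Y = Y := by
      rw [hY, cj_sup, cj_cj, cj_cj, ← mul_assoc, ha2, one_mul, sup_comm]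
    have hn : zpowers a ≤ normalizer (Y : Set H) := by
      rw [zpowers_le]
      exact mem_normalizer_iff_map_conj_eq.2 hnorm
    have hz : IsPGroup 2 (zpowers a) := by
      intro x
      refine ⟨1, ?_⟩
      obtain ⟨x, k, rfl⟩ := x
      apply Subtype.ext
      change (a ^ k) ^ 2 ^ 1 = 1
      rw [pow_one, pow_two, ← (Commute.refl a).mul_zpow, ha2, one_zpow]
    have h2 : IsPGroup 2 (Y ⊔ zpowers a : Subgroup H) := h1.to_sup_of_normal_left' hz hn
    have h3 : (closure {(⟨a, hAX ha⟩ : X), g * ⟨a, hAX ha⟩ * g⁻¹} : Subgroup X).map X.subtype ≤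
        Y ⊔ zpowers a := by
      rw [MonoidHom.map_closure, closure_le]
      rintro _ ⟨x, hx, rfl⟩
      rcases hx with rfl | hx
      · exact mem_sup_right (mem_zpowers a)
      · rw [Set.mem_singleton_iff.1 hx]
        exact mem_sup_left (mem_sup_left ⟨a, ha, rfl⟩)
    exact IsPGroup.of_injective (h2.to_le h3) ((closure {(⟨a, hAX ha⟩ : X), g * ⟨a, hAX ha⟩ * g⁻¹} :
      Subgroup X).equivMapOfInjective X.subtype X.subtype_injective).toMonoidHom
      (MulEquiv.injective _)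
  exact mem_map_of_mem X.subtype key

/-- the fixed space of a conjugate under an element of `ch H D` still contains `D` -/
theorem le_cv_cj {D : Subgroup M} {A : Subgroup H} (hA : A ≤ ch H D) {g : H} (hg : g ∈ ch H D) :
    D ≤ cv M (cj g A : Set H) := fun m hm => mem_cv_cj.2 (by
  have h1 : g⁻¹ • m = m := (inv_mem hg : g⁻¹ ∈ ch H D) m hm
  rw [h1]
  exact le_ch_iff.1 hA hm)

variable (M) in
/-- `D` maximal, `X = C_H(D)`, `A ≤ X`, `A ≰ O₂(X)` -/
structure Cfg (AA : Set (Subgroup H)) (D : Subgroup M) (A : Subgroup H) : Prop where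
  fam : Fam M AA
  max : MaxD AA D
  mem : A ∈ AA
  le : A ≤ ch H D
  nle : ¬ A ≤ o2 (ch H D)

namespace Cfg

variable {AA : Set (Subgroup H)} {D : Subgroup M} {A : Subgroup H} (h : Cfg M AA D A)
include h

theorem sq (v : M) : v * v = 1 := h.fam.sq v

theorem hA2 {a : H} (ha : a ∈ A) : a * a = 1 := h.fam.ea A h.mem a ha

theorem comm {a b : H} (ha : a ∈ A) (hb : b ∈ A) : a * b = b * a := by
  have h1 : a⁻¹ = a := inv_eq_of_mul_eq_one_left (h.hA2 ha)
  have h2 : b⁻¹ = b := inv_eq_of_mul_eq_one_left (h.hA2 hb)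
  have h3 : (a * b)⁻¹ = a * b := inv_eq_of_mul_eq_one_left (h.hA2 (A.mul_mem ha hb))
  rw [← h3, mul_inv_rev, h1, h2]

theorem isPGroup : IsPGroup 2 A := fun x => ⟨1, Subtype.ext (by
  rw [pow_one, pow_two]; exact h.hA2 x.2)⟩

theorem D_le : D ≤ cv M (A : Set H) := le_ch_iff.1 h.le

theorem eq_D {g g' : H} (hg : g ∈ ch H D) (hg' : g' ∈ ch H D)
    (hb : ¬ IsPGroup 2 (cj g A ⊔ cj g' A : Subgroup H)) {m : M} (h1 : m ∈ cv M (cj g A : Set H))
    (h2 : m ∈ cv M (cj g' A : Set H)) : m ∈ D := by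
  refine h.max _ (h.fam.conj g A h.mem) _ (h.fam.conj g' A h.mem) hb ?_ ?_
  · rw [cv_sup]
    exact le_inf (le_cv_cj h.le hg) (le_cv_cj h.le hg')
  · rw [cv_sup]
    exact ⟨h1, h2⟩

variable [Finite H]

/-- (1): for `a ∈ A - O₂(X)` there is `g ∈ X` such that `[m, a] ∈ D` implies `m ∈ D` for `m ∈ C_M(A^g)`. -/
theorem exists_g {a : H} (ha : a ∈ A) (haO : a ∉ o2 (ch H D)) :
    ∃ g ∈ ch H D, ∀ m ∈ cv M (cj g A : Set H), d a m ∈ D → m ∈ D := by
  obtain ⟨g, hg, hb⟩ := exists_conj h.le ha haO (h.hA2 ha)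
  refine ⟨g, hg, fun m hm hd => ?_⟩
  have hag : a * g ∈ ch H D := mul_mem (h.le ha) hg
  have h1 : a • m ∈ cv M (cj g A : Set H) := by
    rw [smul_eq_d h.sq]
    exact mul_mem (le_cv_cj h.le hg hd) hm
  have h2 : a • m ∈ cv M (cj (a * g) A : Set H) := by
    rw [← cj_cj]
    exact smul_mem_cv_cj hm
  have h3 := h.eq_D hg hag hb h1 h2
  have h4 : a⁻¹ • a • m = a • m := (inv_mem (h.le ha) : a⁻¹ ∈ ch H D) _ h3
  rw [inv_smul_smul] at h4
  rw [h4]
  exact h3

variable [Finite M]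

theorem d_mem_cv {a : H} (ha : a ∈ A) (u : M) : d a u ∈ cv M (A : Set H) :=
  quad h.sq (fun _ hx _ hy => h.comm hx hy) (h.fam.strict A h.mem) ha u

omit h in
/-- the dual map -/
theorem surj_aux (sq : ∀ v : M, v * v = 1) {W F D' : Subgroup M} (hDW : D' ≤ W) (hDF : D' ≤ F)
    (hcard : Nat.card F ≤ Nat.card W) (ψ : W →* M) (hF : ∀ w, ψ w ∈ F)
    (h1 : ∀ w : W, (w : M) ∈ D' → ψ w = 1) (h2 : ∀ w, ψ w ∈ D' → (w : M) ∈ D') {f : M} (hf : f ∈ F) :
    ∃ w : W, f * ψ w ∈ D' := by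
  have hker : ψ.ker = D'.subgroupOf W := by
    ext w
    rw [MonoidHom.mem_ker, mem_subgroupOf]
    exact ⟨fun h => h2 w (by rw [h]; exact one_mem _), h1 w⟩
  have hc1 : Nat.card D' * Nat.card ψ.range = Nat.card W := by
    rw [← Nat.card_congr (subgroupOfEquivOfLe hDW).toEquiv, ← hker, ← Subgroup.index_ker, card_mul_index]
  have hinf : ψ.range ⊓ D' = ⊥ := by
    rw [eq_bot_iff]
    rintro _ ⟨⟨w, rfl⟩, hw⟩
    exact h1 w (h2 w hw)
  have hR : ψ.range ≤ F := by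
    rintro _ ⟨w, rfl⟩
    exact hF w
  have hc2 := card_mul_le ψ.range D' (ψ.range ⊔ D') le_sup_left le_sup_right
  rw [hinf, card_bot, one_mul, mul_comm, hc1] at hc2
  have h3 : ψ.range ⊔ D' = F := eq_of_le_of_card_ge (sup_le hR hDF) (hcard.trans hc2)
  rw [← h3] at hf
  have hn : D'.Normal := ⟨fun x hx g => by
    rw [mul_comm_of_sq sq g x, mul_inv_cancel_right]; exact hx⟩
  obtain ⟨r, ⟨w, rfl⟩, e, he, rfl⟩ := mem_sup_of_normal_right.1 hf
  refine ⟨w, ?_⟩
  change ψ w * e * ψ w ∈ D'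
  rw [mul_comm_of_sq sq (ψ w) e, mul_assoc, sq, mul_one]
  exact he

/-- (1), (2): the elements of `F ∩ U` are `[m, a]` modulo `D`, for `X`-invariant `U` -/
theorem surj {a : H} (ha : a ∈ A) (haO : a ∉ o2 (ch H D)) {U : Subgroup M}
    (hU : ∀ x ∈ ch H D, ∀ u ∈ U, x • u ∈ U) {f : M} (hf : f ∈ cv M (A : Set H)) (hfU : f ∈ U) :
    ∃ u ∈ U, f * d a u ∈ D := by
  obtain ⟨g, hg, hg'⟩ := h.exists_g ha haO
  let W : Subgroup M := cv M (cj g A : Set H) ⊓ U
  let ψ : W →* M :=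
    { toFun := fun w => d a (w : M)
      map_one' := by rw [Subgroup.coe_one]; exact (d_eq_one h.sq).2 (smul_one a)
      map_mul' := fun v w => d_hom h.sq a v w }
  have hdU : ∀ u ∈ U, d a u ∈ U := fun u hu => mul_mem (hU a (h.le ha) u hu) hu
  obtain ⟨w, hw⟩ := surj_aux h.sq (W := W) (F := cv M (A : Set H) ⊓ U) (D' := D ⊓ U)
    (le_inf (inf_le_left.trans (le_cv_cj h.le hg)) inf_le_right)
    (le_inf (inf_le_left.trans h.D_le) inf_le_right) (by
      have hinj : Function.Injective (fun f : ↥(cv M (A : Set H) ⊓ U) =>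
          (⟨g • (f : M), smul_mem_cv_cj f.2.1, hU g hg _ f.2.2⟩ : W)) := by
        intro x y hxy
        have h1 : g • (x : M) = g • (y : M) := congrArg Subtype.val hxy
        exact Subtype.ext (MulAction.injective g h1)
      exact Nat.card_le_card_of_injective _ hinj) ψ
    (fun w => ⟨h.d_mem_cv ha _, hdU _ w.2.2⟩)
    (fun w hw => (d_eq_one h.sq).2 (h.le ha _ hw.1))
    (fun w hw => ⟨hg' _ w.2.1 hw.1, w.2.2⟩) ⟨hf, hfU⟩
  exact ⟨w, w.2.2, hw.1⟩

/-- `D < C_M(A)` -/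
theorem lt : D < cv M (A : Set H) := by
  refine lt_of_le_of_ne h.D_le fun h0 => h.nle ?_
  let K : Subgroup H :=
    { carrier := {x | x ∈ ch H D ∧ ∀ m : M, d x m ∈ D}
      one_mem' := ⟨one_mem _, fun m => by
        rw [(d_eq_one h.sq).2 (one_smul H m)]; exact one_mem _⟩
      mul_mem' := by
        rintro x y ⟨hx, hx'⟩ ⟨hy, hy'⟩
        refine ⟨mul_mem hx hy, fun m => ?_⟩
        rw [d_mul_left' h.sq, hx _ (hy' m)]
        exact mul_mem (hy' m) (hx' m)
      inv_mem' := by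
        rintro x ⟨hx, hx'⟩
        refine ⟨inv_mem hx, fun m => ?_⟩
        have h1 := hx' (x⁻¹ • m)
        unfold d at h1 ⊢
        rw [smul_inv_smul] at h1
        rw [mul_comm_of_sq h.sq]
        exact h1 }
  have hKX : K ≤ ch H D := fun x hx => hx.1
  have hn : ch H D ≤ normalizer (K : Set H) := by
    have key : ∀ g ∈ ch H D, ∀ x ∈ K, g * x * g⁻¹ ∈ K := by
      rintro g hg x ⟨hx, hx'⟩
      refine ⟨mul_mem (mul_mem hg hx) (inv_mem hg), fun m => ?_⟩
      have h1 := hx' (g⁻¹ • m)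
      have h2 : d (g * x * g⁻¹) m = g • d x (g⁻¹ • m) := by
        unfold d
        rw [smul_mul', smul_inv_smul, mul_smul, mul_smul]
      rw [h2, hg _ h1]
      exact h1
    intro g hg
    rw [mem_normalizer_iff]
    refine fun x => ⟨key g hg x, fun hx => ?_⟩
    have h1 := key g⁻¹ (inv_mem hg) _ hx
    have e : g⁻¹ * (g * x * g⁻¹) * g⁻¹⁻¹ = x := by group
    rwa [e] at h1
  have hK2 : IsPGroup 2 K := by
    intro x
    refine ⟨1, Subtype.ext ?_⟩
    rw [pow_one, pow_two]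
    change (x : H) * x = 1
    refine h.fam.faith _ fun m => ?_
    have h1 := x.2.2 m
    have h2 := x.2.1 _ h1
    rw [mul_smul, smul_eq_d h.sq (x : H) m, smul_mul', h2, smul_eq_d h.sq (x : H) m, ← mul_assoc, h.sq, one_mul]
  refine le_trans ?_ (le_o2 hK2 hKX hn)
  intro a ha
  refine ⟨h.le ha, fun m => ?_⟩
  have h1 := h.d_mem_cv ha m
  rwa [← h0] at h1

/-- **(2)** -/
theorem fix_le {U : Subgroup M} (hU : ∀ x ∈ ch H D, ∀ u ∈ U, x • u ∈ U)
    (h0 : ∀ a ∈ A ⊓ o2 (ch H D), ∀ u ∈ U, a • u = u) : cv M (A : Set H) ⊓ U ≤ D := by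
  by_contra hnle
  set F := cv M (A : Set H) ⊓ U with hF
  have hFp : IsPGroup 2 F := fun x => ⟨1, Subtype.ext (by
    rw [pow_one, pow_two]; exact h.sq x)⟩
  have hlt : D ⊓ F < F := lt_of_le_of_ne inf_le_right fun h1 => hnle (inf_eq_right.1 h1)
  obtain ⟨N, hDN, hNF, hN⟩ := NO3b.Dual.exists_two hFp hlt
  have hmulN : ∀ x ∈ F, ∀ y ∈ F, (x * y ∈ N ↔ (x ∈ N ↔ y ∈ N)) := by
    intro x hx y hy
    have h1 := Subgroup.mul_mem_iff_of_index_two (H := N.subgroupOf F) hN (a := ⟨x, hx⟩) (b := ⟨y, hy⟩)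
    simpa [mem_subgroupOf] using h1
  have hdF : ∀ a ∈ A, ∀ u ∈ U, d a u ∈ F := fun a ha u hu =>
    ⟨h.d_mem_cv ha u, mul_mem (hU a (h.le ha) u hu) hu⟩
  classical
  let s : A → U → ℤˣ := fun a u => if d (a : H) (u : M) ∈ N then 1 else -1
  have hs : ∀ a u, s a u = 1 ↔ d (a : H) (u : M) ∈ N := by
    intro a u
    by_cases h0 : d (a : H) (u : M) ∈ N
    · simp [s, h0]
    · simp [s, h0]
  have hsm : ∀ x ∈ F, ∀ y ∈ F, (if x * y ∈ N then (1 : ℤˣ) else -1) =
      (if x ∈ N then 1 else -1) * (if y ∈ N then 1 else -1) := by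
    intro x hx y hy
    have h1 := hmulN x hx y hy
    by_cases hx' : x ∈ N <;> by_cases hy' : y ∈ N <;> simp [h1, hx', hy']
  have hl : ∀ a a' u, s (a * a') u = s a u * s a' u := by
    intro a a' u
    have e : d ((a * a' : A) : H) (u : M) = d (a : H) (u : M) * d (a' : H) (u : M) := by
      rw [Subgroup.coe_mul, d_mul_left' h.sq, (hdF a' a'.2 u u.2).1 a a.2, mul_comm_of_sq h.sq]
    change (if d ((a * a' : A) : H) (u : M) ∈ N then (1 : ℤˣ) else -1) = _
    rw [e]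
    exact hsm _ (hdF a a.2 u u.2) _ (hdF a' a'.2 u u.2)
  have hr : ∀ a u u', s a (u * u') = s a u * s a u' := by
    intro a u u'
    have e : d (a : H) ((u * u' : U) : M) = d (a : H) (u : M) * d (a : H) (u' : M) := by
      rw [Subgroup.coe_mul, d_hom h.sq]
    change (if d (a : H) ((u * u' : U) : M) ∈ N then (1 : ℤˣ) else -1) = _
    rw [e]
    exact hsm _ (hdF a a.2 u u.2) _ (hdF a a.2 u' u'.2)
  have hpair := NO3S.TwoOne.pairing_units s hl hr
  have hL : Nat.card {a : A // ∀ u, s a u = 1} ≤ Nat.card ↥(A ⊓ o2 (ch H D)) := by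
    refine Nat.card_le_card_of_injective (fun a => (⟨(a.1 : H), a.1.2, ?_⟩ : ↥(A ⊓ o2 (ch H D)))) ?_
    · by_contra haO
      have h1 : F ≤ N := by
        intro f hf
        obtain ⟨u, hu, hfu⟩ := h.surj a.1.2 haO hU hf.1 hf.2
        have h2 : d (a.1 : H) u ∈ N := (hs a.1 ⟨u, hu⟩).1 (a.2 ⟨u, hu⟩)
        have h3 : f * d (a.1 : H) u ∈ N := hDN ⟨hfu, mul_mem hf (hdF _ a.1.2 u hu)⟩
        have h4 : f = f * d (a.1 : H) u * d (a.1 : H) u := by rw [mul_assoc, h.sq, mul_one]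
        rw [h4]
        exact mul_mem h3 h2
      rw [relIndex_eq_one.2 h1] at hN
      omega
    · intro a b hab
      have h1 : (a.1 : H) = b.1 := congrArg (fun x : ↥(A ⊓ o2 (ch H D)) => (x : H)) hab
      exact Subtype.ext (Subtype.ext h1)
  have hR : Nat.card F ≤ Nat.card {u : U // ∀ a, s a u = 1} := by
    refine Nat.card_le_card_of_injective (fun f => (⟨⟨(f : M), f.2.2⟩, fun a => ?_⟩ :
      {u : U // ∀ a, s a u = 1})) ?_
    · rw [hs]
      rw [(d_eq_one h.sq).2 (f.2.1 a a.2)]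
      exact one_mem _
    · intro a b hab
      have h1 : (a : M) = b := congrArg (fun x : {u : U // ∀ a, s a u = 1} => ((x : U) : M)) hab
      exact Subtype.ext h1
  have hlt' : A ⊓ o2 (ch H D) < A := lt_of_le_of_ne inf_le_left fun h1 => h.nle (inf_eq_left.1 h1)
  have hst : Strict (fab M 1 1) A := fun B hB => by
    rw [fab_one, fab_one]; exact h.fam.strict A h.mem B hB
  have h1 := relIndex_lt_of_moves hst hlt' (W := U) (fun u hu a ha => h0 a ha u hu)
  rw [pow_one, pow_one] at h1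
  have h2 : (cv M (A : Set H)).relIndex U * Nat.card F = Nat.card U := by
    rw [← Subgroup.inf_relIndex_right, hF]
    exact (card_eq_relIndex_mul inf_le_right).symm
  have h3 := card_eq_relIndex_mul hlt'.le
  have hpF : 0 < Nat.card F := Nat.card_pos
  have hpA : 0 < Nat.card ↥(A ⊓ o2 (ch H D)) := Nat.card_pos
  have h4 : Nat.card A * Nat.card F ≤ Nat.card ↥(A ⊓ o2 (ch H D)) * Nat.card U :=
    (Nat.mul_le_mul_left _ hR).trans (hpair.symm.le.trans (Nat.mul_le_mul_right _ hL))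
  rw [← h2, h3] at h4
  have h5 : (A ⊓ o2 (ch H D)).relIndex A * (Nat.card ↥(A ⊓ o2 (ch H D)) * Nat.card F) ≤
      (cv M (A : Set H)).relIndex U * (Nat.card ↥(A ⊓ o2 (ch H D)) * Nat.card F) := by
    calc _ = (A ⊓ o2 (ch H D)).relIndex A * Nat.card ↥(A ⊓ o2 (ch H D)) * Nat.card F := by ring
      _ ≤ _ := h4
      _ = _ := by ring
  exact absurd (Nat.le_of_mul_le_mul_right h5 (Nat.mul_pos hpA hpF)) (not_le.2 h1)

omit h in
theorem smul_mem_cv_of_norm {N : Subgroup H} {x : H} (hx : x ∈ normalizer (N : Set H)) {u : M}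
    (hu : u ∈ cv M (N : Set H)) : x • u ∈ cv M (N : Set H) := by
  have h1 := smul_mem_cv_cj (g := x) hu
  have h2 : cj x N = N := mem_normalizer_iff_map_conj_eq.1 hx
  rwa [h2] at h1

/-- `C_M(A O₂(X)) ≤ D` -/
theorem fix_o2 : cv M (A : Set H) ⊓ cv M (o2 (ch H D) : Set H) ≤ D :=
  h.fix_le (fun _ hx _ hu => smul_mem_cv_of_norm (le_normalizer_o2 _ hx) hu) fun _ ha _ hu => hu _ ha.2

/-- `C_M(A ⟨A₀^X⟩) ≤ D`: an element of `C_M(A) - D` is moved by some `A₀^x`, `A₀ = A ∩ O₂(X)` -/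
theorem exists_moves {m : M} (hm : m ∈ cv M (A : Set H)) (hmD : m ∉ D) :
    ∃ x ∈ ch H D, ∃ a ∈ A ⊓ o2 (ch H D), (x * a * x⁻¹) • m ≠ m := by
  by_contra hcon
  push Not at hcon
  let U : Subgroup M :=
    { carrier := {m | ∀ x ∈ ch H D, ∀ a ∈ A ⊓ o2 (ch H D), (x * a * x⁻¹) • m = m}
      one_mem' := fun x _ a _ => smul_one _
      mul_mem' := fun {v w} hv hw x hx a ha => by rw [smul_mul', hv x hx a ha, hw x hx a ha]
      inv_mem' := fun {v} hv x hx a ha => by rw [smul_inv', hv x hx a ha] }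
  refine hmD (h.fix_le (U := U) ?_ ?_ ⟨hm, hcon⟩)
  · intro y hy u hu x hx a ha
    have h1 := hu (y⁻¹ * x) (mul_mem (inv_mem hy) hx) a ha
    have e : y⁻¹ * x * a * (y⁻¹ * x)⁻¹ = y⁻¹ * (x * a * x⁻¹) * y := by group
    rw [e, mul_smul, mul_smul, inv_smul_eq_iff] at h1
    exact h1
  · intro a ha u hu
    have h1 := hu 1 (one_mem _) a ha
    rwa [one_mul, inv_one, mul_one] at h1

/-- `[C_M(O₂(X)), A] ≤ D` -/
theorem d_mem {a : H} (ha : a ∈ A) {u : M} (hu : u ∈ cv M (o2 (ch H D) : Set H)) : d a u ∈ D :=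
  h.fix_o2 ⟨h.d_mem_cv ha u, mul_mem (smul_mem_cv_of_norm (le_normalizer_o2 _ (h.le ha)) hu) hu⟩

/-- `A ∩ O₂(X) ≠ 1` -/
theorem inf_ne_bot : A ⊓ o2 (ch H D) ≠ ⊥ := by
  intro h0
  refine absurd (h.fix_le (U := ⊤) (fun _ _ _ _ => mem_top _) fun a ha u _ => ?_) (not_le_of_gt ?_)
  · rw [h0, mem_bot] at ha
    rw [ha, one_smul]
  · rw [inf_top_eq]
    exact h.lt

/-- `C_M(T_X) = D` for `T_X` a Sylow 2-subgroup of `X`. -/
theorem cv_syl {T : Subgroup H} (hT : Syl T (ch H D)) : cv M (T : Set H) = D := by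
  apply le_antisymm
  · obtain ⟨T', hT', hAT⟩ := exists_syl h.isPGroup h.le
    obtain ⟨x, hx, hxT⟩ := syl_conj hT hT'
    have h1 : cv M (T' : Set H) ≤ D :=
      (le_inf (cv_anti (SetLike.coe_subset_coe.2 hAT))
        (cv_anti (SetLike.coe_subset_coe.2 (o2_le_syl hT')))).trans h.fix_o2
    intro m hm
    have h2 : x • m ∈ cv M (T' : Set H) := by
      rw [← hxT]
      exact smul_mem_cv_cj hm
    have h3 := (inv_mem hx : x⁻¹ ∈ ch H D) _ (h1 h2)
    rw [inv_smul_smul] at h3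
    rw [h3]
    exact h1 h2
  · exact le_ch_iff.1 hT.1

/-- `C_M(T₁) ≤ D` for the Sylow 2-subgroups `T₁` of `H` containing `T_X` -/
theorem cv_le_of_le {T T₁ : Subgroup H} (hT : Syl T (ch H D)) (hle : T ≤ T₁) : cv M (T₁ : Set H) ≤ D :=
  (cv_anti (SetLike.coe_subset_coe.2 hle)).trans (h.cv_syl hT).le

omit h in
/-- a 2-group acting on a nontrivial group of exponent 2 has a nontrivial fixed point -/
theorem cv_ne_bot (sq : ∀ v : M, v * v = 1) {T : Subgroup H} (hT : IsPGroup 2 T) (hM : ∃ v : M, v ≠ 1) :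
    cv M (T : Set H) ≠ ⊥ := by
  have hf : Fact (Nat.Prime 2) := ⟨Nat.prime_two⟩
  have hdvd : 2 ∣ Nat.card M := by
    obtain ⟨v, hv⟩ := hM
    have h1 : orderOf v = 2 := orderOf_eq_prime (by rw [pow_two]; exact sq v) hv
    rw [← h1]
    exact orderOf_dvd_natCard v
  have h1 : (1 : M) ∈ MulAction.fixedPoints T M := fun g => smul_one (g : H)
  obtain ⟨b, hb, hb1⟩ := hT.exists_fixed_point_of_prime_dvd_card_of_fixed_point M hdvd h1
  intro h0
  refine hb1 (Eq.symm ?_)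
  rw [← mem_bot, ← h0]
  exact fun x hx => hb ⟨x, hx⟩

/-- `D ≠ 1` -/
theorem ne_bot : D ≠ ⊥ := by
  intro h0
  obtain ⟨T, hT, -⟩ := exists_syl (X := ch H D) (T := ⊥) (fun x => ⟨0, by
    rw [pow_zero, pow_one]; exact Subsingleton.elim _ _⟩) bot_le
  refine cv_ne_bot h.sq hT.2.1 ?_ ((h.cv_syl hT).trans h0)
  obtain ⟨m, -, hm⟩ := SetLike.exists_of_lt h.lt
  exact ⟨m, fun h1 => hm (by rw [h1]; exact one_mem _)⟩

/-- (6) of #16345: `A ≤ C_H(y)`, `A ≰ O₂(C_H(y))` for all `y ∈ D` -/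
theorem le_stab {y : M} (hy : y ∈ D) : ch H D ≤ MulAction.stabilizer H y :=
  fun _ hx => MulAction.mem_stabilizer_iff.2 (hx y hy)

/-- **(4)** `x ∉ D` if `A ≤ O₂(C_H(x))`. -/
theorem not_mem {x : M} (hx : A ≤ o2 (MulAction.stabilizer H x)) : x ∉ D := by
  intro hD
  refine h.nle ?_
  have h1 : ch H D ⊓ o2 (MulAction.stabilizer H x) ≤ o2 (ch H D) := by
    refine le_o2 ((isPGroup_o2 _).to_le inf_le_right) inf_le_left fun g hg => ?_
    have h2 := le_normalizer_o2 _ (h.le_stab hD hg)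
    rw [mem_normalizer_iff] at h2 ⊢
    intro y
    rw [mem_inf, mem_inf]
    refine and_congr ?_ (h2 y)
    exact ⟨fun hy => mul_mem (mul_mem hg hy) (inv_mem hg), fun hy => by
      have h3 := mul_mem (mul_mem (inv_mem hg) hy) hg
      have e : g⁻¹ * (g * y * g⁻¹) * g = y := by group
      rwa [e] at h3⟩
  exact (le_inf h.le hx).trans h1

/-- some conjugate of `A ∩ O₂(X)` moves `x` -/
theorem exists_moves' {x : M} (hx : A ≤ o2 (MulAction.stabilizer H x)) :
    ∃ g ∈ ch H D, ∃ a ∈ A ⊓ o2 (ch H D), (g * a * g⁻¹) • x ≠ x :=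
  h.exists_moves (fun _ ha => MulAction.mem_stabilizer_iff.1 (o2_le _ (hx ha))) (h.not_mem hx)

/-- `D` contains no `c • x`, `c ∈ N_H(A)`, if `A ≤ O₂(C_H(x))` -/
theorem smul_not_mem {x : M} (hx : A ≤ o2 (MulAction.stabilizer H x)) {c : H} (hc : c ∈ normalizer (A : Set H)) :
    c • x ∉ D := by
  refine h.not_mem ?_
  have h1 : cj c A ≤ cj c (o2 (MulAction.stabilizer H x)) := cj_mono hx
  have h2 : cj c A = A := mem_normalizer_iff_map_conj_eq.1 hc
  have h3 : cj c (o2 (MulAction.stabilizer H x)) = o2 (cj c (MulAction.stabilizer H x)) :=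
    (Cfsg.Agent.ZN.ChoiceSit.o2_cj c _).symm
  have h4 : cj c (MulAction.stabilizer H x) = MulAction.stabilizer H (c • x) :=
    (MulAction.stabilizer_smul_eq_stabilizer_map_conj c x).symm
  rwa [h2, h3, h4] at h1

/-- no Sylow 2-subgroup of `X` normalises `A = A_x`, `A_x ⊴ C_H(x)`, `x` a 2-central point -/
theorem not_le_normalizer {x : M} (hx : A ≤ o2 (MulAction.stabilizer H x))
    (hn : MulAction.stabilizer H x ≤ normalizer (A : Set H))
    (hodd : ¬ 2 ∣ (MulAction.stabilizer H x).relIndex (normalizer (A : Set H))) {T : Subgroup H}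
    (hT : Syl T (ch H D)) : ¬ T ≤ normalizer (A : Set H) := by
  intro hTN
  have hf : Fact (Nat.Prime 2) := ⟨Nat.prime_two⟩
  obtain ⟨T', hT', hle⟩ := exists_syl hT.2.1 hTN
  obtain ⟨S, hS, -⟩ := exists_syl (X := MulAction.stabilizer H x) (T := ⊥) (fun x => ⟨0, by
    rw [pow_zero, pow_one]; exact Subsingleton.elim _ _⟩) bot_le
  -- `S` is Sylow in `N_H(A)`
  have hS' : Syl S (normalizer (A : Set H)) := by
    obtain ⟨S', hS', hSS'⟩ := exists_syl hS.2.1 (hS.1.trans hn)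
    have h1 : ¬ 2 ∣ S.relIndex (normalizer (A : Set H)) := by
      rw [← relIndex_mul_relIndex S _ _ hS.1 hn, Nat.prime_two.dvd_mul, not_or]
      exact ⟨Cfsg.Agent.ZN.ChoiceSit.syl_not_dvd hS, hodd⟩
    have h2 : S.relIndex S' = 1 := by
      obtain ⟨n, hn'⟩ : ∃ n, S.relIndex S' = 2 ^ n := by
        obtain ⟨n, hn'⟩ := IsPGroup.iff_card.1 hS'.2.1
        obtain ⟨k, -, hk⟩ := (Nat.dvd_prime_pow Nat.prime_two).1 (hn' ▸ relIndex_dvd_card S S')
        exact ⟨k, hk⟩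
      rcases n with _ | n
      · rw [hn', pow_zero]
      · exfalso
        apply h1
        rw [← relIndex_mul_relIndex S _ _ hSS' hS'.1, hn']
        exact Dvd.dvd.mul_right (dvd_pow_self 2 (Nat.succ_ne_zero n)) _
    have h3 : S' = S := le_antisymm (relIndex_eq_one.1 h2) hSS'
    rwa [h3] at hS'
  obtain ⟨c, hc, hcS⟩ := syl_conj hS' hT'
  refine h.smul_not_mem hx hc (h.cv_le_of_le hT hle ?_)
  rw [← hcS]
  exact smul_mem_cv_cj fun s hs => MulAction.mem_stabilizer_iff.1 (hS.1 hs)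

end Cfg

/-! ### (3), (5): outside `D` -/

namespace MaxD

variable {AA : Set (Subgroup H)} {D : Subgroup M}

/-- **(3)** -/
theorem le_o2 [Finite H] (hF : Fam M AA) (hmax : MaxD AA D) {m : M} (hm : m ∉ D) {A : Subgroup H} (hA : A ∈ AA)
    (hle : A ≤ ch H D ⊓ MulAction.stabilizer H m) : A ≤ o2 (ch H D ⊓ MulAction.stabilizer H m) := by
  intro a ha
  by_contra haO
  obtain ⟨g, hg, hb⟩ := exists_conj hle ha haO (hF.ea A hA a ha)
  have hag : a * g ∈ ch H D ⊓ MulAction.stabilizer H m := mul_mem (hle ha) hg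
  have key : ∀ x ∈ ch H D ⊓ MulAction.stabilizer H m, m ∈ cv M (cj x A : Set H) ∧ D ≤ cv M (cj x A : Set H) := by
    intro x hx
    refine ⟨mem_cv_cj.2 ?_, le_cv_cj (hle.trans inf_le_left) hx.1⟩
    have h1 : x⁻¹ • m = m := MulAction.mem_stabilizer_iff.1 (inv_mem hx).2
    rw [h1]
    exact fun b hb => MulAction.mem_stabilizer_iff.1 (hle hb).2
  refine hm (hmax _ (hF.conj g A hA) _ (hF.conj (a * g) A hA) hb ?_ ?_)
  · rw [cv_sup]
    exact le_inf (key g hg).2 (key _ hag).2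
  · rw [cv_sup]
    exact ⟨(key g hg).1, (key _ hag).1⟩

end MaxD

/-- the subgroup generated by the members of `AA` in `Y` -/
def ww (AA : Set (Subgroup H)) (Y : Subgroup H) : Subgroup H := sSup {A | A ∈ AA ∧ A ≤ Y}

theorem ww_le (AA : Set (Subgroup H)) (Y : Subgroup H) : ww AA Y ≤ Y := sSup_le fun _ hA => hA.2

theorem le_ww {AA : Set (Subgroup H)} {A Y : Subgroup H} (hA : A ∈ AA) (h : A ≤ Y) : A ≤ ww AA Y := le_sSup ⟨hA, h⟩

theorem ww_mono {AA : Set (Subgroup H)} {Y Z : Subgroup H} (h : Y ≤ Z) : ww AA Y ≤ ww AA Z :=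
  sSup_le fun _ hA => le_ww hA.1 (hA.2.trans h)

theorem cj_ww_le {AA : Set (Subgroup H)} (hc : ∀ g : H, ∀ A ∈ AA, cj g A ∈ AA) (g : H) (Y : Subgroup H) :
    cj g (ww AA Y) ≤ ww AA (cj g Y) := by
  rw [cj_le_iff]
  refine sSup_le fun A hA => ?_
  rw [← cj_le_iff]
  exact le_ww (hc g A hA.1) (cj_mono hA.2)

theorem ww_cj {AA : Set (Subgroup H)} (hc : ∀ g : H, ∀ A ∈ AA, cj g A ∈ AA) (g : H) (Y : Subgroup H) :
    ww AA (cj g Y) = cj g (ww AA Y) := by
  refine le_antisymm ?_ (cj_ww_le hc g Y)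
  have h1 := cj_ww_le hc g⁻¹ (cj g Y)
  rw [cj_cj, inv_mul_cancel, cj_one] at h1
  rwa [cj_le_iff, inv_inv] at h1

namespace MaxD

variable {AA : Set (Subgroup H)} {D : Subgroup M}

/-- (3): `E_m ≤ O₂(C_X(m))`, `E_m` the group generated by the members of `AA` in `C_X(m)`, `m ∉ D` -/
theorem ww_le_o2 [Finite H] (hF : Fam M AA) (hmax : MaxD AA D) {m : M} (hm : m ∉ D) :
    ww AA (ch H D ⊓ MulAction.stabilizer H m) ≤ o2 (ch H D ⊓ MulAction.stabilizer H m) :=
  sSup_le fun _ hA => hmax.le_o2 hF hm hA.1 hA.2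

/-- **(5)**: `W = ⟨AA ∩ T_X⟩`, `m ∈ C_M(W) - D`: `E_m = W`. -/
theorem ww_eq [Finite H] (hF : Fam M AA) (hmax : MaxD AA D) {T : Subgroup H} (hT : Syl T (ch H D)) {m : M}
    (hm : m ∉ D) (hmW : m ∈ cv M (ww AA T : Set H)) :
    ww AA (ch H D ⊓ MulAction.stabilizer H m) = ww AA T := by
  set Y := ch H D ⊓ MulAction.stabilizer H m with hY
  have h1 : ww AA T ≤ ww AA Y := by
    refine sSup_le fun A hA => le_ww hA.1 (le_inf (hA.2.trans hT.1) fun a ha => ?_)
    exact MulAction.mem_stabilizer_iff.2 (hmW a (le_ww hA.1 hA.2 ha))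
  have h2 : IsPGroup 2 (ww AA Y) := (isPGroup_o2 Y).to_le (hmax.ww_le_o2 hF hm)
  obtain ⟨T', hT', hle⟩ := exists_syl h2 ((ww_le AA Y).trans inf_le_left : ww AA Y ≤ ch H D)
  obtain ⟨x, hx, rfl⟩ := syl_conj hT hT'
  have h3 : ww AA Y ≤ cj x (ww AA T) := by
    have h4 : ww AA (cj x T) = cj x (ww AA T) := ww_cj hF.conj x T
    rw [← h4]
    refine sSup_le fun A hA => le_ww hA.1 ?_
    exact (le_ww hA.1 hA.2).trans hle
  have h4 : Nat.card (cj x (ww AA T)) = Nat.card (ww AA T) := Cfsg.Agent.ZN.ChoiceBase.card_cj x _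
  refine (eq_of_le_of_card_ge h1 ?_).symm
  rw [← h4]
  exact card_le_of_le h3

/-- **(5)**: `C_X(m) ≤ N_H(W)` for `m ∈ C_M(W) - D` -/
theorem le_normalizer_ww [Finite H] (hF : Fam M AA) (hmax : MaxD AA D) {T : Subgroup H} (hT : Syl T (ch H D))
    {m : M} (hm : m ∉ D) (hmW : m ∈ cv M (ww AA T : Set H)) :
    ch H D ⊓ MulAction.stabilizer H m ≤ normalizer (ww AA T : Set H) := by
  rw [← hmax.ww_eq hF hT hm hmW]
  intro g hg
  rw [mem_normalizer_iff_map_conj_eq]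
  have h1 := (ww_cj hF.conj g (ch H D ⊓ MulAction.stabilizer H m)).symm
  have h2 : cj g (ch H D ⊓ MulAction.stabilizer H m) = ch H D ⊓ MulAction.stabilizer H m :=
    mem_normalizer_iff_map_conj_eq.1 (le_normalizer hg)
  rw [h2] at h1
  exact h1

/-- **(5)**: the spaces `C_M(W^g)`, `g ∈ X`, form a TI-family modulo `D` -/
theorem ti [Finite H] (hF : Fam M AA) (hmax : MaxD AA D) {T : Subgroup H} (hT : Syl T (ch H D))
    {g g' : H} (hg : g ∈ ch H D) (hg' : g' ∈ ch H D) {m : M} (hm : m ∉ D)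
    (h1 : m ∈ cv M (cj g (ww AA T) : Set H)) (h2 : m ∈ cv M (cj g' (ww AA T) : Set H)) :
    cj g (ww AA T) = cj g' (ww AA T) := by
  have key : ∀ x ∈ ch H D, m ∈ cv M (cj x (ww AA T) : Set H) →
      ww AA (ch H D ⊓ MulAction.stabilizer H m) = cj x (ww AA T) := by
    intro x hx hmx
    have h3 : Syl (cj x T) (ch H D) := by
      have h4 : cj x (ch H D) = ch H D := mem_normalizer_iff_map_conj_eq.1 (le_normalizer hx)
      refine ⟨(cj_mono hT.1).trans h4.le, Cfsg.Agent.ZN.ChoiceBase.isPGroup_cj x hT.2.1, fun Q hQ hQp hle => ?_⟩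
      have h5 := hT.2.2 (cj x⁻¹ Q) ?_ (Cfsg.Agent.ZN.ChoiceBase.isPGroup_cj x⁻¹ hQp) (by rwa [← cj_le_iff])
      · rw [← h5]
        exact (Cfsg.Agent.ZN.ChoiceBase.cj_cj_inv x Q).symm
      · rw [cj_le_iff, inv_inv]
        exact hQ.trans h4.ge
    have h4 := ww_cj hF.conj x T
    rw [← h4]
    exact hmax.ww_eq hF h3 hm (by rw [h4]; exact hmx)
  rw [← key g hg h1, key g' hg' h2]

end MaxD

/-! ### existence -/

/-- a member of `AA` outside `O₂(H)` gives a configuration -/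
theorem exists_cfg [Finite H] [Finite M] {AA : Set (Subgroup H)} (hF : Fam M AA) {A : Subgroup H} (hA : A ∈ AA)
    (hnle : ¬ A ≤ o2 (⊤ : Subgroup H)) : ∃ (D : Subgroup M) (B : Subgroup H), Cfg M AA D B := by
  classical
  obtain ⟨a, ha, haO⟩ := SetLike.not_le_iff_exists.1 hnle
  obtain ⟨g, -, hb⟩ := exists_conj le_top ha haO (hF.ea A hA a ha)
  let S : Set (Subgroup M) := {D | ∃ B ∈ AA, ∃ C ∈ AA, ¬ IsPGroup 2 (B ⊔ C : Subgroup H) ∧
    D = cv M ((B ⊔ C : Subgroup H) : Set H)}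
  obtain ⟨D, hDS, hmax⟩ := Set.exists_max_image S (fun D => Nat.card D) (Set.toFinite _)
    ⟨_, _, hF.conj g A hA, _, hF.conj (a * g) A hA, hb, rfl⟩
  have hM : MaxD AA D := by
    intro B hB C hC hBC hle
    have h1 := hmax _ ⟨B, hB, C, hC, hBC, rfl⟩
    exact (eq_of_le_of_card_ge hle h1).ge
  obtain ⟨B, hB, C, hC, hBC, rfl⟩ := hDS
  have h1 : B ⊔ C ≤ ch H (cv M ((B ⊔ C : Subgroup H) : Set H)) := le_ch_iff.2 le_rfl
  by_cases hBO : B ≤ o2 (ch H (cv M ((B ⊔ C : Subgroup H) : Set H)))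
  · by_cases hCO : C ≤ o2 (ch H (cv M ((B ⊔ C : Subgroup H) : Set H)))
    · exact absurd ((isPGroup_o2 _).to_le (sup_le hBO hCO)) hBC
    · exact ⟨_, C, hF, hM, hC, le_sup_right.trans h1, hCO⟩
  · exact ⟨_, B, hF, hM, hB, le_sup_left.trans h1, hBO⟩

end Cfsg.Agent.Omega.ML.BS
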