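import Cfsg.Agent.Omega.ML.LieOpp

/-!
# (ML), K-side, groups with a root group datum: the theorem (OMEGA; #17392 of helper949, refereed #17534)

* `kopp` : either the proper overgroups of `D` are in one proper subgroup, or there is a `p`-subgroup `D'` of `𝔾` such
  that `A ⊓ R' = ⊥` for all proper overgroups `R'` of `D'` in `𝔾`.
-/

set_option autoImplicit false
set_option linter.unusedSectionVars false
set_option linter.unusedVariables false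

namespace Cfsg.Agent.Omega.ML.LieRgd

open Subgroup CoxeterSystem Cfsg.Agent.ChevalleyStructure.CoxeterGeom Cfsg.Agent.Tits.Roots Cfsg.Agent.Tits.Core
  Cfsg.Agent.Tits.Exchange Cfsg.Agent.Nodes.Reps Cfsg.Agent.Nodes.BNOf Cfsg.Agent.Nodes.StabComb
  Cfsg.Agent.Nodes.Bruhat Cfsg.Agent.Nodes.OppDec Cfsg.Agent.Nodes.LeviDec Cfsg.Agent.Nodes.NormalForm
  Cfsg.Agent.KFacts.RgdOpp Cfsg.Agent.KFacts.RgdAut Cfsg.Agent.KFacts.RgdDiag Cfsg.Agent.KFacts.RgdRigid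
  Cfsg.Agent.KFacts.RgdVJ Cfsg.Agent.KFacts.RgdSyl

set_option maxHeartbeats 400000

variable {I W Y : Type*} [Fintype I] [DecidableEq I] [Group W] [Group Y] {M : CoxeterMatrix I}
  {cs : CoxeterSystem M W} {A : I → I → ℤ} {h : IsCartan M A} {p : ℕ} {T : Subgroup Y} {n : I → Y}
  {X : (I → ℤ) → Subgroup Y}

/-- `A` lies in a normal `p`-subgroup of `R` -/
def InCore {G : Type*} [Group G] (p : ℕ) (A R : Subgroup G) : Prop :=
  ∃ N : Subgroup G, IsPGroup p N ∧ N ≤ R ∧ (∀ g ∈ R, ∀ x ∈ N, g * x * g⁻¹ ∈ N) ∧ A ≤ N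

/-- the automorphisms fixing `H` -/
def FixS (H : Subgroup Y) : Subgroup (MulAut Y) where
  carrier := {g | Fix g H}
  mul_mem' ha hb := Fix.mul ha hb
  one_mem' := fun _ => Iff.rfl
  inv_mem' ha := Fix.inv ha

section main

variable [Finite Y] [hp : Fact p.Prime] [Finite W] (R : RGD cs h p T n X)
  (hG1 : RGD.Sup X {x | IsRoot cs h x} = ⊤) (hZ : center Y = ⊥) {D : Subgroup (MulAut Y)} (hD : IsPGroup p D)
  (hU : ∀ u ∈ RGD.Sup X (RGD.Pos cs h), MulAut.conj u ∈ D)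

include R hG1 hZ hD hU hp

omit hD hU hZ in
/-- the nodes of a `Phi`-invariant subgroup -/
theorem nodes_inv {P : Subgroup Y} {φ : MulAut Y} (hφP : Fix φ P) {σ : Equiv.Perm I} (hσ : Diag T X φ σ) (i : I) :
    σ i ∈ {i | X (-sr i) ≤ P} ↔ i ∈ {i | X (-sr i) ≤ P} := by
  simp only [Set.mem_ofPred_eq]
  constructor
  · intro h1 x hx
    exact (hφP x).1 (h1 ((hσ.neg i x).2 hx))
  · intro h1 x hx
    obtain ⟨y, rfl⟩ := φ.surjective x
    exact (hφP y).2 (h1 ((hσ.neg i y).1 hx))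

omit hD hU hZ in
theorem nodes_inv' {P : Subgroup Y} {φ : MulAut Y} (hφP : Fix φ P) {σ : Equiv.Perm I} (hσ : Diag T X φ σ) (i : I) :
    σ i ∈ {i | X (sr i) ≤ P} ↔ i ∈ {i | X (sr i) ≤ P} := by
  simp only [Set.mem_ofPred_eq]
  constructor
  · intro h1 x hx
    exact (hφP x).1 (h1 ((hσ.pos i x).2 hx))
  · intro h1 x hx
    obtain ⟨y, rfl⟩ := φ.surjective x
    exact (hφP y).2 (h1 ((hσ.pos i y).1 hx))

omit R hG1 hD hU hp in
theorem fix_comap {Q : Subgroup (MulAut Y)} {φ : MulAut Y} (hφ : φ ∈ Q) :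
    Fix φ (Q.comap (MulAut.conj : Y →* MulAut Y)) := by
  have key : ∀ φ ∈ Q, ∀ x ∈ Q.comap (MulAut.conj : Y →* MulAut Y), φ x ∈ Q.comap (MulAut.conj : Y →* MulAut Y) := by
    intro φ hφ x hx
    rw [mem_comap, ← conj_apply_conj]
    exact mul_mem (mul_mem hφ hx) (inv_mem hφ)
  intro x
  refine ⟨fun hx => ?_, key φ hφ x⟩
  have := key φ⁻¹ (inv_mem hφ) _ hx
  rwa [MulAut.inv_apply_self] at this

theorem RJ_ne {𝔾 : Subgroup (MulAut Y)} (hInn : ∀ y : Y, MulAut.conj y ∈ 𝔾) {J : Set I} (hJ : Inv cs h T X D J)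
    (hJ1 : J ≠ Set.univ) : RJ cs h T X D J ≠ 𝔾 := by
  intro h1
  apply PJ_ne_top R hJ1
  rw [eq_top_iff]
  intro y _
  exact mem_PJ_of_conj R hG1 hZ hD hU hJ (by rw [h1]; exact hInn y)

omit R hG1 hZ hD hU hp in
theorem RJ_le {𝔾 : Subgroup (MulAut Y)} (hInn : ∀ y : Y, MulAut.conj y ∈ 𝔾) (hDG : D ≤ 𝔾) (J : Set I) :
    RJ cs h T X D J ≤ 𝔾 := by
  refine sup_le ?_ hDG
  rintro _ ⟨y, -, rfl⟩
  exact hInn y

/-- **(2), (3)**: if every node is in a proper invariant set then `B = U` up to `Inn`, and `B ≤ V_J`. -/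
theorem exists_U {𝔾 : Subgroup (MulAut Y)} (hInn : ∀ y : Y, MulAut.conj y ∈ 𝔾) (hDG : D ≤ 𝔾)
    {B : Subgroup (MulAut Y)} (hBD : B ≤ D) (hB : ∀ Q : Subgroup (MulAut Y), D ≤ Q → Q ≤ 𝔾 → Q ≠ 𝔾 → InCore p B Q)
    (hnode : ∀ i : I, ∃ J : Set I, J ≠ Set.univ ∧ i ∈ J ∧ Inv cs h T X D J ∧
      ∀ φ ∈ Phi cs h X D, Fix φ (LJ cs h T X J)) {a : MulAut Y} (ha : a ∈ B) :
    ∃ s ∈ RGD.Sup X (RGD.Pos cs h), a = MulAut.conj s ∧
      ∀ J : Set I, J ≠ Set.univ → Inv cs h T X D J → s ∈ VJ cs h X J := by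
  obtain ⟨s, hs, φ, hφ, rfl⟩ := exists_phi R hG1 hZ hD hU (hBD ha)
  have hφ1 : φ = 1 := by
    refine eq_one_of_fix R hG1 hφ.2.1 hφ.2.2 fun i x hx => ?_
    obtain ⟨J, hJ1, hi, hJ, hJL⟩ := hnode i
    obtain ⟨N, hN, hNQ, hn, hBN⟩ := hB (RJ cs h T X D J) le_sup_right (RJ_le hInn hDG J)
      (RJ_ne R hG1 hZ hD hU hInn hJ hJ1)
    exact phi_LJ R hG1 hZ hD hU hN hn hJ hs hφ (hBN ha) (hJL φ hφ) x (X_le_LJ (PosJ_subset J (sr_mem_PosJ hi)) hx)
  subst hφ1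
  refine ⟨s, hs, mul_one _, fun J hJ1 hJ => ?_⟩
  obtain ⟨N, hN, hNQ, hn, hBN⟩ := hB (RJ cs h T X D J) le_sup_right (RJ_le hInn hDG J)
    (RJ_ne R hG1 hZ hD hU hInn hJ hJ1)
  refine comap_le_VJ R hG1 hZ hD hU hN hn ?_
  have := hBN ha
  rwa [mul_one] at this

/-- invariant sets of nodes from the diagram symmetries -/
theorem fix_LJ_of_diag {J : Set I}
    (hJ : ∀ φ ∈ Phi cs h X D, ∀ σ : Equiv.Perm I, Diag T X φ σ → ∀ i, σ i ∈ J ↔ i ∈ J) :
    ∀ φ ∈ Phi cs h X D, Fix φ (LJ cs h T X J) := by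
  intro φ hφ
  obtain ⟨σ, hσ⟩ := Phi.exists_diag R hG1 hφ
  have h1 := fix_PJ R (Phi.fix_B R hG1 hφ) hσ (hJ φ hφ σ hσ)
  have hBN : Fix φ (BN cs h T X) := by
    have := Cfsg.Agent.KFacts.RgdAut.fix_B (opp R) (by rw [GG_opp]; exact GG_eq_top hG1) (α := φ)
      (by rw [U_opp]; exact hφ.2.2)
    rwa [B_opp] at this
  have h2 := fix_PJ (opp R) (J := J) (by rw [B_opp]; exact hBN) hσ.opp (hJ φ hφ σ hσ)
  rw [PJ_opp] at h2
  rw [← PJ_inf_PNJ R]
  exact h1.inf h2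

/-- **THEOREM KOPP**, `Inn(U) ≤ D` -/
theorem kopp {𝔾 : Subgroup (MulAut Y)} (hInn : ∀ y : Y, MulAut.conj y ∈ 𝔾) (hDG : D ≤ 𝔾)
    (hgen : ∀ g ∈ 𝔾, ∃ y : Y, ∃ d ∈ D, g = MulAut.conj y * d) {B : Subgroup (MulAut Y)} (hBD : B ≤ D)
    (hB : ∀ Q : Subgroup (MulAut Y), D ≤ Q → Q ≤ 𝔾 → Q ≠ 𝔾 → InCore p B Q) :
    (∃ Q₀ : Subgroup (MulAut Y), Q₀ ≤ 𝔾 ∧ Q₀ ≠ 𝔾 ∧ ∀ Q, D ≤ Q → Q ≤ 𝔾 → Q ≠ 𝔾 → Q ≤ Q₀) ∨
      ∃ D' : Subgroup (MulAut Y), D' ≤ 𝔾 ∧ IsPGroup p D' ∧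
        ∀ Q, D' ≤ Q → Q ≤ 𝔾 → Q ≠ 𝔾 → B ⊓ Q = ⊥ := by
  -- the invariant sets of nodes
  set S : Set (Set I) := {J | ∀ φ ∈ Phi cs h X D, ∀ σ : Equiv.Perm I, Diag T X φ σ → ∀ i, σ i ∈ J ↔ i ∈ J} with hS
  have hcompl : ∀ J ∈ S, Jᶜ ∈ S := fun J hJ φ hφ σ hσ i => not_congr (hJ φ hφ σ hσ i)
  -- an overgroup of `D` containing `Inn` contains `𝔾`
  have hall : ∀ Q : Subgroup (MulAut Y), D ≤ Q → Q ≤ 𝔾 → Q.comap MulAut.conj = ⊤ → Q = 𝔾 := by
    intro Q hDQ hQ h1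
    refine le_antisymm hQ fun g hg => ?_
    obtain ⟨y, d, hd, rfl⟩ := hgen g hg
    refine mul_mem ?_ (hDQ hd)
    have : y ∈ Q.comap MulAut.conj := by rw [h1]; exact mem_top y
    exact this
  by_cases hcase : ∀ i : I, ∃ J ∈ S, J ≠ Set.univ ∧ i ∈ J
  · -- opposite subgroups
    right
    have hnode : ∀ i : I, ∃ J : Set I, J ≠ Set.univ ∧ i ∈ J ∧ Inv cs h T X D J ∧
        ∀ φ ∈ Phi cs h X D, Fix φ (LJ cs h T X J) := by
      intro i
      obtain ⟨J, hJ, h1, h2⟩ := hcase i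
      exact ⟨J, h1, h2, inv_of_diag R hG1 hZ hD hU hJ, fix_LJ_of_diag R hG1 hZ hD hU hJ⟩
    have hn : Phi cs h X D ≤ normalizer (((UN cs h X).map MulAut.conj : Subgroup (MulAut Y)) : Set (MulAut Y)) := by
      have key : ∀ φ ∈ Phi cs h X D, ∀ x ∈ (UN cs h X).map MulAut.conj, φ * x * φ⁻¹ ∈ (UN cs h X).map MulAut.conj := by
        rintro φ hφ _ ⟨y, hy, rfl⟩
        exact ⟨φ y, (hφ.2.2 y).2 hy, (conj_apply_conj φ y).symm⟩
      intro φ hφ
      rw [mem_normalizer_iff]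
      intro x
      refine ⟨key φ hφ x, fun hx => ?_⟩
      have := key φ⁻¹ (inv_mem hφ) _ hx
      rwa [show φ⁻¹ * (φ * x * φ⁻¹) * φ⁻¹⁻¹ = x by group] at this
    refine ⟨Phi cs h X D ⊔ (UN cs h X).map MulAut.conj, ?_, ?_, ?_⟩
    · refine sup_le (le_trans inf_le_left hDG) ?_
      rintro _ ⟨y, -, rfl⟩
      exact hInn y
    · exact (hD.to_le inf_le_left).to_sup_of_normal_right' ((isPGroup_UN R).map _) hn
    · intro Q hQ hQG hQne
      rw [eq_bot_iff]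
      rintro a ⟨haB, haQ⟩
      have hPQ : Phi cs h X D ≤ Q := le_trans le_sup_left hQ
      have hUQ : UN cs h X ≤ Q.comap MulAut.conj := fun y hy => hQ (mem_sup_right ⟨y, hy, rfl⟩)
      set J : Set I := {i | X (sr i) ≤ Q.comap MulAut.conj} with hJ
      have hJS : J ∈ S := fun φ hφ σ hσ i => nodes_inv' R hG1 (fix_comap hZ (hPQ hφ)) hσ i
      have hJ1 : J ≠ Set.univ := by
        intro h1
        have h2 : Q.comap MulAut.conj = ⊤ := eq_top_of_UN R hG1 hUQ fun i => by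
          have : i ∈ J := by rw [h1]; exact Set.mem_univ i
          exact this
        apply hQne
        refine le_antisymm hQG fun g hg => ?_
        obtain ⟨y, d, hd, rfl⟩ := hgen g hg
        obtain ⟨s, hs, φ, hφ, rfl⟩ := exists_phi R hG1 hZ hD hU hd
        have key : ∀ y : Y, MulAut.conj y ∈ Q := fun y => by
          have : y ∈ Q.comap MulAut.conj := by rw [h2]; exact mem_top y
          exact this
        exact mul_mem (key y) (mul_mem (key s) (hPQ hφ))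
      obtain ⟨s, hs, rfl, hsV⟩ := exists_U R hG1 hZ hD hU hInn hDG hBD hB hnode haB
      have h1 := hsV J hJ1 (inv_of_diag R hG1 hZ hD hU hJS)
      have h2 : s ∈ PNJ cs h T X J := le_PNJ_of_UN R (GG_eq_top hG1) hUQ haQ
      rw [eq_one_of_mem_VJ_of_mem_PNJ R h1 h2, map_one]
      exact one_mem _
  · -- one orbit of nodes
    left
    push Not at hcase
    obtain ⟨i₀, hi₀⟩ := hcase
    refine ⟨𝔾 ⊓ FixS (RGD.Sup X (RGD.Pos cs h)), inf_le_left, ?_, ?_⟩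
    · intro h1
      have h2 : ∀ y : Y, y ∈ RGD.B cs h T X := by
        intro y
        rw [← normalizer_U' R (GG_eq_top hG1), mem_normalizer_iff]
        intro x
        have h3 : MulAut.conj y ∈ 𝔾 ⊓ FixS (RGD.Sup X (RGD.Pos cs h)) := by rw [h1]; exact hInn y
        exact (h3.2 x).symm
      exact simple_ne_one i₀ (R.eq_one_of_mem_B (rp_simple cs R.nsys i₀) (h2 (n i₀)))
    · intro Q hDQ hQ hQne
      refine le_inf hQ ?_
      have hUQ : RGD.Sup X (RGD.Pos cs h) ≤ Q.comap MulAut.conj := fun u hu => hDQ (hU u hu)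
      set J : Set I := {i | X (-sr i) ≤ Q.comap MulAut.conj} with hJ
      have hJS : J ∈ S := fun φ hφ σ hσ i => nodes_inv R hG1 (fix_comap hZ (hDQ hφ.1)) hσ i
      have hJ1 : J ≠ Set.univ := by
        intro h1
        refine hQne (hall Q hDQ hQ (eq_top_of_U R hG1 hUQ fun i => ?_))
        have : i ∈ J := by rw [h1]; exact Set.mem_univ i
        exact this
      have hJ0 : J = ∅ := by
        have h1 : Jᶜ = Set.univ := by
          by_contra h1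
          exact hi₀ Jᶜ (hcompl J hJS) h1 (hi₀ J hJS hJ1)
        rwa [Set.compl_univ_iff] at h1
      have hPB : Q.comap MulAut.conj ≤ RGD.B cs h T X := by
        have h1 := le_PJ_of_U R (GG_eq_top hG1) hUQ
        rw [← hJ, hJ0, PJ_empty R] at h1
        exact h1
      intro g hg
      obtain ⟨y, d, hd, rfl⟩ := hgen g (hQ hg)
      refine Fix.mul ?_ (fix_U R hG1 hZ hD hU hd)
      have hy : y ∈ Q.comap MulAut.conj := by
        have h1 := mul_mem hg (inv_mem (hDQ hd))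
        rwa [mul_inv_cancel_right] at h1
      have hyN := R.B_le_normalizer_U (hPB hy)
      intro x
      rw [MulAut.conj_apply]
      exact (mem_normalizer_iff.1 hyN x).symm

end main

end Cfsg.Agent.Omega.ML.LieRgd
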