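import Cfsg.Agent.Omega.ML.LieRgd

/-!
# (ML), K-side, groups with a root group datum: opposite subgroups (OMEGA; helper949)

`Y` a finite group with a root group datum of characteristic `p` and trivial centre, generated by the root groups,
`Inn Y ≤ 𝔾 ≤ Aut Y`, `D` a `p`-subgroup with `𝔾 = Inn(Y) D` and `Inn(U) ≤ D`; `A ≤ D` lies in a normal `p`-subgroup of
every proper overgroup of `D` in `𝔾`.

* `kopp` : either the proper overgroups of `D` are in one proper subgroup, or there is a `p`-subgroup `D'` of `𝔾` such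
  that `A ⊓ R' = ⊥` for all proper overgroups `R'` of `D'` in `𝔾`.
-/

set_option autoImplicit false
set_option linter.unusedSectionVars false

namespace Cfsg.Agent.Omega.ML.LieRgd

open Subgroup CoxeterSystem Cfsg.Agent.ChevalleyStructure.CoxeterGeom Cfsg.Agent.Tits.Roots Cfsg.Agent.Tits.Core
  Cfsg.Agent.Tits.Exchange Cfsg.Agent.Nodes.Reps Cfsg.Agent.Nodes.BNOf Cfsg.Agent.Nodes.StabComb
  Cfsg.Agent.Nodes.Bruhat Cfsg.Agent.Nodes.OppDec Cfsg.Agent.Nodes.LeviDec Cfsg.Agent.Nodes.NormalForm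
  Cfsg.Agent.KFacts.RgdOpp Cfsg.Agent.KFacts.RgdAut Cfsg.Agent.KFacts.RgdDiag Cfsg.Agent.KFacts.RgdRigid
  Cfsg.Agent.KFacts.RgdVJ Cfsg.Agent.KFacts.RgdSyl

variable {I W Y : Type*} [Fintype I] [DecidableEq I] [Group W] [Group Y] {M : CoxeterMatrix I}
  {cs : CoxeterSystem M W} {A : I → I → ℤ} {h : IsCartan M A} {p : ℕ} {T : Subgroup Y} {n : I → Y}
  {X : (I → ℤ) → Subgroup Y}

set_option maxHeartbeats 400000

theorem conj_apply_conj (d : MulAut Y) (y : Y) : d * MulAut.conj y * d⁻¹ = MulAut.conj (d y) := by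
  ext x
  simp [MulAut.mul_apply, MulAut.conj_apply]

theorem conj_injective (hZ : center Y = ⊥) : Function.Injective (MulAut.conj : Y →* MulAut Y) := by
  rw [injective_iff_map_eq_one]
  intro y hy
  rw [← mem_bot, ← hZ, mem_center_iff]
  intro g
  have h1 := congrArg (fun f : MulAut Y => f g) hy
  simp only [MulAut.conj_apply, MulAut.one_apply] at h1
  exact (mul_inv_eq_iff_eq_mul.1 h1).symm

/-- the automorphisms of `D` fixing `U` and `U⁻` -/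
def Phi (cs : CoxeterSystem M W) (h : IsCartan M A) (X : (I → ℤ) → Subgroup Y) (D : Subgroup (MulAut Y)) :
    Subgroup (MulAut Y) := D ⊓ Frame cs h X

/-- `J` is invariant under `Phi` -/
def Inv (cs : CoxeterSystem M W) (h : IsCartan M A) (T : Subgroup Y) (X : (I → ℤ) → Subgroup Y)
    (D : Subgroup (MulAut Y)) (J : Set I) : Prop := ∀ φ ∈ Phi cs h X D, Fix φ (PJ cs h T X J)

/-- `P_J D` -/
def RJ (cs : CoxeterSystem M W) (h : IsCartan M A) (T : Subgroup Y) (X : (I → ℤ) → Subgroup Y)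
    (D : Subgroup (MulAut Y)) (J : Set I) : Subgroup (MulAut Y) := (PJ cs h T X J).map MulAut.conj ⊔ D

section main

variable [Finite Y] [hp : Fact p.Prime] [Finite W] (R : RGD cs h p T n X)
  (hG1 : RGD.Sup X {x | IsRoot cs h x} = ⊤) (hZ : center Y = ⊥) {D : Subgroup (MulAut Y)} (hD : IsPGroup p D)
  (hU : ∀ u ∈ RGD.Sup X (RGD.Pos cs h), MulAut.conj u ∈ D)

include R hG1 hZ hD hU hp

theorem mem_U_of_conj {y : Y} (hy : MulAut.conj y ∈ D) : y ∈ RGD.Sup X (RGD.Pos cs h) :=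
  le_U_of_isPGroup R (GG_eq_top hG1) (Q := D.comap MulAut.conj)
    (hD.comap_of_injective MulAut.conj (conj_injective hZ)) hU hy

theorem fix_U {d : MulAut Y} (hd : d ∈ D) : Fix d (RGD.Sup X (RGD.Pos cs h)) := by
  have key : ∀ d ∈ D, ∀ u ∈ RGD.Sup X (RGD.Pos cs h), d u ∈ RGD.Sup X (RGD.Pos cs h) := by
    intro d hd u hu
    apply mem_U_of_conj R hG1 hZ hD hU
    rw [← conj_apply_conj]
    exact mul_mem (mul_mem hd (hU u hu)) (inv_mem hd)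
  intro u
  refine ⟨fun hu => ?_, key d hd u⟩
  have := key d⁻¹ (inv_mem hd) _ hu
  rwa [MulAut.inv_apply_self] at this

theorem exists_phi {d : MulAut Y} (hd : d ∈ D) :
    ∃ s ∈ RGD.Sup X (RGD.Pos cs h), ∃ φ ∈ Phi cs h X D, d = MulAut.conj s * φ := by
  obtain ⟨u, hu, h1, -, h2, -, -⟩ := exists_frame R (GG_eq_top hG1) (fix_U R hG1 hZ hD hU hd)
  refine ⟨u⁻¹, inv_mem hu, MulAut.conj u * d, ⟨mul_mem (hU u hu) hd, h1, h2⟩, ?_⟩
  rw [map_inv, inv_mul_cancel_left]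

omit hD hU hZ hp in
theorem Phi.exists_diag {φ : MulAut Y} (hφ : φ ∈ Phi cs h X D) : ∃ σ : Equiv.Perm I, Diag T X φ σ :=
  Cfsg.Agent.KFacts.RgdDiag.exists_diag R (GG_eq_top hG1) hφ.2.1 hφ.2.2

omit hD hU hZ hp in
theorem Phi.fix_B {φ : MulAut Y} (hφ : φ ∈ Phi cs h X D) : Fix φ (RGD.B cs h T X) :=
  Cfsg.Agent.KFacts.RgdAut.fix_B R (GG_eq_top hG1) hφ.2.1

/-- a set of nodes invariant under all diagram symmetries of `Phi` -/
theorem inv_of_diag {J : Set I}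
    (hJ : ∀ φ ∈ Phi cs h X D, ∀ σ : Equiv.Perm I, Diag T X φ σ → ∀ i, σ i ∈ J ↔ i ∈ J) : Inv cs h T X D J := by
  intro φ hφ
  obtain ⟨σ, hσ⟩ := Phi.exists_diag R hG1 hφ
  exact fix_PJ R (Phi.fix_B R hG1 hφ) hσ (hJ φ hφ σ hσ)

theorem fix_PJ_of_inv {J : Set I} (hJ : Inv cs h T X D J) {d : MulAut Y} (hd : d ∈ D) : Fix d (PJ cs h T X J) := by
  obtain ⟨s, hs, φ, hφ, rfl⟩ := exists_phi R hG1 hZ hD hU hd
  refine Fix.mul ?_ (hJ φ hφ)
  intro x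
  have hs' : s ∈ PJ cs h T X J := B_le_PJ (RGD.U_le_B hs)
  rw [MulAut.conj_apply]
  exact (mem_normalizer_iff.1 (le_normalizer hs') x).symm

theorem mem_RJ {J : Set I} (hJ : Inv cs h T X D J) {g : MulAut Y} :
    g ∈ RJ cs h T X D J ↔ ∃ y ∈ PJ cs h T X J, ∃ d ∈ D, g = MulAut.conj y * d := by
  constructor
  · intro hg
    have hn : D ≤ normalizer (((PJ cs h T X J).map MulAut.conj : Subgroup (MulAut Y)) : Set (MulAut Y)) := by
      have key : ∀ d ∈ D, ∀ x ∈ (PJ cs h T X J).map MulAut.conj, d * x * d⁻¹ ∈ (PJ cs h T X J).map MulAut.conj := by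
        rintro d hd _ ⟨y, hy, rfl⟩
        exact ⟨d y, (fix_PJ_of_inv R hG1 hZ hD hU hJ hd y).2 hy, (conj_apply_conj d y).symm⟩
      intro d hd
      rw [mem_normalizer_iff]
      intro x
      refine ⟨key d hd x, fun hx => ?_⟩
      have := key d⁻¹ (inv_mem hd) _ hx
      rwa [show d⁻¹ * (d * x * d⁻¹) * d⁻¹⁻¹ = x by group] at this
    have h1 : g ∈ (((PJ cs h T X J).map MulAut.conj ⊔ D : Subgroup (MulAut Y)) : Set (MulAut Y)) := hg
    rw [coe_mul_of_right_le_normalizer_left _ _ hn, Set.mem_mul] at h1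
    obtain ⟨_, ⟨y, hy, rfl⟩, d, hd, e⟩ := h1
    exact ⟨y, hy, d, hd, e.symm⟩
  · rintro ⟨y, hy, d, hd, rfl⟩
    exact mul_mem (mem_sup_left ⟨y, hy, rfl⟩) (mem_sup_right hd)

theorem mem_PJ_of_conj {J : Set I} (hJ : Inv cs h T X D J) {y : Y} (hy : MulAut.conj y ∈ RJ cs h T X D J) :
    y ∈ PJ cs h T X J := by
  obtain ⟨z, hz, d, hd, e⟩ := (mem_RJ R hG1 hZ hD hU hJ).1 hy
  have h1 : MulAut.conj (z⁻¹ * y) ∈ D := by
    rw [map_mul, map_inv, e, inv_mul_cancel_left]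
    exact hd
  have h2 : y = z * (z⁻¹ * y) := by group
  rw [h2]
  exact mul_mem hz (B_le_PJ (RGD.U_le_B (mem_U_of_conj R hG1 hZ hD hU h1)))

theorem comap_le_VJ {J : Set I} {N : Subgroup (MulAut Y)} (hN : IsPGroup p N)
    (hn : ∀ g ∈ RJ cs h T X D J, ∀ x ∈ N, g * x * g⁻¹ ∈ N) {y : Y} (hy : MulAut.conj y ∈ N) : y ∈ VJ cs h X J := by
  refine le_VJ R (GG_eq_top hG1) (N := N.comap MulAut.conj)
    (hN.comap_of_injective MulAut.conj (conj_injective hZ)) (fun g hg x hx => ?_) hy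
  rw [mem_comap, map_mul, map_mul, map_inv]
  exact hn _ (mem_sup_left ⟨g, hg, rfl⟩) _ hx

/-- (3): `φ` is trivial on `L_J` -/
theorem phi_LJ {J : Set I} {N : Subgroup (MulAut Y)} (hN : IsPGroup p N)
    (hn : ∀ g ∈ RJ cs h T X D J, ∀ x ∈ N, g * x * g⁻¹ ∈ N) (hJ : Inv cs h T X D J) {s : Y} {φ : MulAut Y}
    (hs : s ∈ RGD.Sup X (RGD.Pos cs h)) (hφ : φ ∈ Phi cs h X D) (ha : MulAut.conj s * φ ∈ N)
    (hJ' : Fix φ (LJ cs h T X J)) : ∀ g ∈ LJ cs h T X J, φ g = g := by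
  obtain ⟨s₁, hs₁, v₁, hv₁, rfl⟩ := (mem_U_iff R (J := J)).1 hs
  have hs₁L : s₁ ∈ LJ cs h T X J := (RGD.Sup_le fun _ hx => X_le_LJ (PosJ_subset J hx) :
    UJ cs h X J ≤ LJ cs h T X J) hs₁
  have hVn : ∀ {g v : Y}, g ∈ LJ cs h T X J → v ∈ VJ cs h X J → g * v * g⁻¹ ∈ VJ cs h X J := fun hg hv =>
    (mem_normalizer_iff.1 (LJ_le_normalizer_VJ R J hg) _).1 hv
  -- `s₁ φ(g) s₁⁻¹ = g`
  have key : ∀ g ∈ LJ cs h T X J, s₁ * φ g * s₁⁻¹ = g := by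
    intro g hg
    have h1 : MulAut.conj ((MulAut.conj (s₁ * v₁) * φ) g * g⁻¹) ∈ N := by
      have h2 : MulAut.conj ((MulAut.conj (s₁ * v₁) * φ) g * g⁻¹) =
          (MulAut.conj (s₁ * v₁) * φ) * (MulAut.conj g * (MulAut.conj (s₁ * v₁) * φ)⁻¹ * (MulAut.conj g)⁻¹) := by
        rw [map_mul, map_inv, ← conj_apply_conj]
        group
      rw [h2]
      exact mul_mem ha (hn _ (mem_sup_left ⟨g, LJ_le_PJ hg, rfl⟩) _ (inv_mem ha))
    have h3 := comap_le_VJ R hG1 hZ hD hU hN hn h1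
    have hφg : φ g ∈ LJ cs h T X J := (hJ' g).2 hg
    have h4 : v₁ * (φ g * v₁⁻¹ * (φ g)⁻¹) ∈ VJ cs h X J := mul_mem hv₁ (hVn hφg (inv_mem hv₁))
    have h5 : s₁ * (v₁ * (φ g * v₁⁻¹ * (φ g)⁻¹)) * s₁⁻¹ ∈ VJ cs h X J := hVn hs₁L h4
    have h6 : s₁ * φ g * s₁⁻¹ * g⁻¹ ∈ VJ cs h X J := by
      have h7 : s₁ * φ g * s₁⁻¹ * g⁻¹ =
          (s₁ * (v₁ * (φ g * v₁⁻¹ * (φ g)⁻¹)) * s₁⁻¹)⁻¹ * ((MulAut.conj (s₁ * v₁) * φ) g * g⁻¹) := by
        rw [MulAut.mul_apply, MulAut.conj_apply]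
        group
      rw [h7]
      exact mul_mem (inv_mem h5) h3
    have h8 : s₁ * φ g * s₁⁻¹ * g⁻¹ ∈ LJ cs h T X J :=
      mul_mem (mul_mem (mul_mem hs₁L hφg) (inv_mem hs₁L)) (inv_mem hg)
    exact mul_inv_eq_one.1 (eq_one_of_mem_LJ_of_mem_VJ R h8 h6)
  -- `s₁` normalises `U⁻`
  have h1 : s₁ ∈ normalizer (UN cs h X : Set Y) := by
    have hUNJ : ∀ x ∈ UN cs h X, ∃ a ∈ UN cs h X, ∃ v ∈ VNJ cs h X J, a ∈ LJ cs h T X J ∧ x = a * v :=
      fun x hx => exists_UN R hx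
    have hVN : ∀ {g v : Y}, g ∈ LJ cs h T X J → v ∈ VNJ cs h X J → g * v * g⁻¹ ∈ VNJ cs h X J := fun hg hv =>
      (mem_normalizer_iff.1 (LJ_le_normalizer_VNJ R J hg) _).1 hv
    have hpos : ∀ x ∈ UN cs h X, s₁ * x * s₁⁻¹ ∈ UN cs h X := by
      intro x hx
      obtain ⟨a, ha, v, hv, haL, rfl⟩ := hUNJ x hx
      have h2 : s₁ * a * s₁⁻¹ ∈ UN cs h X := by
        have h3 := key (φ⁻¹ a) ((hJ'.inv a).2 haL)
        rw [MulAut.apply_inv_self] at h3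
        rw [h3]
        exact (hφ.2.2.inv a).2 ha
      have h3 : s₁ * (a * v) * s₁⁻¹ = (s₁ * a * s₁⁻¹) * (s₁ * v * s₁⁻¹) := by group
      rw [h3]
      exact mul_mem h2 (VNJ_le_UN J (hVN hs₁L hv))
    have hneg : ∀ x ∈ UN cs h X, s₁⁻¹ * x * s₁ ∈ UN cs h X := by
      intro x hx
      obtain ⟨a, ha, v, hv, haL, rfl⟩ := hUNJ x hx
      have h2 : s₁⁻¹ * a * s₁ ∈ UN cs h X := by
        have h3 := key a haL
        have h4 : s₁⁻¹ * a * s₁ = φ a := by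
          nth_rewrite 1 [← h3]
          group
        rw [h4]
        exact (hφ.2.2 a).2 ha
      have h3 : s₁⁻¹ * (a * v) * s₁ = (s₁⁻¹ * a * s₁) * (s₁⁻¹ * v * s₁⁻¹⁻¹) := by group
      rw [h3]
      exact mul_mem h2 (VNJ_le_UN J (hVN (inv_mem hs₁L) hv))
    rw [mem_normalizer_iff]
    intro x
    refine ⟨hpos x, fun hx => ?_⟩
    have := hneg _ hx
    rwa [show s₁⁻¹ * (s₁ * x * s₁⁻¹) * s₁ = x by group] at this
  have h2 := eq_one_of_mem_U_of_norm R (GG_eq_top hG1) (UJ_le_U J hs₁) h1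
  intro g hg
  have h3 := key g hg
  rwa [h2, one_mul, inv_one, mul_one] at h3

end main

end Cfsg.Agent.Omega.ML.LieRgd
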