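import Cfsg.Agent.Omega.ML.MinOut

/-!
# (ML), the K-list end: THEOREM LOC (helper667, OMEGA)

One 2-local subgroup `R₀ = E.L` of odd index, `E` elementary abelian and self-centralising in `T`, `L` without nontrivial
modules of order `< |E|`, excludes the group of a minimal counterexample of (ML):

* `Dat H M T R₀ E L` : the hypotheses: `T ≤ R₀ < H`, `E` normal in `R₀` elementary abelian, `O₂(R₀) ≤ E`, `C_T(E) ≤ E`,
  `L ≤ R₀` irreducible on `E` and trivial on every `L`-section `M / W` of order `< |E|`;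
* `Base H M T Q A z` : what is used of the frame `Fr` (`p = False`);  `Fr.base`;
* `Base.loc` : **contradiction**, if `T` lies in two maximal subgroups of `H`.
-/

set_option autoImplicit false

namespace Cfsg.Agent.Omega.ML.Loc

open Subgroup Cfsg Cfsg.Agent.ClassTwoFusion.Quad Cfsg.Agent.Omega.NOThree.NoOver Cfsg.Agent.Omega.ML.CD
open Cfsg.Agent.ZN Cfsg.Agent.MinSimple.VModule Cfsg.Agent.Omega.ML.MinFrame

universe u v

/-- the 2-local data: `T ≤ R₀ < H`, `O₂(R₀) ≤ E` elementary abelian and normal in `R₀`, `C_T(E) ≤ E`, `L ≤ R₀` irreducible on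
`E` and trivial on all `M / W` of order `< |E|` -/
structure Dat (H : Type u) [Group H] (M : Type v) [Group M] [MulDistribMulAction H M] (T R₀ E L : Subgroup H) :
    Prop where
  TR : T ≤ R₀
  Rne : R₀ ≠ ⊤
  ER : E ≤ R₀
  nE : R₀ ≤ normalizer (E : Set H)
  sq : ∀ e ∈ E, e * e = 1
  core : o2 R₀ ≤ E
  cT : ∀ t ∈ T, (∀ e ∈ E, t * e = e * t) → t ∈ E
  LR : L ≤ R₀
  irr : ∀ E₁ ≤ E, (∀ l ∈ L, ∀ x ∈ E₁, l * x * l⁻¹ ∈ E₁) → E₁ = ⊥ ∨ E₁ = E
  triv : ∀ W : Subgroup M, (∀ l ∈ L, ∀ m ∈ W, l • m ∈ W) → (∀ e ∈ E, ∀ m, e • m * m⁻¹ ∈ W) →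
    W.index < Nat.card E → ∀ l ∈ L, ∀ m, l • m * m⁻¹ ∈ W

theorem strict_iSup {H : Type*} [Group H] [Finite H] {f : Subgroup H → ℕ} (hf : LS f) {ι : Sort*} {X : ι → Subgroup H}
    (hX : ∀ i, Strict f (X i)) : Strict f (⨆ i, X i) := by
  rw [strict_iff hf]
  exact le_antisymm (hf.lo_le_self _) (iSup_le fun i => (hX i).le_lo hf (le_iSup _ i))

section

variable {H : Type*} [Group H] {M : Type*} [Group M] [MulDistribMulAction H M]

/-- `N_H(W)` -/
def stb (H : Type*) [Group H] {M : Type*} [Group M] [MulDistribMulAction H M] (W : Subgroup M) : Subgroup H where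
  carrier := {g | ∀ m, g • m ∈ W ↔ m ∈ W}
  one_mem' := fun m => by rw [one_smul]
  mul_mem' := fun {x y} hx hy m => by rw [mul_smul, hx, hy]
  inv_mem' := fun {x} hx m => by rw [← hx (x⁻¹ • m), smul_inv_smul]

theorem mem_stb {W : Subgroup M} {g : H} : g ∈ stb H W ↔ ∀ m, g • m ∈ W ↔ m ∈ W := Iff.rfl

/-- `C_H(W) ∩ C_H(M/W)` -/
def cen (H : Type*) [Group H] {M : Type*} [Group M] [MulDistribMulAction H M] (W : Subgroup M) : Subgroup H where
  carrier := {g | (∀ m ∈ W, g • m = m) ∧ ∀ m, g • m * m⁻¹ ∈ W}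
  one_mem' := ⟨fun m _ => one_smul _ m, fun m => by rw [one_smul, mul_inv_cancel]; exact W.one_mem⟩
  mul_mem' := by
    rintro x y ⟨hx, hx'⟩ ⟨hy, hy'⟩
    refine ⟨fun m hm => by rw [mul_smul, hy m hm, hx m hm], fun m => ?_⟩
    have e : (x * y) • m * m⁻¹ = (x • (y • m) * (y • m)⁻¹) * (y • m * m⁻¹) := by
      rw [mul_smul]; group
    rw [e]
    exact W.mul_mem (hx' _) (hy' _)
  inv_mem' := by
    rintro x ⟨hx, hx'⟩
    refine ⟨fun m hm => by rw [inv_smul_eq_iff, hx m hm], fun m => ?_⟩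
    have h1 := hx' (x⁻¹ • m)
    rw [smul_inv_smul] at h1
    have h2 := W.inv_mem h1
    rwa [mul_inv_rev, inv_inv] at h2

theorem mem_cen {W : Subgroup M} {g : H} : g ∈ cen H W ↔ (∀ m ∈ W, g • m = m) ∧ ∀ m, g • m * m⁻¹ ∈ W := Iff.rfl

theorem cen_le_stb (W : Subgroup M) : cen H W ≤ stb H W := by
  rintro g ⟨hg, hg'⟩ m
  constructor
  · intro h
    have h2 := W.mul_mem (W.inv_mem (hg' m)) h
    have e : (g • m * m⁻¹)⁻¹ * g • m = m := by group
    rwa [e] at h2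
  · intro h
    rw [hg m h]
    exact h

theorem conj_mem_cen {W : Subgroup M} {g x : H} (hg : g ∈ stb H W) (hx : x ∈ cen H W) : g * x * g⁻¹ ∈ cen H W := by
  have hg' := (stb H W).inv_mem hg
  refine ⟨fun m hm => ?_, fun m => ?_⟩
  · rw [mul_smul, mul_smul, hx.1 _ ((hg' m).2 hm), smul_inv_smul]
  · have h1 := (hg _).2 (hx.2 (g⁻¹ • m))
    rw [smul_mul', smul_inv', smul_inv_smul] at h1
    rw [mul_smul, mul_smul]
    exact h1

theorem sq_of_mem_cen {W : Subgroup M} (sq : ∀ m : M, m * m = 1) (hf : ∀ x : H, (∀ m : M, x • m = m) → x = 1) {x : H}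
    (hx : x ∈ cen H W) : x * x = 1 := by
  apply hf
  intro m
  have h1 : x • m = (x • m * m⁻¹) * m := by group
  rw [mul_smul]
  calc x • (x • m) = x • ((x • m * m⁻¹) * m) := by rw [← h1]
    _ = (x • m * m⁻¹) * (x • m) := by rw [smul_mul', hx.1 _ (hx.2 m)]
    _ = (x • m * m⁻¹) * ((x • m * m⁻¹) * m) := by rw [← h1]
    _ = m := by rw [← mul_assoc, sq, one_mul]

theorem isPGroup_of_sq {A : Subgroup H} (hA : ∀ a ∈ A, a * a = 1) : IsPGroup 2 A := fun q =>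
  ⟨1, by rw [pow_one, pow_two]; exact Subtype.ext (hA q q.2)⟩

theorem comm_of_sq' {A : Subgroup H} (hA : ∀ a ∈ A, a * a = 1) : ∀ a ∈ A, ∀ b ∈ A, a * b = b * a := by
  intro a ha b hb
  have h1 := hA _ (A.mul_mem ha hb)
  have h2 : a⁻¹ = a := inv_eq_of_mul_eq_one_right (hA a ha)
  have h3 : b⁻¹ = b := inv_eq_of_mul_eq_one_right (hA b hb)
  calc a * b = (a * b)⁻¹ := (inv_eq_of_mul_eq_one_right h1).symm
    _ = b⁻¹ * a⁻¹ := mul_inv_rev a b
    _ = b * a := by rw [h2, h3]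

end

/-- What is used of the frame of a minimal counterexample: `M` an elementary abelian 2-group, `H` faithful on `M`,
`O₂(H) = 1`, `T` a Sylow 2-subgroup of `H` fixing `z`, `Q` a normal 2-subgroup of `C_H(z)`, `1 ≠ A ≤ Q` elementary abelian and
strict, and (RED): strict elementary abelian subgroups of normal 2-subgroups of `C_H(z)` are in `O₂(R)`, `T ≤ R < H`. -/
structure Base (H : Type u) [Group H] (M : Type v) [Group M] [MulDistribMulAction H M] (T Q A : Subgroup H) (z : M) :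
    Prop where
  sq : ∀ m : M, m * m = 1
  faithful : ∀ x : H, (∀ m : M, x • m = m) → x = 1
  core : ∀ N : Subgroup H, N.Normal → IsPGroup 2 N → N = ⊥
  two : IsPGroup 2 T
  odd : ¬ 2 ∣ T.index
  fixT : ∀ t ∈ T, t • z = z
  Q2 : IsPGroup 2 Q
  fixQ : ∀ q ∈ Q, q • z = z
  nrmQ : ∀ g : H, g • z = z → ∀ q ∈ Q, g * q * g⁻¹ ∈ Q
  AQ : A ≤ Q
  Asq : ∀ a ∈ A, a * a = 1
  strict : Strict (fab M 1 1) A
  ne : A ≠ ⊥
  red : ∀ Q' B R : Subgroup H, IsPGroup 2 Q' → (∀ q ∈ Q', q • z = z) →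
    (∀ g : H, g • z = z → ∀ q ∈ Q', g * q * g⁻¹ ∈ Q') → B ≤ Q' → (∀ b ∈ B, b * b = 1) → Strict (fab M 1 1) B →
    T ≤ R → R ≠ ⊤ → B ≤ o2 R

variable {K : Frame.Cls.{u}} {H : Type u} [Group H] [Finite H] {M : Type v} [Group M] [Finite M]
  [MulDistribMulAction H M] {T R₀ E L Q A : Subgroup H} {z : M}

namespace Dat

omit [Finite H] [Finite M] in
theorem smul_mem (D : Dat H M T R₀ E L) {r : H} (hr : r ∈ R₀) {m : M} (hm : m ∈ cv M (E : Set H)) :
    r • m ∈ cv M (E : Set H) := by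
  intro e he
  have h1 := conj_mem_of_le D.nE (R₀.inv_mem hr) he
  rw [inv_inv] at h1
  have h2 := hm _ h1
  rw [mul_smul, mul_smul, inv_smul_eq_iff] at h2
  exact h2

/-- **`C_M(e) = C_M(E)` for all `1 ≠ e ∈ E`** -/
theorem mem_cv_of (D : Dat H M T R₀ E L) (hsq : ∀ m : M, m * m = 1) (hs : Strict (fab M 1 1) E) (hne : E ≠ ⊥) {e : H} (he : e ∈ E) (he1 : e ≠ 1)
    {m : M} (hm : e • m = m) : m ∈ cv M (E : Set H) := by
  have hW : (cv M (E : Set H)).index < Nat.card E := by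
    have h1 := hs ⊥ (bot_lt_iff_ne_bot.2 hne)
    rwa [fab_lt_iff bot_le, pow_one, pow_one, relIndex_bot_left, cv_bot, relIndex_top_right] at h1
  have ht := D.triv _ (fun l hl m hm => D.smul_mem (D.LR hl) hm) (fun e he m b hb => by
    have h1 := quad hsq hs (comm_of_sq' D.sq) he hb m
    rwa [show m⁻¹ = m from inv_eq_of_mul_eq_one_right (hsq m)]) hW
  have hE1 : E ⊓ MulAction.stabilizer H m = ⊥ ∨ E ⊓ MulAction.stabilizer H m = E := by
    refine D.irr _ inf_le_left fun l hl x hx => ⟨conj_mem_of_le D.nE (D.LR hl) hx.1, ?_⟩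
    change (l * x * l⁻¹) • m = m
    have hxm : x • m = m := MulAction.mem_stabilizer_iff.1 hx.2
    have h1 : l⁻¹ • m = (l⁻¹ • m * m⁻¹) * m := by group
    have h2 : x • (l⁻¹ • m) = l⁻¹ • m := by
      calc x • (l⁻¹ • m) = x • ((l⁻¹ • m * m⁻¹) * m) := by rw [← h1]
        _ = (l⁻¹ • m * m⁻¹) * m := by rw [smul_mul', ht _ (L.inv_mem hl) m x hx.1, hxm]
        _ = l⁻¹ • m := h1.symm
    rw [mul_smul, mul_smul, h2, smul_inv_smul]
  have he2 : e ∈ E ⊓ MulAction.stabilizer H m := ⟨he, MulAction.mem_stabilizer_iff.2 hm⟩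
  rcases hE1 with h | h
  · rw [h, mem_bot] at he2
    exact absurd he2 he1
  · intro x hx
    have h2 : x ∈ E ⊓ MulAction.stabilizer H m := by rw [h]; exact hx
    exact MulAction.mem_stabilizer_iff.1 h2.2

end Dat

omit [Finite M] in
theorem Base.o2_le (h : Base H M T Q A z) {R : Subgroup H} (hR : T ≤ R) : o2 R ≤ T :=
  o2_le_of_sylow h.two fun h2 => h.odd (h2.trans (Dvd.intro _ (relIndex_mul_index hR)))

/-- the frame gives the base -/
theorem _root_.Cfsg.Agent.Omega.ML.MinFrame.Fr.base (h : Fr K False H M T Q A z) : Base H M T Q A z where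
  sq := h.sq
  faithful := h.faithful
  core := fun _ hN h2 => h.o2_eq_bot hN h2
  two := h.two
  odd := h.odd
  fixT := h.fixT
  Q2 := h.Q2
  fixQ := h.fixQ
  nrmQ := h.nrmQ
  AQ := h.AQ
  Asq := h.Asq
  strict := h.strict
  ne := h.ne
  red := by
    intro Q' B R hQ hQz hQn hBQ hB2 hB hR hR'
    have h1 : T ≤ MulAction.stabilizer H z := fun t ht => h.fixT t ht
    have h2 : Q' ≤ o2 (MulAction.stabilizer H z) :=
      Cfsg.Agent.MinSimple.VModule.le_o2 (fun q hq => hQz q hq) hQ (le_normalizer_of fun g hg x hx => hQn g hg x hx)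
    have h3 : Q' ≤ T := h2.trans (o2_le_of_sylow h.two (h.not_dvd_relIndex h1))
    exact h.red_o2 hR' h.two hR (h.not_dvd_relIndex hR) h.fixT hQ (h3.trans hR) hQz (fun g _ hg q hq => hQn g hg q hq)
      hBQ hB2 (fun hp => hp.elim) hB

/-- **THEOREM LOC** -/
theorem Base.loc (h : Base H M T Q A z) (D : Dat H M T R₀ E L)
    (two : ∀ R : Subgroup H, T ≤ R → R ≠ ⊤ → ∃ P : Subgroup H, T ≤ P ∧ P ≠ ⊤ ∧ ¬ P ≤ R) : False := by
  have hf := ls_fab (H := H) M 1 1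
  have hT : ∀ {R : Subgroup H}, T ≤ R → o2 R ≤ T := fun hR => h.o2_le hR
  -- the conjugates of `A` under `C_H(z)`
  have hcA : ∀ c ∈ MulAction.stabilizer H z, cj c A ≤ Q := by
    rintro c hc _ ⟨a, ha, rfl⟩
    exact h.nrmQ c hc a (h.AQ ha)
  have hcsq : ∀ c, ∀ a ∈ cj c A, a * a = 1 := by
    rintro c _ ⟨a, ha, rfl⟩
    change (c * a * c⁻¹) * (c * a * c⁻¹) = 1
    have e : (c * a * c⁻¹) * (c * a * c⁻¹) = c * (a * a) * c⁻¹ := by group
    rw [e, h.Asq a ha, mul_one, mul_inv_cancel]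
  have hco2 : ∀ c ∈ MulAction.stabilizer H z, ∀ R : Subgroup H, T ≤ R → R ≠ ⊤ → cj c A ≤ o2 R := by
    intro c hc R hR hR'
    exact h.red Q _ R h.Q2 h.fixQ h.nrmQ (hcA c hc) (hcsq c) (h.strict.cj hf c) hR hR'
  obtain ⟨X, hX⟩ : ∃ X : Subgroup H, X = ⨆ c : MulAction.stabilizer H z, cj (c : H) A := ⟨_, rfl⟩
  have hXs : Strict (fab M 1 1) X := by
    rw [hX]
    exact strict_iSup hf fun c => h.strict.cj hf c
  have hAX : A ≤ X := by
    rw [hX]
    refine le_trans (le_of_eq (cj_one A).symm) (le_iSup (fun c : MulAction.stabilizer H z => cj (c : H) A) 1)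
  have hXne : X ≠ ⊥ := fun h1 => h.ne (le_bot_iff.1 (h1 ▸ hAX))
  have hXo : ∀ R : Subgroup H, T ≤ R → R ≠ ⊤ → X ≤ o2 R := by
    intro R hR hR'
    rw [hX]
    exact iSup_le fun c => hco2 c c.2 R hR hR'
  have hXn : ∀ c ∈ MulAction.stabilizer H z, ∀ x ∈ X, c * x * c⁻¹ ∈ X := by
    intro c hc
    have h1 : X ≤ X.comap (MulAut.conj c).toMonoidHom := by
      conv_lhs => rw [hX]
      refine iSup_le fun d => ?_
      rintro _ ⟨a, ha, rfl⟩
      rw [mem_comap, hX]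
      refine (le_iSup (fun c : MulAction.stabilizer H z => cj (c : H) A) (⟨c, hc⟩ * d)) ⟨a, ha, ?_⟩
      change (c * (d : H)) * a * (c * (d : H))⁻¹ = c * ((d : H) * a * (d : H)⁻¹) * c⁻¹
      group
    exact fun x hx => h1 hx
  -- `E` is strict
  have hEX : X ≤ E := (hXo R₀ D.TR D.Rne).trans D.core
  have hEs : Strict (fab M 1 1) E := by
    have h1 : (⨆ r : R₀, cj (r : H) X) = E := by
      have hle : (⨆ r : R₀, cj (r : H) X) ≤ E := by
        refine iSup_le fun r => ?_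
        rintro _ ⟨x, hx, rfl⟩
        exact conj_mem_of_le D.nE r.2 (hEX hx)
      have hXle : X ≤ ⨆ r : R₀, cj (r : H) X :=
        le_trans (le_of_eq (cj_one X).symm) (le_iSup (fun r : R₀ => cj (r : H) X) 1)
      refine (D.irr _ hle fun l hl => ?_).resolve_left fun h2 => hXne (le_bot_iff.1 (h2 ▸ hXle))
      have h1 : (⨆ r : R₀, cj (r : H) X) ≤ (⨆ r : R₀, cj (r : H) X).comap (MulAut.conj l).toMonoidHom := by
        refine iSup_le fun d => ?_
        rintro _ ⟨a, ha, rfl⟩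
        rw [mem_comap]
        refine (le_iSup (fun r : R₀ => cj (r : H) X) (⟨l, D.LR hl⟩ * d)) ⟨a, ha, ?_⟩
        change (l * (d : H)) * a * (l * (d : H))⁻¹ = l * ((d : H) * a * (d : H)⁻¹) * l⁻¹
        group
      exact fun x hx => h1 hx
    rw [← h1]
    exact strict_iSup hf fun r => hXs.cj hf r
  have hEne : E ≠ ⊥ := fun h1 => hXne (le_bot_iff.1 (h1 ▸ hEX))
  have hE2 : IsPGroup 2 E := isPGroup_of_sq D.sq
  have hEc := comm_of_sq' D.sq
  have hEo : E ≤ o2 R₀ := Cfsg.Agent.MinSimple.VModule.le_o2 D.ER hE2 D.nE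
  have hET : E ≤ T := hEo.trans (hT D.TR)
  obtain ⟨W, hW⟩ : ∃ W : Subgroup M, W = cv M (E : Set H) := ⟨_, rfl⟩
  have hfix : ∀ e ∈ E, e ≠ 1 → ∀ m : M, e • m = m → m ∈ W := fun e he he1 m hm => by
    rw [hW]; exact D.mem_cv_of h.sq hEs hEne he he1 hm
  have hWE : ∀ m ∈ W, ∀ e ∈ E, e • m = m := fun m hm e he => by
    rw [hW] at hm; exact hm e he
  -- `R = N_H(W)`
  have hR₀ : R₀ ≤ stb H W := by
    intro r hr m
    constructor
    · intro h1
      rw [hW] at h1 ⊢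
      have h2 := D.smul_mem (R₀.inv_mem hr) h1
      rwa [inv_smul_smul] at h2
    · intro h1
      rw [hW] at h1 ⊢
      exact D.smul_mem hr h1
  have hEcen : E ≤ cen H W := by
    intro e he
    refine ⟨fun m hm => hWE m hm e he, fun m => ?_⟩
    rw [hW]
    intro b hb
    have h1 := quad h.sq hEs hEc he hb m
    rwa [show m⁻¹ = m from inv_eq_of_mul_eq_one_right (h.sq m)]
  have hcen2 : IsPGroup 2 (cen H W) := isPGroup_of_sq fun x hx => sq_of_mem_cen h.sq h.faithful hx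
  have hRne : stb H W ≠ ⊤ := by
    intro h1
    have h2 : (cen H W).Normal := ⟨fun x hx g => conj_mem_cen (by rw [h1]; exact mem_top g) hx⟩
    exact hEne (le_bot_iff.1 (hEcen.trans (h.core _ h2 hcen2).le))
  have hTR : T ≤ stb H W := D.TR.trans hR₀
  have hcenE : cen H W = E := by
    refine le_antisymm ?_ hEcen
    have h1 : cen H W ≤ o2 (stb H W) := Cfsg.Agent.MinSimple.VModule.le_o2 (cen_le_stb W) hcen2
      (le_normalizer_of fun g hg x hx => conj_mem_cen hg hx)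
    have h2 : o2 (stb H W) ≤ o2 R₀ := Cfsg.Agent.MinSimple.VModule.le_o2 ((hT hTR).trans D.TR) (o2_isPGroup _)
      (hR₀.trans (le_normalizer_o2 _))
    exact h1.trans (h2.trans D.core)
  have hRE : ∀ g ∈ stb H W, ∀ e ∈ E, g * e * g⁻¹ ∈ E := by
    intro g hg e he
    rw [← hcenE] at he ⊢
    exact conj_mem_cen hg he
  -- an element mapping some `1 ≠ e ∈ E` into `E` is in `R`
  have hTI : ∀ g : H, ∀ e ∈ E, e ≠ 1 → g * e * g⁻¹ ∈ E → g ∈ stb H W := by
    intro g e he he1 hge m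
    have hne : g * e * g⁻¹ ≠ 1 := by
      intro h1
      apply he1
      rw [mul_inv_eq_one] at h1
      exact mul_left_cancel (h1.trans (mul_one g).symm)
    constructor
    · intro h1
      refine hfix e he he1 m ?_
      have h2 := hWE _ h1 _ hge
      rw [mul_smul, mul_smul, inv_smul_smul] at h2
      exact (smul_left_cancel g h2)
    · intro h1
      refine hfix _ hge hne _ ?_
      rw [mul_smul, mul_smul, inv_smul_smul, hWE m h1 e he]
  -- `C_H(z) ≤ R`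
  have hz : ∀ c : H, c • z = z → c ∈ stb H W := by
    intro c hc
    obtain ⟨x, hx, hx1⟩ : ∃ x ∈ X, x ≠ 1 := by
      obtain ⟨a, ha⟩ := ne_bot_iff_exists_ne_one.1 hXne
      exact ⟨a, a.2, fun h1 => ha (Subtype.ext h1)⟩
    exact hTI c x (hEX hx) hx1 (hEX (hXn c hc x hx))
  have hEP : ∀ R : Subgroup H, T ≤ R → R ≠ ⊤ → E ≤ o2 R := by
    intro R hR hR'
    exact h.red E E R hE2 (fun q hq => h.fixT q (hET hq)) (fun g hg q hq => hRE g (hz g hg) q hq) le_rfl D.sq hEs hR hR'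
  -- the second overgroup
  obtain ⟨P, hTP, hPne, hPR⟩ := two (stb H W) hTR hRne
  obtain ⟨p, hp, hpR⟩ : ∃ p ∈ P, p ∉ stb H W := by
    by_contra hcon
    push Not at hcon
    exact hPR hcon
  have hEoP := hEP P hTP hPne
  have hoT := hT hTP
  obtain ⟨e, he, he1⟩ : ∃ x ∈ E, x ≠ 1 := by
    obtain ⟨a, ha⟩ := ne_bot_iff_exists_ne_one.1 hEne
    exact ⟨a, a.2, fun h1 => ha (Subtype.ext h1)⟩
  have hconj : ∀ {g : H}, g ∈ P → ∀ {x : H}, x ∈ E → g * x * g⁻¹ ∈ T := fun {g} hg {x} hx =>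
    hoT (conj_mem_of_le (le_normalizer_o2 P) hg (hEoP hx))
  -- `p e p⁻¹` centralises `E`
  have hyE : p * e * p⁻¹ ∈ E := by
    refine D.cT _ (hconj hp he) fun x hx => ?_
    -- the commutator is in `E` and in `E^p`
    have h1 : (p * e * p⁻¹) * x * (p * e * p⁻¹)⁻¹ ∈ E := conj_mem_of_le (D.TR.trans D.nE) (hconj hp he) hx
    have h2 : (p * e * p⁻¹) * x * (p * e * p⁻¹)⁻¹ * x⁻¹ ∈ E := E.mul_mem h1 (E.inv_mem hx)
    have h3 : p⁻¹ * ((p * e * p⁻¹) * x * (p * e * p⁻¹)⁻¹ * x⁻¹) * p ∈ E := by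
      have h4 : p⁻¹ * x * p⁻¹⁻¹ ∈ T := hconj (P.inv_mem hp) hx
      rw [inv_inv] at h4
      have h5 : (p⁻¹ * x * p) * e⁻¹ * (p⁻¹ * x * p)⁻¹ ∈ E := conj_mem_of_le (D.TR.trans D.nE) h4 (E.inv_mem he)
      have h6 := E.mul_mem he h5
      have e1 : p⁻¹ * ((p * e * p⁻¹) * x * (p * e * p⁻¹)⁻¹ * x⁻¹) * p = e * ((p⁻¹ * x * p) * e⁻¹ * (p⁻¹ * x * p)⁻¹) := by
        group
      rw [e1]
      exact h6
    by_contra hne
    refine hpR (hTI p _ h3 ?_ ?_)
    · intro h4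
      apply hne
      have h5 : (p * e * p⁻¹) * x * (p * e * p⁻¹)⁻¹ * x⁻¹ = 1 := by
        have h6 : p * (p⁻¹ * ((p * e * p⁻¹) * x * (p * e * p⁻¹)⁻¹ * x⁻¹) * p) * p⁻¹ = p * 1 * p⁻¹ := by rw [h4]
        rw [mul_one, mul_inv_cancel] at h6
        rw [← h6]
        group
      rw [mul_inv_eq_one, mul_inv_eq_iff_eq_mul] at h5
      exact h5
    · have e1 : p * (p⁻¹ * ((p * e * p⁻¹) * x * (p * e * p⁻¹)⁻¹ * x⁻¹) * p) * p⁻¹ =
          (p * e * p⁻¹) * x * (p * e * p⁻¹)⁻¹ * x⁻¹ := by group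
      rw [e1]
      exact h2
  exact hpR (hTI p e he he1 hyE)

/-- **THEOREM LOC** for the frame -/
theorem _root_.Cfsg.Agent.Omega.ML.MinFrame.Fr.loc (h : Fr K False H M T Q A z) (D : Dat H M T R₀ E L)
    (two : ∀ R : Subgroup H, T ≤ R → R ≠ ⊤ → ∃ P : Subgroup H, T ≤ P ∧ P ≠ ⊤ ∧ ¬ P ≤ R) : False :=
  h.base.loc D two

end Cfsg.Agent.Omega.ML.Loc
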