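import Cfsg.Agent.Omega.ML.LocK
import Cfsg.Agent.KFacts.Co3.Syl
import Cfsg.Agent.SporRec.Co3.Model
import Cfsg.Agent.SporRec.Co3DC.Forced
import Cfsg.Prelude.Def_Spor_Conway

/-!
# (ML), THEOREM LOC: the K-fact of `Co3`: `2⁴·A8`, an element of order 5 (helper917)

`E = ⟨z, b, e₁, e₂⟩` of `SporRec/Co3DC/EAct`; the group `U` of `KFacts/Co3/Syl` (the elements acting in the flag) has order
at least `2¹⁰`, so the normaliser of `E` has odd index; `x5 = W0 φ(q)` has order 5.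
-/

set_option autoImplicit false
set_option Elab.async false

namespace Cfsg.Agent.Omega.ML.LocCo3

open Subgroup Cfsg Cfsg.Agent.SporRec.TwoSp6.Model Cfsg.Agent.SporRec.TwoSp6.Order Cfsg.Agent.SporRec.Co3.Ident
  Cfsg.Agent.SporRec.Co3.Chain Cfsg.Agent.SporRec.TwoSp6.Lift Cfsg.Agent.SporRec.TwoSp6.EFacts
  Cfsg.Agent.SporRec.Co3DC.EAct Cfsg.Agent.KFacts.Co3.Cent Cfsg.Agent.KFacts.Co3.Syl
  Cfsg.Agent.SporRec.Co3DC.Forced Cfsg.Agent.SporRec.Co3DC.CutCases Cfsg.Agent.SporRec.Co3DC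
open Cfsg.Agent.Omega.ML.LocK

/-- the elementary abelian group of order 16 -/
def E : Subgroup G3 where
  carrier := {x | ∃ i < 16, x = ee phi0 i}
  one_mem' := ⟨0, by norm_num, (ee_zero phi0).symm⟩
  mul_mem' := by
    rintro _ _ ⟨i, hi, rfl⟩ ⟨j, hj, rfl⟩
    exact ⟨i ^^^ j, xlt hi hj, ee_mul phi0 hi hj⟩
  inv_mem' := by
    rintro _ ⟨i, hi, rfl⟩
    exact ⟨i, hi, ee_inv phi0 hi⟩

theorem mem_E {x : G3} : x ∈ E ↔ ∃ i < 16, x = ee phi0 i := Iff.rfl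

theorem E_comm (a : G3) (ha : a ∈ E) (b : G3) (hb : b ∈ E) : a * b = b * a := by
  obtain ⟨i, hi, rfl⟩ := ha
  obtain ⟨j, hj, rfl⟩ := hb
  exact ee_comm phi0 hi hj

theorem E_sq (a : G3) (ha : a ∈ E) : a * a = 1 := by
  obtain ⟨i, hi, rfl⟩ := ha
  exact ee_sq phi0 hi

theorem card_E : Nat.card E = 16 := by
  have e : Nat.card (Fin 16) = Nat.card E := Nat.card_congr (Equiv.ofBijective
    (fun i : Fin 16 => (⟨ee phi0 i, i, i.2, rfl⟩ : E)) ⟨fun i j h => Fin.ext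
      (ee_inj hyp i.2 j.2 (congrArg Subtype.val h)), fun ⟨x, i, hi, hx⟩ => ⟨⟨i, hi⟩, Subtype.ext hx.symm⟩⟩)
  rw [← e, Nat.card_eq_fintype_card, Fintype.card_fin]

theorem cent_E (g : G3) (hg : ∀ a ∈ E, g * a = a * g) : g ∈ E := by
  obtain ⟨i, hi, rfl⟩ := exists_ee hyp (g := g) ⟨by norm_num, by norm_num, by norm_num, by norm_num,
    cj_of_comm (hg _ ⟨1, by norm_num, rfl⟩), cj_of_comm (hg _ ⟨2, by norm_num, rfl⟩),
    cj_of_comm (hg _ ⟨4, by norm_num, rfl⟩), cj_of_comm (hg _ ⟨8, by norm_num, rfl⟩)⟩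
  exact ⟨i, hi, rfl⟩

theorem conj_mem {g : G3} {a b c d : ℕ} (h : Act phi0 g a b c d) {x : G3} (hx : x ∈ E) : g⁻¹ * x * g ∈ E := by
  obtain ⟨i, hi, rfl⟩ := hx
  exact ⟨_, lin_lt h.ha h.hb h.hc h.hd i, h.all hi⟩

theorem conj_mem' {g : G3} {a b c d : ℕ} (h : Act phi0 g a b c d) {x : G3} (hx : x ∈ E) : g * x * g⁻¹ ∈ E := by
  obtain ⟨a', b', c', d', h', -⟩ := h.inv hyp
  have h1 := conj_mem h' hx
  rwa [inv_inv] at h1

theorem mem_normalizer {g : G3} {a b c d : ℕ} (h : Act phi0 g a b c d) : g ∈ normalizer (E : Set G3) :=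
  mem_normalizer_of (fun _ hx => conj_mem' h hx) fun _ hx => conj_mem h hx

theorem U_le_N : U ≤ normalizer (E : Set G3) := by
  rintro x ⟨b, c, d, hx, -⟩
  exact mem_normalizer hx

/-! ### the order of `U` -/

/-- three elements -/
noncomputable def gn : ℕ → G3
  | 0 => phi0 (v [0])
  | 1 => phi0 (v t1W)
  | _ => phi0 (v t2W)

/-- their actions -/
def tn : ℕ → ℕ × ℕ × ℕ
  | 0 => (3, 4, 8)
  | 1 => (2, 4, 12)
  | _ => (2, 6, 9)

theorem act_gn (k : ℕ) : Act phi0 (gn k) 1 (tn k).1 (tn k).2.1 (tn k).2.2 := by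
  match k with
  | 0 => exact act_of_chk phi0 chk0
  | 1 => exact act_of_chk phi0 chk1
  | (n + 2) => exact act_of_chk phi0 chk2

theorem gn_mem (k : ℕ) : gn k ∈ U := by
  match k with
  | 0 => exact mem0
  | 1 => exact mem1
  | (n + 2) => exact mem2

/-- value of a word -/
noncomputable def gv : List ℕ → G3
  | [] => 1
  | k :: w => gn k * gv w

/-- action of a word -/
def tup : List ℕ → ℕ × ℕ × ℕ
  | [] => (2, 4, 8)
  | k :: w => (lin 1 (tup w).1 (tup w).2.1 (tup w).2.2 (tn k).1, lin 1 (tup w).1 (tup w).2.1 (tup w).2.2 (tn k).2.1,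
      lin 1 (tup w).1 (tup w).2.1 (tup w).2.2 (tn k).2.2)

theorem act_gv (w : List ℕ) : Act phi0 (gv w) 1 (tup w).1 (tup w).2.1 (tup w).2.2 := by
  induction w with
  | nil => exact Act.one phi0
  | cons k w ih =>
    have h := (act_gn k).mul ih
    rw [lin1] at h
    exact h

theorem gv_mem (w : List ℕ) : gv w ∈ U := by
  induction w with
  | nil => exact U.one_mem
  | cons k w ih => exact U.mul_mem (gn_mem k) ih

/-- words for the 64 actions -/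
def ws : List (List ℕ) :=
  [[], [0], [1], [2], [1, 0], [2, 0], [2, 1], [0, 2], [1, 2], [2, 1, 0], [0, 2, 0], [1, 2, 0], [0, 2, 1], [1, 2, 1],
   [1, 0, 2], [2, 0, 2], [2, 1, 2], [0, 2, 1, 0], [1, 2, 1, 0], [1, 0, 2, 0], [2, 0, 2, 0], [2, 1, 2, 0],
   [1, 0, 2, 1], [2, 0, 2, 1], [2, 1, 2, 1], [2, 1, 0, 2], [1, 2, 0, 2], [0, 2, 1, 2], [1, 0, 2, 1, 0],
   [2, 0, 2, 1, 0], [2, 1, 2, 1, 0], [2, 1, 0, 2, 0], [1, 2, 0, 2, 0], [0, 2, 1, 2, 0], [2, 1, 0, 2, 1],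
   [1, 2, 0, 2, 1], [0, 2, 1, 2, 1], [0, 2, 1, 0, 2], [1, 2, 1, 0, 2], [2, 1, 2, 0, 2], [2, 0, 2, 1, 2],
   [2, 1, 0, 2, 1, 0], [1, 2, 0, 2, 1, 0], [0, 2, 1, 2, 1, 0], [0, 2, 1, 0, 2, 0], [1, 2, 1, 0, 2, 0],
   [2, 1, 2, 0, 2, 0], [2, 0, 2, 1, 2, 0], [2, 1, 2, 0, 2, 1], [2, 0, 2, 1, 2, 1], [2, 0, 2, 1, 0, 2],
   [2, 1, 2, 1, 0, 2], [0, 2, 1, 2, 0, 2], [1, 2, 0, 2, 1, 2], [2, 1, 2, 0, 2, 1, 0], [2, 0, 2, 1, 2, 1, 0],
   [2, 0, 2, 1, 0, 2, 0], [2, 1, 2, 1, 0, 2, 0], [0, 2, 1, 2, 0, 2, 0], [1, 2, 0, 2, 1, 2, 0],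
   [2, 0, 2, 1, 2, 0, 2], [2, 1, 2, 0, 2, 1, 2], [2, 0, 2, 1, 2, 0, 2, 0], [2, 1, 2, 0, 2, 1, 2, 0]]

theorem ws_inj : ∀ i j : Fin 64, tup (ws.getD i []) = tup (ws.getD j []) → i = j := by decide +kernel

theorem card_U : 1024 ≤ Nat.card U := by
  have := finite_G3
  let f : Fin 64 × Fin 16 → U := fun p => ⟨gv (ws.getD p.1 []) * ee phi0 p.2, U.mul_mem (gv_mem _) (ee_mem p.2.2)⟩
  have hf : Function.Injective f := by
    rintro ⟨i, k⟩ ⟨j, l⟩ h
    have h1 : gv (ws.getD i []) * ee phi0 k = gv (ws.getD j []) * ee phi0 l := congrArg Subtype.val h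
    have ai := (act_gv (ws.getD i [])).mul (Act.of_ee phi0 k.2)
    have aj := (act_gv (ws.getD j [])).mul (Act.of_ee phi0 l.2)
    have hi := act_gv (ws.getD i [])
    have hj := act_gv (ws.getD j [])
    rw [lin_id _ hi.ha, lin_id _ hi.hb, lin_id _ hi.hc, lin_id _ hi.hd, h1] at ai
    rw [lin_id _ hj.ha, lin_id _ hj.hb, lin_id _ hj.hc, lin_id _ hj.hd] at aj
    have e2 := ee_inj hyp hi.hb hj.hb (ai.h2.symm.trans aj.h2)
    have e4 := ee_inj hyp hi.hc hj.hc (ai.h4.symm.trans aj.h4)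
    have e8 := ee_inj hyp hi.hd hj.hd (ai.h8.symm.trans aj.h8)
    have e : tup (ws.getD i []) = tup (ws.getD j []) := Prod.ext e2 (Prod.ext e4 e8)
    have eij := ws_inj i j e
    subst eij
    have ekl : ee phi0 k = ee phi0 l := mul_left_cancel h1
    exact Prod.ext rfl (Fin.ext (ee_inj hyp k.2 l.2 ekl))
  have h := Nat.card_le_card_of_injective f hf
  rwa [Nat.card_prod, Nat.card_eq_fintype_card, Nat.card_eq_fintype_card, Fintype.card_fin, Fintype.card_fin] at h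

theorem odd_index : ¬ 2 ∣ (normalizer (E : Set G3)).index := by
  have := finite_G3
  have : Fact (Nat.Prime 2) := ⟨Nat.prime_two⟩
  intro h
  obtain ⟨n, hn⟩ := IsPGroup.iff_card.1 isPGroup_U
  have h1 : 10 ≤ n := by
    have h2 := card_U
    rw [hn] at h2
    by_contra hcon
    have h3 : (2 : ℕ) ^ n ≤ 2 ^ 9 := Nat.pow_le_pow_right (by norm_num) (by omega)
    norm_num at h3
    omega
  have h2 : 1024 ∣ Nat.card (normalizer (E : Set G3)) := by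
    refine dvd_trans ?_ (card_dvd_of_le U_le_N)
    rw [hn, show (1024 : ℕ) = 2 ^ 10 by norm_num]
    exact pow_dvd_pow 2 h1
  have h3 := (normalizer (E : Set G3)).card_mul_index
  rw [isCo3_G3.2] at h3
  obtain ⟨a, ha⟩ := h2
  obtain ⟨b, hb⟩ := h
  rw [ha, hb] at h3
  have h4 : 1024 * a * (2 * b) = 2048 * (a * b) := by ring
  rw [h4] at h3
  omega

/-! ### the element of order 5 -/

/-- the element of order 5 -/
noncomputable def x5 : G3 := W0 * phi0 (W qW)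

theorem rel0 : WRel phi0 W0 (W (vW false)) (W (ew 0)) := wrel0

theorem act_x5 : Act phi0 x5 12 13 5 3 := ((act_w rel0).mul (act_of_chk phi0 chkq)).congr (by decide)

theorem x5_pow : x5 ^ 5 = 1 := by
  have h := pow_five rel0 (by norm_num)
  have h0 : vals.getD 0 0 = 0 := rfl
  rw [h0, ee_zero] at h
  rw [← h]
  simp only [pow_succ, pow_zero, one_mul, x5]

theorem x5_not_comm : x5 * ee phi0 1 ≠ ee phi0 1 * x5 := by
  intro h
  have h1 := cj_of_comm h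
  rw [act_x5.h1] at h1
  have h2 := ee_inj hyp (by norm_num) (by norm_num) h1
  omega

theorem orderOf_x5 : orderOf x5 = 5 := by
  have : Fact (Nat.Prime 5) := ⟨by norm_num⟩
  refine orderOf_eq_prime x5_pow fun h => x5_not_comm ?_
  rw [h, one_mul, mul_one]

/-- **The K-fact of `Co3`.** -/
theorem loc : Loc G3 E x5 5 4 where
  comm := E_comm
  sq := E_sq
  card := by rw [card_E]; norm_num
  odd := odd_index
  cent := cent_E
  prime := by norm_num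
  p2 := by norm_num
  ord := orderOf_x5
  nd := by
    intro k h0 h1
    interval_cases k <;> omega
  norm := fun _ ha => conj_mem' act_x5 ha
  ne := ⟨_, ⟨1, by norm_num, rfl⟩, x5_not_comm⟩

theorem hasLoc {K : Type*} [Group K] (h : Spor.IsoCo3 K) : HasLoc K := by
  obtain ⟨e⟩ := h
  exact HasLoc.congr (Cfsg.Agent.SporRec.Co3.Model.equivCo3.trans e.symm) ⟨_, _, _, _, loc⟩

end Cfsg.Agent.Omega.ML.LocCo3
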