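import Cfsg.Agent.Omega.ML.LocK

/-!
# Almost simple groups in a model of the automorphism group (helper278)

`exists_embed`: `S ⊴ X`, `C_X(S) = 1`, `e : S ≃* L`, `L ≤ D ≤ P`, every automorphism of `L` is the conjugation by an
element of `D` and `C_D(L) = 1`: an injective `φ : X →* P` with `L ≤ range φ ≤ D`.
-/

set_option autoImplicit false

namespace Cfsg.Agent.Omega.ML.LocExt

open Subgroup Cfsg.Agent.Omega.ML.LocK

theorem exists_embed {X : Type*} [Group X] {P : Type*} [Group P] {S : Subgroup X} [S.Normal] {L D : Subgroup P}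
    (hLD : L ≤ D) (e : S ≃* L) (hS : ∀ x : X, (∀ s ∈ S, x * s * x⁻¹ = s) → x = 1)
    (hex : ∀ α : L ≃* L, ∃ g ∈ D, ∀ m : L, (α m : P) = g * m * g⁻¹)
    (hD : ∀ g ∈ D, (∀ m : L, g * (m : P) * g⁻¹ = m) → g = 1) :
    ∃ φ : X →* P, Function.Injective φ ∧ L ≤ φ.range ∧ φ.range ≤ D := by
  have hmem : ∀ (x : X) (s : S), x * s * x⁻¹ ∈ S := fun x s => Normal.conj_mem inferInstance (s : X) s.2 x
  -- the automorphism of `L` induced by `x`
  let α : X → (L ≃* L) := fun x => (e.symm.trans (MulAut.conjNormal x : MulAut S)).trans e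
  have hα : ∀ (x : X) (m : L), α x m = e ⟨x * (e.symm m : S) * x⁻¹, hmem x (e.symm m)⟩ := by
    intro x m
    show e (MulAut.conjNormal x (e.symm m)) = _
    congr 1
  choose g hgD hg using fun x => hex (α x)
  -- uniqueness
  have huniq : ∀ (a b : P), a ∈ D → b ∈ D → (∀ m : L, a * (m : P) * a⁻¹ = b * m * b⁻¹) → a = b := by
    intro a b ha hb hab
    have h1 : b⁻¹ * a = 1 := by
      apply hD _ (D.mul_mem (D.inv_mem hb) ha)
      intro m
      have h2 := hab m
      calc b⁻¹ * a * (m : P) * (b⁻¹ * a)⁻¹ = b⁻¹ * (a * m * a⁻¹) * b := by group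
        _ = b⁻¹ * (b * m * b⁻¹) * b := by rw [h2]
        _ = m := by group
    rw [← mul_one b, ← h1]
    group
  have hmul : ∀ x y, g (x * y) = g x * g y := by
    intro x y
    apply huniq _ _ (hgD _) (D.mul_mem (hgD x) (hgD y))
    intro m
    have h1 : α (x * y) m = α x (α y m) := by
      rw [hα, hα, hα]
      congr 1
      apply Subtype.ext
      show x * y * ((e.symm m : S) : X) * (x * y)⁻¹ =
        x * ((e.symm (e ⟨y * (e.symm m : S) * y⁻¹, hmem y (e.symm m)⟩) : S) : X) * x⁻¹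
      rw [e.symm_apply_apply]
      show _ = x * (y * ((e.symm m : S) : X) * y⁻¹) * x⁻¹
      group
    calc g (x * y) * (m : P) * (g (x * y))⁻¹ = (α (x * y) m : P) := (hg (x * y) m).symm
      _ = (α x (α y m) : P) := by rw [h1]
      _ = g x * (g y * m * (g y)⁻¹) * (g x)⁻¹ := by rw [hg x, hg y]
      _ = g x * g y * m * (g x * g y)⁻¹ := by group
  let φ : X →* P := MonoidHom.mk' g hmul
  refine ⟨φ, ?_, ?_, ?_⟩
  · rw [injective_iff_map_eq_one]
    intro x hx
    have hx' : g x = 1 := hx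
    apply hS
    intro s hs
    have h1 := hg x (e ⟨s, hs⟩)
    rw [hx', hα, one_mul, inv_one, mul_one] at h1
    have h2 := e.injective (Subtype.ext h1)
    have h3 := congrArg Subtype.val h2
    have h4 : ((e.symm (e ⟨s, hs⟩) : S) : X) = s := by rw [e.symm_apply_apply]
    rw [← h4]
    simpa only [e.symm_apply_apply] using h3
  · intro m hm
    refine ⟨((e.symm ⟨m, hm⟩ : S) : X), ?_⟩
    show g _ = m
    apply huniq _ _ (hgD _) (hLD hm)
    intro n
    rw [← hg, hα]
    have h1 : (⟨((e.symm ⟨m, hm⟩ : S) : X) * (e.symm n : S) * ((e.symm ⟨m, hm⟩ : S) : X)⁻¹,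
        hmem _ (e.symm n)⟩ : S) = e.symm ⟨m, hm⟩ * e.symm n * (e.symm ⟨m, hm⟩)⁻¹ := Subtype.ext rfl
    rw [h1, map_mul, map_mul, map_inv, e.apply_symm_apply, e.apply_symm_apply]
    rfl
  · rintro _ ⟨x, rfl⟩
    exact hgD x

/-- The K-fact, read off in the model. -/
theorem hasLoc_of_embed {X : Type*} [Group X] {P : Type*} [Group P] {φ : X →* P} (hφ : Function.Injective φ)
    (h : HasLoc φ.range) : HasLoc X := HasLoc.congr (MonoidHom.ofInjective hφ).symm h

end Cfsg.Agent.Omega.ML.LocExt
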