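import Cfsg.Agent.Omega.ML.LocOf
import Cfsg.Agent.KFacts.FiTTh.BasInv

/-!
# (ML), THEOREM LOC: the K-fact of `Fi23`: `2¹¹.M23`, an element of order 23 (helper907)
-/

set_option autoImplicit false

namespace Cfsg.Agent.Omega.ML.LocFi23

open Subgroup Cfsg Cfsg.Agent.KFacts.FiTTh.BasDef Cfsg.Agent.KFacts.FiTTh.BasFi
open Cfsg.Agent.KFacts.FiTTh.BasInv
open Cfsg.Agent.Omega.ML.LocK

/-- **The K-fact of `Fi23`.** -/
theorem exists_loc : ∃ x : Spor.Fi23, Loc Spor.Fi23 (A e) x 23 11 := by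
  have := Cfsg.Agent.KFacts.FiTTh.BasInv.finite
  refine exists_loc_of (fun a ha => base.sq_A ha) base.cardA hodd (fun g hg => base.self hg) (by norm_num)
    (by norm_num) ?_ (by rw [cardN]; norm_num)
  intro k h0 h1
  interval_cases k <;> omega

theorem hasLoc {K : Type*} [Group K] (h : Spor.IsoFi23 K) : HasLoc K := by
  obtain ⟨e⟩ := h
  obtain ⟨x, hx⟩ := exists_loc
  exact HasLoc.congr e.symm ⟨_, _, _, _, hx⟩

end Cfsg.Agent.Omega.ML.LocFi23
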