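import Mathlib

/-!
# (ML), K-list end: the K-fact of THEOREM LOC (helper667, bb OMEGA #17388), cyclic form (helper907)

`Loc K E x p n`: `E` is an elementary abelian 2-subgroup of `K` of order `2ⁿ`, its normaliser has odd index, `E`
contains its centralizer, and the element `x` of odd prime order `p` normalises `E`, does not centralise it, and `p` does
not divide `2ᵏ - 1` for `0 < k < n`.

* `Loc.map`: transport by an isomorphism.
-/

set_option autoImplicit false

namespace Cfsg.Agent.Omega.ML.LocK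

open Subgroup

variable {K : Type*} [Group K]

/-- The K-fact. -/
structure Loc (K : Type*) [Group K] (E : Subgroup K) (x : K) (p n : ℕ) : Prop where
  comm : ∀ a ∈ E, ∀ b ∈ E, a * b = b * a
  sq : ∀ a ∈ E, a * a = 1
  card : Nat.card E = 2 ^ n
  odd : ¬ 2 ∣ (normalizer (E : Set K)).index
  cent : ∀ g : K, (∀ a ∈ E, g * a = a * g) → g ∈ E
  prime : p.Prime
  p2 : p ≠ 2
  ord : orderOf x = p
  nd : ∀ k, 0 < k → k < n → ¬ p ∣ 2 ^ k - 1
  norm : ∀ a ∈ E, x * a * x⁻¹ ∈ E
  ne : ∃ a ∈ E, x * a ≠ a * x

/-- `K` has a fact. -/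
def HasLoc (K : Type*) [Group K] : Prop := ∃ (E : Subgroup K) (x : K) (p n : ℕ), Loc K E x p n

theorem mem_normalizer_of {E : Subgroup K} {g : K} (h : ∀ a ∈ E, g * a * g⁻¹ ∈ E)
    (h' : ∀ a ∈ E, g⁻¹ * a * g ∈ E) : g ∈ normalizer (E : Set K) := by
  rw [mem_normalizer_iff]
  intro a
  refine ⟨h a, fun ha => ?_⟩
  have := h' _ ha
  have e : g⁻¹ * (g * a * g⁻¹) * g = a := by group
  rwa [e] at this

theorem Loc.map {L : Type*} [Group L] {E : Subgroup K} {x : K} {p n : ℕ} (h : Loc K E x p n) (f : K ≃* L) :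
    Loc L (E.map f.toMonoidHom) (f x) p n where
  comm := by
    rintro _ ⟨a, ha, rfl⟩ _ ⟨b, hb, rfl⟩
    show f a * f b = f b * f a
    rw [← map_mul, h.comm a ha b hb, map_mul]
  sq := by
    rintro _ ⟨a, ha, rfl⟩
    show f a * f a = 1
    rw [← map_mul, h.sq a ha, map_one]
  card := by
    rw [← h.card]
    exact Subgroup.card_map_of_injective f.injective
  odd := by
    have h1 : normalizer ((E.map f.toMonoidHom : Subgroup L) : Set L) =
        (normalizer (E : Set K)).map f.toMonoidHom := by
      ext y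
      constructor
      · intro hy
        refine ⟨f.symm y, mem_normalizer_of ?_ ?_, f.apply_symm_apply y⟩
        · intro a ha
          obtain ⟨b, hb, hb'⟩ := (mem_normalizer_iff.1 hy (f a)).1 ⟨a, ha, rfl⟩
          have e : f.symm y * a * (f.symm y)⁻¹ = b := by
            apply f.injective
            rw [map_mul, map_mul, map_inv, f.apply_symm_apply]
            exact hb'.symm
          rw [e]; exact hb
        · intro a ha
          obtain ⟨b, hb, hb'⟩ := (mem_normalizer_iff.1 ((normalizer _).inv_mem hy) (f a)).1 ⟨a, ha, rfl⟩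
          have e : (f.symm y)⁻¹ * a * f.symm y = b := by
            apply f.injective
            rw [map_mul, map_mul, map_inv, f.apply_symm_apply]
            rw [inv_inv] at hb'
            exact hb'.symm
          rw [e]; exact hb
      · rintro ⟨g, hg, rfl⟩
        rw [SetLike.mem_coe, mem_normalizer_iff] at hg
        refine mem_normalizer_of ?_ ?_
        · rintro _ ⟨a, ha, rfl⟩
          refine ⟨g * a * g⁻¹, (hg a).1 ha, ?_⟩
          show f (g * a * g⁻¹) = f g * f a * (f g)⁻¹
          rw [map_mul, map_mul, map_inv]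
        · rintro _ ⟨a, ha, rfl⟩
          refine ⟨g⁻¹ * a * g, ?_, ?_⟩
          · rw [SetLike.mem_coe, hg]
            have e : g * (g⁻¹ * a * g) * g⁻¹ = a := by group
            rw [e]; exact ha
          · show f (g⁻¹ * a * g) = (f g)⁻¹ * f a * f g
            rw [map_mul, map_mul, map_inv]
    rw [h1, index_map_of_bijective f.bijective]
    exact h.odd
  cent := by
    intro g hg
    refine ⟨f.symm g, h.cent _ fun a ha => ?_, f.apply_symm_apply g⟩
    apply f.injective
    rw [map_mul, map_mul, f.apply_symm_apply]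
    exact hg (f a) ⟨a, ha, rfl⟩
  prime := h.prime
  p2 := h.p2
  ord := by rw [f.orderOf_eq, h.ord]
  nd := h.nd
  norm := by
    rintro _ ⟨a, ha, rfl⟩
    refine ⟨x * a * x⁻¹, h.norm a ha, ?_⟩
    show f (x * a * x⁻¹) = f x * f a * (f x)⁻¹
    rw [map_mul, map_mul, map_inv]
  ne := by
    obtain ⟨a, ha, hne⟩ := h.ne
    refine ⟨f a, ⟨a, ha, rfl⟩, fun e => hne (f.injective ?_)⟩
    rw [map_mul, map_mul, e]

theorem HasLoc.congr {L : Type*} [Group L] (f : K ≃* L) (h : HasLoc K) : HasLoc L := by
  obtain ⟨E, x, p, n, h⟩ := h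
  exact ⟨_, _, p, n, h.map f⟩

end Cfsg.Agent.Omega.ML.LocK
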