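import Cfsg.Agent.Omega.ML.LocK
import Cfsg.Agent.UGT.End.M22
import Cfsg.Agent.J4Type.HexStab

/-!
# (ML), THEOREM LOC: the K-fact of `M22`: `2⁴:A6`, an element of order 5 (helper278)

* `hasLoc_of` : `K ≤ M24` containing the pointwise stabiliser of an octad `O`, with `|K : K_O|` odd and `5 ∣ |K_O|`.
-/

set_option autoImplicit false

namespace Cfsg.Agent.Omega.ML.LocM22

open Subgroup Cfsg
open Cfsg.Agent.SporadicA.OctadFix
open Cfsg.Agent.UGT.End.Octad
open Cfsg.Agent.Omega.ML.LocK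
open scoped Pointwise

theorem exists_loc_of {K : Subgroup (Equiv.Perm GolayPt)} (hK : K ≤ M24) {O : Finset GolayPt} (hO : O ∈ octads)
    (hE : fixOct O ≤ K) (hodd : ¬ 2 ∣ (MulAction.stabilizer K O).index)
    (h5 : 5 ∣ Nat.card (MulAction.stabilizer K O)) : ∃ (E : Subgroup K) (x : K), Loc K E x 5 4 := by
  have hcard := card_fixOct hO
  have hconj : ∀ g : K, (g : Equiv.Perm GolayPt) • O = O → ∀ a ∈ (fixOct O).subgroupOf K,
      g * a * g⁻¹ ∈ (fixOct O).subgroupOf K := by
    intro g hg a ha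
    rw [mem_subgroupOf] at ha ⊢
    exact conj_mem (hK g.2) hg ha
  have hinv : ∀ g : K, (g : Equiv.Perm GolayPt) • O = O → ((g⁻¹ : K) : Equiv.Perm GolayPt) • O = O := by
    intro g hg
    conv_lhs => rw [← hg]
    rw [Subgroup.coe_inv, inv_smul_smul]
  have hcent : ∀ g : K, (∀ a ∈ (fixOct O).subgroupOf K, g * a = a * g) → g ∈ (fixOct O).subgroupOf K := by
    intro g hg
    have hc : ∀ b ∈ fixOct O, (g : Equiv.Perm GolayPt) * b = b * g := by
      intro b hb
      exact congrArg Subtype.val (hg ⟨b, hE hb⟩ (mem_subgroupOf.2 hb))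
    have hne : ∃ v ∈ fixOct O, v ≠ 1 := by
      by_contra hcon
      push Not at hcon
      have h1 : fixOct O = ⊥ := (eq_bot_iff_forall _).2 hcon
      rw [h1, card_bot] at hcard
      omega
    obtain ⟨v, hv, hv1⟩ := hne
    rw [mem_subgroupOf]
    exact mem_fixOct_of_comm hO (hK g.2) (stab_of_comm hO hv hv1 (hc v hv)) hc
  have : Fact (Nat.Prime 5) := ⟨by norm_num⟩
  obtain ⟨x, hx⟩ := exists_prime_orderOf_dvd_card' 5 h5
  have hxO : ((x : K) : Equiv.Perm GolayPt) • O = O := x.2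
  have hx5 : orderOf (x : K) = 5 := by rw [Subgroup.orderOf_coe, hx]
  refine ⟨(fixOct O).subgroupOf K, x, ?_⟩
  exact
    { comm := fun a ha b hb => Subtype.ext (mul_comm_fixOct hO (mem_subgroupOf.1 ha) (mem_subgroupOf.1 hb))
      sq := fun a ha => Subtype.ext (fixOct_sq hO (mem_subgroupOf.1 ha))
      card := by
        rw [Nat.card_congr (subgroupOfEquivOfLe hE).toEquiv, hcard]
        norm_num
      odd := by
        intro h
        refine hodd (h.trans (index_dvd_of_le fun g hg => ?_))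
        have hg' : (g : Equiv.Perm GolayPt) • O = O := hg
        refine mem_normalizer_of (hconj g hg') fun a ha => ?_
        have := hconj g⁻¹ (hinv g hg') a ha
        rwa [inv_inv] at this
      cent := hcent
      prime := by norm_num
      p2 := by norm_num
      ord := hx5
      nd := by
        intro k h0 h1
        interval_cases k <;> omega
      norm := hconj x hxO
      ne := by
        by_contra hcon
        push Not at hcon
        have h1 := hcent _ hcon
        have h2 : (x : K) * x = 1 := Subtype.ext (fixOct_sq hO (mem_subgroupOf.1 h1))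
        have h3 := orderOf_dvd_of_pow_eq_one (show (x : K) ^ 2 = 1 by rw [pow_two, h2])
        rw [hx5] at h3
        omega }

theorem hasLoc_of {K : Subgroup (Equiv.Perm GolayPt)} (hK : K ≤ M24) {O : Finset GolayPt} (hO : O ∈ octads)
    (hE : fixOct O ≤ K) (hodd : ¬ 2 ∣ (MulAction.stabilizer K O).index)
    (h5 : 5 ∣ Nat.card (MulAction.stabilizer K O)) : HasLoc K := by
  obtain ⟨E, x, h⟩ := exists_loc_of hK hO hE hodd h5
  exact ⟨E, x, 5, 4, h⟩

theorem index_stab {O : Finset GolayPt} (hO : O ∈ octads) (h0 : none ∈ O) (h1 : some 0 ∈ O) :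
    (MulAction.stabilizer Spor.M22 O).index = 77 := by
  rw [MulAction.index_stabilizer, ← Cfsg.Agent.SporadicStructure.MonoCounts.ncard_octads_in]
  congr 1
  ext O'
  rw [MulAction.mem_orbit_iff]
  constructor
  · rintro ⟨g, rfl⟩
    obtain ⟨hM, g0, g1⟩ := (Cfsg.Agent.SporadicA.MathieuRecog.mem_M22_iff (g : Equiv.Perm GolayPt)).1 g.2
    refine ⟨(GolayOrbit.Walk.smul_mem_octads_iff hM O).2 hO, ?_, ?_⟩
    · have := Finset.smul_mem_smul_finset (a := (g : Equiv.Perm GolayPt)) h0
      rwa [Equiv.Perm.smul_def, g0] at this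
    · have := Finset.smul_mem_smul_finset (a := (g : Equiv.Perm GolayPt)) h1
      rwa [Equiv.Perm.smul_def, g1] at this
  · rintro ⟨hO', k0, k1⟩
    obtain ⟨g, hg, e, g0, g1⟩ := Cfsg.Agent.J4Type.HexStab.exists_flag hO hO' h0 h1
      Cfsg.Agent.J4Type.HexStab.none_ne_zero k0 k1 Cfsg.Agent.J4Type.HexStab.none_ne_zero
    exact ⟨⟨g, (Cfsg.Agent.SporadicA.MathieuRecog.mem_M22_iff g).2 ⟨hg, g0, g1⟩⟩, e⟩

theorem hasLoc_M22 : HasLoc Spor.M22 := by
  have hne : {O : Finset GolayPt | O ∈ octads ∧ (none ∈ O ∧ some 0 ∈ O)}.Nonempty := by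
    rw [Set.nonempty_iff_ne_empty]
    intro e
    have := Cfsg.Agent.SporadicStructure.MonoCounts.ncard_octads_in
    rw [e, Set.ncard_empty] at this
    omega
  obtain ⟨O, hO, h0, h1⟩ := hne
  have hi := index_stab hO h0 h1
  have hK : Spor.M22 ≤ M24 := fun g hg => ((Cfsg.Agent.SporadicA.MathieuRecog.mem_M22_iff g).1 hg).1
  refine hasLoc_of hK hO ?_ ?_ ?_
  · intro g hg
    rw [mem_fixOct] at hg
    exact (Cfsg.Agent.SporadicA.MathieuRecog.mem_M22_iff g).2 ⟨hg.1, hg.2 _ h0, hg.2 _ h1⟩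
  · rw [hi]; omega
  · have h2 := card_mul_index (MulAction.stabilizer Spor.M22 O)
    rw [hi, Cfsg.Agent.SporadicA.MathieuRecog.card_M22] at h2
    omega

/-- **The K-fact of `M22`.** -/
theorem hasLoc {K : Type*} [Group K] (h : Spor.IsoM22 K) : HasLoc K := by
  obtain ⟨e⟩ := h
  exact HasLoc.congr e.symm hasLoc_M22

end Cfsg.Agent.Omega.ML.LocM22
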