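import Cfsg.Agent.Omega.ML.LocExt
import Cfsg.Agent.Omega.ML.LocM23
import Cfsg.Agent.UGT.MTwentyThree.Aut

/-!
# (ML), THEOREM LOC: the K-fact of the almost simple groups with socle `M23` (helper278)
-/

set_option autoImplicit false

namespace Cfsg.Agent.Omega.ML.LocM23X

open Subgroup Cfsg
open Cfsg.Agent.Omega.ML.LocK Cfsg.Agent.Omega.ML.LocExt

theorem exists_loc_M23 : (∃ (E : Subgroup Spor.M23) (x : Spor.M23), Loc Spor.M23 E x 5 4) ∧
    ¬ 5 ^ 2 ∣ Nat.card Spor.M23 := by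
  constructor
  · exact LocM23.exists_loc_M23
  · rw [Cfsg.Agent.SporadicA.MathieuRecog.card_M23]
    omega

theorem center_eq {g : Equiv.Perm GolayPt} (hg : g ∈ Spor.M23) (h : ∀ m : Spor.M23, g * (m : Equiv.Perm GolayPt) * g⁻¹ = m) :
    g = 1 := by
  -- `g` fixes every point
  apply Equiv.ext
  intro x
  by_cases hx : x = none
  · subst hx
    exact ((Cfsg.Agent.SporadicA.MathieuRecog.mem_M23_iff g).1 hg).2
  · have hgx : g x ≠ none := Cfsg.Agent.Schreier.MTwentyThree.apply_ne ⟨g, hg⟩ hx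
    refine Cfsg.Agent.Schreier.MTwentyThree.eq_of_fixed hx hgx ?_
    intro m hm
    have h1 : (m : Equiv.Perm GolayPt) * g = g * m := by
      have h2 := h m
      rw [mul_inv_eq_iff_eq_mul] at h2
      exact h2.symm
    calc (m : Equiv.Perm GolayPt) (g x) = ((m : Equiv.Perm GolayPt) * g) x := rfl
      _ = (g * m) x := by rw [h1]
      _ = g x := by rw [Equiv.Perm.mul_apply]; exact congrArg g hm

/-- **The K-fact of `M23`**: `S ⊴ X`, `C_X(S) = 1`, `S ≅ M23`. -/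
theorem exists_loc {X : Type*} [Group X] {S : Subgroup X} [S.Normal]
    (hS : ∀ x : X, (∀ s ∈ S, x * s * x⁻¹ = s) → x = 1) (h : Spor.IsoM23 S) :
    (∃ (E : Subgroup X) (x : X), Loc X E x 5 4) ∧ ¬ 5 ^ 2 ∣ Nat.card X := by
  obtain ⟨e⟩ := h
  obtain ⟨φ, hφ, h1, h2⟩ := exists_embed (le_refl Spor.M23) e hS (fun α => by
    obtain ⟨m, hm⟩ := Cfsg.Agent.UGT.MTwentyThree.Aut.exists_conj α
    refine ⟨m, m.2, fun n => ?_⟩
    rw [hm]
    rfl) fun g hg hm => center_eq hg hm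
  have h3 : φ.range = Spor.M23 := le_antisymm h2 h1
  have h4 := exists_loc_M23
  rw [← h3] at h4
  obtain ⟨⟨E, x, hE⟩, h5⟩ := h4
  refine ⟨⟨_, _, hE.map (MonoidHom.ofInjective hφ).symm⟩, ?_⟩
  rwa [Nat.card_congr (MonoidHom.ofInjective hφ).toEquiv]

end Cfsg.Agent.Omega.ML.LocM23X
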