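import Cfsg.Agent.Omega.ML.LocK

/-!
# (ML), THEOREM LOC: the K-fact from the order of `N(E)` (helper907)

`exists_loc_of` : `E` elementary abelian of order `2ⁿ`, self-centralising, `N(E)` of odd index and of order divisible by
the odd prime `p`, which does not divide `2ᵏ - 1`, `0 < k < n`: then `Loc G E x p n` for some `x` (Cauchy).
-/

set_option autoImplicit false

namespace Cfsg.Agent.Omega.ML.LocK

open Subgroup

theorem exists_loc_of {G : Type*} [Group G] [Finite G] {E : Subgroup G} {p n : ℕ}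
    (sq : ∀ a ∈ E, a * a = 1) (card : Nat.card E = 2 ^ n) (odd : ¬ 2 ∣ (normalizer (E : Set G)).index)
    (cent : ∀ g : G, (∀ a ∈ E, g * a = a * g) → g ∈ E) (prime : p.Prime) (p2 : p ≠ 2)
    (nd : ∀ k, 0 < k → k < n → ¬ p ∣ 2 ^ k - 1) (hd : p ∣ Nat.card (normalizer (E : Set G))) :
    ∃ x : G, Loc G E x p n := by
  have hf : Fact p.Prime := ⟨prime⟩
  obtain ⟨x, hx⟩ := exists_prime_orderOf_dvd_card' p hd
  refine ⟨x, ⟨fun a ha b hb => ?_, sq, card, odd, cent, prime, p2, by rw [orderOf_coe, hx], nd,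
    fun a ha => (mem_normalizer_iff.1 x.2 a).1 ha, ?_⟩⟩
  · have h1 : ∀ a ∈ E, a⁻¹ = a := fun a ha => inv_eq_of_mul_eq_one_left (sq a ha)
    rw [← h1 _ (E.mul_mem ha hb), mul_inv_rev, h1 a ha, h1 b hb]
  · by_contra hcon
    push Not at hcon
    have h1 := cent _ hcon
    have h2 := sq _ h1
    have h3 := orderOf_dvd_of_pow_eq_one (show (x : G) ^ 2 = 1 by rw [pow_two, h2])
    rw [orderOf_coe, hx, Nat.dvd_prime Nat.prime_two] at h3
    rcases h3 with h3 | h3
    · exact prime.one_lt.ne' h3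
    · exact p2 h3

end Cfsg.Agent.Omega.ML.LocK
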