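import Cfsg.Agent.Omega.ML.Loc

/-!
# (ML), the K-list end: THEOREM LOC with a cyclic `L` (helper667, helper907; OMEGA #17388)

`Base.false_of_prime`: no minimal counterexample has an elementary abelian `E ≤ T` of order `2ⁿ` normalised by the Sylow
2-subgroup `T`, `C_T(E) ≤ E`, and an element `x` with `x ^ p = 1`, `p` an odd prime not dividing `2ᵏ - 1` for `0 < k < n`,
normalising `E` and not centralising it.
-/

set_option autoImplicit false

namespace Cfsg.Agent.Omega.ML.LocPrime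

open Subgroup Cfsg Cfsg.Agent.ClassTwoFusion.Quad Cfsg.Agent.Omega.NOThree.NoOver Cfsg.Agent.Omega.ML.CD
open Cfsg.Agent.ZN Cfsg.Agent.MinSimple.VModule Cfsg.Agent.Omega.ML.MinFrame Cfsg.Agent.Omega.ML.Loc

universe u v

/-- a `p`-group acts trivially on a 2-group of order `< 2ⁿ` if `p` is odd and does not divide `2ᵏ - 1`, `0 < k < n` -/
theorem smul_eq_of_card {C V : Type*} [Group C] [Group V] [Finite V] [MulDistribMulAction C V] {p n : ℕ}
    (hp : p.Prime) (hp2 : p ≠ 2) (nd : ∀ k, 0 < k → k < n → ¬ p ∣ 2 ^ k - 1) (hC : IsPGroup p C)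
    (h2 : IsPGroup 2 V) (hV : Nat.card V < 2 ^ n) (c : C) (v : V) : c • v = v := by
  have hpf : Fact p.Prime := ⟨hp⟩
  have h2f : Fact (Nat.Prime 2) := ⟨Nat.prime_two⟩
  obtain ⟨k, hk⟩ := IsPGroup.iff_card.1 h2
  have hF2 : IsPGroup 2 (cv V (Set.univ : Set C)) := h2.to_subgroup _
  obtain ⟨j, hj⟩ := IsPGroup.iff_card.1 hF2
  have h1 := hC.card_modEq_card_fixedPoints V
  have h3 : Nat.card (MulAction.fixedPoints C V) = Nat.card (cv V (Set.univ : Set C)) := by
    have e : (MulAction.fixedPoints C V) = ((cv V (Set.univ : Set C) : Subgroup V) : Set V) := by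
      ext w
      constructor
      · intro hw a _
        exact hw a
      · intro hw a
        exact hw a (Set.mem_univ a)
    rw [e]
    rfl
  rw [h3, hj, hk] at h1
  have hkn : k < n := by
    rw [hk] at hV
    exact (Nat.pow_lt_pow_iff_right (by norm_num)).1 hV
  have hjk : j ≤ k := by
    have h4 := card_subgroup_dvd_card (cv V (Set.univ : Set C))
    rw [hk, hj] at h4
    exact (Nat.pow_dvd_pow_iff_le_right (by norm_num)).1 h4
  rcases hjk.lt_or_eq with hlt | heq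
  · exfalso
    have h4 : p ∣ 2 ^ k - 2 ^ j := (Nat.modEq_iff_dvd' (Nat.pow_le_pow_right (by norm_num) hjk)).1 h1.symm
    have h5 : 2 ^ k - 2 ^ j = 2 ^ j * (2 ^ (k - j) - 1) := by
      rw [Nat.mul_sub, mul_one, ← pow_add, Nat.add_sub_cancel' hjk]
    rw [h5] at h4
    have h6 : Nat.Coprime p (2 ^ j) := Nat.Coprime.pow_right j ((Nat.coprime_primes hp Nat.prime_two).2 hp2)
    exact nd (k - j) (by omega) (by omega) (h6.dvd_of_dvd_mul_left h4)
  · have h4 : cv V (Set.univ : Set C) = ⊤ := by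
      rw [← card_eq_iff_eq_top, hj, hk, heq]
    have h5 : v ∈ cv V (Set.univ : Set C) := by rw [h4]; exact mem_top v
    exact h5 c (Set.mem_univ c)

/-- the action on a quotient -/
abbrev quo {X U : Type*} [Group X] [Group U] [MulDistribMulAction X U] (D : Subgroup U) [D.Normal]
    (hD : ∀ x : X, ∀ d ∈ D, x • d ∈ D) : MulDistribMulAction X (U ⧸ D) where
  smul x := QuotientGroup.map D D (MulDistribMulAction.toMonoidHom U x) fun d hd => hD x d hd
  one_smul q := by
    obtain ⟨u, rfl⟩ := QuotientGroup.mk_surjective q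
    exact congrArg (QuotientGroup.mk (s := D)) (one_smul X u)
  mul_smul x y q := by
    obtain ⟨u, rfl⟩ := QuotientGroup.mk_surjective q
    exact congrArg (QuotientGroup.mk (s := D)) (mul_smul x y u)
  smul_mul x p q := map_mul (QuotientGroup.map D D (MulDistribMulAction.toMonoidHom U x) fun d hd => hD x d hd) p q
  smul_one x := map_one (QuotientGroup.map D D (MulDistribMulAction.toMonoidHom U x) fun d hd => hD x d hd)

/-- a `p`-group acts trivially on the sections `U / D` of order `< 2ⁿ` -/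
theorem smul_mul_inv_mem {C U : Type*} [Group C] [Group U] [Finite U] [MulDistribMulAction C U] {p n : ℕ}
    (hp : p.Prime) (hp2 : p ≠ 2) (nd : ∀ k, 0 < k → k < n → ¬ p ∣ 2 ^ k - 1) (hC : IsPGroup p C)
    (h2 : ∀ u : U, u * u = 1) {D : Subgroup U} (hD : ∀ x : C, ∀ d ∈ D, x • d ∈ D) (hi : D.index < 2 ^ n) (c : C) (u : U) :
    c • u * u⁻¹ ∈ D := by
  have hcomm := comm_of_sq h2
  have hN : D.Normal := ⟨fun d hd g => by rwa [hcomm g d, mul_inv_cancel_right]⟩
  let _ := quo D hD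
  have h3 : IsPGroup 2 (U ⧸ D) := by
    intro q
    obtain ⟨u, rfl⟩ := QuotientGroup.mk_surjective q
    refine ⟨1, ?_⟩
    rw [pow_one, pow_two, ← QuotientGroup.mk_mul, h2]
    rfl
  have h4 : Nat.card (U ⧸ D) < 2 ^ n := hi
  have h5 := smul_eq_of_card hp hp2 nd hC h3 h4 c (QuotientGroup.mk u)
  have h6 : (QuotientGroup.mk (c • u) : U ⧸ D) = QuotientGroup.mk u := h5
  rw [eq_comm, QuotientGroup.eq] at h6
  rwa [hcomm] at h6

/-- conjugation -/
abbrev cja {H : Type*} [Group H] (C E : Subgroup H) (h : ∀ c ∈ C, ∀ e ∈ E, c * e * c⁻¹ ∈ E) : MulDistribMulAction C E where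
  smul c e := ⟨(c : H) * e * (c : H)⁻¹, h c c.2 e e.2⟩
  one_smul e := Subtype.ext (by
    change (1 : H) * e * (1 : H)⁻¹ = e
    group)
  mul_smul c d e := Subtype.ext (by
    change ((c : H) * d) * e * ((c : H) * d)⁻¹ = (c : H) * ((d : H) * e * (d : H)⁻¹) * (c : H)⁻¹
    group)
  smul_mul c e f := Subtype.ext (by
    change (c : H) * ((e : H) * f) * (c : H)⁻¹ = ((c : H) * e * (c : H)⁻¹) * ((c : H) * f * (c : H)⁻¹)
    group)
  smul_one c := Subtype.ext (by
    change (c : H) * 1 * (c : H)⁻¹ = 1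
    group)

section

variable {H : Type*} [Group H] [Finite H] {E C : Subgroup H} {p n : ℕ}

/-- an element of odd prime order `p` is irreducible on `E` or centralises it -/
theorem irr_of (hp : p.Prime) (hp2 : p ≠ 2) (nd : ∀ k, 0 < k → k < n → ¬ p ∣ 2 ^ k - 1) (hC : IsPGroup p C)
    (el : ∀ e ∈ E, e * e = 1) (card : Nat.card E ≤ 2 ^ n) (norm : ∀ c ∈ C, ∀ e ∈ E, c * e * c⁻¹ ∈ E)
    {E₁ : Subgroup H} (hE : E₁ ≤ E) (h1 : ∀ c ∈ C, ∀ e ∈ E₁, c * e * c⁻¹ ∈ E₁) :
    (E₁ = ⊥ ∨ E₁ = E) ∨ ∀ c ∈ C, ∀ e ∈ E, c * e = e * c := by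
  by_cases hne : E₁ = E
  · exact Or.inl (Or.inr hne)
  by_cases hbot : E₁ = ⊥
  · exact Or.inl (Or.inl hbot)
  right
  have hlt : Nat.card E₁ < 2 ^ n := by
    refine lt_of_lt_of_le ?_ card
    have h2 := Set.ncard_lt_ncard (SetLike.coe_ssubset_coe.2 (lt_of_le_of_ne hE hne)) (Set.toFinite _)
    rwa [← Nat.card_coe_set_eq, ← Nat.card_coe_set_eq] at h2
  -- trivial on `E₁`
  have ht1 : ∀ c ∈ C, ∀ e ∈ E₁, c * e * c⁻¹ = e := by
    intro c hc e he
    let _ := cja C E₁ h1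
    have hE2 : IsPGroup 2 E₁ := isPGroup_of_sq fun e he => el e (hE he)
    exact congrArg Subtype.val (smul_eq_of_card hp hp2 nd hC hE2 hlt ⟨c, hc⟩ ⟨e, he⟩)
  -- trivial on `E / E₁`
  have ht2 : ∀ c ∈ C, ∀ e ∈ E, c * e * c⁻¹ * e⁻¹ ∈ E₁ := by
    intro c hc e he
    let _ := cja C E norm
    have hi : (E₁.subgroupOf E).index < 2 ^ n := by
      refine lt_of_lt_of_le ?_ card
      have h2 : (E₁.subgroupOf E).index * Nat.card (E₁.subgroupOf E) = Nat.card E := by
        rw [mul_comm]; exact Subgroup.card_mul_index _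
      have h3 : 1 < Nat.card (E₁.subgroupOf E) := by
        rw [Subgroup.one_lt_card_iff_ne_bot]
        intro h4
        rw [subgroupOf_eq_bot] at h4
        exact hbot ((disjoint_iff.1 h4).symm ▸ (inf_eq_left.2 hE).symm)
      have h4 : 0 < (E₁.subgroupOf E).index := Nat.pos_of_ne_zero index_ne_zero_of_finite
      nlinarith
    have h2 := smul_mul_inv_mem (U := E) hp hp2 nd hC (fun u => Subtype.ext (el u u.2)) (D := E₁.subgroupOf E)
      (fun x d hd => by
        rw [mem_subgroupOf] at hd ⊢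
        exact h1 x x.2 d hd) hi ⟨c, hc⟩ ⟨e, he⟩
    rw [mem_subgroupOf] at h2
    exact h2
  -- so trivial on `E`
  intro c hc e he
  obtain ⟨a, ha⟩ : ∃ a, a = c * e * c⁻¹ * e⁻¹ := ⟨_, rfl⟩
  have haE : a ∈ E₁ := by rw [ha]; exact ht2 c hc e he
  have hca : ∀ i : ℕ, c ^ i * e * (c ^ i)⁻¹ = a ^ i * e := by
    intro i
    induction i with
    | zero => simp
    | succ i ih =>
      have h3 : c * a ^ i * c⁻¹ = a ^ i := ht1 c hc _ (E₁.pow_mem haE i)
      have h4 : c * e * c⁻¹ = a * e := by rw [ha]; group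
      calc c ^ (i + 1) * e * (c ^ (i + 1))⁻¹ = c * (c ^ i * e * (c ^ i)⁻¹) * c⁻¹ := by
            rw [pow_succ']; group
        _ = (c * a ^ i * c⁻¹) * (c * e * c⁻¹) := by rw [ih]; group
        _ = a ^ (i + 1) * e := by rw [h3, h4, pow_succ]; group
  obtain ⟨k, hk⟩ := hC ⟨c, hc⟩
  have hk' : c ^ p ^ k = 1 := congrArg Subtype.val hk
  have h5 := hca (p ^ k)
  rw [hk', one_mul, inv_one, mul_one] at h5
  have h6 : a ^ p ^ k = 1 := by
    have h7 : a ^ p ^ k * e = 1 * e := by rw [one_mul]; exact h5.symm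
    exact mul_right_cancel h7
  have h7 : a ^ 2 = 1 := by rw [pow_two]; exact el a (hE haE)
  have h8 : Nat.Coprime (p ^ k) 2 := Nat.Coprime.pow_left k ((Nat.coprime_primes hp Nat.prime_two).2 hp2)
  have h9 : a = 1 := by
    have h10 := orderOf_dvd_of_pow_eq_one h6
    have h11 := orderOf_dvd_of_pow_eq_one h7
    exact orderOf_eq_one_iff.1 (Nat.eq_one_of_dvd_coprimes h8 h10 h11)
  rw [h9] at ha
  have h10 : c * e * c⁻¹ = e := by
    rw [eq_comm, mul_inv_eq_one] at ha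
    exact ha
  rw [mul_inv_eq_iff_eq_mul] at h10
  exact h10

end

variable {H : Type u} [Group H] [Finite H] {M : Type v} [Group M] [Finite M]
  [MulDistribMulAction H M] {T Q A E : Subgroup H} {z : M} {x : H} {p n : ℕ}

/-- **THEOREM LOC, cyclic form** -/
theorem _root_.Cfsg.Agent.Omega.ML.Loc.Base.false_of_prime (h : Base H M T Q A z)
    (two : ∀ R : Subgroup H, T ≤ R → R ≠ ⊤ → ∃ P : Subgroup H, T ≤ P ∧ P ≠ ⊤ ∧ ¬ P ≤ R)
    (hET : E ≤ T) (hTE : ∀ t ∈ T, ∀ e ∈ E, t * e * t⁻¹ ∈ E) (el : ∀ e ∈ E, e * e = 1) (card : Nat.card E ≤ 2 ^ n)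
    (cen : ∀ t ∈ T, (∀ e ∈ E, t * e = e * t) → t ∈ E) (hp : p.Prime) (hp2 : p ≠ 2)
    (nd : ∀ k, 0 < k → k < n → ¬ p ∣ 2 ^ k - 1) (hx : x ^ p = 1) (norm : ∀ e ∈ E, x * e * x⁻¹ ∈ E)
    (hne : ∃ e ∈ E, x * e ≠ e * x) : False := by
  have hpf : Fact p.Prime := ⟨hp⟩
  have h2f : Fact (Nat.Prime 2) := ⟨Nat.prime_two⟩
  have hC : IsPGroup p (zpowers x) := by
    rintro ⟨y, k, rfl⟩
    refine ⟨1, Subtype.ext ?_⟩
    change (x ^ k) ^ p ^ 1 = 1
    rw [pow_one, ← zpow_natCast, ← zpow_mul, mul_comm, zpow_mul, zpow_natCast, hx, one_zpow]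
  have hxN : x ∈ normalizer (E : Set H) := by
    rw [Subgroup.mem_normalizer_iff_map_conj_eq]
    refine eq_of_le_of_card_ge ?_ (Nat.card_congr (E.equivMapOfInjective _ (MulAut.conj x).injective).toEquiv).le
    rintro _ ⟨b, hb, rfl⟩
    exact norm b hb
  have hzN : zpowers x ≤ normalizer (E : Set H) := by rwa [zpowers_le]
  have hnorm : ∀ c ∈ zpowers x, ∀ e ∈ E, c * e * c⁻¹ ∈ E := fun c hc e he => (mem_normalizer_iff.1 (hzN hc) e).1 he
  have hirr : ∀ E₁ ≤ E, (∀ l ∈ zpowers x, ∀ y ∈ E₁, l * y * l⁻¹ ∈ E₁) → E₁ = ⊥ ∨ E₁ = E := by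
    intro E₁ h1 h2
    refine (irr_of hp hp2 nd hC el card hnorm h1 h2).resolve_right fun h3 => ?_
    obtain ⟨e, he, hne⟩ := hne
    exact hne (h3 x (mem_zpowers x) e he)
  have hEne : E ≠ ⊥ := by
    rintro rfl
    obtain ⟨e, he, hne⟩ := hne
    rw [mem_bot] at he
    rw [he, mul_one, one_mul] at hne
    exact hne rfl
  have hE2 : IsPGroup 2 E := isPGroup_of_sq el
  have hTR : T ≤ normalizer (E : Set H) := le_normalizer_of hTE
  refine h.loc (R₀ := normalizer (E : Set H)) (E := E) (L := zpowers x) ?_ two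
  refine ⟨hTR, ?_, le_normalizer, le_rfl, el, ?_, cen, hzN, hirr, ?_⟩
  · intro h1
    have h2 : E.Normal := normalizer_eq_top_iff.1 h1
    exact hEne (h.core E h2 hE2)
  · -- `O₂(N(E)) ≤ E`
    obtain ⟨O, hO⟩ : ∃ O, O = o2 (normalizer (E : Set H)) := ⟨_, rfl⟩
    rw [← hO]
    have hOT : O ≤ T := by rw [hO]; exact h.o2_le hTR
    have hO2 : IsPGroup 2 O := by rw [hO]; exact o2_isPGroup _
    have hON : normalizer (E : Set H) ≤ normalizer (O : Set H) := by rw [hO]; exact le_normalizer_o2 _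
    have h3 : ∀ l ∈ zpowers x, ∀ y ∈ E ⊓ centralizer (O : Set H), l * y * l⁻¹ ∈ E ⊓ centralizer (O : Set H) := by
      intro l hl y hy
      refine ⟨hnorm l hl y hy.1, ?_⟩
      refine mem_centralizer_iff.2 ?_
      intro o ho
      have h4 : l⁻¹ * o * l ∈ O := by
        have := conj_mem_of_le hON (hzN ((zpowers x).inv_mem hl)) ho
        rwa [inv_inv] at this
      have h5 := mem_centralizer_iff.1 hy.2 _ h4
      calc o * (l * y * l⁻¹) = l * ((l⁻¹ * o * l) * y) * l⁻¹ := by group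
        _ = l * (y * (l⁻¹ * o * l)) * l⁻¹ := by rw [h5]
        _ = l * y * l⁻¹ * o := by group
    rcases hirr _ inf_le_left h3 with h4 | h4
    · exfalso
      have hOE : ∀ c ∈ O, ∀ e ∈ E, c * e * c⁻¹ ∈ E := fun c hc e he => hTE c (hOT hc) e he
      let _ := cja O E hOE
      have h5 : 2 ∣ Nat.card E := by
        obtain ⟨k, hk⟩ := IsPGroup.iff_card.1 hE2
        rw [hk]
        refine dvd_pow_self 2 ?_
        rintro rfl
        rw [pow_zero, card_eq_one] at hk
        exact hEne hk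
      obtain ⟨b, hb, hb1⟩ := hO2.exists_fixed_point_of_prime_dvd_card_of_fixed_point E h5
        (a := (1 : E)) (fun c => smul_one c)
      apply hb1
      have h6 : (b : H) ∈ E ⊓ centralizer (O : Set H) := by
        refine ⟨b.2, ?_⟩
        refine mem_centralizer_iff.2 ?_
        intro o ho
        have h7 : o * (b : H) * o⁻¹ = b := congrArg Subtype.val (hb ⟨o, ho⟩)
        rwa [mul_inv_eq_iff_eq_mul] at h7
      rw [h4, mem_bot] at h6
      exact (Subtype.ext h6).symm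
    · intro y hy
      refine cen y (hOT hy) fun e he => ?_
      have h5 : e ∈ E ⊓ centralizer (O : Set H) := by rw [h4]; exact he
      exact mem_centralizer_iff.1 h5.2 y hy
  · intro W hW _ hi l hl m
    let _ : MulDistribMulAction (zpowers x) M := inferInstance
    exact smul_mul_inv_mem (C := zpowers x) (U := M) hp hp2 nd hC h.sq (D := W) (fun c d hd => hW c c.2 d hd)
      (lt_of_lt_of_le hi card) ⟨l, hl⟩ m

end Cfsg.Agent.Omega.ML.LocPrime
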