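import Cfsg.Agent.Omega.ML.LocOf
import Cfsg.Agent.ThType.NormE

/-!
# (ML), THEOREM LOC: the K-fact of `Th`: `2⁵.L5(2)`, an element of order 31 (helper907)
-/

set_option autoImplicit false

namespace Cfsg.Agent.Omega.ML.LocTh

open Subgroup Cfsg Cfsg.Agent.ThType.SpinData Cfsg.Agent.ThType.ElemE Cfsg.Agent.ThType.NormE
open Cfsg.Agent.Omega.ML.LocK

variable {G : Type*} [Group G] [Finite G] {z : G} (S : SpinAt G z)

omit [Finite G] in
theorem mem_N_iff {c : G} (hc : c * z = z * c) : c ∈ normalizer (El S 8 : Set G) ↔ (S.φ c).1 8 = 8 := by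
  rw [← norm_iff_letter S hc 8]
  constructor
  · intro h e he
    exact (mem_normalizer_iff.1 h e).1 he
  · intro h
    refine mem_normalizer_of h ?_
    have hc' : c⁻¹ * z = z * c⁻¹ := ((show Commute c z from hc).inv_left).eq
    have h1 : (S.φ c⁻¹).1 8 = 8 := by
      rw [phi_inv S c hc]
      have h2 := (norm_iff_letter S hc 8).1 h
      change (S.φ c).1⁻¹ 8 = 8
      rw [Equiv.Perm.inv_eq_iff_eq, h2]
    intro e he
    have := (norm_iff_letter S hc' 8).2 h1 e he
    rwa [inv_inv] at this

omit [Finite G] in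
theorem relIndex_eq : (normalizer (El S 8 : Set G)).relIndex (C z) = 9 := by
  let _ : MulAction (C z) (Fin 9) := MulAction.compHom _ (((alternatingGroup (Fin 9)).subtype).comp (phiHom S))
  have hsm : ∀ (c : C z) (i : Fin 9), c • i = (S.φ (c : G)).1 i := fun _ _ => rfl
  have h1 : MulAction.stabilizer (C z) (8 : Fin 9) = (normalizer (El S 8 : Set G)).subgroupOf (C z) := by
    ext c
    rw [MulAction.mem_stabilizer_iff, mem_subgroupOf, mem_N_iff S (mem_C.1 c.2), hsm]
  have h2 : MulAction.orbit (C z) (8 : Fin 9) = Set.univ := by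
    rw [Set.eq_univ_iff_forall]
    intro i
    obtain ⟨a, ha⟩ := Cfsg.Agent.ThType.SpinRep.exists_letter i
    obtain ⟨c, hc, hca⟩ := S.φ_surj a
    refine ⟨⟨c, mem_C.2 hc⟩, ?_⟩
    change (S.φ c).1 8 = i
    rw [hca]
    exact ha
  rw [relIndex, ← h1, MulAction.index_stabilizer, h2, Set.ncard_univ, Nat.card_eq_fintype_card, Fintype.card_fin]

omit [Finite G] in
theorem odd_index (hc : Nat.card G = 90745943887872000) : ¬ 2 ∣ (normalizer (El S 8 : Set G)).index := by
  intro h
  have h1 := (C z).card_mul_index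
  rw [card_C S, hc] at h1
  have h2 : (C z).index = 976841775 := by omega
  have h3 : (normalizer (El S 8 : Set G)).index ∣ (normalizer (El S 8 : Set G) ⊓ C z).index :=
    index_dvd_of_le inf_le_left
  rw [← relIndex_mul_index (inf_le_right : normalizer (El S 8 : Set G) ⊓ C z ≤ C z), inf_relIndex_right,
    relIndex_eq S, h2] at h3
  have h4 := h.trans h3
  omega

theorem dvd_card (hF : ∃ g, g * z * g⁻¹ ∈ S.Q ∧ g * z * g⁻¹ ≠ z) :
    31 ∣ Nat.card (normalizer (El S 8 : Set G)) := by
  let _ : MulAction (normalizer (El S 8 : Set G)) G :=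
    MulAction.compHom _ (MulAut.conj.comp (normalizer (El S 8 : Set G)).subtype)
  have hsm : ∀ (c : normalizer (El S 8 : Set G)) (i : G), c • i = (c : G) * i * (c : G)⁻¹ := fun _ _ => rfl
  have h1 : MulAction.orbit (normalizer (El S 8 : Set G)) z = (El S 8 : Set G) \ {1} := by
    ext p
    constructor
    · rintro ⟨c, rfl⟩
      refine ⟨(mem_normalizer_iff.1 c.2 z).1 (z_mem_El S 8), ?_⟩
      rw [Set.mem_singleton_iff]
      intro h2
      change (c : G) * z * (c : G)⁻¹ = 1 at h2
      apply S.z_ne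
      have h3 : (c : G)⁻¹ * ((c : G) * z * (c : G)⁻¹) * (c : G) = z := by group
      rw [← h3, h2]
      group
    · rintro ⟨hp, hp1⟩
      obtain ⟨g, hg, hn⟩ := exists_trans S hF hp (fun h => hp1 h)
      have hgn : g ∈ normalizer (El S 8 : Set G) := by
        rw [mem_normalizer_iff]
        intro e
        refine ⟨hn e, fun he => ?_⟩
        have hinj : Function.Injective (fun e : El S 8 => (⟨g * e * g⁻¹, hn e e.2⟩ : El S 8)) := by
          intro a b hab
          have h2 : g * (a : G) * g⁻¹ = g * (b : G) * g⁻¹ := congrArg Subtype.val hab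
          exact Subtype.ext (mul_left_cancel (mul_right_cancel h2))
        obtain ⟨e', he'⟩ := (Finite.surjective_of_injective hinj) ⟨_, he⟩
        have h2 : g * (e' : G) * g⁻¹ = g * e * g⁻¹ := congrArg Subtype.val he'
        rw [← mul_left_cancel (mul_right_cancel h2)]
        exact e'.2
      exact ⟨⟨g, hgn⟩, hg⟩
  have h2 := MulAction.index_stabilizer (normalizer (El S 8 : Set G)) z
  rw [h1, Set.ncard_sdiff_singleton_of_mem (El S 8).one_mem, ← Nat.card_coe_set_eq] at h2
  have h3 : Nat.card ((El S 8 : Subgroup G) : Set G) = 32 := card_El S 8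
  rw [h3] at h2
  exact ⟨_, by rw [← card_mul_index (MulAction.stabilizer (normalizer (El S 8 : Set G)) z), h2, mul_comm]⟩

/-- **The K-fact of `Th`.** -/
theorem exists_loc (hF : ∃ g, g * z * g⁻¹ ∈ S.Q ∧ g * z * g⁻¹ ≠ z) (hc : Nat.card G = 90745943887872000) :
    ∃ x : G, Loc G (El S 8) x 31 5 := by
  refine exists_loc_of (fun a ha => El_sq S ha) (by rw [card_El]; norm_num) (odd_index S hc)
    (fun g hg => centralizer_El S 8 hg) (by norm_num) (by norm_num) ?_ (dvd_card S hF)
  intro k h0 h1
  interval_cases k <;> omega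

end Cfsg.Agent.Omega.ML.LocTh
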