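import Cfsg.Agent.Omega.ML.CD
import Cfsg.Agent.MinSimple.VModule
import Cfsg.Agent.MinSimple.CosetFam
import Cfsg.Agent.Omega.Frame

/-!
# (ML): the frame of a minimal counterexample (OMEGA; #15719 of helper196, #16000 of helper595); K-free

`H` acts on the finite group `M` of exponent 2.

* `orb R z = ⟨z^R⟩`, `fxr U = C_H(U)`;
* `Rel p R U` : for `T` a Sylow 2-subgroup of `R`, `z ∈ C_U(T)`, `Q` a normal 2-subgroup of `C_R(z)`, `A ≤ Q` elementary
  abelian (and normalised by `T` if `p` holds) `|A : C_A(W)| ≤ |W : C_W(A)|` for `W = ⟨z^R⟩`;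
* `MLS p H M = Rel p ⊤ ⊤`, the statement (ML), "no over-offender in `O₂(C_H(z))`"; `p = False`: `A` arbitrary,
  `p = True`: `A` normalised by `T`;  `rel_of` : transfer to subgroups, submodules and quotients;
* `Ind K p n m` : (ML) holds for all smaller groups and modules, `K` a class of groups closed under sections;
* `Fr K p H M T Q A z` : the frame of a minimal counterexample, `A` strict;  `exists_fr` : it exists.
-/

set_option autoImplicit false

namespace Cfsg.Agent.Omega.ML.MinFrame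

open Subgroup Cfsg Cfsg.Agent.ClassTwoFusion.Quad Cfsg.Agent.Omega.NOThree.NoOver Cfsg.Agent.Omega.ML.CD
open Cfsg.Agent.ZN

universe u v

section Basic

variable {H : Type u} [Group H] {M : Type v} [Group M] [MulDistribMulAction H M]

/-- `⟨z^R⟩` -/
def orb (R : Subgroup H) (z : M) : Subgroup M := closure {m | ∃ g ∈ R, m = g • z}

/-- `C_H(U)` -/
def fxr (H : Type u) [Group H] {M : Type v} [Group M] [MulDistribMulAction H M] (U : Subgroup M) : Subgroup H where
  carrier := {x | ∀ m ∈ U, x • m = m}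
  one_mem' := fun m _ => one_smul _ m
  mul_mem' := fun {x y} hx hy m hm => by rw [mul_smul, hy m hm, hx m hm]
  inv_mem' := fun {x} hx m hm => by rw [inv_smul_eq_iff, hx m hm]

theorem mem_fxr {U : Subgroup M} {x : H} : x ∈ fxr H U ↔ ∀ m ∈ U, x • m = m := Iff.rfl

theorem smul_mem_orb_self {R : Subgroup H} {z : M} {g : H} (hg : g ∈ R) : g • z ∈ orb R z :=
  subset_closure ⟨g, hg, rfl⟩

theorem mem_orb_self (R : Subgroup H) (z : M) : z ∈ orb R z := by
  have := smul_mem_orb_self (z := z) R.one_mem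
  rwa [one_smul] at this

theorem smul_mem_orb {R : Subgroup H} {z : M} {g : H} (hg : g ∈ R) {m : M} (hm : m ∈ orb R z) : g • m ∈ orb R z := by
  have h1 : orb R z ≤ (orb R z).comap (MulDistribMulAction.toMonoidHom M g) := by
    rw [orb, closure_le]
    rintro _ ⟨k, hk, rfl⟩
    refine subset_closure ⟨g * k, mul_mem hg hk, ?_⟩
    exact (mul_smul _ _ _).symm
  exact h1 hm

theorem orb_le {R : Subgroup H} {z : M} {U : Subgroup M} (h : ∀ g ∈ R, g • z ∈ U) : orb R z ≤ U := by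
  rw [orb, closure_le]
  rintro _ ⟨g, hg, rfl⟩
  exact h g hg

theorem mem_fxr_orb {R : Subgroup H} {z : M} {x : H} : x ∈ fxr H (orb R z) ↔ ∀ g ∈ R, x • g • z = g • z := by
  constructor
  · intro h g hg
    exact h _ (smul_mem_orb_self hg)
  · intro h
    have h1 : orb R z ≤ cv M ({x} : Set H) := orb_le fun g hg => mem_cv_singleton.2 (h g hg)
    exact fun m hm => mem_cv_singleton.1 (h1 hm)

/-- `R` normalises `C_H(U)` for `R`-invariant `U` -/
theorem conj_mem_fxr {R : Subgroup H} {U : Subgroup M} (hU : ∀ g ∈ R, ∀ m ∈ U, g • m ∈ U) {g x : H} (hg : g ∈ R)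
    (hx : x ∈ fxr H U) : g * x * g⁻¹ ∈ fxr H U := by
  intro m hm
  rw [mul_smul, mul_smul, hx _ (hU _ (inv_mem hg) m hm), smul_inv_smul]

theorem cv_inf_eq_iff {A : Subgroup H} {U : Subgroup M} : U ≤ cv M (A : Set H) ↔ A ≤ fxr H U :=
  ⟨fun h a ha _ hm => h hm a ha, fun h m hm _ ha => h ha m hm⟩

/-- the relative form of (ML) -/
def Rel (p : Prop) (R : Subgroup H) (U : Subgroup M) : Prop :=
  ∀ (T Q A : Subgroup H) (z : M), z ∈ U → IsPGroup 2 T → T ≤ R → ¬ 2 ∣ T.relIndex R → (∀ t ∈ T, t • z = z) →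
    IsPGroup 2 Q → Q ≤ R → (∀ q ∈ Q, q • z = z) → (∀ g ∈ R, g • z = z → ∀ q ∈ Q, g * q * g⁻¹ ∈ Q) → A ≤ Q →
    (∀ a ∈ A, a * a = 1) → (p → ∀ t ∈ T, ∀ a ∈ A, t * a * t⁻¹ ∈ A) →
    (fxr H (orb R z)).relIndex A ≤ (cv M (A : Set H)).relIndex (orb R z)

/-- (ML) for `(H, M)` -/
def MLS (p : Prop) (H : Type u) [Group H] (M : Type v) [Group M] [MulDistribMulAction H M] : Prop :=
  Rel p (⊤ : Subgroup H) (⊤ : Subgroup M)

/-- **Transfer** -/
theorem rel_of {p : Prop} {R : Subgroup H} {U : Subgroup M} {H' : Type*} [Group H'] {M' : Type*} [Group M']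
    [MulDistribMulAction H' M'] (π : R →* H') (hπ : Function.Surjective π) (e : M' →* M)
    (he : Function.Injective e) (hU : ∀ m ∈ U, ∃ m', e m' = m)
    (heq : ∀ (r : R) (m' : M'), e (π r • m') = (r : H) • e m') (h : MLS p H' M') : Rel p R U := by
  intro T Q A z hzU hT hTR hTi hTz hQ hQR hQz hQn hAQ hA2 hAn
  obtain ⟨z', rfl⟩ := hU z hzU
  have hAR : A ≤ R := hAQ.trans hQR
  have hsm : ∀ (r : H) (hr : r ∈ R) (m' : M'), e (π ⟨r, hr⟩ • m') = r • e m' := fun r hr m' => heq ⟨r, hr⟩ m'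
  have himg : ∀ (B : Subgroup H) (hB : B ≤ R) (b' : H'), b' ∈ (B.subgroupOf R).map π →
      ∃ b, ∃ hb : b ∈ B, π ⟨b, hB hb⟩ = b' := by
    rintro B hB _ ⟨b, hb, rfl⟩
    exact ⟨b, hb, rfl⟩
  have hmem : ∀ (B : Subgroup H) (b : H) (hb : b ∈ B) (hbR : b ∈ R), π ⟨b, hbR⟩ ∈ (B.subgroupOf R).map π :=
    fun B b hb hbR => ⟨⟨b, hbR⟩, hb, rfl⟩
  have key := h ((T.subgroupOf R).map π) ((Q.subgroupOf R).map π) ((A.subgroupOf R).map π) z' (mem_top _)
    (hT.comap_subtype.map π) le_top (by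
      rw [relIndex_top_right]
      intro h2
      apply hTi
      have h3 : ((T.subgroupOf R).map π).index ∣ (T.subgroupOf R).index := index_map_dvd _ hπ
      exact h2.trans h3) (by
      intro t' ht'
      obtain ⟨t, ht, rfl⟩ := himg T hTR t' ht'
      exact he (by rw [hsm, hTz t ht])) (hQ.comap_subtype.map π) le_top (by
      intro q' hq'
      obtain ⟨q, hq, rfl⟩ := himg Q hQR q' hq'
      exact he (by rw [hsm, hQz q hq])) (by
      intro g' _ hg' q' hq'
      obtain ⟨⟨g, hg⟩, rfl⟩ := hπ g'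
      obtain ⟨q, hq, rfl⟩ := himg Q hQR q' hq'
      have h1 : g • e z' = e z' := by rw [← hsm g hg, hg']
      have h2 := hmem Q _ (hQn g hg h1 q hq) (hQR (hQn g hg h1 q hq))
      have h3 : (⟨g * q * g⁻¹, hQR (hQn g hg h1 q hq)⟩ : R) = ⟨g, hg⟩ * ⟨q, hQR hq⟩ * ⟨g, hg⟩⁻¹ := rfl
      rwa [h3, map_mul, map_mul, map_inv] at h2)
    (by
      rintro a' ⟨a, ha, rfl⟩
      exact ⟨a, hAQ ha, rfl⟩) (by
      intro a' ha'
      obtain ⟨a, ha, rfl⟩ := himg A hAR a' ha'
      rw [← map_mul]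
      have h1 : (⟨a, hAR ha⟩ : R) * ⟨a, hAR ha⟩ = 1 := Subtype.ext (hA2 a ha)
      rw [h1, map_one]) (by
      intro hp t' ht' a' ha'
      obtain ⟨t, ht, rfl⟩ := himg T hTR t' ht'
      obtain ⟨a, ha, rfl⟩ := himg A hAR a' ha'
      have h2 := hmem A _ (hAn hp t ht a ha) (hAR (hAn hp t ht a ha))
      have h3 : (⟨t * a * t⁻¹, hAR (hAn hp t ht a ha)⟩ : R) = ⟨t, hTR ht⟩ * ⟨a, hAR ha⟩ * ⟨t, hTR ht⟩⁻¹ := rfl
      rwa [h3, map_mul, map_mul, map_inv] at h2)
  have horb : (orb (⊤ : Subgroup H') z').map e = orb R (e z') := by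
    apply le_antisymm
    · rw [map_le_iff_le_comap]
      refine orb_le fun g' _ => ?_
      obtain ⟨⟨g, hg⟩, rfl⟩ := hπ g'
      rw [mem_comap, hsm]
      exact smul_mem_orb_self hg
    · refine orb_le fun g hg => ⟨π ⟨g, hg⟩ • z', smul_mem_orb_self (mem_top _), hsm g hg z'⟩
  have hcv : (cv M (A : Set H)).comap e = cv M' (((A.subgroupOf R).map π : Subgroup H') : Set H') := by
    ext m'
    rw [mem_comap]
    constructor
    · intro h1 a' ha'
      obtain ⟨a, ha, rfl⟩ := himg A hAR a' ha'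
      exact he (by rw [hsm, h1 a ha])
    · intro h1 a ha
      rw [← hsm a (hAR ha), h1 _ (hmem A a ha (hAR ha))]
  have hfx : (fxr H' (orb (⊤ : Subgroup H') z')).comap π = (fxr H (orb R (e z'))).subgroupOf R := by
    ext ⟨x, hx⟩
    rw [mem_comap, mem_subgroupOf, mem_fxr_orb, mem_fxr_orb]
    constructor
    · intro h1 g hg
      change x • g • e z' = g • e z'
      rw [← hsm g hg, ← hsm x hx, h1 _ (mem_top _)]
    · intro h1 g' _
      obtain ⟨⟨g, hg⟩, rfl⟩ := hπ g'
      refine he ?_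
      rw [hsm, hsm]
      exact h1 g hg
  have e1 : (fxr H (orb R (e z'))).relIndex A =
      (fxr H' (orb (⊤ : Subgroup H') z')).relIndex ((A.subgroupOf R).map π) := by
    rw [← relIndex_comap, hfx, relIndex_subgroupOf hAR]
  have e2 : (cv M (A : Set H)).relIndex (orb R (e z')) =
      (cv M' (((A.subgroupOf R).map π : Subgroup H') : Set H')).relIndex (orb (⊤ : Subgroup H') z') := by
    rw [← hcv, relIndex_comap, horb]
  rw [e1, e2]
  exact key

/-- to subgroups -/
theorem rel_subgroup {p : Prop} (R : Subgroup H) (h : MLS p R M) : Rel (M := M) p R ⊤ :=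
  rel_of (MonoidHom.id R) (fun x => ⟨x, rfl⟩) (MonoidHom.id M) (fun _ _ h => h) (fun m _ => ⟨m, rfl⟩)
    (fun _ _ => rfl) h

/-- the action on an invariant subgroup -/
@[reducible] def subAct (U : Subgroup M) (hU : ∀ g : H, ∀ u ∈ U, g • u ∈ U) : MulDistribMulAction H U where
  smul g u := ⟨g • (u : M), hU g u u.2⟩
  one_smul u := Subtype.ext (one_smul H (u : M))
  mul_smul g k u := Subtype.ext (mul_smul g k (u : M))
  smul_mul g u w := Subtype.ext (smul_mul' g (u : M) (w : M))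
  smul_one g := Subtype.ext (smul_one g)

/-- to submodules -/
theorem rel_sub {p : Prop} (U : Subgroup M) (hU : ∀ g : H, ∀ u ∈ U, g • u ∈ U)
    (h : letI := subAct U hU; MLS p H U) : Rel (M := M) p (⊤ : Subgroup H) U := by
  let _ := subAct U hU
  exact rel_of (H' := H) (M' := U) (⊤ : Subgroup H).subtype (fun x => ⟨⟨x, mem_top x⟩, rfl⟩) U.subtype
    U.subtype_injective (fun m hm => ⟨⟨m, hm⟩, rfl⟩) (fun _ _ => rfl) h

/-- the action of the quotient by a normal subgroup acting trivially -/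
@[reducible] def quoAct (N : Subgroup H) [N.Normal] (hN : ∀ x ∈ N, ∀ m : M, x • m = m) : MulDistribMulAction (H ⧸ N) M :=
  MulDistribMulAction.compHom M (QuotientGroup.lift N (MulDistribMulAction.toMulAut H M)
    (fun x hx => MulEquiv.ext fun m => hN x hx m))

/-- to quotients -/
theorem rel_quo {p : Prop} (N : Subgroup H) [N.Normal] (hN : ∀ x ∈ N, ∀ m : M, x • m = m)
    (h : letI := quoAct N hN; MLS p (H ⧸ N) M) : MLS p H M := by
  let _ := quoAct N hN
  exact rel_of (H' := H ⧸ N) (M' := M) ((QuotientGroup.mk' N).comp (⊤ : Subgroup H).subtype)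
    (fun x => by
      obtain ⟨y, rfl⟩ := QuotientGroup.mk'_surjective N x
      exact ⟨⟨y, mem_top y⟩, rfl⟩) (MonoidHom.id M) (fun _ _ h => h) (fun m _ => ⟨m, rfl⟩) (fun _ _ => rfl) h

end Basic

/-! ### The minimal counterexample -/

/-- (ML) for all smaller groups and modules -/
def Ind (K : Frame.Cls.{u}) (p : Prop) (n m : ℕ) : Prop :=
  ∀ (H : Type u) [Group H] [Finite H] (M : Type v) [Group M] [Finite M] [MulDistribMulAction H M], K H →
    (∀ x : M, x * x = 1) → (Nat.card H < n ∨ Nat.card H = n ∧ Nat.card M < m) → MLS p H M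

/-- a class of groups closed under sections -/
structure Sec (K : Frame.Cls.{u}) : Prop where
  sub : ∀ (G : Type u) [Group G] [Finite G], K G → ∀ R : Subgroup G, K R
  quo : ∀ (G : Type u) [Group G] [Finite G], K G → ∀ (N : Subgroup G) [N.Normal], K (G ⧸ N)

/-- **The frame of a minimal counterexample**: `T` a Sylow 2-subgroup, `z` fixed by `T`, `Q` a normal 2-subgroup of
`C_H(z)`, `1 ≠ A ≤ Q` elementary abelian and strict. -/
structure Fr (K : Frame.Cls.{u}) (p : Prop) (H : Type u) [Group H] (M : Type v) [Group M] [MulDistribMulAction H M]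
    (T Q A : Subgroup H) (z : M) : Prop where
  ind : Ind.{u, v} K p (Nat.card H) (Nat.card M)
  sec : Sec K
  KH : K H
  sq : ∀ m : M, m * m = 1
  two : IsPGroup 2 T
  odd : ¬ 2 ∣ T.index
  fixT : ∀ t ∈ T, t • z = z
  Q2 : IsPGroup 2 Q
  fixQ : ∀ q ∈ Q, q • z = z
  nrmQ : ∀ g : H, g • z = z → ∀ q ∈ Q, g * q * g⁻¹ ∈ Q
  AQ : A ≤ Q
  Asq : ∀ a ∈ A, a * a = 1
  nrmA : p → ∀ t ∈ T, ∀ a ∈ A, t * a * t⁻¹ ∈ A
  strict : Strict (fab M 1 1) A
  ne : A ≠ ⊥
  faithful : ∀ x : H, (∀ m : M, x • m = m) → x = 1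
  gen : orb (⊤ : Subgroup H) z = ⊤

section exists_fr

variable {K : Frame.Cls.{u}} {p : Prop} {H : Type u} [Group H] [Finite H] {M : Type v} [Group M] [Finite M]
  [MulDistribMulAction H M]

omit [Finite H] [Finite M] in
theorem fxr_normal {U : Subgroup M} (hU : ∀ g : H, ∀ u ∈ U, g • u ∈ U) : (fxr H U).Normal :=
  ⟨fun _ hx g => conj_mem_fxr (R := ⊤) (fun g _ => hU g) (mem_top g) hx⟩

theorem exists_fr (sec : Sec K) (hK : K H) (sq : ∀ m : M, m * m = 1)
    (ind : Ind.{u, v} K p (Nat.card H) (Nat.card M)) (h : ¬ MLS p H M) :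
    ∃ (T Q A : Subgroup H) (z : M), Fr K p H M T Q A z := by
  -- the action is faithful
  have hfaith : fxr H (⊤ : Subgroup M) = ⊥ := by
    by_contra hne
    apply h
    have hnor : (fxr H (⊤ : Subgroup M)).Normal := fxr_normal fun _ _ _ => mem_top _
    have htriv : ∀ x ∈ fxr H (⊤ : Subgroup M), ∀ m : M, x • m = m := fun x hx m => hx m (mem_top m)
    let _ := quoAct (fxr H (⊤ : Subgroup M)) htriv
    refine rel_quo (fxr H (⊤ : Subgroup M)) htriv (ind (H ⧸ fxr H (⊤ : Subgroup M)) M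
      (sec.quo H hK _) sq (Or.inl ?_))
    have h1 := Subgroup.card_mul_index (fxr H (⊤ : Subgroup M))
    have h2 : 1 < Nat.card (fxr H (⊤ : Subgroup M)) := (Subgroup.one_lt_card_iff_ne_bot _).2 hne
    have h3 : 0 < (fxr H (⊤ : Subgroup M)).index := Nat.pos_of_ne_zero (index_ne_zero_of_finite)
    have h4 : (fxr H (⊤ : Subgroup M)).index = Nat.card (H ⧸ fxr H (⊤ : Subgroup M)) := rfl
    rw [← h4, ← h1]
    nlinarith
  unfold MLS Rel at h
  push Not at h
  obtain ⟨T, Q, A, z, -, hT, -, hTi, hTz, hQ, -, hQz, hQn, hAQ, hA2, hAn, hlt⟩ := h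
  rw [relIndex_top_right] at hTi
  -- `M` is generated by the orbit
  have hgen : orb (⊤ : Subgroup H) z = ⊤ := by
    by_contra hne
    have hinv : ∀ g : H, ∀ u ∈ orb (⊤ : Subgroup H) z, g • u ∈ orb (⊤ : Subgroup H) z :=
      fun g u hu => smul_mem_orb (mem_top g) hu
    let _ := subAct (orb (⊤ : Subgroup H) z) hinv
    have hlt' : Nat.card (orb (⊤ : Subgroup H) z) < Nat.card M := by
      have h1 : orb (⊤ : Subgroup H) z < ⊤ := lt_top_iff_ne_top.2 hne
      have h2 := Set.ncard_lt_ncard (SetLike.coe_ssubset_coe.2 h1) (Set.toFinite _)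
      rwa [coe_top, Set.ncard_univ, ← Nat.card_coe_set_eq] at h2
    have h2 := rel_sub (orb (⊤ : Subgroup H) z) hinv (ind H (orb (⊤ : Subgroup H) z) hK
      (fun x => Subtype.ext (sq x)) (Or.inr ⟨rfl, hlt'⟩))
    have h3 := h2 T Q A z (mem_orb_self _ z) hT le_top (by rwa [relIndex_top_right]) hTz hQ le_top hQz hQn hAQ hA2 hAn
    exact absurd hlt (not_lt.2 h3)
  rw [hgen, hfaith, relIndex_bot_left, relIndex_top_right] at hlt
  have hov : fab M 1 1 (⊥ : Subgroup H) < fab M 1 1 A := by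
    rw [fab_lt_iff bot_le, pow_one, pow_one, relIndex_bot_left, cv_bot, relIndex_top_right]
    exact hlt
  have hLS := ls_fab (H := H) M 1 1
  refine ⟨T, Q, lo (fab M 1 1) A, z, ind, sec, hK, sq, hT, hTi, hTz, hQ, hQz, fun g hg => hQn g (mem_top g) hg,
    (hLS.lo_le_self A).trans hAQ, fun a ha => hA2 a (hLS.lo_le_self A ha), ?_, hLS.strict_lo A, ?_, ?_, hgen⟩
  · intro hp t ht a ha
    have h1 : t ∈ normalizer (A : Set H) := by
      rw [Subgroup.mem_normalizer_iff_map_conj_eq]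
      refine eq_of_le_of_card_ge ?_
        (Nat.card_congr (A.equivMapOfInjective _ (MulAut.conj t).injective).toEquiv).le
      rintro _ ⟨b, hb, rfl⟩
      exact hAn hp t ht b hb
    exact (mem_normalizer_iff.1 (hLS.normalizer_le_lo A h1) a).1 ha
  · intro h1
    have h2 := hLS.le_lo A A le_rfl
    rw [h1] at h2
    exact absurd hov (not_lt.2 h2)
  · intro x hx
    have h1 : x ∈ fxr H (⊤ : Subgroup M) := fun m _ => hx m
    rw [hfaith] at h1
    exact mem_bot.1 h1

end exists_fr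

end Cfsg.Agent.Omega.ML.MinFrame
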