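import Cfsg.Agent.Omega.ML.MinOut

/-!
# LEMMA OPP (OMEGA, (ML); #17044 of helper98, refereed #17229); K-free

`A` strict, abelian (so quadratic), `M` of exponent two.  `sv A v = C_A(v)`, `cv M A = C_M(A)`.

* `card_le` : `|A : C_A(v)| ≤ |C_M(A)|`;
* `card_mul_lt`, `card_lt` : `N` invariant under `C_A(v)`, `N ∩ C_M(A) = 1`, `A` moves `v`: `|N| < |A : C_A(v)|`, so
  `|N| < |C_M(A)|`;
* `exists_common` : **if `C_H(x)` normalises `A` and `1 ≠ x ∈ C_M(A)` then any two conjugates of `A` have a common fixed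
  vector `≠ 1`**;
* `exists_mem` : `|M : U| ≤ |M : C_M(A)|`, `A ≠ 1`: for all `y` some `1 ≠ a ∈ A` has `[y, a] ∈ U` (`U = C_M(A^h)`).
-/

set_option autoImplicit false

namespace Cfsg.Agent.Omega.ML.Opp

open Subgroup Cfsg.Agent.ClassTwoFusion.Quad Cfsg.Agent.Omega.NOThree.NoOver Cfsg.Agent.Omega.ML.CD
open Cfsg.Agent.Omega.ML.MinFrame (quad comm_of_sq)

variable {H : Type*} [Group H] {M : Type*} [Group M] [MulDistribMulAction H M]

/-- `C_A(v)` -/
def sv (A : Subgroup H) (v : M) : Subgroup H := A ⊓ MulAction.stabilizer H v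

theorem mem_sv {A : Subgroup H} {v : M} {a : H} : a ∈ sv A v ↔ a ∈ A ∧ a • v = v := by
  rw [sv, mem_inf, MulAction.mem_stabilizer_iff]

theorem sv_le (A : Subgroup H) (v : M) : sv A v ≤ A := inf_le_left

section general

variable [Finite H] [Finite M] (sq : ∀ m : M, m * m = 1) {A : Subgroup H} (hA : Strict (fab M 1 1) A)
  (hab : ∀ a ∈ A, ∀ b ∈ A, a * b = b * a)

include sq hA hab

/-- the homomorphism `a ↦ [v, a]` -/
theorem exists_hom (v : M) : ∃ φ : A →* cv M (A : Set H), ∀ a : A, ((φ a : cv M (A : Set H)) : M) = (a : H) • v * v := by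
  have hM := comm_of_sq sq
  have h1 : (⟨((1 : A) : H) • v * v, fun b hb => quad sq hA hab (1 : A).2 hb v⟩ : cv M (A : Set H)) = 1 := by
    apply Subtype.ext
    show ((1 : A) : H) • v * v = 1
    rw [OneMemClass.coe_one, one_smul, sq]
  have h2 : ∀ a b : A, (⟨((a * b : A) : H) • v * v, fun c hc => quad sq hA hab (a * b).2 hc v⟩ : cv M (A : Set H)) =
      ⟨(a : H) • v * v, fun c hc => quad sq hA hab a.2 hc v⟩ * ⟨(b : H) • v * v, fun c hc => quad sq hA hab b.2 hc v⟩ := by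
    intro a b
    apply Subtype.ext
    show ((a * b : A) : H) • v * v = ((a : H) • v * v) * ((b : H) • v * v)
    have h3 := quad sq hA hab b.2 a.2 v
    rw [smul_mul', ← mul_smul] at h3
    have h4 : ((a : H) * (b : H)) • v = ((b : H) • v * v) * ((a : H) • v) := by
      rw [← h3, mul_assoc, sq, mul_one]
    rw [Subgroup.coe_mul, h4, hM ((a : H) • v * v) _, mul_assoc]
  exact
    ⟨{  toFun := fun a => ⟨(a : H) • v * v, fun b hb => quad sq hA hab a.2 hb v⟩
        map_one' := h1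
        map_mul' := h2 }, fun a => rfl⟩

theorem card_le (v : M) : Nat.card A ≤ Nat.card (sv A v) * Nat.card (cv M (A : Set H)) := by
  obtain ⟨φ, hφ⟩ := exists_hom sq hA hab v
  have h1 : Nat.card φ.ker = Nat.card (sv A v) := by
    refine Nat.card_congr
      { toFun := fun a => ⟨(a : A), ?_⟩
        invFun := fun a => ⟨⟨(a : H), (mem_sv.1 a.2).1⟩, ?_⟩
        left_inv := fun a => rfl
        right_inv := fun a => rfl }
    · have h2 : φ a = 1 := a.2
      have h3 := hφ a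
      rw [h2, OneMemClass.coe_one] at h3
      refine mem_sv.2 ⟨(a : A).2, ?_⟩
      have h4 : ((a : A) : H) • v = v⁻¹ := eq_inv_of_mul_eq_one_left h3.symm
      rw [h4]
      exact inv_eq_of_mul_eq_one_right (sq v)
    · rw [MonoidHom.mem_ker]
      apply Subtype.ext
      rw [hφ, OneMemClass.coe_one]
      show (a : H) • v * v = 1
      rw [(mem_sv.1 a.2).2, sq]
  have h2 := Subgroup.card_eq_card_quotient_mul_card_subgroup φ.ker
  have h3 : Nat.card (A ⧸ φ.ker) ≤ Nat.card (cv M (A : Set H)) := by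
    rw [Nat.card_congr (QuotientGroup.quotientKerEquivRange φ).toEquiv]
    exact Subgroup.card_le_card_group φ.range
  rw [h2, h1, mul_comm]
  exact Nat.mul_le_mul_left _ h3

/-- **GENERAL FORM** -/
theorem card_mul_lt {v : M} (hv : ∃ a ∈ A, a • v ≠ v) {N : Subgroup M}
    (hN : ∀ a ∈ A, a • v = v → ∀ w ∈ N, a • w ∈ N) (hd : ∀ w ∈ N, w ∈ cv M (A : Set H) → w = 1) :
    Nat.card N * Nat.card (sv A v) < Nat.card A := by
  have hinv : ∀ m : M, m⁻¹ = m := fun m => inv_eq_of_mul_eq_one_right (sq m)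
  have hlt : sv A v < A := by
    refine lt_of_le_of_ne (sv_le A v) fun h => ?_
    obtain ⟨a, ha, hav⟩ := hv
    rw [← h] at ha
    exact hav (mem_sv.1 ha).2
  have h1 := hA _ hlt
  rw [fab_one, fab_one, fo, fo] at h1
  -- `N ≤ C_M(Q)`
  have hNQ : N ≤ cv M (sv A v : Set H) := by
    intro w hw q hq
    obtain ⟨hqA, hqv⟩ := mem_sv.1 hq
    have h2 : q • w * w = 1 := by
      refine hd _ (mul_mem (hN q hqA hqv w hw) hw) fun b hb => quad sq hA hab hqA hb w
    have h3 : q • w = w⁻¹ := eq_inv_of_mul_eq_one_left h2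
    rw [h3, hinv]
  have hUQ : cv M (A : Set H) ≤ cv M (sv A v : Set H) := cv_anti (SetLike.coe_subset_coe.2 (sv_le A v))
  have h4 : Nat.card N * Nat.card (cv M (A : Set H)) ≤ Nat.card (cv M (sv A v : Set H)) := by
    rw [← Nat.card_prod]
    refine Nat.card_le_card_of_injective
      (fun p : N × cv M (A : Set H) => (⟨p.1 * p.2, mul_mem (hNQ p.1.2) (hUQ p.2.2)⟩ : cv M (sv A v : Set H))) ?_
    rintro ⟨n, u⟩ ⟨n', u'⟩ h
    have h5 : (n : M) * u = n' * u' := congrArg Subtype.val h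
    have h6 : (n' : M)⁻¹ * n = u' * (u : M)⁻¹ := by
      rw [inv_mul_eq_iff_eq_mul, ← mul_assoc, ← h5, mul_inv_cancel_right]
    have h7 : (n' : M)⁻¹ * n = 1 := by
      refine hd _ (mul_mem (inv_mem n'.2) n.2) ?_
      rw [h6]
      exact mul_mem u'.2 (inv_mem u.2)
    have h8 : (n : M) = n' := (inv_mul_eq_one.1 h7).symm
    have h9 : (u : M) = u' := by
      rw [h8] at h5
      exact mul_left_cancel h5
    exact Prod.ext (Subtype.ext h8) (Subtype.ext h9)
  have hU : 0 < Nat.card (cv M (A : Set H)) := Nat.card_pos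
  have h5 : Nat.card N * Nat.card (sv A v) * Nat.card (cv M (A : Set H)) <
      Nat.card A * Nat.card (cv M (A : Set H)) := by
    refine lt_of_le_of_lt ?_ h1
    calc Nat.card N * Nat.card (sv A v) * Nat.card (cv M (A : Set H))
        = Nat.card (sv A v) * (Nat.card N * Nat.card (cv M (A : Set H))) := by ring
      _ ≤ _ := Nat.mul_le_mul_left _ h4
  exact Nat.lt_of_mul_lt_mul_right h5

theorem card_lt {v : M} (hv : ∃ a ∈ A, a • v ≠ v) {N : Subgroup M}
    (hN : ∀ a ∈ A, a • v = v → ∀ w ∈ N, a • w ∈ N) (hd : ∀ w ∈ N, w ∈ cv M (A : Set H) → w = 1) :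
    Nat.card N < Nat.card (cv M (A : Set H)) := by
  have h1 := card_mul_lt sq hA hab hv hN hd
  have h2 := card_le sq hA hab v
  rw [mul_comm] at h1
  exact Nat.lt_of_mul_lt_mul_left (h1.trans_le h2)

/-- **LEMMA OPP.** Any two conjugates of `A` have a common fixed vector. -/
theorem exists_common {x : M} (hx1 : x ≠ 1) (hx : x ∈ cv M (A : Set H))
    (nrm : ∀ g : H, g • x = x → ∀ a ∈ A, g * a * g⁻¹ ∈ A) (h : H) :
    ∃ w : M, w ≠ 1 ∧ w ∈ cv M (A : Set H) ∧ w ∈ cv M (cj h A : Set H) := by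
  by_contra hc
  push Not at hc
  have hhx : h • x ∈ cv M (cj h A : Set H) := by
    rw [cv_cj, inv_smul_smul]
    exact hx
  have hhx1 : h • x ≠ 1 := fun e => hx1 (by rw [← inv_smul_smul h x, e, smul_one])
  have hv : ∃ a ∈ A, a • (h • x) ≠ h • x := by
    by_contra hv
    push Not at hv
    exact hc _ hhx1 (fun a ha => hv a ha) hhx
  have hN : ∀ a ∈ A, a • (h • x) = h • x → ∀ w ∈ cv M (cj h A : Set H), a • w ∈ cv M (cj h A : Set H) := by
    intro a _ hav w hw
    rw [cv_cj] at hw ⊢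
    intro b hb
    have h1 : (h⁻¹ * a * h) • x = x := by
      rw [mul_smul, mul_smul, hav, inv_smul_smul]
    have h1' : (h⁻¹ * a * h)⁻¹ • x = x := by
      rw [inv_smul_eq_iff, h1]
    have h2 := nrm _ h1' b hb
    have h3 := hw _ h2
    have e : b • h⁻¹ • a • w = (h⁻¹ * a * h) • (((h⁻¹ * a * h)⁻¹ * b * (h⁻¹ * a * h)⁻¹⁻¹) • h⁻¹ • w) := by
      rw [← mul_smul, ← mul_smul, ← mul_smul, ← mul_smul]
      congr 1
      group
    rw [e, h3, ← mul_smul, ← mul_smul]
    congr 1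
    group
  have h4 := card_lt sq hA hab hv (N := cv M (cj h A : Set H)) hN (fun w hw hwA => by
    by_contra hw1
    exact hc w hw1 hwA hw)
  have h5 : Nat.card (cv M (cj h A : Set H)) = Nat.card (cv M (A : Set H)) := by
    refine Nat.card_congr
      { toFun := fun w => ⟨h⁻¹ • (w : M), (cv_cj h A).1 w.2⟩
        invFun := fun w => ⟨h • (w : M), (cv_cj h A).2 (by rw [inv_smul_smul]; exact w.2)⟩
        left_inv := fun w => Subtype.ext (smul_inv_smul h _)
        right_inv := fun w => Subtype.ext (inv_smul_smul h _) }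
  rw [h5] at h4
  exact lt_irrefl _ h4

/-- **SECOND FACT (A)**, for any subgroup `U` of `M` of index `≤ |M : C_M(A)|` -/
theorem exists_mem (hne : A ≠ ⊥) (y : M) {U : Subgroup M} (hU : U.index ≤ (cv M (A : Set H)).index) :
    ∃ a ∈ A, a ≠ 1 ∧ a • y * y ∈ U := by
  have hM := comm_of_sq sq
  have hn : U.Normal := ⟨fun x hx g => by rw [hM g x, mul_inv_cancel_right]; exact hx⟩
  have h1 : (cv M (A : Set H)).index < Nat.card A := by
    have h2 := hA ⊥ (bot_lt_iff_ne_bot.2 hne)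
    rw [fab_one, fab_one, fo_bot, fo, ← (cv M (A : Set H)).index_mul_card] at h2
    exact Nat.lt_of_mul_lt_mul_right h2
  obtain ⟨φ, hφ⟩ := exists_hom sq hA hab y
  obtain ⟨ψ, hψ⟩ : ∃ ψ : A →* M ⧸ U, ∀ a, ψ a = QuotientGroup.mk ((φ a : cv M (A : Set H)) : M) :=
    ⟨(QuotientGroup.mk' U).comp ((cv M (A : Set H)).subtype.comp φ), fun a => rfl⟩
  have h3 : ¬ Function.Injective ψ := by
    intro hi
    have h4 := Nat.card_le_card_of_injective ψ hi
    have h5 : Nat.card (M ⧸ U) = U.index := rfl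
    rw [h5] at h4
    omega
  rw [← MonoidHom.ker_eq_bot_iff] at h3
  obtain ⟨a', ha'⟩ := (Subgroup.ne_bot_iff_exists_ne_one).1 h3
  obtain ⟨a, ha⟩ := a'
  have ha1 : a ≠ 1 := fun e => ha' (Subtype.ext e)
  refine ⟨a, a.2, fun e => ha1 (Subtype.ext e), ?_⟩
  rw [MonoidHom.mem_ker, hψ, QuotientGroup.eq_one_iff, hφ] at ha
  exact ha

end general

end Cfsg.Agent.Omega.ML.Opp
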