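import Cfsg.Agent.Omega.ML.LemBS
import Cfsg.Agent.Omega.ML.Dual

/-!
# LEMMA OPP (OMEGA, (ML); #17044 of helper98, referee #17229 of helper37); K-free

`A` a strict elementary abelian subgroup of `H` on `M` (exponent 2).

* `opp_gen` : `v ∉ C_M(A)`, `N ≤ M` invariant under `Q = C_A(v)`, `N ∩ C_M(A) = 1` imply `|N| < |A : Q|`;
  `opp_fun` : the same for a functional `u`, moreover `|A : Q| ≤ |M : C_M(A)|`; `relIndex_le` : `|A : C_A(v)| ≤ |C_M(A)|`;
* `opp` : **LEMMA OPP**: `C_H(x) ≤ N_H(A)`, `A ≤ C_H(x)`, `x ≠ 1` imply `C_M(A) ∩ C_M(A^h) ≠ 1` for all `h`;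
* `az A y U` : `{a ∈ A : a y ∈ U}`; `az_ne_bot`, `isPGroup_sup_az` : (A): `A_x(y) ≠ 1`, `⟨A_y, A_x(y)⟩` is a 2-group,
  `d_mem_inf` : `[y, A_x(y)] ≤ C_M(A_x) ∩ C_M(A_y)`.
-/

set_option autoImplicit false
set_option linter.unusedSectionVars false

namespace Cfsg.Agent.Omega.ML.OppA

open Subgroup Cfsg.Agent.ClassTwoFusion.Quad Cfsg.Agent.MinSimple.MinParabolic
open Cfsg.Agent.Omega.NOThree.NoOver Cfsg.Agent.Omega.ML.CD Cfsg.Agent.Omega.ML.BS
open Cfsg.Agent.ZN (o2)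
open Cfsg.Agent.ZN.ChoiceSit (o2_le isPGroup_o2 le_o2 le_normalizer_o2 Syl exists_syl syl_conj o2_le_syl)

variable {H : Type*} [Group H] {M : Type*} [Group M] [MulDistribMulAction H M]

/-- a strict elementary abelian subgroup -/
structure SE (M : Type*) [Group M] [MulDistribMulAction H M] (A : Subgroup H) : Prop where
  sq : ∀ v : M, v * v = 1
  ea : ∀ a ∈ A, a * a = 1
  strict : Strict (fo M) A

namespace SE

variable {A : Subgroup H} (h : SE M A)
include h

theorem comm {a b : H} (ha : a ∈ A) (hb : b ∈ A) : a * b = b * a := by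
  have h1 : a⁻¹ = a := inv_eq_of_mul_eq_one_left (h.ea a ha)
  have h2 : b⁻¹ = b := inv_eq_of_mul_eq_one_left (h.ea b hb)
  have h3 : (a * b)⁻¹ = a * b := inv_eq_of_mul_eq_one_left (h.ea _ (A.mul_mem ha hb))
  rw [← h3, mul_inv_rev, h1, h2]

theorem isPGroup : IsPGroup 2 A := fun x => ⟨1, Subtype.ext (by
  rw [pow_one, pow_two]; exact h.ea x x.2)⟩

variable [Finite H] [Finite M]

theorem d_mem {a : H} (ha : a ∈ A) (u : M) : d a u ∈ cv M (A : Set H) :=
  quad h.sq (fun _ hx _ hy => h.comm hx hy) h.strict ha u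

theorem d_mul {a b : H} (ha : a ∈ A) (hb : b ∈ A) (u : M) : d (a * b) u = d a u * d b u := by
  rw [d_mul_left' h.sq, h.d_mem hb u a ha, mul_comm_of_sq h.sq]

/-- the homomorphism `a ↦ [u, a]` -/
def dm (u : M) : A →* M where
  toFun a := d (a : H) u
  map_one' := by rw [Subgroup.coe_one]; exact (d_eq_one h.sq).2 (one_smul H u)
  map_mul' a b := by rw [Subgroup.coe_mul, h.d_mul a.2 b.2]

/-- `|C_M(B) : C_M(A)| < |A : B|` -/
theorem lt {B : Subgroup H} (hB : B < A) : (cv M (A : Set H)).relIndex (cv M (B : Set H)) < B.relIndex A := by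
  have hst : Strict (fab M 1 1) A := fun B hB => by
    rw [fab_one, fab_one]; exact h.strict B hB
  have h1 := relIndex_lt_of_moves hst hB (W := cv M (B : Set H)) le_rfl
  rwa [pow_one, pow_one] at h1

/-- `|A : {a ∈ A : [v, a] ∈ E}| ≤ |C_M(A) : E|` for `E ≤ C_M(A)` -/
theorem index_comap_le (v : M) (E : Subgroup M) :
    (E.comap (h.dm v)).index ≤ E.relIndex (cv M (A : Set H)) := by
  rw [Subgroup.index_comap]
  exact relIndex_le_of_le_right (by
    rintro _ ⟨a, rfl⟩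
    exact h.d_mem a.2 v) (relIndex_ne _ _)

theorem ker_dm (v : M) : (h.dm v).ker = (MulAction.stabilizer H v).subgroupOf A := by
  ext a
  rw [MonoidHom.mem_ker, mem_subgroupOf, MulAction.mem_stabilizer_iff]
  exact d_eq_one h.sq

/-- `|A : C_A(v)| ≤ |C_M(A)|` -/
theorem relIndex_le (v : M) : (MulAction.stabilizer H v).relIndex A ≤ Nat.card (cv M (A : Set H)) := by
  have h1 := h.index_comap_le v ⊥
  rw [MonoidHom.comap_bot, h.ker_dm, relIndex_bot_left] at h1
  exact h1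

/-- the common part of the general forms -/
theorem card_lt {Q : Subgroup H} (hQ : Q < A) {N : Subgroup M} (hN : ∀ a ∈ Q, ∀ n ∈ N, a • n ∈ N)
    (hNU : N ⊓ cv M (A : Set H) = ⊥) : Nat.card N < Q.relIndex A := by
  have h1 : N ≤ cv M (Q : Set H) := by
    intro n hn a ha
    have h2 : d a n ∈ N ⊓ cv M (A : Set H) := ⟨mul_mem (hN a ha n hn) hn, h.d_mem (hQ.le ha) n⟩
    rw [hNU, mem_bot] at h2
    exact (d_eq_one h.sq).1 h2
  have h2 : cv M (A : Set H) ≤ cv M (Q : Set H) := cv_anti (SetLike.coe_subset_coe.2 hQ.le)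
  have h3 := card_mul_le N (cv M (A : Set H)) (cv M (Q : Set H)) h1 h2
  rw [hNU, card_bot, one_mul, card_eq_relIndex_mul h2] at h3
  exact lt_of_le_of_lt (Nat.le_of_mul_le_mul_right h3 Nat.card_pos) (h.lt hQ)

/-- **GENERAL FORM** -/
theorem opp_gen {v : M} (hv : v ∉ cv M (A : Set H)) {N : Subgroup M}
    (hN : ∀ a ∈ A, a • v = v → ∀ n ∈ N, a • n ∈ N) (hNU : N ⊓ cv M (A : Set H) = ⊥) :
    Nat.card N < (MulAction.stabilizer H v).relIndex A := by
  rw [← inf_relIndex_right]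
  refine h.card_lt (lt_of_le_of_ne inf_le_right fun h1 => hv fun a ha => ?_)
    (fun a ha => hN a ha.2 (MulAction.mem_stabilizer_iff.1 ha.1)) hNU
  exact MulAction.mem_stabilizer_iff.1 (inf_eq_right.1 h1 ha)

/-- **FUNCTIONAL FORM** -/
theorem opp_fun {u : M → ℤˣ} (hu : ∀ w w', u (w * w') = u w * u w') (hv : ∃ a ∈ A, ∃ w, u (a • w) ≠ u w)
    {N : Subgroup M} (hN : ∀ a ∈ A, (∀ w, u (a • w) = u w) → ∀ n ∈ N, a • n ∈ N)
    (hNU : N ⊓ cv M (A : Set H) = ⊥) :
    Nat.card N < (Dual.st A ⊤ u).relIndex A ∧ (Dual.st A ⊤ u).relIndex A ≤ (cv M (A : Set H)).index := by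
  have hW : Dual.Iv A (⊤ : Subgroup M) := fun _ _ _ _ => mem_top _
  constructor
  · refine h.card_lt (lt_of_le_of_ne (Dual.st_le _ _ _) fun h1 => ?_) (fun a ha => ?_) hNU
    · obtain ⟨a, ha, w, hw⟩ := hv
      rw [← h1] at ha
      exact hw (((Dual.mem_st hW).1 ha).2 w (mem_top _))
    · have h1 := (Dual.mem_st hW).1 ha
      exact hN a h1.1 fun w => h1.2 w (mem_top _)
  · have h1 := Dual.dc (X := A) (W := (⊤ : Subgroup M)) hW (fun w _ w' _ => hu w w')
    rwa [relIndex_top_right] at h1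

end SE

section Opp

variable {A : Subgroup H} (h : SE M A)
include h

/-- **LEMMA OPP** -/
theorem opp [Finite H] [Finite M] {x : M} (hx : x ≠ 1) (hAx : A ≤ MulAction.stabilizer H x)
    (hn : MulAction.stabilizer H x ≤ normalizer (A : Set H)) (g : H) :
    cv M (A : Set H) ⊓ cv M (cj g A : Set H) ≠ ⊥ := by
  intro h0
  have hy : g • x ∈ cv M (cj g A : Set H) := smul_mem_cv_cj fun a ha => MulAction.mem_stabilizer_iff.1 (hAx ha)
  have hyA : g • x ∉ cv M (A : Set H) := by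
    intro h1
    have h2 : g • x ∈ cv M (A : Set H) ⊓ cv M (cj g A : Set H) := ⟨h1, hy⟩
    rw [h0, mem_bot] at h2
    rw [smul_eq_iff_eq_inv_smul, smul_one] at h2
    exact hx h2
  have h1 := h.opp_gen hyA (N := cv M (cj g A : Set H)) (fun a ha hay n hn' => ?_) (by rwa [inf_comm])
  · rw [card_cv_cj] at h1
    exact absurd (h.relIndex_le (g • x)) (not_le.2 h1)
  · refine Cfg.smul_mem_cv_of_norm ?_ hn'
    have h2 : g⁻¹ * a * g ∈ normalizer (A : Set H) := by
      refine hn (MulAction.mem_stabilizer_iff.2 ?_)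
      rw [mul_smul, mul_smul, hay, inv_smul_smul]
    have h3 : cj (g⁻¹ * a * g) A = A := mem_normalizer_iff_map_conj_eq.1 h2
    have h4 : cj a (cj g A) = cj g A := by
      nth_rewrite 2 [← h3]
      rw [cj_cj, cj_cj]
      congr 1
      group
    exact mem_normalizer_iff_map_conj_eq.2 h4

variable [Finite H] [Finite M]

/-- `{a ∈ A : [y, a] ∈ U}` -/
def az (y : M) (U : Subgroup M) : Subgroup H := (U.comap (h.dm y)).map A.subtype

theorem mem_az {y : M} {U : Subgroup M} {a : H} : a ∈ az h y U ↔ a ∈ A ∧ d a y ∈ U := by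
  constructor
  · rintro ⟨b, hb, rfl⟩
    exact ⟨b.2, hb⟩
  · rintro ⟨ha, h1⟩
    exact ⟨⟨a, ha⟩, h1, rfl⟩

theorem mem_az' {y : M} {U : Subgroup M} (hy : y ∈ U) {a : H} : a ∈ az h y U ↔ a ∈ A ∧ a • y ∈ U := by
  rw [mem_az, smul_eq_d h.sq]
  refine and_congr_right fun _ => ?_
  exact (U.mul_mem_cancel_right hy).symm

/-- `|A : A_x(y)| ≤ |M : U|` -/
theorem relIndex_az_le (y : M) (U : Subgroup M) : (az h y U).relIndex A ≤ U.index := by
  have h1 : (az h y U).relIndex A = (U.comap (h.dm y)).index := by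
    rw [az, relIndex, subgroupOf, comap_map_eq_self_of_injective A.subtype_injective]
  rw [h1, index_comap, ← relIndex_top_right]
  exact relIndex_le_of_le_right le_top (relIndex_ne _ _)

/-- **(A)**: `A_x(y) ≠ 1` -/
theorem az_ne_bot (hA : A ≠ ⊥) (g : H) (y : M) : az h y (cv M (cj g A : Set H)) ≠ ⊥ := by
  intro h0
  have h1 := relIndex_az_le h y (cv M (cj g A : Set H))
  have h2 := h.lt (bot_lt_iff_ne_bot.2 hA)
  rw [h0] at h1
  have h3 : (cv M (cj g A : Set H)).index = (cv M (A : Set H)).relIndex (cv M ((⊥ : Subgroup H) : Set H)) := by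
    rw [cv_bot, relIndex_top_right]
    have e1 := Subgroup.card_mul_index (cv M (cj g A : Set H))
    have e2 := Subgroup.card_mul_index (cv M (A : Set H))
    rw [card_cv_cj] at e1
    exact Nat.eq_of_mul_eq_mul_left Nat.card_pos (e1.trans e2.symm)
  rw [h3] at h1
  exact absurd h1 (not_le.2 h2)

/-- **(A)**: `[y, A_x(y)] ≤ C_M(A_x) ∩ C_M(A_y)` -/
theorem d_mem_inf {y : M} {U : Subgroup M} {a : H} (ha : a ∈ az h y U) : d a y ∈ cv M (A : Set H) ⊓ U :=
  ⟨h.d_mem ((mem_az h).1 ha).1 y, ((mem_az h).1 ha).2⟩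

omit h in
/-- mutually normalising 2-groups generate a 2-group -/
theorem isPGroup_iSup {ι : Type*} {B : ι → Subgroup H} (h2 : ∀ i, IsPGroup 2 (B i))
    (hn : ∀ i j, B i ≤ normalizer (B j : Set H)) : IsPGroup 2 (⨆ i, B i : Subgroup H) := by
  refine (isPGroup_o2 (⨆ i, B i)).to_le (iSup_le fun i => ?_)
  exact le_o2 (h2 i) (le_iSup B i) (iSup_le fun j => hn j i)

/-- **(A)**: `⟨A_y, A_x(y)⟩` is a 2-group; `y = g • x`. -/
theorem isPGroup_sup_az {x : M} (hAx : A ≤ MulAction.stabilizer H x)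
    (hn : MulAction.stabilizer H x ≤ normalizer (A : Set H)) (g : H) :
    IsPGroup 2 (cj g A ⊔ az h (g • x) (cv M (cj g A : Set H)) : Subgroup H) := by
  set U := cv M (cj g A : Set H) with hU
  set A₁ := az h (g • x) U with hA₁
  have hy : g • x ∈ U := smul_mem_cv_cj fun a ha => MulAction.mem_stabilizer_iff.1 (hAx ha)
  -- the stabiliser of `k • x` normalises `A^k`
  have hnk : ∀ k : H, MulAction.stabilizer H (k • x) ≤ normalizer (cj k A : Set H) := by
    intro k b hb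
    have h2 : k⁻¹ * b * k ∈ normalizer (A : Set H) := by
      refine hn (MulAction.mem_stabilizer_iff.2 ?_)
      rw [mul_smul, mul_smul, MulAction.mem_stabilizer_iff.1 hb, inv_smul_smul]
    have h3 : cj (k⁻¹ * b * k) A = A := mem_normalizer_iff_map_conj_eq.1 h2
    have h4 : cj b (cj k A) = cj k A := by
      nth_rewrite 2 [← h3]
      rw [cj_cj, cj_cj]
      congr 1
      group
    exact mem_normalizer_iff_map_conj_eq.2 h4
  have hp : ∀ k : H, IsPGroup 2 (cj k A) := fun k => Cfsg.Agent.ZN.ChoiceBase.isPGroup_cj k h.isPGroup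
  have hG : IsPGroup 2 (⨆ q : A₁, cj ((q : H) * g) A : Subgroup H) := by
    refine isPGroup_iSup (fun q => hp _) fun q q' => le_trans ?_ (hnk _)
    rintro _ ⟨b, hb, rfl⟩
    change (q : H) * g * b * ((q : H) * g)⁻¹ ∈ MulAction.stabilizer H (((q' : H) * g) • x)
    have h1 : (q : H)⁻¹ * q' ∈ A₁ := A₁.mul_mem (A₁.inv_mem q.2) q'.2
    have h2 := ((mem_az' h hy).1 h1).2
    have h3 := mem_cv_cj.1 h2 b hb
    rw [MulAction.mem_stabilizer_iff]
    have e1 : (q : H) * g * b * ((q : H) * g)⁻¹ * ((q' : H) * g) = (q : H) * g * (b * (g⁻¹ * ((q : H)⁻¹ * q') * g)) := by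
      group
    have e2 : (q' : H) * g = (q : H) * g * (g⁻¹ * ((q : H)⁻¹ * q') * g) := by group
    have h5 : (b * (g⁻¹ * ((q : H)⁻¹ * q') * g)) • x = (g⁻¹ * ((q : H)⁻¹ * q') * g) • x := by
      rw [mul_smul b, mul_smul (g⁻¹ * ((q : H)⁻¹ * (q' : H))) g, mul_smul g⁻¹]
      exact h3
    rw [smul_smul, e1, mul_smul _ (b * _), h5, ← mul_smul, ← e2]
  have hcj : ∀ a ∈ A₁, cj a (⨆ q : A₁, cj ((q : H) * g) A : Subgroup H) ≤ ⨆ q : A₁, cj ((q : H) * g) A := by
    intro a ha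
    rw [cj_le_iff]
    refine iSup_le fun q => ?_
    rw [← cj_le_iff, cj_cj, ← mul_assoc]
    exact le_iSup (fun q : A₁ => cj ((q : H) * g) A) (⟨a, ha⟩ * q)
  have hnorm : A₁ ≤ normalizer ((⨆ q : A₁, cj ((q : H) * g) A : Subgroup H) : Set H) := fun a ha =>
    Cfsg.Agent.ZN.ChoiceBase.mem_normalizer_of_cj_le (hcj a ha)
  have hA₁p : IsPGroup 2 A₁ := h.isPGroup.to_le fun a ha => ((mem_az h).1 ha).1
  refine (hG.to_sup_of_normal_left' hA₁p hnorm).to_le (sup_le_sup_right ?_ _)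
  have h1 : cj (((1 : A₁) : H) * g) A ≤ ⨆ q : A₁, cj ((q : H) * g) A :=
    le_iSup (fun q : A₁ => cj ((q : H) * g) A) 1
  rwa [Subgroup.coe_one, one_mul] at h1

end Opp

end Cfsg.Agent.Omega.ML.OppA
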