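import Cfsg.Agent.Omega.ML.PspFourL

/-!
# `PSp₄(q)`, `q > 3` odd: automorphisms centralising `D` (helper297)

* `aut` : an automorphism centralizing the image `D` of `SL₂(q) × SL₂(q)` is `1` or conjugation by `z₀`.
-/

set_option autoImplicit false
set_option linter.unusedSectionVars false

namespace Cfsg.Agent.Omega.ML.PspFourAut

open Matrix Subgroup Cfsg
open scoped commutatorElement
open Cfsg.Agent.OddHalf.NI.Blocks (negOne coe_negOne negOne_mul negOne_ne_one two_ne_zero_of_odd)
open Cfsg.Agent.OddHalf.NI.FrameSp hiding neg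
open Cfsg.Agent.ClassicalGeometry.SympBasic
open Cfsg.Agent.ClassicalGeometry.SympAutSemi
open Cfsg.Agent.ClassicalGeometry.SympGamma (scal scal_apply Psi_scal)
open Cfsg.Agent.Omega.ML.PspFourK Cfsg.Agent.Omega.ML.PspFourL

variable {F : Type} [Field F]

local notation "SL" => Matrix.SpecialLinearGroup (Fin 2) F
local notation "Sp" => Matrix.symplecticGroup (Fin 2) F
local notation "V" => (Fin 2 ⊕ Fin 2 → F)

/-- the basis vectors -/
def E (p : Fin 2 ⊕ Fin 2) : Fin 2 ⊕ Fin 2 → F := Pi.single p 1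

theorem E_apply (p q : Fin 2 ⊕ Fin 2) : (E p : V) q = if q = p then 1 else 0 := by
  rw [E, Pi.single_apply]

theorem rho_e (i : Fin 2) (a : SL) (u : V) (p : Fin 2 ⊕ Fin 2) :
    rho 2 F (e i a) u p = if ix p = i then
      (a : Matrix (Fin 2) (Fin 2) F) (sd p) 0 * u (Sum.inl i) + (a : Matrix (Fin 2) (Fin 2) F) (sd p) 1 * u (Sum.inr i)
      else u p := by
  rw [rho_apply, mulVec, dotProduct, Fintype.sum_sum_type, Fin.sum_univ_two, Fin.sum_univ_two]
  simp only [e_coe]
  fin_cases i <;> rcases p with p | p <;> fin_cases p <;> simp [ix, sd, Matrix.one_apply]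

/-- upper unitriangular -/
def uu (F : Type) [Field F] : Matrix.SpecialLinearGroup (Fin 2) F := ⟨!![1, 1; 0, 1], by simp [det_fin_two]⟩

/-- diagonal -/
def dd {t : F} (ht : t ≠ 0) : Matrix.SpecialLinearGroup (Fin 2) F := ⟨!![t, 0; 0, t⁻¹], by simp [det_fin_two, ht]⟩

theorem sum_E (u : V) : u = u (Sum.inl 0) • E (Sum.inl 0) + u (Sum.inl 1) • E (Sum.inl 1) +
    (u (Sum.inr 0) • E (Sum.inr 0) + u (Sum.inr 1) • E (Sum.inr 1)) := by
  funext p
  simp only [Pi.add_apply, Pi.smul_apply, E_apply, smul_eq_mul]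
  rcases p with p | p <;> fin_cases p <;> simp

/-- Semisimilitudes which commute with the blocks. -/
theorem semi (h2 : (2 : F) ≠ 0) {g : Equiv.Perm V} {φ : F ≃+* F} {l : F} (hg : IsSemi g φ l)
    (hc : ∀ (i : Fin 2) (a : SL) (u : V), g (rho 2 F (e i a) u) = rho 2 F (e i a) (g u)) :
    ∃ c : Fin 2 → F, (∀ i, c i ≠ 0 ∧ c i * c i = l) ∧ ∀ u p, g u p = c (ix p) * u p := by
  have hg0 : g 0 = 0 := by
    have h1 := hg.2.1 0 0
    rwa [zero_smul, map_zero φ, zero_smul] at h1
  -- `g` fixes the lines of the basis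
  have h1 : ∀ i : Fin 2, ∃ c : F, c ≠ 0 ∧ g (E (Sum.inl i)) = c • E (Sum.inl i) := by
    intro i
    have h3 : ∀ p, ix p ≠ i → g (E (Sum.inl i)) p = 0 := by
      intro p hp
      have h4 : rho 2 F (e (ix p) (negOne F)) (E (Sum.inl i)) = E (Sum.inl i) := by
        funext q
        rw [rho_e]
        by_cases hq : ix q = ix p
        · rw [if_pos hq, E_apply, E_apply, E_apply, if_neg, if_neg, if_neg]
          · ring
          · rintro rfl
            exact hp hq.symm
          · simp
          · intro h5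
            exact hp (Sum.inl_injective h5)
        · rw [if_neg hq]
      have h5 := congrFun (hc (ix p) (negOne F) (E (Sum.inl i))) p
      rw [h4, rho_e, if_pos rfl] at h5
      have h6 : g (E (Sum.inl i)) p = - g (E (Sum.inl i)) p := by
        rcases p with p | p
        · simpa [ix, sd] using h5
        · simpa [ix, sd] using h5
      have h7 : 2 * g (E (Sum.inl i)) p = 0 := by linear_combination h6
      exact (mul_eq_zero.1 h7).resolve_left h2
    have h4 : g (E (Sum.inl i)) (Sum.inr i) = 0 := by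
      have h5 : rho 2 F (e i (uu F)) (E (Sum.inl i)) = E (Sum.inl i) := by
        funext q
        rw [rho_e]
        by_cases hq : ix q = i
        · rw [if_pos hq]
          rcases q with q | q
          · have hq' : q = i := hq
            subst hq'
            simp [E_apply, uu, sd]
          · simp [E_apply, uu, sd]
        · rw [if_neg hq]
      have h6 := congrFun (hc i (uu F) (E (Sum.inl i))) (Sum.inl i)
      rw [h5, rho_e, if_pos (show ix (Sum.inl i) = i from rfl)] at h6
      have h7 : g (E (Sum.inl i)) (Sum.inl i) = g (E (Sum.inl i)) (Sum.inl i) + g (E (Sum.inl i)) (Sum.inr i) := by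
        simpa [uu, sd] using h6
      linear_combination -h7
    have h5 : g (E (Sum.inl i)) = g (E (Sum.inl i)) (Sum.inl i) • E (Sum.inl i) := by
      funext p
      rw [Pi.smul_apply, smul_eq_mul, E_apply]
      by_cases hp : ix p = i
      · rcases p with p | p
        · have hp' : p = i := hp
          subst hp'
          simp
        · have hp' : p = i := hp
          subst hp'
          rw [h4, if_neg (by simp), mul_zero]
      · rw [h3 p hp, if_neg, mul_zero]
        rintro rfl
        exact hp rfl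
    refine ⟨_, fun h6 => ?_, h5⟩
    rw [h6, zero_smul, ← hg0] at h5
    have h7 := congrFun (g.injective h5) (Sum.inl i)
    rw [E_apply, if_pos rfl] at h7
    exact one_ne_zero h7
  choose c hc0 hcl using h1
  have hcr : ∀ i, g (E (Sum.inr i)) = c i • E (Sum.inr i) := by
    intro i
    have h3 : ∀ b : F, rho 2 F (e i (xx F)) (b • E (Sum.inl i)) = (-b) • E (Sum.inr i) := by
      intro b
      funext p
      rw [rho_e]
      fin_cases i <;> rcases p with p | p <;> fin_cases p <;> simp [ix, sd, E_apply, xx_coe]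
    have h4 := hc i (xx F) ((-1 : F) • E (Sum.inl i))
    rw [h3, neg_neg, one_smul, hg.2.1, hcl, smul_smul, h3, map_neg, map_one] at h4
    rw [h4]
    congr 1
    ring
  have hφ : ∀ t : F, φ t = t := by
    intro t
    by_cases ht : t = 0
    · rw [ht, map_zero]
    have h3 : ∀ b : F, rho 2 F (e 0 (dd ht)) (b • E (Sum.inl 0)) = (t * b) • E (Sum.inl 0) := by
      intro b
      funext p
      rw [rho_e]
      rcases p with p | p <;> fin_cases p <;> simp [ix, sd, E_apply, dd]
    have h4 := hc 0 (dd ht) ((1 : F) • E (Sum.inl 0))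
    rw [h3, mul_one, one_smul, hg.2.1, hcl, smul_smul, h3] at h4
    have h5 := congrFun h4 (Sum.inl 0)
    rw [Pi.smul_apply, Pi.smul_apply, E_apply, if_pos rfl, smul_eq_mul, smul_eq_mul, mul_one, mul_one] at h5
    exact mul_right_cancel₀ (hc0 0) h5
  have hu : ∀ u p, g u p = c (ix p) * u p := by
    intro u p
    have h3 : g u = (c 0 * u (Sum.inl 0)) • E (Sum.inl 0) + (c 1 * u (Sum.inl 1)) • E (Sum.inl 1) +
        ((c 0 * u (Sum.inr 0)) • E (Sum.inr 0) + (c 1 * u (Sum.inr 1)) • E (Sum.inr 1)) := by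
      conv_lhs => rw [sum_E u]
      rw [hg.1, hg.1, hg.1, hg.2.1, hg.2.1, hg.2.1, hg.2.1, hcl, hcl, hcr, hcr, hφ, hφ, hφ, hφ, smul_smul, smul_smul,
        smul_smul, smul_smul]
      congr 1
      · congr 1 <;> congr 1 <;> ring
      · congr 1 <;> congr 1 <;> ring
    rw [h3]
    simp only [Pi.add_apply, Pi.smul_apply, E_apply, smul_eq_mul]
    rcases p with p | p <;> fin_cases p <;> simp [ix]
  refine ⟨c, fun i => ⟨hc0 i, ?_⟩, hu⟩
  have h3 : sympForm 2 F (E (Sum.inl i)) (E (Sum.inr i)) = -1 := by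
    rw [sympForm_eq_sum]
    fin_cases i <;> simp [E_apply]
  have h4 := hg.2.2 (E (Sum.inl i)) (E (Sum.inr i))
  rw [hcl, hcr, sympForm_smul_left, sympForm_smul_right, h3, map_neg, map_one] at h4
  linear_combination -h4

/-- An automorphism which is trivial on the blocks modulo the centre is trivial on the blocks. -/
theorem conj_eq (h4 : 4 ≤ Nat.card F) (θ : MulAut Sp) (i : Fin 2)
    (h : ∀ a : SL, π F (θ (e i a)) = π F (e i a)) (a : SL) : θ (e i a) = e i a := by
  have h1 : ∀ a : SL, ∃ u : Sp, (∀ x, x * u = u * x) ∧ θ (e i a) = u * e i a := by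
    intro a
    refine ⟨θ (e i a) * (e i a)⁻¹, ?_, by group⟩
    apply mem_center_iff.1
    rw [← π_eq_one, map_mul, h, map_inv, mul_inv_cancel]
  have h3 : (θ.toMonoidHom.comp (e i)).eqLocus (e i) = ⊤ := by
    rw [eq_top_iff]
    have h5 := (qs h4).1.commutator_eq_top
    rw [_root_.commutator_def] at h5
    rw [← h5, commutator_le]
    intro a _ b _
    show θ (e i ⁅a, b⁆) = e i ⁅a, b⁆
    obtain ⟨u, hu, hu'⟩ := h1 a
    obtain ⟨v, hv, hv'⟩ := h1 b
    rw [commutatorElement_def, map_mul, map_mul, map_mul, map_inv, map_inv, map_mul, map_mul, map_mul, map_inv, map_inv,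
      hu', hv']
    have hui : ∀ x, x * u⁻¹ = u⁻¹ * x := fun x => by
      rw [mul_inv_eq_iff_eq_mul, mul_assoc, hu, inv_mul_cancel_left]
    have hvi : ∀ x, x * v⁻¹ = v⁻¹ * x := fun x => by
      rw [mul_inv_eq_iff_eq_mul, mul_assoc, hv, inv_mul_cancel_left]
    set A : Sp := e i a
    set B : Sp := e i b
    calc u * A * (v * B) * (u * A)⁻¹ * (v * B)⁻¹ = u * (A * v) * B * (A⁻¹ * u⁻¹) * (B⁻¹ * v⁻¹) := by group
      _ = u * (v * A) * B * (u⁻¹ * A⁻¹) * (v⁻¹ * B⁻¹) := by rw [hv, hui, hvi]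
      _ = u * v * ((A * B) * u⁻¹) * (A⁻¹ * v⁻¹) * B⁻¹ := by group
      _ = u * v * (u⁻¹ * (A * B)) * (v⁻¹ * A⁻¹) * B⁻¹ := by rw [hui, hvi]
      _ = (u * v) * u⁻¹ * ((A * B) * v⁻¹) * A⁻¹ * B⁻¹ := by group
      _ = (u * v) * u⁻¹ * (v⁻¹ * (A * B)) * A⁻¹ * B⁻¹ := by rw [hvi]
      _ = (v * u) * u⁻¹ * (v⁻¹ * (A * B)) * A⁻¹ * B⁻¹ := by rw [hv]
      _ = A * B * A⁻¹ * B⁻¹ := by group
  have h6 : a ∈ (θ.toMonoidHom.comp (e i)).eqLocus (e i) := h3 ▸ mem_top a
  exact h6

/-- **Automorphisms centralising `D`.** -/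
theorem aut [Finite F] (h2 : (2 : F) ≠ 0) (h4 : 4 ≤ Nat.card F) (α : MulAut (PSp 2 F))
    (hα : ∀ x ∈ D F, α x = x) : α = 1 ∨ α = MulAut.conj (z₀ F) := by
  obtain ⟨g, rfl⟩ := Cfsg.Agent.ClassicalGeometry.SympAutExists.exists_semi le_rfl α
    (Cfsg.Agent.ClassicalGeometry.SympAutRecog.recog_odd le_rfl h2 α)
  have h1 : ∀ i a, conjHom 2 F g (e i a) = e i a := by
    intro i a
    exact conj_eq h4 (conjHom 2 F g) i (fun b => hα _ (e_mem_D i b)) a
  obtain ⟨φ, l, hl, hs⟩ := g.2
  obtain ⟨c, hc, hu⟩ := semi h2 hs (by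
    intro i a u
    have h3 := rho_conjHom g (e i a)
    rw [h1, eq_mul_inv_iff_mul_eq] at h3
    exact (DFunLike.congr_fun h3 u).symm)
  have h5 : c 0 = c 1 ∨ c 0 = - c 1 := by
    rw [← sq_eq_sq_iff_eq_or_eq_neg, pow_two, pow_two, (hc 0).2, (hc 1).2]
  rcases h5 with h5 | h5
  · left
    have h6 : ∀ i, c i = c 1 := by
      intro i
      fin_cases i
      · exact h5
      · rfl
    have h7 : g.1 = scal 2 F (Units.mk0 (c 1) (hc 1).1) := by
      ext1 u
      funext p
      rw [hu, scal_apply, h6]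
      rfl
    obtain ⟨g, hgm⟩ := g
    change g = _ at h7
    subst h7
    exact Psi_scal _ _
  · right
    have h6 : ∀ u, g.1 u = c 1 • rho 2 F (e 0 (negOne F)) u := by
      intro u
      funext p
      rw [hu, rho_apply, e_negOne, Pi.smul_apply, mulVec_diagonal, smul_eq_mul]
      by_cases hp : ix p = 0
      · rw [if_pos hp, hp, h5]
        ring
      · have hp' : ix p = 1 := by
          have h4 : ∀ i : Fin 2, i ≠ 0 → i = 1 := by decide
          exact h4 _ hp
        rw [if_neg hp, hp', one_mul]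
    ext x
    induction x using QuotientGroup.induction_on with
    | H A =>
      rw [Psi_mk, MulAut.conj_apply]
      show π F (conjHom 2 F g A) = π F (e 0 (negOne F)) * π F A * (π F (e 0 (negOne F)))⁻¹
      rw [← map_mul, ← map_inv, ← map_mul]
      congr 1
      apply rho_injective
      rw [rho_conjHom, mul_inv_eq_iff_eq_mul]
      ext1 u
      rw [Equiv.Perm.mul_apply, Equiv.Perm.mul_apply, h6, h6, (isSemi_rho _).2.1, RingEquiv.refl_apply,
        ← Equiv.Perm.mul_apply, ← Equiv.Perm.mul_apply, ← map_mul, ← map_mul]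
      congr 3
      group

end Cfsg.Agent.Omega.ML.PspFourAut
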