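import Cfsg.Agent.OddHalf.NI.FrameSp
import Cfsg.Agent.ClassicalGeometry.SympAutRecog
import Cfsg.Agent.ClassicalGeometry.SympAutExists
import Cfsg.Agent.ClassicalGeometry.SympGamma
import Cfsg.Agent.SignalizersComponents.SLQuasisimple
import Cfsg.Agent.SignalizersComponents.Components

/-!
# `PSp₄(q)`, `q > 3` odd: the centralizer of the involution `z₀ = ±(-1, 1)`

`D` is the image of `SL₂(q) × SL₂(q)`.

* `eq_of_comm` : a nontrivial element which commutes with (the image of) `Q₈ × Q₈` is `z₀`;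
* `exists_conj` : a nontrivial element whose centralizer has odd index is conjugate to `z₀`;
* `le_of_normal` : a 2-subgroup of `C(z₀)` normalized by `D` is contained in `{1, z₀}`;
* `aut` : an automorphism centralizing `D` is `1` or conjugation by `z₀`.
-/

set_option autoImplicit false
set_option linter.unusedSectionVars false

namespace Cfsg.Agent.Omega.ML.PspFourK

open Matrix Subgroup Cfsg
open Cfsg.Agent.OddHalf.NI.Blocks (negOne coe_negOne negOne_mul negOne_ne_one two_ne_zero_of_odd)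
open Cfsg.Agent.OddHalf.NI.FrameSp
open Cfsg.Agent.ClassicalGeometry.SympBasic
open Cfsg.Agent.ClassicalGeometry.SympAutSemi
open Cfsg.Agent.ClassicalGeometry.SympAutExists
open Cfsg.Agent.ClassicalGeometry.SympGamma

variable {F : Type} [Field F]

local notation "SL" => Matrix.SpecialLinearGroup (Fin 2) F
local notation "Sp" => Matrix.symplecticGroup (Fin 2) F

/-- the projection -/
def π (F : Type) [Field F] : Matrix.symplecticGroup (Fin 2) F →* PSp 2 F := QuotientGroup.mk' _

theorem π_surj : Function.Surjective (π F) := QuotientGroup.mk'_surjective _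

theorem π_eq_one {x : Sp} : π F x = 1 ↔ x ∈ center Sp := QuotientGroup.eq_one_iff x

theorem π_neg : π F (neg 2 F) = 1 := by
  rw [π_eq_one, LieClassical.SympCenter.mem_center_iff]
  exact ⟨-1, by rw [neg_coe]; simp⟩

theorem neg_comm (x : Sp) : x * neg 2 F = neg 2 F * x := mem_center_iff.1 (π_eq_one.1 π_neg) x

theorem neg_mul_neg : neg 2 F * neg 2 F = 1 := by
  apply Subtype.ext
  rw [Submonoid.coe_mul, neg_coe]
  simp

/-- the involution `z₀` -/
def z₀ (F : Type) [Field F] : PSp 2 F := π F (e 0 (negOne F))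

theorem bd_eq (A : Fin 2 → SL) : bd 2 F A = e 0 (A 0) * e 1 (A 1) := by
  rw [e_apply, e_apply, ← map_mul]
  congr 1
  funext k
  fin_cases k <;> simp

theorem e_inj {i : Fin 2} {a b : SL} (h : e i a = (e i b : Sp)) : a = b := by
  apply Subtype.ext
  ext x y
  obtain ⟨p, hp, rfl⟩ : ∃ p : Fin 2 ⊕ Fin 2, ix p = i ∧ sd p = x := by
    fin_cases x
    · exact ⟨Sum.inl i, rfl, rfl⟩
    · exact ⟨Sum.inr i, rfl, rfl⟩
  obtain ⟨q, hq, rfl⟩ : ∃ q : Fin 2 ⊕ Fin 2, ix q = i ∧ sd q = y := by
    fin_cases y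
    · exact ⟨Sum.inl i, rfl, rfl⟩
    · exact ⟨Sum.inr i, rfl, rfl⟩
  have h1 := congrArg (fun A : Sp => (A : Matrix (Fin 2 ⊕ Fin 2) (Fin 2 ⊕ Fin 2) F) p q) h
  simpa only [e_coe, hp, hq, if_true] using h1

/-- Elements commuting with `(-1, 1)` are block diagonal. -/
theorem mem_bd (h2 : (2 : F) ≠ 0) {g : Sp} (hg : g * e 0 (negOne F) = e 0 (negOne F) * g) :
    ∃ A : Fin 2 → SL, g = bd 2 F A := by
  set G : Matrix (Fin 2 ⊕ Fin 2) (Fin 2 ⊕ Fin 2) F := ↑g with hG
  have hg' : G * (diagonal fun p => if ix p = 0 then -1 else 1) =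
      (diagonal fun p => if ix p = 0 then -1 else 1) * G := by
    have := congrArg (fun A : Sp => (A : Matrix (Fin 2 ⊕ Fin 2) (Fin 2 ⊕ Fin 2) F)) hg
    simpa only [Submonoid.coe_mul, e_negOne] using this
  have hz : ∀ p q, ix p ≠ ix q → G p q = 0 := by
    intro p q hpq
    have h1 := congrFun (congrFun hg' p) q
    rw [mul_diagonal, diagonal_mul] at h1
    by_cases hp : ix p = 0
    · have hq : ix q ≠ 0 := fun h => hpq (hp.trans h.symm)
      rw [if_pos hp, if_neg hq] at h1
      have h3 : 2 * G p q = 0 := by linear_combination h1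
      exact (mul_eq_zero.mp h3).resolve_left h2
    · have hq : ix q = 0 := by
        by_contra hq
        apply hpq
        have h4 : ∀ i : Fin 2, i ≠ 0 → i = 1 := by decide
        rw [h4 _ hp, h4 _ hq]
      rw [if_neg hp, if_pos hq] at h1
      have h3 : 2 * G p q = 0 := by linear_combination (-1 : F) * h1
      exact (mul_eq_zero.mp h3).resolve_left h2
  let mk : Fin 2 → Fin 2 → Fin 2 ⊕ Fin 2 := fun k x => if x = 0 then Sum.inl k else Sum.inr k
  have hmk : ∀ p, mk (ix p) (sd p) = p := by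
    intro p
    rcases p with p | p <;> simp [mk, ix, sd]
  let b : Fin 2 → Matrix (Fin 2) (Fin 2) F := fun k x y => G (mk k x) (mk k y)
  have hGb : G = mat b := by
    ext p q
    rw [mat_apply]
    by_cases hpq : ix p = ix q
    · rw [if_pos hpq]
      show G p q = G (mk (ix p) (sd p)) (mk (ix p) (sd q))
      rw [hmk, hpq, hmk]
    · rw [if_neg hpq, hz p q hpq]
  have hb : ∀ k, (b k).det = 1 := by
    intro k
    have h1 := g.2
    rw [← hG, hGb] at h1
    exact det_of_mem h1 k
  refine ⟨fun k => ⟨b k, hb k⟩, Subtype.ext ?_⟩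
  rw [← hG, hGb]
  rfl

/-- The commutator with a block. -/
theorem comm_bd (A : Fin 2 → SL) (i : Fin 2) (a : SL) :
    bd 2 F A * e i a * (bd 2 F A)⁻¹ * (e i a)⁻¹ = e i (A i * a * (A i)⁻¹ * a⁻¹) := by
  rw [e_apply, e_apply, ← map_mul, ← map_inv, ← map_inv, ← map_mul, ← map_mul]
  congr 1
  funext k
  by_cases hk : k = i
  · subst hk
    simp
  · simp [hk]

theorem one (h2 : (2 : F) ≠ 0) (i : Fin 2) {a : SL} (h : e i a ∈ center Sp) : a = 1 :=
  (blocks h2 le_rfl).one i a h

/-- commuting modulo the centre -/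
theorem comm_of_π (h2 : (2 : F) ≠ 0) {A : Fin 2 → SL} {i : Fin 2} {a : SL}
    (h : π F (bd 2 F A) * π F (e i a) = π F (e i a) * π F (bd 2 F A)) : A i * a = a * A i := by
  have h1 : bd 2 F A * e i a * (bd 2 F A)⁻¹ * (e i a)⁻¹ ∈ center Sp := by
    rw [← π_eq_one, map_mul, map_mul, map_mul, map_inv, map_inv, h]
    group
  rw [comm_bd] at h1
  have h3 := one h2 i h1
  calc A i * a = (A i * a * (A i)⁻¹ * a⁻¹) * (a * A i) := by group
    _ = a * A i := by rw [h3, one_mul]

/-- elements commuting modulo the centre with an element of order 4 of a block -/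
theorem lift_comm {h : Sp} {x : SL} (hx : x * x = negOne F)
    (hc : π F h * π F (e 0 x) = π F (e 0 x) * π F h) : h * e 0 (negOne F) = e 0 (negOne F) * h := by
  have h1 : h * e 0 x * h⁻¹ * (e 0 x)⁻¹ ∈ center Sp := by
    rw [← π_eq_one, map_mul, map_mul, map_mul, map_inv, map_inv, hc]
    group
  have h3 : h * e 0 x * h⁻¹ = e 0 x ∨ h * e 0 x * h⁻¹ = neg 2 F * e 0 x := by
    rcases center_cases (by norm_num) h1 with h4 | h4
    · left
      calc h * e 0 x * h⁻¹ = (h * e 0 x * h⁻¹ * (e 0 x)⁻¹) * e 0 x := by group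
        _ = e 0 x := by rw [h4, one_mul]
    · right
      calc h * e 0 x * h⁻¹ = (h * e 0 x * h⁻¹ * (e 0 x)⁻¹) * e 0 x := by group
        _ = _ := by rw [h4]
  have h5 : h * e 0 (negOne F) * h⁻¹ = e 0 (negOne F) := by
    rw [← hx, map_mul]
    have h6 : h * (e 0 x * e 0 x) * h⁻¹ = (h * e 0 x * h⁻¹) * (h * e 0 x * h⁻¹) := by group
    rw [h6]
    rcases h3 with h4 | h4
    · rw [h4]
    · rw [h4]
      calc neg 2 F * e 0 x * (neg 2 F * e 0 x) = neg 2 F * (e 0 x * neg 2 F) * e 0 x := by group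
        _ = neg 2 F * (neg 2 F * e 0 x) * e 0 x := by rw [neg_comm]
        _ = (neg 2 F * neg 2 F) * (e 0 x * e 0 x) := by group
        _ = _ := by rw [neg_mul_neg, one_mul]
  calc h * e 0 (negOne F) = (h * e 0 (negOne F) * h⁻¹) * h := by group
    _ = _ := by rw [h5]

/-- the elements of order 4 -/
def xx (F : Type) [Field F] : Matrix.SpecialLinearGroup (Fin 2) F := ⟨!![0, 1; -1, 0], by simp [det_fin_two]⟩

def yy {a b : F} (h : a * a + b * b = -1) : Matrix.SpecialLinearGroup (Fin 2) F :=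
  ⟨!![a, b; b, -a], by rw [det_fin_two_of]; linear_combination -h⟩

theorem xx_coe : (xx F : Matrix (Fin 2) (Fin 2) F) = !![0, 1; -1, 0] := rfl

theorem yy_coe {a b : F} (h : a * a + b * b = -1) : (yy h : Matrix (Fin 2) (Fin 2) F) = !![a, b; b, -a] := rfl

theorem xx_sq : xx F * xx F = negOne F := by
  apply Subtype.ext
  show (xx F : Matrix (Fin 2) (Fin 2) F) * (xx F : Matrix (Fin 2) (Fin 2) F) = -1
  rw [xx_coe]
  ext i j
  fin_cases i <;> fin_cases j <;> simp

theorem yy_sq {a b : F} (h : a * a + b * b = -1) : yy h * yy h = negOne F := by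
  apply Subtype.ext
  show (yy h : Matrix (Fin 2) (Fin 2) F) * (yy h : Matrix (Fin 2) (Fin 2) F) = -1
  rw [yy_coe]
  ext i j
  fin_cases i <;> fin_cases j <;> simp <;> first | linear_combination h | ring

theorem xx_yy {a b : F} (h : a * a + b * b = -1) : xx F * yy h = (yy h) * (xx F)⁻¹ := by
  have h1 : (xx F)⁻¹ = negOne F * xx F := by
    rw [inv_eq_iff_mul_eq_one, ← mul_assoc, ]
    have h2 : xx F * negOne F = negOne F * xx F := by
      apply Subtype.ext
      simp
    rw [h2, mul_assoc, xx_sq, negOne_mul]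
  rw [h1]
  apply Subtype.ext
  show (xx F : Matrix (Fin 2) (Fin 2) F) * (yy h : Matrix (Fin 2) (Fin 2) F) =
    (yy h : Matrix (Fin 2) (Fin 2) F) * (-1 * (xx F : Matrix (Fin 2) (Fin 2) F))
  rw [xx_coe, yy_coe]
  ext i j
  fin_cases i <;> fin_cases j <;> simp

/-- The centralizer of `Q₈` in `SL₂`. -/
theorem cases_of_comm (h2 : (2 : F) ≠ 0) {a b : F} (h : a * a + b * b = -1) {A : SL} (h1 : A * xx F = xx F * A)
    (h3 : A * yy h = yy h * A) : A = 1 ∨ A = negOne F := by
  have e1 : (A : Matrix (Fin 2) (Fin 2) F) * !![0, 1; -1, 0] = !![0, 1; -1, 0] * (A : Matrix (Fin 2) (Fin 2) F) :=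
    congrArg Subtype.val h1
  have e3 : (A : Matrix (Fin 2) (Fin 2) F) * !![a, b; b, -a] = !![a, b; b, -a] * (A : Matrix (Fin 2) (Fin 2) F) :=
    congrArg Subtype.val h3
  have d := A.det_coe
  rw [det_fin_two] at d
  have e100 := congrFun (congrFun e1 0) 0
  have e101 := congrFun (congrFun e1 0) 1
  have e300 := congrFun (congrFun e3 0) 0
  have e301 := congrFun (congrFun e3 0) 1
  simp [Matrix.mul_apply, Fin.sum_univ_two] at e100 e101
  simp [Matrix.mul_apply, Fin.sum_univ_two] at e300 e301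
  set p := (A : Matrix (Fin 2) (Fin 2) F) 0 0
  set q := (A : Matrix (Fin 2) (Fin 2) F) 0 1
  set r := (A : Matrix (Fin 2) (Fin 2) F) 1 0
  set s := (A : Matrix (Fin 2) (Fin 2) F) 1 1
  have hq : q = 0 := by
    have hb : 2 * (q * b) = 0 := by linear_combination e300 - b * e100
    have ha : 2 * (q * a) = 0 := by linear_combination -e301 + b * e101
    have hb' := (mul_eq_zero.1 hb).resolve_left h2
    have ha' := (mul_eq_zero.1 ha).resolve_left h2
    linear_combination q * h - a * ha' - b * hb'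
  have hr : r = 0 := by linear_combination -e100 - hq
  have hs : s = p := by linear_combination -e101
  rw [hq, hs, zero_mul, sub_zero] at d
  rcases mul_self_eq_one_iff.1 d with hp | hp
  · left
    apply Subtype.ext
    ext i j
    fin_cases i <;> fin_cases j
    · exact hp
    · exact hq
    · exact hr
    · exact hs.trans hp
  · right
    apply Subtype.ext
    ext i j
    fin_cases i <;> fin_cases j
    · simpa using hp
    · simpa using hq
    · simpa using hr
    · simpa using hs.trans hp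

/-- **The centralizer of `Q₈ × Q₈`.** -/
theorem eq_of_comm (h2 : (2 : F) ≠ 0) {a b : F} (h : a * a + b * b = -1) {z : PSp 2 F} (hz : z ≠ 1)
    (hx : ∀ i, z * π F (e i (xx F)) = π F (e i (xx F)) * z) (hy : ∀ i, z * π F (e i (yy h)) = π F (e i (yy h)) * z) :
    z = z₀ F := by
  obtain ⟨g, rfl⟩ := π_surj z
  obtain ⟨A, rfl⟩ := mem_bd h2 (lift_comm xx_sq (hx 0))
  have h3 : ∀ i, A i = 1 ∨ A i = negOne F := fun i =>
    cases_of_comm h2 h (comm_of_π h2 (hx i)) (comm_of_π h2 (hy i))
  rcases h3 0 with h4 | h4 <;> rcases h3 1 with h5 | h5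
  · exact absurd (by rw [bd_eq, h4, h5, map_one, map_one, one_mul, map_one]) hz
  · have h6 : bd 2 F A = neg 2 F * e 0 (negOne F) := by
      rw [OddHalf.NI.FrameSp.neg, bd_eq, bd_eq, h4, h5, map_one, one_mul]
      have h7 : e 0 (negOne F) * e 1 (negOne F) = e 1 (negOne F) * (e 0 (negOne F) : Sp) :=
        (blocks h2 le_rfl).comm 0 1 (by decide) _ _
      calc e 1 (negOne F) = e 1 (negOne F) * (e 0 (negOne F * negOne F) : Sp) := by
            rw [negOne_mul, map_one, mul_one]
        _ = (e 1 (negOne F) * e 0 (negOne F)) * e 0 (negOne F) := by rw [map_mul, mul_assoc]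
        _ = _ := by rw [← h7]
    rw [h6, map_mul, π_neg, one_mul]
    rfl
  · rw [bd_eq, h4, h5, map_one, mul_one]
    rfl
  · refine absurd ?_ hz
    have h6 : bd 2 F A = neg 2 F := by
      rw [OddHalf.NI.FrameSp.neg, bd_eq, bd_eq, h4, h5]
    rw [h6, π_neg]

end Cfsg.Agent.Omega.ML.PspFourK
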