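import Cfsg.Agent.Omega.ML.PspFourK
import Cfsg.Agent.Involutions.NormalFour
import Cfsg.Agent.OddHalf.Clean
import Cfsg.Agent.SignalizersComponents.EvenComponent
import Cfsg.Agent.Lib.ComponentSolvable

/-!
# `PSp₄(q)`, `q > 3` odd: the sheet of `z₀` (helper297)

`D` is the image of `SL₂(q) × SL₂(q)`, `z₀` the image of `(-1, 1)`.

* `exists_syl` : `⟨z₀⟩` is the centre of a Sylow 2-subgroup;
* `D_cen`, `D_perf`, `D_der` : `D = C(z₀)'` is perfect;
* `central` : solvable normal subgroups of `D` are central.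
-/

set_option autoImplicit false
set_option linter.unusedSectionVars false

namespace Cfsg.Agent.Omega.ML.PspFourL

open Matrix Subgroup Cfsg
open Cfsg.Agent.OddHalf.NI.Blocks (negOne coe_negOne negOne_mul negOne_ne_one two_ne_zero_of_odd)
open Cfsg.Agent.OddHalf.NI.FrameSp hiding neg
open Cfsg.Agent.Omega.ML.PspFourK

variable {F : Type} [Field F]

local notation "SL" => Matrix.SpecialLinearGroup (Fin 2) F
local notation "Sp" => Matrix.symplecticGroup (Fin 2) F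

/-! ### the Sylow 2-subgroup -/

theorem isPGroup_zpowers {G : Type*} [Group G] {x : G} (h : x ^ 4 = 1) : IsPGroup 2 (zpowers x) := by
  rintro ⟨_, k, rfl⟩
  refine ⟨2, Subtype.ext ?_⟩
  show (x ^ k) ^ (2 ^ 2) = 1
  have h1 : (x ^ k) ^ (2 ^ 2) = (x ^ 4) ^ k := by
    rw [← zpow_natCast, ← zpow_natCast, ← _root_.zpow_mul, ← _root_.zpow_mul]
    congr 1
    push_cast
    ring
  rw [h1, h, _root_.one_zpow]

/-- `Q₈` -/
def Q8 {a b : F} (h : a * a + b * b = -1) : Subgroup (Matrix.SpecialLinearGroup (Fin 2) F) :=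
  zpowers (xx F) ⊔ zpowers (yy h)

theorem pow_four {x : SL} (h : x * x = negOne F) : x ^ 4 = 1 := by
  have h1 : x ^ 4 = (x * x) * (x * x) := by rw [← pow_two, ← pow_two, ← pow_mul]
  rw [h1, h, negOne_mul]

theorem isPGroup_Q8 {a b : F} (h : a * a + b * b = -1) : IsPGroup 2 (Q8 h) := by
  have h1 : yy h * xx F * (yy h)⁻¹ = (xx F)⁻¹ := by
    have h2 := xx_yy h
    have h3 : (yy h)⁻¹ * xx F * yy h = (xx F)⁻¹ := by
      rw [mul_assoc, h2]
      group
    have h4 : (xx F) = yy h * (xx F)⁻¹ * (yy h)⁻¹ := by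
      rw [← h3]
      group
    calc yy h * xx F * (yy h)⁻¹ = (yy h * (xx F)⁻¹ * (yy h)⁻¹)⁻¹ := by group
      _ = _ := by rw [← h4]
  rw [Q8, sup_comm]
  refine (isPGroup_zpowers (pow_four (yy_sq h))).to_sup_of_normal_right' (isPGroup_zpowers (pow_four xx_sq)) ?_
  rw [zpowers_le, mem_normalizer_iff]
  have h5 : (zpowers (xx F)).map (MulAut.conj (yy h)).toMonoidHom = zpowers (xx F) := by
    rw [MonoidHom.map_zpowers]
    show zpowers (yy h * xx F * (yy h)⁻¹) = _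
    rw [h1, zpowers_inv]
  intro y
  constructor
  · intro hy
    have h6 := mem_map_of_mem (MulAut.conj (yy h)).toMonoidHom hy
    rw [h5] at h6
    exact h6
  · intro hy
    rw [← h5] at hy
    obtain ⟨w, hw, hwy⟩ := hy
    have h6 : w = y := (MulAut.conj (yy h)).injective hwy
    exact h6 ▸ hw

theorem z₀_ne_one (h2 : (2 : F) ≠ 0) : z₀ F ≠ 1 := by
  intro h
  exact negOne_ne_one h2 (one h2 0 (π_eq_one.1 h))

theorem z₀_mul : z₀ F * z₀ F = 1 := by
  rw [z₀, ← map_mul, ← map_mul, negOne_mul, map_one, map_one]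

theorem z₀_comm_bd (A : Fin 2 → SL) : π F (bd 2 F A) * z₀ F = z₀ F * π F (bd 2 F A) := by
  rw [z₀, ← map_mul, ← map_mul, e_apply, ← map_mul, ← map_mul]
  congr 2
  funext k
  rw [Pi.mul_apply, Pi.mul_apply]
  by_cases hk : k = 0
  · subst hk
    rw [Pi.mulSingle_eq_same]
    apply Subtype.ext
    simp
  · rw [Pi.mulSingle_eq_of_ne hk, mul_one, one_mul]

/-- **`⟨z₀⟩` is the centre of a Sylow 2-subgroup.** -/
theorem exists_syl [Fintype F] (hodd : Odd (Fintype.card F)) :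
    ∃ S₀ : Sylow 2 (PSp 2 F), z₀ F ∈ S₀ ∧ (∀ x ∈ S₀, x * z₀ F = z₀ F * x) ∧
      ∀ y ∈ S₀, (∀ x ∈ S₀, x * y = y * x) → y = 1 ∨ y = z₀ F := by
  have hp : Fact (Nat.Prime 2) := ⟨Nat.prime_two⟩
  have h2 : (2 : F) ≠ 0 := two_ne_zero_of_odd hodd
  have hfin : Finite (PSp 2 F) := inferInstanceAs (Finite (Sp ⧸ center Sp))
  obtain ⟨a, b, h⟩ : ∃ a b : F, a * a + b * b = -1 := by
    obtain ⟨a, b, hab⟩ := FiniteField.exists_root_sum_quadratic (R := F) (f := Polynomial.X ^ 2)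
      (g := Polynomial.X ^ 2 + Polynomial.C 1) (by simp) (by compute_degree!) (Nat.odd_iff.1 hodd)
    exact ⟨a, b, by simp at hab; linear_combination hab⟩
  let D₂ : Subgroup (PSp 2 F) := (Q8 h).map ((π F).comp (e 0)) ⊔ (Q8 h).map ((π F).comp (e 1))
  have hD₂ : IsPGroup 2 D₂ := by
    refine ((isPGroup_Q8 h).map _).to_sup_of_normal_right' ((isPGroup_Q8 h).map _) ?_
    rintro _ ⟨x, hx, rfl⟩
    have hc : ∀ y : SL, π F (e 0 x) * π F (e 1 y) * (π F (e 0 x))⁻¹ = π F (e 1 y) := by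
      intro y
      have h7 : e 0 x * e 1 y = e 1 y * (e 0 x : Sp) := (blocks h2 le_rfl).comm 0 1 (by decide) _ _
      rw [← map_mul, h7, map_mul, mul_inv_cancel_right]
    rw [mem_normalizer_iff]
    intro y
    constructor
    · rintro ⟨w, hw, rfl⟩
      exact ⟨w, hw, (hc w).symm⟩
    · rintro ⟨w, hw, hwy⟩
      refine ⟨w, hw, ?_⟩
      have h8 := hc w
      change π F (e 1 w) = π F (e 0 x) * y * (π F (e 0 x))⁻¹ at hwy
      show π F (e 1 w) = y
      calc π F (e 1 w) = (π F (e 0 x))⁻¹ * (π F (e 0 x) * π F (e 1 w) * (π F (e 0 x))⁻¹) * π F (e 0 x) := by group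
        _ = (π F (e 0 x))⁻¹ * π F (e 1 w) * π F (e 0 x) := by rw [h8]
        _ = _ := by rw [hwy]; group
  have hmem : ∀ (i : Fin 2) (w : SL), w ∈ Q8 h → π F (e i w) ∈ D₂ := by
    intro i w hw
    fin_cases i
    · exact (le_sup_left : _ ≤ D₂) ⟨w, hw, rfl⟩
    · exact (le_sup_right : _ ≤ D₂) ⟨w, hw, rfl⟩
  have hxx : xx F ∈ Q8 h := (le_sup_left : _ ≤ Q8 h) (mem_zpowers _)
  have hyy : yy h ∈ Q8 h := (le_sup_right : _ ≤ Q8 h) (mem_zpowers _)
  obtain ⟨S₀, hS₀⟩ := hD₂.exists_le_sylow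
  have hcen : ∀ y ∈ S₀, (∀ x ∈ S₀, x * y = y * x) → y = 1 ∨ y = z₀ F := by
    intro y _ hy
    by_cases hy1 : y = 1
    · exact Or.inl hy1
    · exact Or.inr (eq_of_comm h2 h hy1 (fun i => (hy _ (hS₀ (hmem i _ hxx))).symm)
        (fun i => (hy _ (hS₀ (hmem i _ hyy))).symm))
  have hz : z₀ F ∈ S₀ := by
    apply hS₀
    have h3 : z₀ F = π F (e 0 (xx F * xx F)) := by rw [xx_sq]; rfl
    rw [h3]
    exact hmem 0 _ (mul_mem hxx hxx)
  have hne : (⊤ : Subgroup S₀) ≠ ⊥ := by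
    intro h3
    have h4 : (⟨z₀ F, hz⟩ : S₀) ∈ (⊥ : Subgroup S₀) := h3 ▸ mem_top _
    exact z₀_ne_one h2 (congrArg Subtype.val (mem_bot.1 h4))
  obtain ⟨y, -, hyc, hyo⟩ := Cfsg.Agent.Involutions.NormalFour.exists_mem_center_of_normal S₀.2 ⊤ hne
  have hy : ∀ x ∈ S₀, x * (y : PSp 2 F) = y * x := fun x hx =>
    congrArg Subtype.val (mem_center_iff.1 hyc ⟨x, hx⟩)
  have hyz : (y : PSp 2 F) = z₀ F := by
    rcases hcen y y.2 hy with h3 | h3
    · exfalso
      have h4 : y = 1 := Subtype.ext h3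
      rw [h4, orderOf_one] at hyo
      omega
    · exact h3
  exact ⟨S₀, hz, hyz ▸ hy, hcen⟩

/-! ### `D` -/

/-- the image of `SL₂ × SL₂` -/
def D (F : Type) [Field F] : Subgroup (PSp 2 F) := ((π F).comp (bd 2 F)).range

theorem e_mem_D (i : Fin 2) (a : SL) : π F (e i a) ∈ D F := ⟨Pi.mulSingle i a, rfl⟩

theorem D_cen : ∀ x ∈ D F, x * z₀ F = z₀ F * x := by
  rintro _ ⟨A, rfl⟩
  exact z₀_comm_bd A

theorem D_le {K : Subgroup (PSp 2 F)} (h : ∀ i a, π F (e i a) ∈ K) : D F ≤ K := by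
  rintro _ ⟨A, rfl⟩
  show π F (bd 2 F A) ∈ K
  rw [bd_eq, map_mul]
  exact mul_mem (h _ _) (h _ _)

theorem qs (h4 : 4 ≤ Nat.card F) : IsQuasisimple SL :=
  Cfsg.Agent.SignalizersComponents.SLQuasisimple.isQuasisimple_two h4

theorem D_perf (h4 : 4 ≤ Nat.card F) : ⁅D F, D F⁆ = D F := by
  apply le_antisymm
  · rw [commutator_le]
    intro x hx y hy
    rw [commutatorElement_def]
    exact mul_mem (mul_mem (mul_mem hx hy) (inv_mem hx)) (inv_mem hy)
  · apply D_le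
    intro i a
    have h1 : a ∈ ⁅(⊤ : Subgroup SL), (⊤ : Subgroup SL)⁆ := by
      have h5 := (qs h4).1.commutator_eq_top
      rw [_root_.commutator_def] at h5
      rw [h5]
      exact mem_top a
    have h3 : ((⊤ : Subgroup SL).map ((π F).comp (e i))) ≤ D F := by
      rintro _ ⟨b, -, rfl⟩
      exact e_mem_D i b
    have h6 : π F (e i a) ∈ ⁅(⊤ : Subgroup SL), (⊤ : Subgroup SL)⁆.map ((π F).comp (e i)) := ⟨a, h1, rfl⟩
    rw [map_commutator] at h6
    exact commutator_mono h3 h3 h6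

/-- Elements of `C(z₀)` act on `(-1, 1)` with a sign. -/
theorem sign {g : Sp} (h : π F g * z₀ F = z₀ F * π F g) :
    g * e 0 (negOne F) * g⁻¹ = e 0 (negOne F) ∨
      g * e 0 (negOne F) * g⁻¹ = Cfsg.Agent.OddHalf.NI.FrameSp.neg 2 F * e 0 (negOne F) := by
  have h1 : g * e 0 (negOne F) * g⁻¹ * (e 0 (negOne F))⁻¹ ∈ center Sp := by
    rw [← π_eq_one, map_mul, map_mul, map_mul, map_inv, map_inv]
    change π F g * z₀ F * (π F g)⁻¹ * (z₀ F)⁻¹ = 1
    rw [h]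
    group
  rcases center_cases (by norm_num) h1 with h4 | h4
  · left
    calc g * e 0 (negOne F) * g⁻¹ = (g * e 0 (negOne F) * g⁻¹ * (e 0 (negOne F))⁻¹) * e 0 (negOne F) := by group
      _ = _ := by rw [h4, one_mul]
  · right
    calc g * e 0 (negOne F) * g⁻¹ = (g * e 0 (negOne F) * g⁻¹ * (e 0 (negOne F))⁻¹) * e 0 (negOne F) := by group
      _ = _ := by rw [h4]

theorem comm_of_sign {G : Type*} [Group G] {a b s u v : G} (hu : ∀ x, x * u = u * x) (hv : ∀ x, x * v = v * x)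
    (ha : a * s * a⁻¹ = u * s) (hb : b * s * b⁻¹ = v * s) :
    (a * b * a⁻¹ * b⁻¹) * s = s * (a * b * a⁻¹ * b⁻¹) := by
  have key : ∀ {a u : G}, (∀ x, x * u = u * x) → a * s * a⁻¹ = u * s → a⁻¹ * s * a = u⁻¹ * s := by
    intro a u hu ha
    have h1 : s = u⁻¹ * (a * s * a⁻¹) := by rw [ha]; group
    have h2 : a⁻¹ * u⁻¹ = u⁻¹ * a⁻¹ := by
      rw [← _root_.mul_inv_rev, ← _root_.mul_inv_rev, hu]
    calc a⁻¹ * s * a = a⁻¹ * (u⁻¹ * (a * s * a⁻¹)) * a := by rw [← h1]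
      _ = (a⁻¹ * u⁻¹) * a * s := by group
      _ = u⁻¹ * s := by rw [h2]; group
  have ha' := key hu ha
  have hb' := key hv hb
  have hu' : ∀ x, x * u⁻¹ = u⁻¹ * x := fun x => by
    rw [mul_inv_eq_iff_eq_mul, mul_assoc, hu, inv_mul_cancel_left]
  have hv' : ∀ x, x * v⁻¹ = v⁻¹ * x := fun x => by
    rw [mul_inv_eq_iff_eq_mul, mul_assoc, hv, inv_mul_cancel_left]
  have h1 : (a * b * a⁻¹ * b⁻¹) * s * (a * b * a⁻¹ * b⁻¹)⁻¹ = s := by
    calc (a * b * a⁻¹ * b⁻¹) * s * (a * b * a⁻¹ * b⁻¹)⁻¹ = (a * b * a⁻¹) * (b⁻¹ * s * b) * (a * b⁻¹ * a⁻¹) := by group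
      _ = ((a * b * a⁻¹) * v⁻¹) * s * (a * b⁻¹ * a⁻¹) := by rw [hb']; group
      _ = v⁻¹ * (a * b) * (a⁻¹ * s * a) * (b⁻¹ * a⁻¹) := by rw [hv']; group
      _ = v⁻¹ * ((a * b) * u⁻¹) * s * (b⁻¹ * a⁻¹) := by rw [ha']; group
      _ = v⁻¹ * u⁻¹ * a * (b * s * b⁻¹) * a⁻¹ := by rw [hu']; group
      _ = v⁻¹ * u⁻¹ * (a * v) * s * a⁻¹ := by rw [hb]; group
      _ = v⁻¹ * (u⁻¹ * v) * (a * s * a⁻¹) := by rw [hv]; group
      _ = s := by rw [ha, hv]; group
  rw [mul_inv_eq_iff_eq_mul] at h1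
  exact h1

/-- `C(z₀)' ≤ D`. -/
theorem D_der (h2 : (2 : F) ≠ 0) :
    ⁅centralizer ({z₀ F} : Set (PSp 2 F)), centralizer ({z₀ F} : Set (PSp 2 F))⁆ ≤ D F := by
  rw [commutator_le]
  intro x hx y hy
  rw [mem_centralizer_singleton_iff] at hx hy
  obtain ⟨g, rfl⟩ := π_surj x
  obtain ⟨h, rfl⟩ := π_surj y
  have hc : ∀ {g : Sp}, π F g * z₀ F = z₀ F * π F g →
      ∃ u : Sp, (∀ x, x * u = u * x) ∧ g * e 0 (negOne F) * g⁻¹ = u * e 0 (negOne F) := by
    intro g hg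
    rcases sign hg with h1 | h1
    · exact ⟨1, fun x => by rw [mul_one, one_mul], by rw [h1, one_mul]⟩
    · exact ⟨_, neg_comm, h1⟩
  obtain ⟨u, hu, hu'⟩ := hc hx
  obtain ⟨v, hv, hv'⟩ := hc hy
  obtain ⟨A, hA⟩ := mem_bd h2 (comm_of_sign hu hv hu' hv')
  refine ⟨A, ?_⟩
  show π F (bd 2 F A) = _
  rw [← hA, commutatorElement_def, map_mul, map_mul, map_mul, map_inv, map_inv]

/-- **Solvable normal subgroups of `D` are central.** -/
theorem central (h2 : (2 : F) ≠ 0) (h4 : 4 ≤ Nat.card F) {N : Subgroup (PSp 2 F)} (hN : N ≤ D F)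
    (hs : Group.IsSolvable N) (hn : ∀ x ∈ D F, ∀ y ∈ N, x * y * x⁻¹ ∈ N) :
    ∀ x ∈ D F, ∀ y ∈ N, x * y = y * x := by
  have hinj : ∀ i : Fin 2, Function.Injective ((π F).comp (e i)) := by
    intro i
    rw [injective_iff_map_eq_one]
    intro a ha
    exact one h2 i (π_eq_one.1 ha)
  have hc : ∀ (i : Fin 2) (a : SL), π F (e i a) ∈ N → a ∈ center SL := by
    intro i a ha
    have hn' : (N.comap ((π F).comp (e i))).Normal := by
      refine ⟨fun b hb g => ?_⟩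
      show π F (e i (g * b * g⁻¹)) ∈ N
      rw [map_mul, map_mul, map_inv, map_mul, map_mul, map_inv]
      exact hn _ (e_mem_D i g) _ hb
    have hs' : Group.IsSolvable (N.comap ((π F).comp (e i))) :=
      Group.isSolvable_of_isSolvable_injective (f := ((π F).comp (e i)).subgroupComap N) fun a b hab =>
        Subtype.ext (hinj i (congrArg Subtype.val hab))
    exact Cfsg.Agent.Lib.ComponentSolvable.quasisimple_solvable_normal_le_center (qs h4) hn' hs' ha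
  intro x hx y hy
  obtain ⟨A, rfl⟩ := hN hy
  change π F (bd 2 F A) ∈ N at hy
  show x * π F (bd 2 F A) = π F (bd 2 F A) * x
  have hA : ∀ i, A i ∈ center SL := by
    intro i
    apply Cfsg.Agent.SignalizersComponents.EvenComponent.mem_center_of_map_mem_center
      (QuotientGroup.mk' (center SL)) (qs h4).1 (by rw [QuotientGroup.ker_mk'])
    intro a
    show ((A i * a : SL) : SL ⧸ center SL) = ((a * A i : SL) : SL ⧸ center SL)
    rw [QuotientGroup.eq]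
    have h3 : e i (A i * a * (A i)⁻¹ * a⁻¹) = (bd 2 F A * e i a * (bd 2 F A)⁻¹ * (e i a)⁻¹ : Sp) :=
      (comm_bd A i a).symm
    have h5 : π F (e i (A i * a * (A i)⁻¹ * a⁻¹)) ∈ N := by
      rw [h3]
      have h6 : π F (bd 2 F A * e i a * (bd 2 F A)⁻¹ * (e i a)⁻¹) =
          π F (bd 2 F A) * (π F (e i a) * (π F (bd 2 F A))⁻¹ * (π F (e i a))⁻¹) := by
        rw [map_mul, map_mul, map_mul, map_inv, map_inv]
        group
      rw [h6]
      exact mul_mem hy (hn _ (e_mem_D i a) _ (inv_mem hy))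
    have h6 := hc i _ h5
    have h7 : (A i * a)⁻¹ * (a * A i) = (a * A i)⁻¹ * (A i * a * (A i)⁻¹ * a⁻¹)⁻¹ * (a * A i) := by group
    rw [h7]
    have h8 : (center SL).Normal := inferInstance
    have h9 := h8.conj_mem _ (inv_mem h6) (a * A i)⁻¹
    rwa [inv_inv] at h9
  have h3 : ∀ (i : Fin 2) (a : SL), π F (e i a) * π F (bd 2 F A) = π F (bd 2 F A) * π F (e i a) := by
    intro i a
    have h5 : bd 2 F A * e i a * (bd 2 F A)⁻¹ * (e i a)⁻¹ = 1 := by
      rw [comm_bd]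
      have h6 : A i * a = a * A i := (mem_center_iff.1 (hA i) a).symm
      rw [h6, mul_inv_cancel_right, mul_inv_cancel, map_one]
    rw [← map_mul, ← map_mul]
    congr 1
    calc e i a * bd 2 F A = (bd 2 F A * e i a * (bd 2 F A)⁻¹ * (e i a)⁻¹) * (e i a * bd 2 F A) := by
          rw [h5, one_mul]
      _ = _ := by group
  have h5 : D F ≤ centralizer ({π F (bd 2 F A)} : Set (PSp 2 F)) :=
    D_le fun i a => mem_centralizer_singleton_iff.2 (h3 i a)
  exact mem_centralizer_singleton_iff.1 (h5 hx)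

end Cfsg.Agent.Omega.ML.PspFourL
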