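import Cfsg.Agent.Omega.ML.HermTorus
import Cfsg.Agent.Omega.ML.PsuLB

/-!
# `PSU_n(q)`, `q` odd: the Heisenberg bound with the torus

`lb : LB (PSU n F q) ((q - 1) * q ^ (n - 2))` for all `n ≥ 3`, `q ≥ 4`, `(n, q) ≠ (3, 5)` (helper351).
-/

set_option autoImplicit false
set_option linter.unusedSectionVars false
set_option linter.unusedSimpArgs false

universe u v w

namespace Cfsg.Agent.Omega.ML.PsuTorus

open Cfsg Matrix Cfsg.Agent.Omega.Lie.Heis Cfsg.Agent.Omega.ML.HermLift Cfsg.Agent.Omega.ML.PsuLB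
open Cfsg.Agent.LieClassical.HermBasic Cfsg.Agent.LieClassical.HermSiegel
open Cfsg.Agent.Omega.TwoF.LBPsu Cfsg.Agent.Omega.TwoF.RowPsu
open Cfsg.Agent.ClassicalGeometry.UnitAutBasic (pr)

section element

variable {F : Type*} [Field F] [Fintype F] {q n : ℕ}

/-- `x ↦ x + a h(x, v) u` -/
def dil (q : ℕ) (a : F) (u v : Fin n → F) : Matrix (Fin n) (Fin n) F :=
  1 + Matrix.vecMulVec u (fun j => a * v j ^ q)

theorem dil_mulVec (a : F) (u v x : Fin n → F) :
    dil q a u v *ᵥ x = x + (a * hermForm n F q x v) • u := by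
  have h1 : (fun j => a * v j ^ q) ⬝ᵥ x = a * hermForm n F q x v := by
    rw [herm_def, dotProduct, Finset.mul_sum]
    exact Finset.sum_congr rfl fun _ _ => by ring
  rw [dil, Matrix.add_mulVec, Matrix.one_mulVec, Matrix.vecMulVec_mulVec, h1, op_smul_eq_smul]

theorem dil_det (a : F) (u v : Fin n → F) : (dil q a u v).det = 1 + a * hermForm n F q u v := by
  rw [dil, Matrix.vecMulVec_eq Unit, Matrix.det_one_add_replicateCol_mul_replicateRow, herm_def, dotProduct,
    Finset.mul_sum]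
  congr 1
  exact Finset.sum_congr rfl fun _ _ => by ring

/-- A hyperbolic pair `u, v` (`h(u, v) = 2`) and a vector `w` of norm one. -/
structure Tri (q : ℕ) (u v w : Fin n → F) : Prop where
  uu : hermForm n F q u u = 0
  vv : hermForm n F q v v = 0
  uv : hermForm n F q u v = 2
  vu : hermForm n F q v u = 2
  wu : hermForm n F q w u = 0
  wv : hermForm n F q w v = 0
  uw : hermForm n F q u w = 0
  vw : hermForm n F q v w = 0
  ww : hermForm n F q w w = 1

/-- The matrix `x ↦ x + a h(x, v) u + b h(x, u) v + c h(x, w) w`. -/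
def tm (q : ℕ) (a b c : F) (u v w : Fin n → F) : Matrix (Fin n) (Fin n) F :=
  dil q a u v * (dil q b v u * dil q c w w)

variable {u v w : Fin n → F} {a b c : F}

theorem tm_mulVec (H : Tri q u v w) (x : Fin n → F) :
    tm q a b c u v w *ᵥ x = x + (a * hermForm n F q x v) • u + (b * hermForm n F q x u) • v +
      (c * hermForm n F q x w) • w := by
  rw [tm, ← Matrix.mulVec_mulVec, ← Matrix.mulVec_mulVec, dil_mulVec, dil_mulVec, dil_mulVec]
  simp only [herm_add_left, herm_smul_left, H.wu, H.wv, H.vv, mul_zero, add_zero]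
  abel

theorem tm_det (H : Tri q u v w) : (tm q a b c u v w).det = (1 + 2 * a) * (1 + 2 * b) * (1 + c) := by
  rw [tm, Matrix.det_mul, Matrix.det_mul, dil_det, dil_det, dil_det, H.uv, H.vu, H.ww]
  ring

theorem tm_herm (hF : Fintype.card F = q ^ 2) (H : Tri q u v w) (h1 : a + b ^ q + 2 * a * b ^ q = 0)
    (h2 : a ^ q + b + 2 * a ^ q * b = 0) (h3 : c + c ^ q + c * c ^ q = 0) (x y : Fin n → F) :
    hermForm n F q (tm q a b c u v w *ᵥ x) (tm q a b c u v w *ᵥ y) = hermForm n F q x y := by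
  rw [tm_mulVec H, tm_mulVec H]
  simp only [herm_add_left, herm_add_right hF, herm_smul_left, herm_smul_right, H.uu, H.vv, H.uv, H.vu, H.wu,
    H.wv, H.uw, H.vw, H.ww, mul_pow, mul_zero, add_zero, zero_add, mul_one]
  rw [herm_swap hF y u, herm_swap hF y v, herm_swap hF y w]
  linear_combination (hermForm n F q x v * hermForm n F q y u ^ q) * h1 +
    (hermForm n F q x u * hermForm n F q y v ^ q) * h2 + (hermForm n F q x w * hermForm n F q y w ^ q) * h3

/-- The torus element `u ↦ l u`, `v ↦ l⁻q v`, `w ↦ l ^ (q - 1) w`. -/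
theorem exists_tor (hF : Fintype.card F = q ^ 2) (h2 : (2 : F) ≠ 0) (H : Tri q u v w) {l : F} (hl : l ≠ 0) :
    ∃ t : SU n F q, act t u = l • u ∧ act t w = (l ^ q * l⁻¹) • w ∧
      ∀ g : SU n F q, act g u = (-1 : F) • u → act g v = (-1 : F) • v → act g w = w → t * g = g * t := by
  have hlq : l ^ q ≠ 0 := pow_ne_zero _ hl
  have hh : (2 : F) * 2⁻¹ = 1 := mul_inv_cancel₀ h2
  have h2q : ((2 : F)⁻¹) ^ q = 2⁻¹ := half_pow hF
  set a : F := 2⁻¹ * (l - 1) with ha
  set b : F := 2⁻¹ * ((l ^ q)⁻¹ - 1) with hb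
  set c : F := l ^ q * l⁻¹ - 1 with hc
  have e1 : 1 + 2 * a = l := by rw [ha, ← mul_assoc, hh]; ring
  have e2 : 1 + 2 * b = (l ^ q)⁻¹ := by rw [hb, ← mul_assoc, hh]; ring
  have e3 : 1 + c = l ^ q * l⁻¹ := by rw [hc]; ring
  have e4 : 1 + 2 * a ^ q = l ^ q := by
    rw [ha, mul_pow, h2q, sub_pow_q hF, one_pow, ← mul_assoc, hh]; ring
  have e5 : 1 + 2 * b ^ q = l⁻¹ := by
    rw [hb, mul_pow, h2q, sub_pow_q hF, one_pow, ← mul_assoc, hh, inv_pow, pow_q_pow_q hF]; ring
  have e6 : 1 + c ^ q = l * (l ^ q)⁻¹ := by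
    rw [hc, sub_pow_q hF, one_pow, mul_pow, pow_q_pow_q hF, inv_pow]; ring
  have h1' : a + b ^ q + 2 * a * b ^ q = 0 := by
    have h3 : (1 + 2 * a) * (1 + 2 * b ^ q) = 1 := by rw [e1, e5, mul_inv_cancel₀ hl]
    apply mul_left_cancel₀ h2
    linear_combination h3
  have h2' : a ^ q + b + 2 * a ^ q * b = 0 := by
    have h3 : (1 + 2 * a ^ q) * (1 + 2 * b) = 1 := by rw [e4, e2, mul_inv_cancel₀ hlq]
    apply mul_left_cancel₀ h2
    linear_combination h3
  have h3' : c + c ^ q + c * c ^ q = 0 := by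
    have h3 : (1 + c) * (1 + c ^ q) = 1 := by
      rw [e3, e6]
      field_simp
    linear_combination h3
  have hdet : (tm q a b c u v w).det = 1 := by
    rw [tm_det H, e1, e2, e3]
    field_simp
  have hact : ∀ x, act (mkSU (tm q a b c u v w) hdet (tm_herm hF H h1' h2' h3') : SU n F q) x =
      x + (a * hermForm n F q x v) • u + (b * hermForm n F q x u) • v + (c * hermForm n F q x w) • w :=
    fun x => tm_mulVec H x
  refine ⟨mkSU (tm q a b c u v w) hdet (tm_herm hF H h1' h2' h3'), ?_, ?_, ?_⟩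
  · rw [hact, H.uv, H.uu, H.uw, mul_zero, mul_zero, zero_smul, zero_smul, add_zero, add_zero, ← e1, add_smul,
      one_smul, mul_comm a]
  · rw [hact, H.wv, H.wu, H.ww, mul_zero, mul_zero, zero_smul, zero_smul, add_zero, add_zero, mul_one, ← e3,
      add_smul, one_smul]
  · intro g hgu hgv hgw
    apply ext_act
    intro x
    rw [act_mul, act_mul, hact, hact, act_add, act_add, act_add, act_smul, act_smul, act_smul, hgu, hgv, hgw]
    have k1 : hermForm n F q (act g x) v = -hermForm n F q x v := by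
      have h5 : act g ((-1 : F) • v) = v := by rw [act_smul, hgv, smul_smul]; simp
      rw [← h5, herm_act, herm_smul_right, h5, neg_pow_q hF, one_pow]
      ring
    have k2 : hermForm n F q (act g x) u = -hermForm n F q x u := by
      have h5 : act g ((-1 : F) • u) = u := by rw [act_smul, hgu, smul_smul]; simp
      rw [← h5, herm_act, herm_smul_right, h5, neg_pow_q hF, one_pow]
      ring
    have k3 : hermForm n F q (act g x) w = hermForm n F q x w := by
      nth_rw 1 [← hgw]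
      rw [herm_act]
    rw [k1, k2, k3, smul_smul, smul_smul]
    simp only [mul_neg, mul_one]

variable {m : ℕ}

/-- Conjugation of a root element by an element with `u ↦ l u`, `w i ↦ d w i`, `d` of norm one. -/
theorem conj_T_tor (hF : Fintype.card F = q ^ 2) (h2 : (2 : F) ≠ 0) {u : Fin n → F} {w : Fin m → Fin n → F}
    (H : Frame q u w) {g : SU n F q} {l d : F} (hd : d * d ^ q = 1) (hu : act g u = l • u) {i : Fin m}
    (hw : act g (w i) = d • w i) (c : F) : g * T hF h2 H c i * g⁻¹ = T hF h2 H (l ^ q * d * c) i := by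
  have h1 : IsSiegel q u ((c * d) • w i) (-((2 : F)⁻¹ * (c * c ^ q))) := by
    have h3 := isSiegel_T hF h2 H (c * d) i
    have h4 : (c * d) * (c * d) ^ q = c * c ^ q := by
      calc (c * d) * (c * d) ^ q = (d * d ^ q) * (c * c ^ q) := by ring
        _ = c * c ^ q := by rw [hd, one_mul]
    rwa [h4] at h3
  rw [T, T, conj_siegel, siegel_congr hF _ (h1.smul (c := l)) hu
    (show act g (c • w i) = (c * d) • w i by rw [act_smul, hw, smul_smul]) rfl, siegel_smul hF h1]
  refine siegel_congr hF _ _ rfl ?_ ?_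
  · rw [smul_smul]
    congr 1
    ring
  · have h5 : (l ^ q * d * c) * (l ^ q * d * c) ^ q = (l ^ q * (l ^ q) ^ q) * (d * d ^ q) * (c * c ^ q) := by ring
    rw [h5, hd, pow_q_pow_q hF]
    ring

end element

/-! ### The standard configuration -/

section std

variable {F : Type*} [Field F] [Fintype F] {q k p : ℕ}

theorem herm_uu (hF : Fintype.card F = q ^ 2) {α : F} (hα : α * α ^ q = -1) :
    hermForm (k + 2) F q (uu k α) (uu k (-α)) = 2 := by
  rw [uu, uu, herm_add_left, herm_smul_left, herm_single_left, herm_single_left]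
  simp only [Pi.add_apply, Pi.smul_apply, Pi.single_eq_same, smul_eq_mul, one_mul, mul_one]
  rw [Pi.single_eq_of_ne (by simp : (0 : Fin (k + 2)) ≠ 1), Pi.single_eq_of_ne (by simp : (1 : Fin (k + 2)) ≠ 0)]
  simp only [mul_zero, add_zero, zero_add, one_pow, neg_pow_q hF]
  linear_combination -hα

theorem tri (hF : Fintype.card F = q ^ 2) {α : F} (hα : α * α ^ q = -1) (i : Fin k) :
    Tri q (uu k α) (uu k (-α)) (ww k i) := by
  have hα' : -α * (-α) ^ q = -1 := by rw [neg_pow_q hF, neg_mul_neg, hα]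
  have H := frame hF hα (fun i : Fin k => i) Function.injective_id
  have H' := frame hF hα' (fun i : Fin k => i) Function.injective_id
  refine ⟨H.uu, H'.uu, herm_uu hF hα, ?_, H.wu i, H'.wu i, herm_eq_zero_swap hF (H.wu i),
    herm_eq_zero_swap hF (H'.wu i), H.ww i⟩
  rw [herm_swap hF (uu k α), herm_uu hF hα, two_pow hF]

/-- The torus elements for the standard configuration. -/
theorem exists_torC (hF : Fintype.card F = q ^ 2) (h2 : (2 : F) ≠ 0) {α : F} (hα : α * α ^ q = -1)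
    (H : Frame q (uu k α) (fun i : Fin k => ww k i)) (i : Fin k) {e : F} (he : e ^ q = e) (he0 : e ≠ 0) :
    ∃ (t : SU (k + 2) F q) (a : F), t * gg hF = gg hF * t ∧
      (∀ c, t * T hF h2 H c i * t⁻¹ = T hF h2 H (a * c) i) ∧ a ^ q * a = e := by
  obtain ⟨l, hl⟩ := exists_norm_eq hF he
  have hl0 : l ≠ 0 := by
    rintro rfl
    rw [zero_mul] at hl
    exact he0 hl.symm
  obtain ⟨t, h1, h3, h4⟩ := exists_tor hF h2 (tri hF hα i) hl0
  have hlq : l ^ q ≠ 0 := pow_ne_zero _ hl0
  have hd : (l ^ q * l⁻¹) * (l ^ q * l⁻¹) ^ q = 1 := by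
    rw [mul_pow, pow_q_pow_q hF, inv_pow]
    field_simp
  refine ⟨t, l ^ q * (l ^ q * l⁻¹), h4 _ (act_gg_uu hF α) (act_gg_uu hF (-α)) (act_gg_ww hF i), fun c => ?_, ?_⟩
  · exact conj_T_tor hF h2 H hd h1 h3 c
  · calc (l ^ q * (l ^ q * l⁻¹)) ^ q * (l ^ q * (l ^ q * l⁻¹)) =
          (l ^ q) ^ q * l ^ q * ((l ^ q * l⁻¹) * (l ^ q * l⁻¹) ^ q) := by ring
      _ = e := by rw [hd, pow_q_pow_q hF, mul_one, hl]

/-- The bound from the configuration. -/
theorem lb_of {F : Type v} [Field F] [Fintype F] {q k p : ℕ} (hF : Fintype.card F = q ^ 2) (h2 : (2 : F) ≠ 0)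
    (hp : p.Prime) [CharP F p] {α τ : F} (hα : α * α ^ q = -1) (hτ0 : τ ≠ 0) (hτ : τ ^ q = -τ) (hk : 1 ≤ k)
    (H : Frame q (uu k α) (fun i : Fin k => ww k i)) {M : Submonoid F} (hM : M ≤ N1 hF)
    (hcl : AddSubgroup.closure (M : Set F) = ⊤) {i₀ : Fin k}
    (hS : Herm (conj hF : F →+* F) p (fun (i : Fin k) c => T hF h2 H c i) (ZZ hF H) (gg hF) (M : Set F) i₀) :
    LB.{v, u, w} (PSU (k + 2) F q) ((q - 1) * q ^ k) := by
  have hp2 : p ≠ 2 := by
    rintro rfl
    exact h2 (by exact_mod_cast CharP.cast_eq_zero F 2)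
  have hq2 : q ≠ 2 := by
    rintro rfl
    exact hp2 ((Nat.prime_dvd_prime_iff_eq hp Nat.prime_two).1 (p_dvd hF hp))
  have : IsSimpleGroup (PSU (k + 2) F q) :=
    Cfsg.Agent.S0283.result hF (k + 2) (by omega) (fun h => hq2 h.2)
  have : Fact p.Prime := ⟨hp⟩
  have h := (hS.map (pr (k + 2) F q)).lb_torus hp2 (pow_q_pow_q hF)
    (fun ζ hζ => by
      show ζ ^ q * ζ = 1
      rw [mul_comm]
      exact hM hζ) hcl
    (fun a ha => by
      obtain ⟨c, hc⟩ := exists_norm_eq hF ha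
      exact ⟨c, by rw [mul_comm]; exact hc⟩)
    (τ := τ) hτ (fun hne => by
      have h1 := congrArg (pr (k + 2) F q) (T_conj hF h2 H hτ (two_tau hF hτ) i₀)
      rw [map_mul, map_mul, map_mul] at h1
      have h3 : pr (k + 2) F q (Z hF H (two_tau hF hτ)) = 1 := by
        have h4 : pr (k + 2) F q (T hF h2 H 1 i₀) * pr (k + 2) F q (T hF h2 H τ i₀) =
            pr (k + 2) F q (T hF h2 H τ i₀) * pr (k + 2) F q (T hF h2 H 1 i₀) := hne
        rw [← h4, mul_assoc] at h1
        have h5 := mul_left_cancel h1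
        exact right_eq_mul.1 h5
      exact Z_ne hF (by omega) (by omega) H _ (mul_ne_zero h2 hτ0) (uu_ne α) h3)
    (fun e he he0 => by
      obtain ⟨t, a, h1, h3, h4⟩ := exists_torC hF h2 hα H i₀ (e := e) he he0
      refine ⟨pr (k + 2) F q t, a, ?_, fun c => ?_, h4⟩
      · rw [← map_mul, h1, map_mul]
      · rw [← map_inv, ← map_mul, ← map_mul, h3])
  rwa [card_fix hF, Nat.card_eq_fintype_card (α := Fin k), Fintype.card_fin] at h

/-- **The Heisenberg bound with the torus for `PSU_n(q)`, `q` odd.** -/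
theorem lb {F : Type v} [Field F] [Fintype F] {q n : ℕ} (hF : Fintype.card F = q ^ 2) (h2 : (2 : F) ≠ 0)
    (hn : 3 ≤ n) (hq : 4 ≤ q) (h35 : n = 3 → 7 ≤ q) :
    LB.{v, u, w} (PSU n F q) ((q - 1) * q ^ (n - 2)) := by
  obtain ⟨p, hpF⟩ := CharP.exists F
  have hp : p.Prime := CharP.char_is_prime F p
  obtain ⟨k, rfl⟩ : ∃ k, n = k + 2 := ⟨n - 2, by omega⟩
  rw [Nat.add_sub_cancel]
  obtain ⟨α, hα⟩ := exists_alpha hF
  obtain ⟨τ, hτ0, hτ⟩ := exists_tau hF
  have H := frame hF hα (fun i : Fin k => i) Function.injective_id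
  rcases Nat.lt_or_ge 1 k with hk | hk
  · exact lb_of hF h2 hp hα hτ0 hτ (by omega) H le_rfl (closure_N1 hF)
      (herm_two hF h2 hp H hk (by omega) ⟨0, by omega⟩)
  · obtain rfl : k = 1 := by omega
    have h8 : q ≠ 8 := by
      rintro rfl
      have h9 : ((8 : ℕ) : F) = 0 := by
        have h10 := Nat.cast_card_eq_zero F
        rw [hF, Nat.cast_pow] at h10
        exact pow_eq_zero_iff (two_ne_zero) |>.1 h10
      apply h2
      have h10 : (2 : F) ^ 3 = 0 := by
        rw [← h9]; norm_num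
      exact pow_eq_zero_iff (by norm_num : (3 : ℕ) ≠ 0) |>.1 h10
    exact lb_of hF h2 hp hα hτ0 hτ le_rfl H (N3_le hF) (closure_N3 hF (h35 rfl) h8) (herm_one hF h2 hp H)

end std

end Cfsg.Agent.Omega.ML.PsuTorus
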