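import Cfsg.Agent.Omega.ML.Ratio
import Cfsg.Agent.ZN.Facts

/-!
# Atoms and lines (OMEGA, (ML); #15918 (2), (3) of helper93, #16220 (R1) of helper34); K-free

`H` acts on `M`, `st z` the stabiliser, `qq z = O₂(C_H(z))`, `f B = |B|^a |C_M(B)|^b`.

* `br_le_iff` : `[M, X] ≤ K` in terms of `kr K`;
* `Line f z x` : `z`, `x` are interchanged by an element of `H`, `f ≤ |M|^b` on the subgroups of `O₂(C_H(z) ∩ C_H(x))`, the
  atoms of `O₂(C_H(z))` fix `x`;
* `Line.fix` : an atom `B` of `O₂(C_H(x))` with `B ≰ O₂(C_H(z))` and `z ∈ [M, J_x]` fixes all `C_H(z)`-conjugates of `x`;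
* `Line.mem_br_false` : **(R1)** so `z ∉ [M, J_x]`.
-/

set_option autoImplicit false

namespace Cfsg.Agent.Omega.ML.RatioLine

open Subgroup Cfsg.Agent.ClassTwoFusion.Quad Cfsg.Agent.Omega.NOThree.NoOver Cfsg.Agent.Omega.ML.CD
  Cfsg.Agent.Omega.ML.Ratio Cfsg.Agent.ZN

variable {H : Type*} [Group H] {M : Type*} [Group M] [MulDistribMulAction H M]

/-- the elements `x` with `[M, x] ≤ K` -/
def kr (K : Subgroup M) : Subgroup H where
  carrier := {x | ∀ m : M, (x • m) * m⁻¹ ∈ K}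
  one_mem' := fun m => by rw [one_smul, mul_inv_cancel]; exact one_mem _
  mul_mem' := fun {x y} hx hy m => by
    have h1 := K.mul_mem (hx (y • m)) (hy m)
    rwa [← mul_smul, ← mul_assoc, inv_mul_cancel_right] at h1
  inv_mem' := fun {x} hx m => by
    have h1 := K.inv_mem (hx (x⁻¹ • m))
    rwa [smul_inv_smul, mul_inv_rev, inv_inv] at h1

theorem br_le_iff {X : Subgroup H} {K : Subgroup M} : br M X ≤ K ↔ X ≤ kr K := by
  constructor
  · intro h x hx m
    exact h (mem_br hx m)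
  · intro h
    rw [br, closure_le]
    rintro _ ⟨x, hx, m, rfl⟩
    exact h hx m

/-- the stabiliser -/
abbrev st (z : M) : Subgroup H := MulAction.stabilizer H z

/-- `O₂(C_H(z))` -/
abbrev qq (z : M) : Subgroup H := o2 (st (H := H) z)

theorem mem_st {z : M} {h : H} : h ∈ st z ↔ h • z = z := MulAction.mem_stabilizer_iff

theorem st_smul (g : H) (z : M) : st (g • z) = cj g (st z) := by
  ext x
  rw [mem_cj, mem_st, mem_st, mul_smul, mul_smul, inv_smul_eq_iff]

theorem o2_cj (g : H) (X : Subgroup H) : o2 (cj g X) = cj g (o2 X) := o2_map _ (MulAut.conj g).injective X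

theorem qq_smul (g : H) (z : M) : qq (g • z) = cj g (qq z) := by
  unfold qq
  rw [st_smul, o2_cj]

theorem o2_inf_le_o2 {X N : Subgroup H} (h : N ≤ X) : o2 X ⊓ N ≤ o2 N := by
  refine le_o2 inf_le_right ((isPGroup_o2 X).to_le inf_le_left) ?_
  intro n hn
  rw [mem_normalizer_iff]
  have h1 := mem_normalizer_iff.1 (le_normalizer_o2 X (h hn))
  intro x
  constructor
  · rintro ⟨hx, hx'⟩
    exact ⟨(h1 x).1 hx, N.mul_mem (N.mul_mem hn hx') (N.inv_mem hn)⟩
  · rintro ⟨hx, hx'⟩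
    refine ⟨(h1 x).2 hx, ?_⟩
    have h2 : x = n⁻¹ * (n * x * n⁻¹) * n := by group
    rw [h2]
    exact N.mul_mem (N.mul_mem (N.inv_mem hn) hx') hn

theorem o2_le_o2_of_normal {N X : Subgroup H} (h : N ≤ X) (hn : X ≤ normalizer (N : Set H)) : o2 N ≤ o2 X :=
  le_o2 ((o2_le N).trans h) (isPGroup_o2 N) (hn.trans (normalizer_le_normalizer_o2 N))

/-- the elements of `C_H(z)` fixing all `c • x`, `c ∈ C_H(z)` -/
def ker (z x : M) : Subgroup H where
  carrier := {h | h ∈ st z ∧ ∀ c ∈ st (H := H) z, h • c • x = c • x}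
  one_mem' := ⟨one_mem _, fun _ _ => one_smul _ _⟩
  mul_mem' := fun {g h} hg hh => ⟨mul_mem hg.1 hh.1, fun c hc => by rw [mul_smul, hh.2 c hc, hg.2 c hc]⟩
  inv_mem' := fun {g} hg => ⟨inv_mem hg.1, fun c hc => by rw [inv_smul_eq_iff, hg.2 c hc]⟩

theorem ker_le (z x : M) : ker (H := H) z x ≤ st z := fun _ h => h.1

theorem ker_le' (z x : M) : ker (H := H) z x ≤ st x := fun h hh => by
  have := hh.2 1 (one_mem _)
  rwa [one_smul] at this

theorem le_normalizer_ker (z x : M) : st (H := H) z ≤ normalizer (ker (H := H) z x : Set H) := by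
  have key : ∀ g ∈ st (H := H) z, ∀ h ∈ ker (H := H) z x, g * h * g⁻¹ ∈ ker (H := H) z x := by
    intro g hg h hh
    refine ⟨mul_mem (mul_mem hg hh.1) (inv_mem hg), fun c hc => ?_⟩
    have h1 := hh.2 (g⁻¹ * c) (mul_mem (inv_mem hg) hc)
    rw [mul_smul g⁻¹ c] at h1
    rw [mul_smul, mul_smul, h1, smul_inv_smul]
  intro g hg
  rw [mem_normalizer_iff]
  intro h
  refine ⟨key g hg h, fun hh => ?_⟩
  have h1 := key g⁻¹ (inv_mem hg) _ hh
  have h2 : g⁻¹ * (g * h * g⁻¹) * g⁻¹⁻¹ = h := by group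
  rwa [h2] at h1

/-- a subgroup of `O₂(C_H(x))` fixing all `C_H(z)`-conjugates of `x` is in `O₂(C_H(z))` -/
theorem le_qq {z x : M} {B : Subgroup H} (hB : B ≤ qq x) (hk : B ≤ ker z x) : B ≤ qq z := by
  refine le_trans (le_inf hB hk) ?_
  exact (o2_inf_le_o2 (ker_le' z x)).trans (o2_le_o2_of_normal (ker_le z x) (le_normalizer_ker z x))

variable {a b : ℕ}

/-- a line of the (unspecified) geometry -/
structure Line (a b : ℕ) (H : Type*) [Group H] {M : Type*} [Group M] [MulDistribMulAction H M] (z x : M) : Prop where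
  swap : ∃ g : H, g • z = x ∧ g • x = z
  flat : Flat (fab M a b) (o2 (st (H := H) z ⊓ st x))
  fix : jo (fab M a b) (qq (H := H) z) ≤ st x

namespace Line

variable [Finite H] [Finite M] {z x : M}

theorem fix' (h : Line a b H z x) : jo (fab M a b) (qq (H := H) x) ≤ st z := by
  obtain ⟨g, h1, h2⟩ := h.swap
  have h3 : jo (fab M a b) (qq (H := H) x) = cj g (jo (fab M a b) (qq (H := H) z)) := by
    rw [← jo_cj (ls_fab M a b), ← qq_smul, h1]
  have h4 : cj g (st (H := H) x) = st z := by rw [← st_smul, h2]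
  rw [h3]
  exact (cj_mono h.fix).trans h4.le

omit [Finite H] [Finite M] in
theorem jo_le_o2 (h : Line a b H z x) : jo (fab M a b) (qq (H := H) z) ≤ o2 (st (H := H) z ⊓ st x) := by
  refine le_trans (le_inf (jo_le _ _) (le_inf ((jo_le _ _).trans (o2_le _)) h.fix)) ?_
  exact o2_inf_le_o2 inf_le_left

theorem jo_le_o2' (h : Line a b H z x) : jo (fab M a b) (qq (H := H) x) ≤ o2 (st (H := H) z ⊓ st x) := by
  refine le_trans (le_inf (jo_le _ _) (le_inf h.fix' ((jo_le _ _).trans (o2_le _)))) ?_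
  exact o2_inf_le_o2 inf_le_right

/-- an atom of `O₂(C_H(x))` not in `O₂(C_H(z))` centralises `[M, J_z]` -/
theorem br_le (ha : a ≠ 0) (hb : b ≠ 0) (h : Line a b H z x) {B : Subgroup H} (hB : Atom (fab M a b) B) (hBx : B ≤ qq x)
    (hBz : ¬ B ≤ qq z) : br M (jo (fab M a b) (qq (H := H) z)) ≤ cv M (B : Set H) := by
  rw [br_le_iff]
  refine sSup_le fun D hD => ?_
  rw [← br_le_iff]
  exact Atom.eq ha hb h.flat (isPGroup_o2 _) hD.1 hB ((hD.1.le_jo hD.2).trans h.jo_le_o2)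
    ((hB.le_jo hBx).trans h.jo_le_o2') (fun h1 => hBz (h1 ▸ hD.2))

/-- **(R1)**, first half: `B` centralises `⟨x^{C_H(z)}⟩` -/
theorem le_ker (ha : a ≠ 0) (hb : b ≠ 0) (h : Line a b H z x) {B : Subgroup H} (hB : Atom (fab M a b) B)
    (hBx : B ≤ qq x) (hBz : ¬ B ≤ qq z) (hz : z ∈ br M (jo (fab M a b) (qq (H := H) x))) : B ≤ ker z x := by
  have hf := ls_fab (H := H) M a b
  obtain ⟨g, h1, h2⟩ := h.swap
  have h3 : x ∈ br M (jo (fab M a b) (qq (H := H) z)) := by
    have h4 := smul_mem_br (g := g) hz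
    rwa [← jo_cj hf, ← qq_smul, h1, h2] at h4
  intro y hy
  have hyz : y ∈ st z := h.fix' (hB.le_jo hBx hy)
  refine ⟨hyz, fun c hc => ?_⟩
  have h4 := smul_mem_br (g := c) h3
  rw [← jo_cj hf, ← qq_smul, mem_st.1 hc] at h4
  exact h.br_le ha hb hB hBx hBz h4 y hy

/-- **(R1)** `z ∉ [M, J_x]` if `J_x ≰ O₂(C_H(z))`. -/
theorem not_mem_br (ha : a ≠ 0) (hb : b ≠ 0) (h : Line a b H z x) {B : Subgroup H} (hB : Atom (fab M a b) B)
    (hBx : B ≤ qq x) (hBz : ¬ B ≤ qq z) : z ∉ br M (jo (fab M a b) (qq (H := H) x)) := fun hz =>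
  hBz (le_qq hBx (h.le_ker ha hb hB hBx hBz hz))

end Line

end Cfsg.Agent.Omega.ML.RatioLine
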