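import Cfsg.Agent.Omega.ML.Base

/-!
# (ML): the minimal ratio is not attained in the point group (OMEGA; #15918 of helper93, #16220 (R1) of helper34,
#15357 (3) of helper24); K-free

* `MinC H M T z` : `M` an elementary abelian 2-group on which `H` is faithful, `T ∈ Syl₂(H)`, `z ∈ C_M(T)`, `M = ⟨z^H⟩`, (ML)
  holds for all smaller groups;
* `MinC.no_tight` : **if all lines have order 4, `0 < a < b` and `|B|^a |C_M(B)|^b ≤ |M|^b` for all `B ≤ O₂(C_H(z))` and all
  `B ≤ O₂(C_H(V))`, `V` a line on `z`, then equality does not hold for any `1 ≠ B ≤ O₂(C_H(z))`**;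
* `MinC.exists_smaller` : so in a minimal counterexample with lines of order 4 the minimal ratio over the line groups is
  smaller than the minimal ratio over the point groups.
-/

set_option autoImplicit false

namespace Cfsg.Agent.Omega.ML.RatioMin

open Subgroup Cfsg.Agent.ClassTwoFusion.Quad Cfsg.Agent.Omega.NOThree.NoOver Cfsg.Agent.Omega.ML.CD
  Cfsg.Agent.Omega.ML.Ratio Cfsg.Agent.Omega.ML.RatioLine Cfsg.Agent.Omega.ML.Sec Cfsg.Agent.ZN
  Cfsg.Agent.MinSimple.MinParabolic Cfsg.Agent.Omega.ML.Base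

universe u v

/-- the situation of a minimal counterexample -/
structure MinC (H : Type u) (M : Type v) [Group H] [Group M] [MulDistribMulAction H M] (T : Subgroup H) (z : M) : Prop
    extends Sit H M T z where
  ih : MLBelow.{u, v} (Nat.card H)

variable {H : Type u} {M : Type v} [Group H] [Group M] [MulDistribMulAction H M] {T : Subgroup H} {z : M}

/-! ### The line of the geometry -/

variable {a b : ℕ}

theorem fab_ge_iff [Finite H] [Finite M] {A B : Subgroup H} (hB : B ≤ A) :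
    fab M a b B ≤ fab M a b A ↔
      (cv M (A : Set H)).relIndex (cv M (B : Set H)) ^ b ≤ B.relIndex A ^ a := by
  have h4le : cv M (A : Set H) ≤ cv M (B : Set H) := cv_anti (SetLike.coe_subset_coe.2 hB)
  have h3 := card_eq_relIndex_mul hB
  have h4 := card_eq_relIndex_mul h4le
  unfold fab
  rw [h3, h4, mul_pow, mul_pow]
  have e1 : Nat.card B ^ a * ((cv M (A : Set H)).relIndex (cv M (B : Set H)) ^ b *
      Nat.card (cv M (A : Set H)) ^ b) = (Nat.card B ^ a * Nat.card (cv M (A : Set H)) ^ b) *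
      (cv M (A : Set H)).relIndex (cv M (B : Set H)) ^ b := by ring
  have e2 : B.relIndex A ^ a * Nat.card B ^ a * Nat.card (cv M (A : Set H)) ^ b =
      (Nat.card B ^ a * Nat.card (cv M (A : Set H)) ^ b) * B.relIndex A ^ a := by ring
  rw [e1, e2]
  exact Nat.mul_le_mul_left_iff (Nat.mul_pos (Nat.pow_pos Nat.card_pos) (Nat.pow_pos Nat.card_pos))

/-- a tight subgroup has no subgroup `D` with `|B : D| ≤ |C_M(D) : C_M(B)|` except `D = B` -/
theorem tight_le [Finite H] [Finite M] (hab : a < b) {B D : Subgroup H} (hD : D ≤ B)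
    (hB : Tight (fab M a b) B) (hfl : fab M a b D ≤ fab M a b (⊥ : Subgroup H))
    (h : D.relIndex B ≤ (cv M (B : Set H)).relIndex (cv M (D : Set H))) : B ≤ D := by
  have h1 : fab M a b D ≤ fab M a b B := hfl.trans hB.ge
  rw [fab_ge_iff hD] at h1
  have h2 : D.relIndex B ^ b ≤ D.relIndex B ^ a := (Nat.pow_le_pow_left h b).trans h1
  have h3 : D.relIndex B = 1 := by
    by_contra hne
    have h4 : 0 < D.relIndex B := Nat.pos_of_ne_zero (relIndex_ne _ _)
    have h5 : 1 < D.relIndex B := by omega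
    exact absurd h2 (not_le.2 (Nat.pow_lt_pow_right h5 hab))
  exact relIndex_eq_one.1 h3

/-- the atoms of `O₂(C_H(z))` fix the points of the lines of order 4 -/
theorem MinC.atom_le [Finite H] [Finite M] (h : MinC H M T z) (hab : a < b) (hQ : Flat (fab M a b) (qq (H := H) z))
    {P : Subgroup H} (hP : IsMinPar T P) {x : M} (hx : x ∈ vp P z) (F : Four T P z x) {D : Subgroup H}
    (hD : Atom (fab M a b) D) (hDz : D ≤ qq z) : D ≤ st x :=
  h.toSit.fix_of_rigid hP hx F (fun _ hE h1 => tight_le hab hE hD.tight (hQ _ (hE.trans hDz)) h1) hDz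

/-- **The minimal ratio is not attained in `O₂(C_H(z))`**, if it is less than one and the lines have order 4. -/
theorem MinC.no_tight [Finite H] [Finite M] (h : MinC H M T z)
    (hline : ∀ P, IsMinPar T P → (∃ p ∈ P, p • z ≠ z) → Nat.card (vp P z) = 4)
    (ha : a ≠ 0) (hab : a < b) (hQ : Flat (fab M a b) (qq (H := H) z))
    (hl : ∀ P, IsMinPar T P → ∀ p ∈ P, p • z ≠ z → Flat (fab M a b) (o2 (st (H := H) z ⊓ st (p • z))))
    {B₀ : Subgroup H} (hB₀ : B₀ ≤ qq z) (hB1 : B₀ ≠ ⊥) (tB : Tight (fab M a b) B₀) : False := by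
  have hf := ls_fab (H := H) M a b
  have hb : b ≠ 0 := by omega
  set J : Subgroup H := jo (fab M a b) (qq (H := H) z) with hJ
  have hJT : J ≤ T := (jo_le _ _).trans h.qq_le
  have hstJ : st z ≤ normalizer (J : Set H) := (le_normalizer_o2 _).trans (normalizer_le_jo hf _)
  have hJ1 : J ≠ ⊥ := by
    obtain ⟨A, hA, hA'⟩ := exists_atom tB hB1
    intro h1
    have h2 := hA'.le_jo (hA.trans hB₀)
    rw [← hJ, h1, le_bot_iff] at h2
    exact hA'.ne_bot h2
  obtain ⟨P, hP, hPJ⟩ := h.exists_moved hJT hJ1 (h.le_st.trans hstJ)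
  obtain ⟨p, hp, hpJ⟩ := SetLike.not_le_iff_exists.1 hPJ
  have hpz : p • z ≠ z := fun h1 => hpJ (hstJ h1)
  have F := exists_four h.sq h.syl h.fixed hP hp hpz (hline P hP ⟨p, hp, hpz⟩)
  set x : M := p • z with hx
  have hJx : jo (fab M a b) (qq (H := H) x) = cj p J := by rw [hJ, ← jo_cj hf, ← qq_smul]
  -- the line
  have L : Line a b H z x := by
    refine ⟨?_, hl P hP p hp hpz, ?_⟩
    · obtain ⟨g, -, h1, h2⟩ := F.swap
      exact ⟨g, h1, h2⟩
    · exact sSup_le fun D hD => h.atom_le hab hQ hP (mem_vp hp) F hD.1 hD.2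
  -- an atom at `x` which is not in `O₂(C_H(z))`
  obtain ⟨B, hB, hBx, hBz⟩ : ∃ B, Atom (fab M a b) B ∧ B ≤ qq x ∧ ¬ B ≤ qq z := by
    by_contra hcon
    push Not at hcon
    have h1 : cj p J ≤ J := by
      rw [← hJx]
      exact sSup_le fun D hD => hD.1.le_jo (hcon D hD.1 hD.2)
    have h2 : cj p J = J := eq_of_le_of_card_ge h1 (card_cj p J).ge
    exact hpJ (mem_normalizer_of_cj h2)
  -- `z ∈ [M, J_x]`
  refine L.not_mem_br ha hb hB hBx hBz ?_
  by_contra hz
  set C : Subgroup H := st z with hC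
  set U : Subgroup M := closure {w | ∃ c ∈ C, w = c • x} with hUdef
  have hU : ∀ c ∈ C, ∀ u ∈ U, c • u ∈ U := by
    intro c hc u hu
    have h1 : U ≤ U.comap (MulDistribMulAction.toMonoidHom M c) := by
      nth_rewrite 1 [hUdef]
      rw [closure_le]
      rintro _ ⟨d, hd, rfl⟩
      exact subset_closure ⟨c * d, mul_mem hc hd, (mul_smul c d x).symm⟩
    exact h1 hu
  have hxU : x ∈ U := subset_closure ⟨1, one_mem _, (one_smul _ _).symm⟩
  have hZ : ∀ c ∈ C, ∀ u ∈ zpowers z, c • u ∈ zpowers z := by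
    rintro c hc _ ⟨k, rfl⟩
    rw [smul_zpow', mem_st.1 hc]
    exact ⟨k, rfl⟩
  have hZU : zpowers z ≤ U := by
    rw [zpowers_le]
    obtain ⟨t, ht, htx⟩ := F.moved
    have h1 : z * x ∈ U := by
      rw [← htx]
      exact hU t (h.le_st ht) x hxU
    exact (U.mul_mem_cancel_right hxU).1 h1
  have hzz : ∀ w ∈ zpowers z, w = 1 ∨ w = z := by
    rintro _ ⟨k, rfl⟩
    rcases Int.even_or_odd' k with ⟨m, rfl | rfl⟩
    · left
      change z ^ (2 * m) = 1
      rw [zpow_mul, zpow_two, h.sq, one_zpow]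
    · right
      change z ^ (2 * m + 1) = z
      rw [zpow_add, zpow_mul, zpow_two, h.sq, one_zpow, one_mul, zpow_one]
  have hCC : Nat.card C < Nat.card H := by
    refine lt_of_le_of_ne (Nat.le_of_dvd Nat.card_pos (card_subgroup_dvd_card C)) fun h1 => hpz ?_
    have h2 : C = ⊤ := Subgroup.eq_top_of_card_eq C h1
    have h3 : p ∈ C := by rw [h2]; exact mem_top _
    exact h3
  have hBC : B ≤ C := L.fix'.trans' (hB.le_jo hBx)
  have hBo : B ≤ o2 (ss C (zpowers z) hZ x) := by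
    refine ((hB.le_jo hBx).trans L.jo_le_o2').trans (o2_le_o2_of_normal (fun c hc => ⟨hc.1, ?_⟩) ?_)
    · rw [mem_st.1 hc.2, inv_mul_cancel]
      exact one_mem _
    · have key : ∀ d ∈ ss C (zpowers z) hZ x, ∀ c ∈ st z ⊓ st x, d * c * d⁻¹ ∈ st z ⊓ st x := by
        intro d hd c hc
        refine mem_inf.2 ⟨C.mul_mem (C.mul_mem hd.1 hc.1) (C.inv_mem hd.1), ?_⟩
        have h1 := (inv_mem hd).2
        have h2 : c • (x⁻¹ * d⁻¹ • x) = x⁻¹ * d⁻¹ • x := by
          rcases hzz _ h1 with h3 | h3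
          · rw [h3, smul_one]
          · rw [h3]
            exact hc.1
        rw [smul_mul', smul_inv', mem_st.1 hc.2, mul_left_cancel_iff] at h2
        rw [mem_st, mul_smul, mul_smul, h2, smul_inv_smul]
      intro d hd
      rw [mem_normalizer_iff]
      intro c
      refine ⟨key d hd c, fun hc => ?_⟩
      have h1 := key d⁻¹ (inv_mem hd) _ hc
      have h2 : d⁻¹ * (d * c * d⁻¹) * d⁻¹⁻¹ = c := by group
      rwa [h2] at h1
  have h1 := sec h.ih h.comm h.sq hCC hZU hU hZ h.syl.1 (h.syl.relIndex h.le_st) hxU le_sup_left (by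
      intro t ht
      rcases F.mem _ (smul_mem_vp (hP.le ht) (mem_vp hp)) with h2 | h2 | h2 | h2
      · exact absurd (by rwa [smul_eq_iff_eq_inv_smul, smul_one] at h2) F.x1
      · have h3 : t • x = t • z := h2.trans (h.fixed t ht).symm
        exact absurd (smul_left_cancel t h3) F.ne
      · rw [h2, inv_mul_cancel]
        exact one_mem _
      · rw [h2, h.comm z x, inv_mul_cancel_left]
        exact mem_zpowers z) hBo (W := cv M (B : Set H)) (by
      intro u _ hu b hb
      rw [hu b hb, inv_mul_cancel]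
      exact one_mem _)
  -- `C_B(U / ⟨z⟩) = C_B(U)`
  have h2 : ks C U (zpowers z) hU ⊓ B ≤ ker z x := by
    rintro k ⟨hk, hkB⟩
    refine ⟨hk.1, fun c hc => ?_⟩
    have h3 := hk.2 (c • x) (hU c hc x hxU)
    rcases hzz _ h3 with h4 | h4
    · exact mul_inv_eq_one.1 h4
    · exfalso
      apply hz
      rw [← h4]
      exact mem_br (hB.le_jo hBx hkB) _
  have h3 : (B ⊓ ker z x).relIndex B ≤ (cv M (B : Set H)).relIndex (cv M ((B ⊓ ker z x : Subgroup H) : Set H)) := by
    have e1 : (B ⊓ ker z x).relIndex B ≤ (ks C U (zpowers z) hU ⊓ B).relIndex B :=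
      relIndex_le_of_le_left (le_inf inf_le_right h2) (relIndex_ne _ _)
    rw [Subgroup.inf_relIndex_right] at e1
    refine e1.trans (h1.trans (relIndex_le_of_le_right ?_ (relIndex_ne _ _)))
    rw [hUdef, closure_le]
    rintro _ ⟨c, hc, rfl⟩ y hy
    exact hy.2.2 c hc
  have hQx : Flat (fab M a b) (qq (H := H) x) := by
    rw [hx, qq_smul]
    exact hQ.conj hf p
  have h4 := tight_le hab inf_le_left hB.tight (hQx _ (inf_le_left.trans hBx)) h3
  exact hBz (le_qq hBx (h4.trans inf_le_right))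

/-- the minimal ratio of a 2-group containing an over-offender -/
theorem exists_ratio [Finite H] [Finite M] (hsq : ∀ v : M, v * v = 1) (faith : ∀ h : H, (∀ m : M, h • m = m) → h = 1)
    {Q B : Subgroup H} (hQ : IsPGroup 2 Q) (hB : B ≤ Q) (hov : Nat.card M < fo M B) :
    ∃ a b, a ≠ 0 ∧ a < b ∧ Flat (fab M a b) Q ∧ ∃ B₀ ≤ Q, B₀ ≠ ⊥ ∧ Tight (fab M a b) B₀ := by
  have hf : Fact (Nat.Prime 2) := ⟨Nat.prime_two⟩
  have hpM : IsPGroup 2 M := fun v => ⟨1, by rw [pow_one, pow_two]; exact hsq v⟩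
  obtain ⟨n, hn⟩ := IsPGroup.iff_card.1 hpM
  let m : Subgroup H → ℕ := fun B => Nat.log 2 (Nat.card B)
  let c : Subgroup H → ℕ := fun B => Nat.log 2 (Nat.card (cv M (B : Set H)))
  have hm : ∀ B ≤ Q, Nat.card B = 2 ^ m B := by
    intro B hB
    obtain ⟨k, hk⟩ := IsPGroup.iff_card.1 (hQ.to_le hB)
    change Nat.card B = 2 ^ Nat.log 2 (Nat.card B)
    rw [hk, Nat.log_pow (by norm_num)]
  have hc : ∀ B : Subgroup H, Nat.card (cv M (B : Set H)) = 2 ^ c B := by
    intro B
    obtain ⟨k, hk⟩ := IsPGroup.iff_card.1 (hpM.to_subgroup (cv M (B : Set H)))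
    change Nat.card (cv M (B : Set H)) = 2 ^ Nat.log 2 (Nat.card (cv M (B : Set H)))
    rw [hk, Nat.log_pow (by norm_num)]
  have hcn : ∀ B : Subgroup H, c B ≤ n := by
    intro B
    have h1 := Nat.le_of_dvd Nat.card_pos (card_subgroup_dvd_card (cv M (B : Set H)))
    rw [hc, hn] at h1
    exact (Nat.pow_le_pow_iff_right (by norm_num)).1 h1
  have hm1 : ∀ B ≤ Q, B ≠ ⊥ → 0 < m B := by
    intro B hB hB1
    have h1 := (one_lt_card_iff_ne_bot B).2 hB1
    rw [hm B hB] at h1
    by_contra h2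
    have h3 : m B = 0 := by omega
    rw [h3] at h1
    exact absurd h1 (by norm_num)
  have hBne : B ≠ ⊥ := by
    rintro rfl
    rw [fo_bot] at hov
    exact lt_irrefl _ hov
  obtain ⟨B₀, ⟨hB₀, hB1⟩, hmin⟩ := Set.exists_min_image {B : Subgroup H | B ≤ Q ∧ B ≠ ⊥}
    (fun B => ((n - c B : ℕ) : ℚ) / (m B : ℚ)) (Set.toFinite _) ⟨B, hB, hBne⟩
  have hcross : ∀ D ≤ Q, D ≠ ⊥ → (n - c B₀) * m D ≤ (n - c D) * m B₀ := by
    intro D hD hD1
    have h1 := hmin D ⟨hD, hD1⟩
    have h2 : (0 : ℚ) < m B₀ := by exact_mod_cast hm1 B₀ hB₀ hB1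
    have h3 : (0 : ℚ) < m D := by exact_mod_cast hm1 D hD hD1
    rw [div_le_div_iff₀ h2 h3] at h1
    exact_mod_cast h1
  have hfab : ∀ a b, ∀ D ≤ Q, fab M a b D = 2 ^ (m D * a + c D * b) := by
    intro a b D hD
    rw [fab, hm D hD, hc, ← pow_mul, ← pow_mul, ← pow_add]
  have hbot : ∀ a b, fab M a b (⊥ : Subgroup H) = 2 ^ (n * b) := by
    intro a b
    rw [fab_bot, hn, ← pow_mul]
  refine ⟨n - c B₀, m B₀, ?_, ?_, ?_, B₀, hB₀, hB1, ?_⟩
  · intro h1
    have h2 : c B₀ = n := le_antisymm (hcn _) (by omega)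
    have h3 : cv M (B₀ : Set H) = ⊤ := by
      apply Subgroup.eq_top_of_card_eq
      rw [hc, h2, hn]
    apply hB1
    rw [Subgroup.eq_bot_iff_forall]
    intro x hx
    exact faith x fun v => (by rw [h3]; exact mem_top v : v ∈ cv M (B₀ : Set H)) x hx
  · rw [fo, hm B hB, hc, hn, ← pow_add] at hov
    have h1 : n < m B + c B := (Nat.pow_lt_pow_iff_right (by norm_num)).1 hov
    have h2 := hcross B hB hBne
    have h0 := hcn B
    have h3 : n - c B < m B := by omega
    have h4 := hm1 B₀ hB₀ hB1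
    have h5 := hm1 B hB hBne
    by_contra h6
    rw [not_lt] at h6
    have h7 : m B₀ * m B ≤ (n - c B₀) * m B := Nat.mul_le_mul_right _ h6
    have h8 : (n - c B) * m B₀ < m B * m B₀ := Nat.mul_lt_mul_of_pos_right h3 h4
    have h9 : m B₀ * m B = m B * m B₀ := mul_comm _ _
    omega
  · intro D hD
    by_cases hD1 : D = ⊥
    · rw [hD1]
    rw [hfab _ _ D hD, hbot]
    refine Nat.pow_le_pow_right (by norm_num) ?_
    have h1 := hcross D hD hD1
    have h2 : (n - c D) * m B₀ + c D * m B₀ = n * m B₀ := by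
      rw [← add_mul, Nat.sub_add_cancel (hcn D)]
    have h3 : m D * (n - c B₀) = (n - c B₀) * m D := mul_comm _ _
    omega
  · rw [Tight, hfab _ _ B₀ hB₀, hbot]
    congr 1
    have h2 : (n - c B₀) * m B₀ + c B₀ * m B₀ = n * m B₀ := by
      rw [← add_mul, Nat.sub_add_cancel (hcn B₀)]
    have h3 : m B₀ * (n - c B₀) = (n - c B₀) * m B₀ := mul_comm _ _
    omega

/-- **`t_l < t_Q < 1`** in a minimal counterexample with lines of order 4: `a / b = t_Q` is the minimal ratio over the point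
group, some subgroup of a line group has a smaller ratio. -/
theorem MinC.exists_smaller [Finite H] [Finite M] (h : MinC H M T z)
    (hline : ∀ P, IsMinPar T P → (∃ p ∈ P, p • z ≠ z) → Nat.card (vp P z) = 4)
    {B : Subgroup H} (hB : B ≤ qq z) (hov : Nat.card M < fo M B) :
    ∃ a b, a ≠ 0 ∧ a < b ∧ Flat (fab M a b) (qq (H := H) z) ∧
      (∃ B₀ ≤ qq (H := H) z, B₀ ≠ ⊥ ∧ Tight (fab M a b) B₀) ∧
      ∃ P, IsMinPar T P ∧ ∃ p ∈ P, p • z ≠ z ∧ ∃ D ≤ o2 (st (H := H) z ⊓ st (p • z)), Nat.card M ^ b < fab M a b D := by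
  obtain ⟨a, b, ha, hab, hfl, B₀, hB₀, hB1, tB⟩ := exists_ratio h.sq h.faith (isPGroup_o2 _) hB hov
  refine ⟨a, b, ha, hab, hfl, ⟨B₀, hB₀, hB1, tB⟩, ?_⟩
  by_contra hcon
  push Not at hcon
  refine h.no_tight hline ha hab hfl ?_ hB₀ hB1 tB
  intro P hP p hp hpz D hD
  rw [fab_bot]
  exact hcon P hP p hp hpz D hD

end Cfsg.Agent.Omega.ML.RatioMin
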