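import Cfsg.Agent.Omega.ML.Rows
import Cfsg.Agent.Omega.TwoF.RowJ2
import Cfsg.Agent.Omega.TwoF.RowJ3

/-!
# (ML), the K-list end: the rows `J₂` and `J₃` (helper680)

`X` almost simple with socle `S ≅ J₂` or `J₃`, `z` a 2-central involution of `S`, `C_S(z) = Q : A₅`, `Q = 2^{1+4}_-`.
A Sylow 2-subgroup of `X` centralises a conjugate of `z`, and a normal 2-subgroup of `C_X(z)` acts trivially on the five
classes `{v i, z v i}`, so it lies in `Q`, which has rank 2: `|A| ≤ 4`.
-/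

set_option autoImplicit false

namespace Cfsg.Agent.Omega.ML.RowJ

open Subgroup Cfsg Cfsg.Agent.Omega.ML.Rows
open Cfsg.Agent.ZN (o2)
open Cfsg.Agent.MinSimple.VModule (o2_isPGroup o2_le le_o2 le_normalizer_o2)
open Cfsg.Agent.J2Type.Model Cfsg.Agent.J2Type.CStruct Cfsg.Agent.J3Type.OneClass
open Cfsg.Agent.KFacts Cfsg.Agent.KFacts.AutLarge Cfsg.Agent.KFacts.J3Sheet

universe u

set_option synthInstance.maxHeartbeats 1000000 in
theorem five_aux : ∀ σ : Equiv.Perm (Fin 5), σ ≠ 1 → ∃ τ : Equiv.Perm (Fin 5), Equiv.Perm.sign τ = 1 ∧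
    (σ * (τ * σ⁻¹ * τ⁻¹)) ^ 8 ≠ 1 := by
  decide +kernel

theorem pow_eight {N : Subgroup (Equiv.Perm (Fin 5))} (h : IsPGroup 2 N) {σ : Equiv.Perm (Fin 5)} (hσ : σ ∈ N) :
    σ ^ 8 = 1 := by
  obtain ⟨n, hn⟩ := h ⟨σ, hσ⟩
  have h1 : σ ^ 2 ^ n = 1 := congrArg Subtype.val hn
  obtain ⟨k, -, hk⟩ := (Nat.dvd_prime_pow Nat.prime_two).1 (orderOf_dvd_of_pow_eq_one h1)
  have h2 : orderOf σ ∣ 120 := by
    have h3 := orderOf_dvd_natCard σ
    rwa [Nat.card_eq_fintype_card, Fintype.card_perm, Fintype.card_fin] at h3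
  rw [← orderOf_dvd_iff_pow_eq_one, hk]
  rw [hk] at h2
  have h3 : (2 : ℕ) ^ k ∣ 8 * 15 := h2
  exact (Nat.Coprime.pow_left k (by norm_num : Nat.Coprime 2 15)).dvd_of_dvd_mul_right h3

/-- a 2-subgroup of `S₅` normalised by `A₅` is trivial -/
theorem eq_bot_of_normal {N : Subgroup (Equiv.Perm (Fin 5))} (h : IsPGroup 2 N)
    (hn : ∀ τ : Equiv.Perm (Fin 5), Equiv.Perm.sign τ = 1 → ∀ σ ∈ N, τ * σ * τ⁻¹ ∈ N) : N = ⊥ := by
  rw [eq_bot_iff]
  intro σ hσ
  by_contra h1
  obtain ⟨τ, hτ, h2⟩ := five_aux σ (fun h3 => h1 (mem_bot.2 h3))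
  exact h2 (pow_eight h (mul_mem hσ (hn τ hτ _ (inv_mem hσ))))

section core

variable {K : Type*} [Group K] {z : K} {Q : Subgroup (centralizer ({z} : Set K))}
  {v : Fin 5 → centralizer ({z} : Set K)} {ρ : centralizer ({z} : Set K) →* SP}

theorem perm_unique (M : IsModel Q (zc z) v ρ) {α : MulAut K} {σ τ : Equiv.Perm (Fin 5)} (h1 : PermOf v α σ)
    (h2 : PermOf v α τ) : σ = τ := by
  ext i
  have h3 := eqz_rho M (eqz_trans M (eqz_symm M (h1 i)) (h2 i))
  rw [rho_v M, rho_v M] at h3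
  rw [aux_ind _ _ (congrArg SP.s h3)]

theorem permOf_conj (M : IsModel Q (zc z) v ρ) (c : centralizer ({z} : Set K)) :
    PermOf v (MulAut.conj (c : K)) (ρ c).σ := by
  intro i
  have h1 := M.conj c i
  have h2 := eqz_zp M ((ρ c).s i) (v ((ρ c).σ i))
  rw [← h1] at h2
  exact h2

end core

section almost

variable {X : Type u} [Group X] {S : Subgroup X} [hSn : S.Normal] {z : S}
  {Q : Subgroup (centralizer ({z} : Set S))} {v : Fin 5 → centralizer ({z} : Set S)}
  {ρ : centralizer ({z} : Set S) →* SP}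

omit hSn in
theorem mem_cent {c : X} : c ∈ centralizer ({(z : X)} : Set X) ↔ c * z = z * c := mem_centralizer_singleton_iff

theorem conj_z {c : X} (hc : c * z = z * c) : MulAut.conjNormal (H := S) c z = z := by
  apply Subtype.ext
  rw [MulAut.conjNormal_apply, hc, mul_inv_cancel_right]

/-- the action of `C_X(z)` on the five classes -/
theorem exists_hom (M : IsModel Q (zc z) v ρ) (hperm : ∀ α : MulAut S, α z = z → ∃ σ, PermOf v α σ) :
    ∃ f : centralizer ({(z : X)} : Set X) →* Equiv.Perm (Fin 5), ∀ c : centralizer ({(z : X)} : Set X),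
      PermOf v (MulAut.conjNormal (H := S) (c : X)) (f c) := by
  choose σ hσ using fun c : centralizer ({(z : X)} : Set X) =>
    hperm (MulAut.conjNormal (H := S) (c : X)) (conj_z (mem_cent.1 c.2))
  refine ⟨MonoidHom.mk' σ fun c d => ?_, hσ⟩
  apply perm_unique M (hσ (c * d))
  have h1 := permOf_mul M (conj_z (mem_cent.1 c.2)) (hσ c) (hσ d)
  rwa [← map_mul] at h1

theorem eq_of_conj (hcen : centralizer (S : Set X) = ⊥) {p : X} {k : S}
    (h : MulAut.conjNormal (H := S) p = MulAut.conj k) : p = k := by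
  have h1 : (k : X)⁻¹ * p ∈ centralizer (S : Set X) := by
    refine mem_centralizer_iff.2 fun s hs => ?_
    have h2 := congrArg (fun φ : MulAut S => ((φ ⟨s, hs⟩ : S) : X)) h
    have h3 : p * s * p⁻¹ = k * s * (k : X)⁻¹ := h2
    calc s * ((k : X)⁻¹ * p) = (k : X)⁻¹ * (k * s * (k : X)⁻¹) * p := by group
      _ = (k : X)⁻¹ * (p * s * p⁻¹) * p := by rw [h3]
      _ = (k : X)⁻¹ * p * s := by group
  rw [hcen, mem_bot, inv_mul_eq_one] at h1
  exact h1.symm

/-- **A 2-subgroup of `C_X(z)` normalised by `C_X(z)` lies in `Q`.** -/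
theorem le_Q [Finite X] (hcen : centralizer (S : Set X) = ⊥) (M : IsModel Q (zc z) v ρ)
    (hperm : ∀ α : MulAut S, α z = z → ∃ σ, PermOf v α σ)
    (hinner : ∀ α : MulAut S, α z = z → PermOf v α 1 → ∃ k, α = MulAut.conj k) {P : Subgroup X}
    (hP : IsPGroup 2 P) (hPz : ∀ p ∈ P, p * z = z * p)
    (hPn : ∀ c : X, c * z = z * c → ∀ p ∈ P, c * p * c⁻¹ ∈ P) :
    ∀ p ∈ P, ∃ q ∈ Q, (((q : centralizer ({z} : Set S)) : S) : X) = p := by
  obtain ⟨f, hf⟩ := exists_hom (X := X) (S := S) M hperm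
  have hPC : P ≤ centralizer ({(z : X)} : Set X) := fun p hp => mem_cent.2 (hPz p hp)
  have hN : (P.subgroupOf (centralizer ({(z : X)} : Set X))).map f = ⊥ := by
    apply eq_bot_of_normal
    · exact (hP.comap_of_injective _ (subtype_injective _)).map f
    · rintro τ hτ _ ⟨p, hp, rfl⟩
      obtain ⟨c, hc⟩ := QMinus.exists_c M τ hτ
      have hcz : ((c : S) : X) * z = z * c := congrArg Subtype.val (mem_centralizer_singleton_iff.1 c.2)
      have hfc : f ⟨((c : S) : X), mem_cent.2 hcz⟩ = τ := by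
        apply perm_unique M (hf _)
        intro i
        left
        have h1 := congrArg (Subtype.val : centralizer ({z} : Set S) → S) (hc i)
        exact Subtype.ext (congrArg Subtype.val h1)
      refine ⟨⟨((c : S) : X), mem_cent.2 hcz⟩ * p * ⟨((c : S) : X), mem_cent.2 hcz⟩⁻¹, ?_, ?_⟩
      · exact hPn _ hcz p hp
      · rw [map_mul, map_mul, map_inv, hfc]
  intro p hp
  have h1 : f ⟨p, hPC hp⟩ = 1 := by
    rw [← mem_bot, ← hN]
    exact ⟨⟨p, hPC hp⟩, hp, rfl⟩
  have h2 := hf ⟨p, hPC hp⟩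
  rw [h1] at h2
  obtain ⟨k, hk⟩ := hinner _ (conj_z (hPz p hp)) h2
  have h3 : p = k := eq_of_conj hcen hk
  have h4 : k ∈ centralizer ({z} : Set S) := by
    rw [mem_centralizer_singleton_iff]
    apply Subtype.ext
    show (k : X) * z = z * k
    rw [← h3]
    exact hPz p hp
  refine ⟨⟨k, h4⟩, ?_, h3.symm⟩
  rw [M.mem_Q]
  refine (perm_unique M (α := MulAut.conjNormal (H := S) p) h2 ?_).symm
  rw [hk]
  exact permOf_conj M ⟨k, h4⟩

/-- a 2-group centralises a conjugate of `z` -/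
theorem exists_fixed [Finite X] (hcl : ∀ α : MulAut S, IsConj z (α z))
    (hodd : ¬ 2 ∣ (centralizer ({z} : Set S)).index) {T : Subgroup X} (hT : IsPGroup 2 T) :
    ∃ g : S, ∀ t ∈ T, t * (g * z * (g : X)⁻¹) = (g * z * (g : X)⁻¹) * t := by
  have : Fact (Nat.Prime 2) := ⟨Nat.prime_two⟩
  have hmap : ∀ (t : X) (y : S), (∃ k : S, k * z * k⁻¹ = y) →
      ∃ k : S, k * z * k⁻¹ = MulAut.conjNormal (H := S) t y := by
    intro t y hy
    exact isConj_iff.1 ((hcl _).trans (J2.Basic.isConj_map (MulAut.conjNormal (H := S) t) (isConj_iff.2 hy)))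
  let act : MulAction T {y : S // ∃ k : S, k * z * k⁻¹ = y} :=
    { smul := fun t y => ⟨MulAut.conjNormal (H := S) (t : X) y.1, hmap t y.1 y.2⟩
      one_smul := fun y => Subtype.ext (by
        show MulAut.conjNormal (H := S) ((1 : T) : X) y.1 = y.1
        rw [coe_one, map_one]; rfl)
      mul_smul := fun s t y => Subtype.ext (by
        show MulAut.conjNormal (H := S) ((s * t : T) : X) y.1 = _
        rw [coe_mul, map_mul]; rfl) }
  have hcard : Nat.card {y : S // ∃ k : S, k * z * k⁻¹ = y} = (centralizer ({z} : Set S)).index := by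
    have h1 := card_conj z
    have h2 : Nat.card {k : S // k * z = z * k} = Nat.card (centralizer ({z} : Set S)) :=
      Nat.card_congr (Equiv.subtypeEquivRight fun k => mem_centralizer_singleton_iff.symm)
    rw [h2, ← (centralizer ({z} : Set S)).index_mul_card] at h1
    exact Nat.eq_of_mul_eq_mul_right Nat.card_pos h1
  obtain ⟨y, hy⟩ := hT.nonempty_fixed_point_of_prime_not_dvd_card {y : S // ∃ k : S, k * z * k⁻¹ = y} (by
    rwa [hcard])
  obtain ⟨g, hg⟩ := y.2
  refine ⟨g, fun t ht => ?_⟩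
  have h1 : MulAut.conjNormal (H := S) t y.1 = y.1 := congrArg Subtype.val (hy ⟨t, ht⟩)
  have h2 : t * (y.1 : X) * t⁻¹ = y.1 := congrArg Subtype.val h1
  have h3 : (g : X) * z * (g : X)⁻¹ = y.1 := congrArg Subtype.val hg
  rw [h3]
  exact mul_inv_eq_iff_eq_mul.1 h2

/-- **The common row.** -/
theorem card_le_four [Finite X] {T A : Subgroup X} (h : AS S T A) (M : IsModel Q (zc z) v ρ)
    (hperm : ∀ α : MulAut S, α z = z → ∃ σ, PermOf v α σ)
    (hinner : ∀ α : MulAut S, α z = z → PermOf v α 1 → ∃ k, α = MulAut.conj k)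
    (hcl : ∀ α : MulAut S, IsConj z (α z)) (hodd : ¬ 2 ∣ (centralizer ({z} : Set S)).index)
    (hne : (centralizer ({z} : Set S)).index ≠ 1) : Nat.card A ≤ 4 := by
  obtain ⟨g, hg⟩ := exists_fixed hcl hodd h.two
  set y : X := g * z * (g : X)⁻¹ with hy
  have hT : T ≤ centralizer ({y} : Set X) := fun t ht => mem_centralizer_singleton_iff.2 (hg t ht)
  have hR : centralizer ({y} : Set X) ≠ ⊤ := by
    intro h1
    apply hne
    rw [index_eq_one, eq_top_iff]
    intro s _
    have h2 : (g : X) * s * (g : X)⁻¹ ∈ centralizer ({y} : Set X) := h1 ▸ mem_top _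
    rw [mem_centralizer_singleton_iff, hy] at h2
    rw [mem_centralizer_singleton_iff]
    apply Subtype.ext
    show (s : X) * z = z * s
    calc (s : X) * z = (g : X)⁻¹ * (g * s * (g : X)⁻¹ * (g * z * (g : X)⁻¹)) * g := by group
      _ = (g : X)⁻¹ * (g * z * (g : X)⁻¹ * (g * s * (g : X)⁻¹)) * g := by rw [h2]
      _ = z * s := by group
  have hA := h.low _ hT hR
  set c : X →* X := (MulAut.conj (g : X)⁻¹).toMonoidHom with hc
  have hcx : ∀ x, c x = (g : X)⁻¹ * x * g := fun x => by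
    show (g : X)⁻¹ * x * (g : X)⁻¹⁻¹ = _
    rw [inv_inv]
  have hci : Function.Injective c := (MulAut.conj (g : X)⁻¹).injective
  have hle := le_Q (P := (o2 (centralizer ({y} : Set X))).map c) h.cen M hperm hinner
    ((o2_isPGroup _).map c) (by
      rintro _ ⟨p, hp, rfl⟩
      have h1 : p * y = y * p := mem_centralizer_singleton_iff.1 (o2_le _ hp)
      rw [hcx]
      calc (g : X)⁻¹ * p * g * z = (g : X)⁻¹ * (p * (g * z * (g : X)⁻¹)) * g := by group
        _ = (g : X)⁻¹ * ((g * z * (g : X)⁻¹) * p) * g := by rw [h1]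
        _ = z * ((g : X)⁻¹ * p * g) := by group) (by
      rintro x hx _ ⟨p, hp, rfl⟩
      have h1 : (g : X) * x * (g : X)⁻¹ ∈ centralizer ({y} : Set X) := by
        rw [mem_centralizer_singleton_iff]
        calc (g : X) * x * (g : X)⁻¹ * (g * z * (g : X)⁻¹) = g * (x * z) * (g : X)⁻¹ := by group
          _ = g * (z * x) * (g : X)⁻¹ := by rw [hx]
          _ = g * z * (g : X)⁻¹ * (g * x * (g : X)⁻¹) := by group
      have h2 := (mem_normalizer_iff.1 (le_normalizer_o2 _ h1) p).1 hp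
      refine ⟨_, h2, ?_⟩
      rw [hcx, hcx]
      group)
  -- the image of `A` in `S`
  have hB : ∀ b ∈ (A.map c).comap S.subtype, ∃ q ∈ Q, ((q : centralizer ({z} : Set S)) : S) = b := by
    rintro b ⟨a, ha, hab⟩
    obtain ⟨q, hq, h1⟩ := hle (b : X) ⟨a, hA ha, hab⟩
    exact ⟨q, hq, Subtype.ext h1⟩
  have h4 := TwoF.RowJ3.card_le_Q M ((A.map c).comap S.subtype) (by
    intro b hb
    obtain ⟨q, hq, h1⟩ := hB b hb
    exact ⟨q, hq, h1⟩) (by
    rintro b ⟨a, ha, hab⟩
    apply Subtype.ext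
    show (b : X) * b = 1
    have h1 : (b : X) = c a := hab.symm
    rw [h1, ← map_mul, h.el a ha, map_one])
  have h5 : ((A.map c).comap S.subtype).map S.subtype = A.map c := by
    rw [map_comap_eq, range_subtype, inf_eq_right]
    rintro _ ⟨a, ha, rfl⟩
    obtain ⟨q, -, h1⟩ := hle (c a) ⟨a, hA ha, rfl⟩
    rw [← h1]
    exact SetLike.coe_mem _
  have h6 : Nat.card ((A.map c).comap S.subtype) = Nat.card A := by
    rw [← card_map_of_injective S.subtype_injective, h5, card_map_of_injective hci]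
  rw [← h6]
  exact h4.trans (by norm_num)

end almost

theorem exists_s {K : Type*} [Group K] {z : K} {Q : Subgroup (centralizer ({z} : Set K))}
    {v : Fin 5 → centralizer ({z} : Set K)} {ρ : centralizer ({z} : Set K) →* SP} (_ : IsModel Q (zc z) v ρ)
    {α : MulAut K} {σ : Equiv.Perm (Fin 5)} (h : PermOf v α σ) :
    ∃ s : Fin 5 → ZMod 2, ∀ i, α (v i) = ((zp (zc z) (s i) * v (σ i) : centralizer ({z} : Set K)) : K) := by
  have h1 : ∀ i, ∃ a : ZMod 2, α (v i) = ((zp (zc z) a * v (σ i) : centralizer ({z} : Set K)) : K) := by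
    intro i
    rcases h i with h2 | h2
    · exact ⟨0, by rw [zp_zero, one_mul]; exact h2⟩
    · refine ⟨1, ?_⟩
      rw [zp_one, h2]
      exact vz (v (σ i))
  exact ⟨fun i => (h1 i).choose, fun i => (h1 i).choose_spec⟩

/-- **The row `J₂` (with `J₂.2`).** -/
theorem deadG_J2 : DeadG.{u} @Cfsg.Spor.IsoJ2 := by
  intro X _ _ S T A h hS
  have hSn := h.norm
  obtain ⟨t, u, Q, v, ρ, D⟩ := J2.Facts.exists_dat_of hS
  refine card_le_four h D.M ?_ ?_ D.isConj_aut ?_ ?_
  · intro α hα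
    obtain ⟨σ, s, hs⟩ := D.exists_act α hα
    refine ⟨σ, fun i => ?_⟩
    rw [hs i]
    exact eqz_zp D.M (s i) (v (σ i))
  · intro α hα h1
    obtain ⟨s, hs⟩ := exists_s D.M h1
    exact D.inner_of_even α hα 1 s hs Equiv.Perm.sign_one
  · rw [D.index]; norm_num
  · rw [D.index]; norm_num

end Cfsg.Agent.Omega.ML.RowJ
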