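import Cfsg.Agent.Omega.ML.LocLift
import Cfsg.Agent.Omega.ML.LocFi23
import Cfsg.Agent.KFacts.FiTTh.Has

/-!
# (ML), the K-list end: the row `Fi23` (helper907)
-/

set_option autoImplicit false

namespace Cfsg.Agent.Omega.ML.RowLocFi23

open Subgroup Cfsg Cfsg.Agent.Omega.ML.Rows Cfsg.Agent.Omega.ML.LocRow

universe u v

/-- **The row `Fi23`.** -/
theorem dead_fi23 : Dead.{u, v} (fun S _ => Spor.IsoFi23 S) := by
  refine dead_of_loc fun S _ _ hS => ?_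
  obtain ⟨e⟩ := hS
  obtain ⟨x, hx⟩ := LocFi23.exists_loc
  refine ⟨⟨_, _, _, _, hx.map e.symm, ?_⟩, fun α => ?_⟩
  · rw [Nat.card_congr e.toEquiv, Cfsg.Agent.Fischer.Fi23Simple.card_Fi23]
    norm_num
  · obtain ⟨k, hk⟩ := Cfsg.Agent.KFacts.FiTTh.Has.inn ((e.symm.trans α).trans e)
    refine ⟨e.symm k, ?_⟩
    ext x
    have h1 := congrArg (fun f : MulAut Spor.Fi23 => e.symm (f (e x))) hk
    simpa using h1

end Cfsg.Agent.Omega.ML.RowLocFi23
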