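import Cfsg.Agent.Omega.ML.RowsDead
import Cfsg.Agent.Omega.ML.Dual

/-!
# (ML), the K-list end: the opposite form of a row (helper721)

`In.false_of_opp` : `A ∩ R = 1` for every proper `R ≥ T'`, `T'` one 2-subgroup, is impossible in the situation `In`:
`T'` fixes a functional `φ ≠ 1` of `M`, `C_H(φ) < H` since `M` is irreducible, so `φ` is regular for `A` and
`|A| |C_M(A)| ≤ |M|` (`Dual.fo_le`).

* `DeadOpp 𝒮` : the group-theoretic row in opposite form, `DeadOpp.dead : IsoClosed 𝒮 → DeadOpp 𝒮 → Dead 𝒮`;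
* `Opp T` : the form of helper116 (one maximal subgroup over `T`, or an opposite Sylow subgroup);
  `In.false_of_Opp`.
-/

set_option autoImplicit false

namespace Cfsg.Agent.Omega.ML.Rows

open Subgroup Cfsg Cfsg.Agent.ZN Cfsg.Agent.Omega.NOThree.NoOver Cfsg.Agent.Omega.ML.CD
open Cfsg.Agent.MinSimple.VModule (o2_isPGroup o2_le le_o2 le_normalizer_o2)

universe u v w

section functional

variable {H : Type*} [Group H] {M : Type*} [Group M] [MulDistribMulAction H M]

/-- the action on functionals -/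
@[reducible] def fact : MulAction H (M →* ℤˣ) where
  smul h φ := φ.comp (MulDistribMulAction.toMonoidHom M h⁻¹)
  one_smul φ := by
    ext m
    change ((φ ((1 : H)⁻¹ • m) : ℤˣ) : ℤ) = φ m
    rw [inv_one, one_smul]
  mul_smul g h φ := by
    ext m
    change ((φ ((g * h)⁻¹ • m) : ℤˣ) : ℤ) = φ (h⁻¹ • g⁻¹ • m)
    rw [mul_inv_rev, mul_smul]

/-- A nontrivial elementary abelian 2-group has a functional. -/
theorem exists_functional [Finite M] [Nontrivial M] (sq : ∀ m : M, m * m = 1) : ∃ φ : M →* ℤˣ, φ ≠ 1 := by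
  have hcomm : ∀ x y : M, x * y = y * x := by
    intro x y
    have h1 := sq (x * y)
    have hx : x⁻¹ = x := inv_eq_of_mul_eq_one_left (sq x)
    have hy : y⁻¹ = y := inv_eq_of_mul_eq_one_left (sq y)
    have h2 : (x * y)⁻¹ = x * y := inv_eq_of_mul_eq_one_left h1
    rw [mul_inv_rev, hx, hy] at h2
    exact h2.symm
  let _ : CommGroup M := { (inferInstance : Group M) with mul_comm := hcomm }
  obtain ⟨a, ha⟩ := exists_ne (1 : M)
  have hexp : Monoid.exponent M = 2 := by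
    have h1 : Monoid.exponent M ∣ 2 := Monoid.exponent_dvd_of_forall_pow_eq_one fun m => by rw [pow_two, sq]
    rcases (Nat.dvd_prime Nat.prime_two).1 h1 with h2 | h2
    · exfalso
      rw [Monoid.exp_eq_one_iff] at h2
      exact ha (Subsingleton.elim _ _)
    · exact h2
  have : HasEnoughRootsOfUnity ℤ (Monoid.exponent M) := by
    rw [hexp]
    refine ⟨⟨-1, ?_⟩, inferInstance⟩
    exact IsPrimitiveRoot.neg_one 0 (by norm_num)
  obtain ⟨φ, hφ⟩ := CommGroup.exists_apply_ne_one_of_hasEnoughRootsOfUnity M ℤ ha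
  exact ⟨φ, fun h => hφ (by rw [h, MonoidHom.one_apply])⟩

/-- A 2-group fixes a functional. -/
theorem exists_fixed_functional [Finite M] [Nontrivial M] (sq : ∀ m : M, m * m = 1) {T : Subgroup H}
    (hT : IsPGroup 2 T) : ∃ φ : M →* ℤˣ, φ ≠ 1 ∧ ∀ t ∈ T, ∀ m : M, φ (t • m) = φ m := by
  let _ : MulAction H (M →* ℤˣ) := fact
  have hfin : Finite (M →* ℤˣ) := DFunLike.finite _
  obtain ⟨φ, hφ⟩ := exists_functional sq
  have h2 : φ ^ 2 = 1 := by
    ext m
    rw [MonoidHom.pow_apply, MonoidHom.one_apply, pow_two, Int.units_mul_self]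
  have h3 : orderOf φ = 2 := orderOf_eq_prime h2 hφ
  have h4 : 2 ∣ Nat.card (M →* ℤˣ) := h3 ▸ orderOf_dvd_natCard φ
  have h5 : (1 : M →* ℤˣ) ∈ MulAction.fixedPoints T (M →* ℤˣ) := by
    intro t
    ext m
    rfl
  obtain ⟨ψ, hψ, hne⟩ := hT.exists_fixed_point_of_prime_dvd_card_of_fixed_point (M →* ℤˣ) h4 h5
  refine ⟨ψ, hne.symm, fun t ht m => ?_⟩
  have h6 := DFunLike.congr_fun (hψ ⟨t⁻¹, T.inv_mem ht⟩) m
  have h7 : ψ ((t⁻¹)⁻¹ • m) = ψ m := h6
  rwa [inv_inv] at h7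

end functional

variable {H : Type u} [Group H] {M : Type v} [Group M] [MulDistribMulAction H M] {K T A : Subgroup H}

/-- **The opposite form kills.** -/
theorem In.false_of_opp [Finite H] [Finite M] (h : In H M K T A) {T' : Subgroup H} (hT' : IsPGroup 2 T')
    (hopp : ∀ R : Subgroup H, T' ≤ R → R ≠ ⊤ → A ⊓ R = ⊥) : False := by
  have hA : A ≠ ⊥ := by
    intro h1
    have h2 := h.eight
    rw [h1, card_bot] at h2
    omega
  obtain ⟨a, haA, ha⟩ : ∃ a ∈ A, a ≠ 1 := by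
    by_contra hc
    push Not at hc
    exact hA (eq_bot_iff.2 fun x hx => mem_bot.2 (hc x hx))
  have hM : Nontrivial M := by
    by_contra hc
    rw [not_nontrivial_iff_subsingleton] at hc
    exact ha (h.faith a fun m => Subsingleton.elim _ _)
  obtain ⟨φ, hφ, hfix⟩ := exists_fixed_functional (H := H) h.sq hT'
  let R : Subgroup H :=
    { carrier := {g | ∀ m : M, φ (g • m) = φ m}
      one_mem' := fun m => by rw [one_smul]
      mul_mem' := by
        intro g g' hg hg' m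
        rw [mul_smul, hg, hg']
      inv_mem' := by
        intro g hg m
        have h1 := hg (g⁻¹ • m)
        rw [smul_inv_smul] at h1
        exact h1.symm }
  have hR : R ≠ ⊤ := by
    intro h1
    have hall : ∀ (g : H) (m : M), φ (g • m) = φ m := fun g => (h1 ▸ mem_top g : g ∈ R)
    rcases h.irr φ.ker (fun g w hw => by rw [MonoidHom.mem_ker] at hw ⊢; rw [hall, hw]) with h2 | h2
    · refine ha (h.faith a fun m => ?_)
      exact (MonoidHom.ker_eq_bot_iff φ).1 h2 (hall a m)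
    · exact hφ (MonoidHom.ext fun m => MonoidHom.mem_ker.1 (h2 ▸ mem_top m))
  have h3 := hopp R (fun t ht m => hfix t ht m) hR
  have h4 := Dual.fo_le (X := A) (u := φ) (fun w w' => map_mul φ w w') (fun x hx hx' =>
    mem_bot.1 (h3 ▸ (mem_inf.2 ⟨hx, hx'⟩ : x ∈ A ⊓ R)))
  have h5 := h.strict ⊥ (bot_lt_iff_ne_bot.2 hA)
  rw [fab_bot, fab, pow_one, pow_one, pow_one] at h5
  exact absurd h4 (not_le.2 h5)

/-- The row of the class `𝒮` in opposite form. -/
def DeadOpp (𝒮 : ∀ (S : Type u) [Group S], Prop) : Prop :=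
  ∀ (X : Type u) [Group X] [Finite X] (S T A : Subgroup X), AS S T A → 𝒮 S →
    ∃ T' : Subgroup X, IsPGroup 2 T' ∧ ∀ R : Subgroup X, T' ≤ R → R ≠ ⊤ → A ⊓ R = ⊥

/-- The mixed form: small rank or opposite form. -/
def DeadGO (𝒮 : ∀ (S : Type u) [Group S], Prop) : Prop :=
  ∀ (X : Type u) [Group X] [Finite X] (S T A : Subgroup X), AS S T A → 𝒮 S →
    Nat.card A ≤ 4 ∨ ∃ T' : Subgroup X, IsPGroup 2 T' ∧ ∀ R : Subgroup X, T' ≤ R → R ≠ ⊤ → A ⊓ R = ⊥

theorem DeadOpp.deadGO {𝒮 : ∀ (S : Type u) [Group S], Prop} (h : DeadOpp 𝒮) : DeadGO 𝒮 :=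
  fun X _ _ S T A hA hS => Or.inr (h X S T A hA hS)

theorem DeadG.deadGO {𝒮 : ∀ (S : Type u) [Group S], Prop} (h : DeadG 𝒮) : DeadGO 𝒮 :=
  fun X _ _ S T A hA hS => Or.inl (h X S T A hA hS)

/-- the opposite form in the almost simple group `H / C_H(K)` -/
theorem In.false_of_opp_map [Finite H] [Finite M] (h : In H M K T A) (hZ : (centralizer (K : Set H)).Normal)
    {T' : Subgroup (H ⧸ centralizer (K : Set H))} (hT' : IsPGroup 2 T')
    (hopp : ∀ R : Subgroup (H ⧸ centralizer (K : Set H)), T' ≤ R → R ≠ ⊤ →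
      A.map (QuotientGroup.mk' (centralizer (K : Set H))) ⊓ R = ⊥) : False := by
  set π := QuotientGroup.mk' (centralizer (K : Set H)) with hπ
  have hs : Function.Surjective π := QuotientGroup.mk'_surjective _
  have hker : π.ker = centralizer (K : Set H) := QuotientGroup.ker_mk' _
  have htop : ∀ R : Subgroup H, R ≠ ⊤ → R.map π ≠ ⊤ := by
    intro R hR h1
    apply hR
    apply h.eq_top_of_sup
    rw [← hker, ← comap_map_eq, h1, comap_top]
  -- a 2-subgroup mapping onto `T'`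
  have : Fact (Nat.Prime 2) := ⟨Nat.prime_two⟩
  obtain ⟨P⟩ : Nonempty (Sylow 2 (T'.comap π)) := inferInstance
  have hPle : ((P : Subgroup (T'.comap π)).map (T'.comap π).subtype) ≤ T'.comap π := map_subtype_le _
  have hPmap : T' ≤ ((P : Subgroup (T'.comap π)).map (T'.comap π).subtype).map π := by
    -- the index of the image is odd and a power of 2
    let ρ : T'.comap π →* T' := π.subgroupComap T'
    have hρ : Function.Surjective ρ := by
      intro x
      obtain ⟨g, hg⟩ := hs x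
      exact ⟨⟨g, by rw [mem_comap, hg]; exact x.2⟩, Subtype.ext hg⟩
    have h1 : ((P : Subgroup (T'.comap π)).map ρ).index ∣ (P : Subgroup (T'.comap π)).index := index_map_dvd _ hρ
    have h2 : ¬ 2 ∣ ((P : Subgroup (T'.comap π)).map ρ).index := fun h3 => P.not_dvd_index (h3.trans h1)
    have h3 : ((P : Subgroup (T'.comap π)).map ρ).index = 1 := by
      obtain ⟨n, hn⟩ := hT'.index ((P : Subgroup (T'.comap π)).map ρ)
      rw [hn] at h2 ⊢
      rcases Nat.eq_zero_or_pos n with rfl | hn0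
      · rfl
      · exact absurd (dvd_pow_self 2 hn0.ne') h2
    rw [index_eq_one] at h3
    intro x hx
    have h4 : (⟨x, hx⟩ : T') ∈ ((P : Subgroup (T'.comap π)).map ρ) := h3 ▸ mem_top _
    obtain ⟨g, hg, hgx⟩ := h4
    exact ⟨g, ⟨g, hg, rfl⟩, congrArg Subtype.val hgx⟩
  refine h.false_of_opp (T' := (P : Subgroup (T'.comap π)).map (T'.comap π).subtype) (P.2.map _) fun R hTR hR => ?_
  have h1 := hopp (R.map π) (hPmap.trans (map_mono hTR)) (htop R hR)
  rw [eq_bot_iff]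
  intro x hx
  have h2 : π x ∈ A.map π ⊓ R.map π := ⟨⟨x, hx.1, rfl⟩, ⟨x, hx.2, rfl⟩⟩
  rw [h1, mem_bot] at h2
  have h3 : x ∈ A ⊓ centralizer (K : Set H) := ⟨hx.1, hker ▸ (MonoidHom.mem_ker.2 h2)⟩
  have h4 : IsPGroup 2 A := fun a => ⟨1, Subtype.ext (by rw [pow_one, pow_two]; exact h.el a a.2)⟩
  rwa [h.inf_eq_bot A h4] at h3

/-- **A group-theoretic row, mixed form, is a row.** -/
theorem DeadGO.dead {𝒮 : ∀ (S : Type u) [Group S], Prop} (h𝒮 : IsoClosed.{u} 𝒮) (hD : DeadGO.{u} 𝒮) :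
    Dead.{u, v} 𝒮 := by
  intro H _ _ M _ _ _ K T A h hK
  have hZ := h.normalZ
  rcases hD _ _ _ _ (h.as hZ) (h𝒮 _ _ (equivZ hZ) hK) with h1 | ⟨T', hT', h1⟩
  · rw [h.card_map hZ] at h1
    exact absurd h.eight (by omega)
  · exact h.false_of_opp_map hZ hT' h1

theorem DeadOpp.dead {𝒮 : ∀ (S : Type u) [Group S], Prop} (h𝒮 : IsoClosed.{u} 𝒮) (hD : DeadOpp.{u} 𝒮) :
    Dead.{u, v} 𝒮 := hD.deadGO.dead h𝒮

/-- The form of helper116 (#16908). -/
def Opp {H : Type*} [Group H] [Finite H] (T : Sylow 2 H) : Prop :=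
  (∃ N : Subgroup H, N ≠ ⊤ ∧ ∀ R, (T : Subgroup H) ≤ R → R ≠ ⊤ → R ≤ N) ∨
    (∃ T' : Sylow 2 H, ∀ x, (∀ R : Subgroup H, (T : Subgroup H) ≤ R → R ≠ ⊤ → x ∈ o2 R) →
      ∀ R', (T' : Subgroup H) ≤ R' → R' ≠ ⊤ → x ∈ R' → x = 1)

theorem In.false_of_Opp [Finite H] [Finite M] (h : In H M K T A) (P : Sylow 2 H) (hP : (P : Subgroup H) = T)
    (hopp : Opp P) : False := by
  subst hP
  rcases hopp with hN | ⟨T', h1⟩
  · exact h.nmax hN
  · refine h.false_of_opp T'.2 fun R hTR hR => ?_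
    rw [eq_bot_iff]
    intro x hx
    exact mem_bot.2 (h1 x (fun R' hR' hR'' => h.low R' hR' hR'' hx.1) R hTR hR hx.2)

end Cfsg.Agent.Omega.ML.Rows
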