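import Cfsg.Agent.Omega.ML.UFour.Perm
import Cfsg.Agent.Omega.ML.UFour.Out
import Cfsg.Agent.Omega.KFacts

/-!
# (ML), the K-list end: the row `U₄(3)` (all covers, all extensions; helper844)

`row : Dead @IsUFourThree`, the field `u43` of `RowsML`.
-/

set_option autoImplicit false

namespace Cfsg.Agent.Omega.ML.RowUFour

open Cfsg Cfsg.Agent.Omega.KFacts Cfsg.Agent.Omega.ML.Rows Cfsg.Agent.Omega.ML.Gen3
  Cfsg.Agent.Omega.ML.UFour

universe u v

/-- **The row `u43`.** -/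
theorem row : Dead.{u, v} @IsUFourThree := by
  refine dead_of_five ?_
  rintro S _ ⟨F, _, _, hF, ⟨e⟩⟩
  obtain ⟨ε⟩ := Perm.psu_iso hF
  refine ⟨GenBy.equiv (e.trans ε) Perm.genBy, ?_, (Out.rk hF).equiv e, OutLe.equiv e (Out.outLe hF),
    NormEl.equiv (e.trans ε) Perm.normEl⟩
  rw [Nat.card_congr (e.trans ε).toEquiv, Perm.card_K0]
  norm_num

end Cfsg.Agent.Omega.ML.RowUFour
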