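import Cfsg.Agent.Omega.ML.RowsDead
import Cfsg.Agent.Omega.TwoF.Defs

/-!
# (ML), the K-list end: rank tools (helper809)

* `AS.card_le_of_rk` : `RK S a` bounds `|A|` by `2 ^ a`; `AS.card_le_four_of_rk`;
* `AS.le_two` : `A ≤ T`; `AS.o2_le_two` : `O₂(R) ≤ T` for `T ≤ R`;
* `AS.ne_two` : `A ≠ T` if `A ≠ 1` (`T` is in two maximal subgroups); `AS.two_mul_card_le` : `2 |A| ≤ |T|`;
* `AS.top_of_inner` : if the automorphisms of order 2 of `S` are inner then `S = X`.
-/

set_option autoImplicit false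

namespace Cfsg.Agent.Omega.ML.Rows

open Subgroup Cfsg Cfsg.Agent.ZN Cfsg.Agent.Omega.TwoF
open Cfsg.Agent.MinSimple.VModule (o2_isPGroup o2_le le_o2 le_normalizer_o2)

universe u

variable {X : Type u} [Group X] {S T A : Subgroup X}

/-- `X` acts faithfully on `S`. -/
theorem AS.conj_inj (h : AS S T A) :
    Function.Injective (@MulAut.conjNormal X _ S h.norm) := by
  have hn := h.norm
  rw [injective_iff_map_eq_one]
  intro x hx
  have h1 : x ∈ centralizer (S : Set X) := by
    refine mem_centralizer_iff.2 fun s hs => ?_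
    have h2 : ((MulAut.conjNormal x : MulAut S) ⟨s, hs⟩ : X) = s := by rw [hx]; rfl
    rw [MulAut.conjNormal_apply] at h2
    calc s * x = (x * s * x⁻¹) * x := by rw [h2]
      _ = x * s := by group
  rw [h.cen] at h1
  exact mem_bot.1 h1

/-- **The rank bound.** -/
theorem AS.card_le_of_rk (h : AS S T A) {a : ℕ} (hr : RK S a) : Nat.card A ≤ 2 ^ a := by
  have hn := h.norm
  refine hr.card_le_of_injective ((MulAut.conjNormal : X →* MulAut S).comp A.subtype) ?_ fun x =>
    Subtype.ext (by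
      rw [pow_two]
      exact h.el x x.2)
  exact h.conj_inj.comp A.subtype_injective

theorem AS.card_le_four_of_rk (h : AS S T A) (hr : RK S 2) : Nat.card A ≤ 4 :=
  h.card_le_of_rk hr

theorem AS.le_two (h : AS S T A) : A ≤ T :=
  (h.low T le_rfl h.ne_top).trans (o2_le T)

/-- `T` is a maximal 2-subgroup. -/
theorem AS.le_of_two [Finite X] (h : AS S T A) {Q : Subgroup X} (hQ : IsPGroup 2 Q) (hT : T ≤ Q) : Q ≤ T := by
  have hp : Fact (Nat.Prime 2) := ⟨Nat.prime_two⟩
  have h3 : ¬ 2 ∣ T.relIndex Q := fun h4 => h.syl (h4.trans (relIndex_dvd_index_of_le hT))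
  obtain ⟨n, hn⟩ := (IsPGroup.iff_card.1 hQ)
  have h4 : T.relIndex Q ∣ 2 ^ n := hn ▸ (T.subgroupOf Q).index_dvd_card
  obtain ⟨k, -, hk⟩ := (Nat.dvd_prime_pow Nat.prime_two).1 h4
  have h5 : k = 0 := by
    by_contra hk0
    exact h3 (hk ▸ dvd_pow_self 2 hk0)
  rw [h5, pow_zero] at hk
  exact relIndex_eq_one.1 hk

/-- `O₂(R) ≤ T` for overgroups of `T`. -/
theorem AS.o2_le_two [Finite X] (h : AS S T A) {R : Subgroup X} (hT : T ≤ R) : o2 R ≤ T := by
  have h2 : T ≤ normalizer (o2 R : Set X) := hT.trans (le_normalizer_o2 R)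
  exact le_sup_left.trans (h.le_of_two ((o2_isPGroup R).to_sup_of_normal_left' h.two h2) le_sup_right)

/-- **`A` is not a Sylow 2-subgroup.** -/
theorem AS.ne_two [Finite X] (h : AS S T A) (hA : A ≠ ⊥) : A ≠ T := by
  intro hAT
  have hp : Fact (Nat.Prime 2) := ⟨Nat.prime_two⟩
  have hn := h.norm
  have hsim := h.simple
  apply h.nmax
  refine ⟨normalizer (T : Set X), ?_, fun R hTR hR => ?_⟩
  · intro h1
    have h2 : T.Normal := normalizer_eq_top_iff.1 h1
    -- `T ∩ S` is normal in `S`
    have h3 : (T.subgroupOf S).Normal := inferInstance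
    rcases hsim.eq_bot_or_eq_top_of_normal _ h3 with h4 | h4
    · -- `T ∩ S = 1`: `[T, S] = 1`
      have h5 : T ≤ centralizer (S : Set X) := by
        rw [← commutator_eq_bot_iff_le_centralizer, eq_bot_iff]
        refine (commutator_le_inf T S).trans ?_
        rw [subgroupOf_eq_bot, disjoint_iff] at h4
        exact h4.le
      rw [h.cen] at h5
      exact hA (eq_bot_iff.2 (h.le_two.trans h5))
    · -- `S` is a simple 2-group
      have h5 : S ≤ T := subgroupOf_eq_top.1 h4
      have h6 : IsPGroup 2 S := h.two.to_le h5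
      have h7 : center S ≠ ⊥ := by
        have := h6.center_nontrivial
        exact (nontrivial_iff_ne_bot _).1 this
      have h8 : center S = ⊤ := (hsim.eq_bot_or_eq_top_of_normal _ inferInstance).resolve_left h7
      have h9 : S ≤ centralizer (S : Set X) := by
        intro s hs
        refine mem_centralizer_iff.2 fun y hy => ?_
        have h10 : (⟨s, hs⟩ : S) ∈ center S := h8 ▸ mem_top _
        exact congrArg Subtype.val (mem_center_iff.1 h10 ⟨y, hy⟩)
      rw [h.cen] at h9
      obtain ⟨x, hx⟩ := exists_ne (1 : S)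
      exact hx (Subtype.ext (mem_bot.1 (h9 x.2)))
  · have h1 : o2 R = T := le_antisymm (h.o2_le_two hTR) (hAT ▸ h.low R hTR hR)
    have h2 := le_normalizer_o2 R
    rwa [h1] at h2

/-- **`2 |A| ≤ |T|`.** -/
theorem AS.two_mul_card_le [Finite X] (h : AS S T A) (hA : A ≠ ⊥) : 2 * Nat.card A ≤ Nat.card T := by
  have h1 : Nat.card A * A.relIndex T = Nat.card T := by
    rw [← Nat.card_congr (subgroupOfEquivOfLe h.le_two).toEquiv]
    exact (A.subgroupOf T).card_mul_index
  have h2 : A.relIndex T ≠ 1 := fun h3 => h.ne_two hA (le_antisymm h.le_two (relIndex_eq_one.1 h3))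
  have h3 : A.relIndex T ≠ 0 := FiniteIndex.index_ne_zero
  rw [← h1, mul_comm]
  exact Nat.mul_le_mul_left _ (by omega)

/-- **Inner involutory automorphisms.** -/
theorem AS.top_of_inner (h : AS S T A) (hi : ∀ α : MulAut S, α ^ 2 = 1 → ∃ v : S, α = MulAut.conj v) : S = ⊤ := by
  have hn := h.norm
  rw [← h.gen]
  refine (sup_eq_left.2 fun a ha => ?_).symm
  obtain ⟨v, hv⟩ := hi (MulAut.conjNormal a) (by rw [← map_pow, pow_two, h.el a ha, map_one])
  have h1 : a = v := by
    apply h.conj_inj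
    rw [hv]
    ext s
    rw [MulAut.conjNormal_apply, MulAut.conj_apply]
    simp
  rw [h1]
  exact v.2

end Cfsg.Agent.Omega.ML.Rows
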