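import Cfsg.Agent.Omega.ML.RatioLine

/-!
# (ML) and its form for sections (OMEGA, (ML)); K-free

* `MLFor X V` : **(ML)** for the group `X` acting on `V`: `T ∈ Syl₂(X)`, `v ∈ C_V(T)`, `V = ⟨v^X⟩`, `B ≤ O₂(C_X(v))` imply
  `|B : C_B(V)| ≤ |V : C_V(B)|`;  `MLBelow n` : `MLFor X V` for `|X| < n`, `V` an elementary abelian 2-group;
* `MLOn E X` : (ML) for `X` and all `V` (`E`: only for elementary abelian `B`);
* `sec_on`, `sec` : (ML) for `C` on a section `U / Z` of `M`, written in `M`.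
-/

set_option autoImplicit false

namespace Cfsg.Agent.Omega.ML.Sec

open Subgroup Cfsg.Agent.ClassTwoFusion.Quad Cfsg.Agent.Omega.NOThree.NoOver Cfsg.Agent.Omega.ML.CD
  Cfsg.Agent.Omega.ML.Ratio Cfsg.Agent.Omega.ML.RatioLine Cfsg.Agent.ZN

universe u v

/-- **(ML)** for the group `X` acting on `V` -/
def MLFor (X V : Type*) [Group X] [Group V] [MulDistribMulAction X V] : Prop :=
  ∀ (T : Subgroup X) (v : V), Syl T → v ∈ cv V (T : Set X) → closure (Set.range fun x : X => x • v) = ⊤ →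
    ∀ B ≤ qq (H := X) v, (kr (⊥ : Subgroup V)).relIndex B ≤ (cv V (B : Set X)).index

/-- (ML) for the groups of order less than `n` and elementary abelian 2-groups -/
def MLBelow (n : ℕ) : Prop :=
  ∀ (X : Type u) [Group X] [Finite X] (V : Type v) [Group V] [Finite V] [MulDistribMulAction X V],
    (∀ v w : V, v * w = w * v) → (∀ v : V, v * v = 1) → Nat.card X < n → MLFor X V

/-- (ML) for `X` on all elementary abelian 2-groups; if `E` holds only for elementary abelian `B` -/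
def MLOn (E : Prop) (X : Type u) [Group X] : Prop :=
  ∀ (V : Type v) [Group V] [Finite V] [MulDistribMulAction X V], (∀ v w : V, v * w = w * v) → (∀ v : V, v * v = 1) →
    ∀ (T : Subgroup X) (v : V), Syl T → v ∈ cv V (T : Set X) → closure (Set.range fun x : X => x • v) = ⊤ →
    ∀ B ≤ qq (H := X) v, (E → ∀ b ∈ B, b * b = 1) → (kr (⊥ : Subgroup V)).relIndex B ≤ (cv V (B : Set X)).index

theorem MLBelow.on {n : ℕ} (h : MLBelow.{u, v} n) (E : Prop) {X : Type u} [Group X] [Finite X] (hX : Nat.card X < n) :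
    MLOn.{u, v} E X := fun V _ _ _ hc hs T v hT hv hg B hB _ => h X V hc hs hX T v hT hv hg B hB

section act

variable {H : Type*} [Group H] {M : Type*} [Group M] [MulDistribMulAction H M]

/-- the action of `C` on an invariant subgroup -/
abbrev subAct (C : Subgroup H) (U : Subgroup M) (hU : ∀ c ∈ C, ∀ u ∈ U, c • u ∈ U) : MulDistribMulAction C U where
  smul c u := ⟨(c : H) • (u : M), hU c c.2 u u.2⟩
  one_smul u := Subtype.ext (one_smul H (u : M))
  mul_smul c d u := Subtype.ext (mul_smul (c : H) d (u : M))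
  smul_mul c u w := Subtype.ext (smul_mul' (c : H) (u : M) w)
  smul_one c := Subtype.ext (smul_one (c : H))

/-- the action on a quotient -/
abbrev quoAct {X U : Type*} [Group X] [Group U] [MulDistribMulAction X U] (D : Subgroup U) [D.Normal]
    (hD : ∀ x : X, ∀ d ∈ D, x • d ∈ D) : MulDistribMulAction X (U ⧸ D) where
  smul x := QuotientGroup.map D D (MulDistribMulAction.toMonoidHom U x) fun d hd => hD x d hd
  one_smul q := by
    obtain ⟨u, rfl⟩ := QuotientGroup.mk_surjective q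
    exact congrArg (QuotientGroup.mk (s := D)) (one_smul X u)
  mul_smul x y q := by
    obtain ⟨u, rfl⟩ := QuotientGroup.mk_surjective q
    exact congrArg (QuotientGroup.mk (s := D)) (mul_smul x y u)
  smul_mul x p q := map_mul (QuotientGroup.map D D (MulDistribMulAction.toMonoidHom U x) fun d hd => hD x d hd) p q
  smul_one x := map_one (QuotientGroup.map D D (MulDistribMulAction.toMonoidHom U x) fun d hd => hD x d hd)

/-- the elements `c ∈ C` with `[U, c] ≤ Z` -/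
def ks (C : Subgroup H) (U Z : Subgroup M) (hU : ∀ c ∈ C, ∀ u ∈ U, c • u ∈ U) : Subgroup H where
  carrier := {x | x ∈ C ∧ ∀ u ∈ U, (x • u) * u⁻¹ ∈ Z}
  one_mem' := ⟨one_mem _, fun m _ => by rw [one_smul, mul_inv_cancel]; exact one_mem _⟩
  mul_mem' := fun {x y} hx hy => ⟨mul_mem hx.1 hy.1, fun m hm => by
    have h1 := Z.mul_mem (hx.2 (y • m) (hU y hy.1 m hm)) (hy.2 m hm)
    rwa [← mul_smul, ← mul_assoc, inv_mul_cancel_right] at h1⟩
  inv_mem' := fun {x} hx => ⟨inv_mem hx.1, fun m hm => by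
    have h1 := Z.inv_mem (hx.2 (x⁻¹ • m) (hU _ (inv_mem hx.1) m hm))
    rwa [smul_inv_smul, mul_inv_rev, inv_inv] at h1⟩

/-- `{c ∈ C | [x, c] ∈ Z}` -/
def ss (C : Subgroup H) (Z : Subgroup M) (hZ : ∀ c ∈ C, ∀ u ∈ Z, c • u ∈ Z) (x : M) : Subgroup H where
  carrier := {c | c ∈ C ∧ x⁻¹ * (c • x) ∈ Z}
  one_mem' := ⟨one_mem _, by rw [one_smul, inv_mul_cancel]; exact one_mem _⟩
  mul_mem' := fun {c d} hc hd => ⟨mul_mem hc.1 hd.1, by
    have h1 := Z.mul_mem hc.2 (hZ c hc.1 _ hd.2)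
    have h2 : x⁻¹ * (c • x) * c • (x⁻¹ * (d • x)) = x⁻¹ * ((c * d) • x) := by
      rw [smul_mul', smul_inv', mul_smul]
      group
    rwa [h2] at h1⟩
  inv_mem' := fun {c} hc => ⟨inv_mem hc.1, by
    have h1 := Z.inv_mem (hZ c⁻¹ (inv_mem hc.1) _ hc.2)
    have h2 : (c⁻¹ • (x⁻¹ * (c • x)))⁻¹ = x⁻¹ * (c⁻¹ • x) := by
      rw [smul_mul', inv_smul_smul, smul_inv', mul_inv_rev, inv_inv]
    rwa [h2] at h1⟩

end act

variable {H : Type u} [Group H] [Finite H] {M : Type v} [Group M] [Finite M] [MulDistribMulAction H M]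

omit [Finite H] in
/-- **(ML) for a section** -/
theorem sec_on {E : Prop} (hcomm : ∀ v w : M, v * w = w * v) (hsq : ∀ v : M, v * v = 1)
    {C T : Subgroup H} {U Z : Subgroup M} (ih : MLOn.{u, v} E C) (hZU : Z ≤ U)
    (hU : ∀ c ∈ C, ∀ u ∈ U, c • u ∈ U) (hZ : ∀ c ∈ C, ∀ u ∈ Z, c • u ∈ Z) (hT : IsPGroup 2 T)
    (hTs : ¬ 2 ∣ T.relIndex C) {x : M} (hxU : x ∈ U) (hgen : U ≤ closure {w | ∃ c ∈ C, w = c • x} ⊔ Z)
    (hxT : ∀ t ∈ T, x⁻¹ * (t • x) ∈ Z) {B : Subgroup H} (hB : B ≤ o2 (ss C Z hZ x)) (hE : E → ∀ b ∈ B, b * b = 1)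
    {W : Subgroup M}
    (hW : ∀ u ∈ U, u ∈ W → ∀ b ∈ B, u⁻¹ * (b • u) ∈ Z) :
    (ks C U Z hU).relIndex B ≤ W.relIndex U := by
  have hZn : (Z.subgroupOf U).Normal := ⟨fun d hd g => by
    have h1 : g * d * g⁻¹ = d := Subtype.ext (by
      rw [Subgroup.coe_mul, Subgroup.coe_mul, hcomm g d, Subgroup.coe_inv, mul_inv_cancel_right])
    rw [h1]
    exact hd⟩
  let _ : MulDistribMulAction C U := subAct C U hU
  have hZ' : ∀ c : C, ∀ d ∈ Z.subgroupOf U, c • d ∈ Z.subgroupOf U := fun c d hd => hZ c c.2 d hd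
  let _ : MulDistribMulAction C (U ⧸ Z.subgroupOf U) := quoAct (Z.subgroupOf U) hZ'
  have hsm : ∀ (c : C) (u : U), c • (QuotientGroup.mk u : U ⧸ Z.subgroupOf U) = QuotientGroup.mk (c • u) :=
    fun _ _ => rfl
  have hfix : ∀ (c : C) (u : U), c • (QuotientGroup.mk u : U ⧸ Z.subgroupOf U) = QuotientGroup.mk u ↔
      (u : M)⁻¹ * ((c : H) • (u : M)) ∈ Z := by
    intro c u
    rw [hsm, eq_comm, QuotientGroup.eq]
    rfl
  have hml := ih (U ⧸ Z.subgroupOf U) (by
      intro v w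
      obtain ⟨a, rfl⟩ := QuotientGroup.mk_surjective v
      obtain ⟨b, rfl⟩ := QuotientGroup.mk_surjective w
      exact congrArg (QuotientGroup.mk (s := Z.subgroupOf U)) (Subtype.ext (hcomm a b))) (by
      intro v
      obtain ⟨a, rfl⟩ := QuotientGroup.mk_surjective v
      exact congrArg (QuotientGroup.mk (s := Z.subgroupOf U)) (Subtype.ext (hsq a)))
  have hTi : (T.subgroupOf C).index = T.relIndex C := rfl
  set S : Subgroup H := ss C Z hZ x with hS
  have hSC : S ≤ C := fun c hc => hc.1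
  have hstab : MulAction.stabilizer C (QuotientGroup.mk ⟨x, hxU⟩ : U ⧸ Z.subgroupOf U) = S.subgroupOf C := by
    ext c
    rw [MulAction.mem_stabilizer_iff, hfix, mem_subgroupOf]
    exact ⟨fun h => ⟨c.2, h⟩, fun h => h.2⟩
  have hBC : B ≤ C := (hB.trans (o2_le _)).trans hSC
  have ho2 : B.subgroupOf C ≤ qq (H := C) (QuotientGroup.mk ⟨x, hxU⟩ : U ⧸ Z.subgroupOf U) := by
    rw [qq, st, hstab]
    have h2 : (o2 (S.subgroupOf C)).map C.subtype = o2 S := by
      rw [← o2_map C.subtype C.subtype_injective, subgroupOf_map_subtype, inf_eq_left.2 hSC]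
    intro c hc
    have h3 : (c : H) ∈ (o2 (S.subgroupOf C)).map C.subtype := by
      rw [h2]
      exact hB hc
    obtain ⟨d, hd, hdc⟩ := h3
    have h4 : d = c := Subtype.ext hdc
    rwa [h4] at hd
  have h1 := hml (T.subgroupOf C) (QuotientGroup.mk ⟨x, hxU⟩) ⟨hT.comap_of_injective _ C.subtype_injective, by
      rw [hTi]
      exact hTs⟩ (by
      intro t ht
      exact (hfix t ⟨x, hxU⟩).2 (hxT t ht)) (by
      rw [eq_top_iff]
      intro q _
      obtain ⟨u, rfl⟩ := QuotientGroup.mk_surjective q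
      set R : Subgroup (U ⧸ Z.subgroupOf U) :=
        closure (Set.range fun c : C => c • (QuotientGroup.mk ⟨x, hxU⟩ : U ⧸ Z.subgroupOf U)) with hR
      have h2 : closure {w | ∃ c ∈ C, w = c • x} ⊔ Z ≤ (R.comap (QuotientGroup.mk' _)).map U.subtype := by
        refine sup_le ?_ ?_
        · rw [closure_le]
          rintro _ ⟨c, hc, rfl⟩
          exact ⟨⟨c • x, hU c hc x hxU⟩, subset_closure ⟨⟨c, hc⟩, rfl⟩, rfl⟩
        · intro w hw
          refine ⟨⟨w, hZU hw⟩, ?_, rfl⟩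
          have h3 : (QuotientGroup.mk ⟨w, hZU hw⟩ : U ⧸ Z.subgroupOf U) = 1 := (QuotientGroup.eq_one_iff _).2 hw
          change (QuotientGroup.mk ⟨w, hZU hw⟩ : U ⧸ Z.subgroupOf U) ∈ R
          rw [h3]
          exact one_mem _
      obtain ⟨w, hw, hwu⟩ := h2 (hgen u.2)
      have h3 : w = u := Subtype.ext hwu
      rw [h3] at hw
      exact hw) (B.subgroupOf C) ho2 (fun h b hb => Subtype.ext (hE h b hb))
  have hk : kr (⊥ : Subgroup (U ⧸ Z.subgroupOf U)) = (ks C U Z hU).subgroupOf C := by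
    ext c
    rw [mem_subgroupOf]
    constructor
    · intro h
      refine ⟨c.2, fun u hu => ?_⟩
      have h2 : c • (QuotientGroup.mk ⟨u, hu⟩ : U ⧸ Z.subgroupOf U) = QuotientGroup.mk ⟨u, hu⟩ :=
        mul_inv_eq_one.1 (mem_bot.1 (h (QuotientGroup.mk ⟨u, hu⟩)))
      rw [hfix] at h2
      rw [hcomm]
      exact h2
    · rintro ⟨-, h⟩ q
      obtain ⟨u, rfl⟩ := QuotientGroup.mk_surjective q
      rw [mem_bot, mul_inv_eq_one, hfix, hcomm]
      exact h u u.2
  have hcv : W.subgroupOf U ≤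
      (cv (U ⧸ Z.subgroupOf U) ((B.subgroupOf C : Subgroup C) : Set C)).comap (QuotientGroup.mk' _) := by
    intro u hu b hb
    exact (hfix b u).2 (hW u u.2 (mem_subgroupOf.1 hu) b hb)
  rw [hk, relIndex_subgroupOf hBC, ← Subgroup.index_comap_of_surjective _ (QuotientGroup.mk'_surjective _)] at h1
  exact h1.trans (Nat.le_of_dvd (Nat.pos_of_ne_zero (index_ne_zero_of_finite)) (index_dvd_of_le hcv))

/-- **(ML) for a section** -/
theorem sec {n : ℕ} (ih : MLBelow.{u, v} n) (hcomm : ∀ v w : M, v * w = w * v) (hsq : ∀ v : M, v * v = 1)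
    {C T : Subgroup H} {U Z : Subgroup M} (hC : Nat.card C < n) (hZU : Z ≤ U)
    (hU : ∀ c ∈ C, ∀ u ∈ U, c • u ∈ U) (hZ : ∀ c ∈ C, ∀ u ∈ Z, c • u ∈ Z) (hT : IsPGroup 2 T)
    (hTs : ¬ 2 ∣ T.relIndex C) {x : M} (hxU : x ∈ U) (hgen : U ≤ closure {w | ∃ c ∈ C, w = c • x} ⊔ Z)
    (hxT : ∀ t ∈ T, x⁻¹ * (t • x) ∈ Z) {B : Subgroup H} (hB : B ≤ o2 (ss C Z hZ x)) {W : Subgroup M}
    (hW : ∀ u ∈ U, u ∈ W → ∀ b ∈ B, u⁻¹ * (b • u) ∈ Z) :
    (ks C U Z hU).relIndex B ≤ W.relIndex U :=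
  sec_on hcomm hsq (ih.on False hC) hZU hU hZ hT hTs hxU hgen hxT hB (fun h => h.elim) hW

end Cfsg.Agent.Omega.ML.Sec
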