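import Cfsg.Agent.Omega.ML.InvRow
import Cfsg.Agent.Omega.ML.RowsDead
import Cfsg.Agent.Omega.ML.ShE

/-!
# (ML), the K-list end: a sheet of type (E) and one inverted element (helper667)

**`dead_of`** : the class `𝒮` (closed under isomorphism) of groups with a sheet `SheetX z P R` (helper926, helper915), whose
elementary abelian subgroups `B ≤ R` have order at most `2 ^ n`, and `InvAt y n` (helper226) for every involution
`y ∈ R`, `y ≠ z`, is a row.
-/

set_option autoImplicit false

namespace Cfsg.Agent.Omega.ML.ShInv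

open Subgroup Cfsg Cfsg.Agent.OddHalf.D8.JTwo.Sheet Cfsg.Agent.Omega.ML.Rows Cfsg.Agent.Omega.ML.ShE
open Cfsg.Agent.Omega.ML.InvChain

universe u v

/-- The row of a class of groups with a sheet of type (E), `R` of rank at most `n`, `InvAt y n` for the involutions
`y ≠ z` of `R`. -/
theorem dead_of {𝒮 : ∀ (S : Type u) [Group S], Prop} (h𝒮 : IsoClosed.{u} 𝒮)
    (hs : ∀ (S : Type u) [Group S], Finite S → 𝒮 S → ∃ (z : S) (P R : Subgroup S) (n : ℕ), SheetX z P R ∧
      (∀ B ≤ R, (∀ b ∈ B, b * b = 1) → Nat.card B ≤ 2 ^ n) ∧ ∀ y ∈ R, y * y = 1 → y ≠ 1 → y ≠ z → InvAt y n) :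
    Dead.{u, v} 𝒮 := by
  classical
  intro H _ _ M _ _ _ K T A h hK
  have hZ := h.normalZ
  set π := QuotientGroup.mk' (centralizer (K : Set H)) with hπ
  have hker : π.ker = centralizer (K : Set H) := QuotientGroup.ker_mk' _
  have hs' : Function.Surjective π := QuotientGroup.mk'_surjective _
  have has := h.as hZ
  obtain ⟨z, P, R, n, hz, hR, hI⟩ := hs _ inferInstance (h𝒮 _ _ (equivZ hZ) hK)
  have htop := ShE.eq_top has hz
  have hcard : Nat.card A ≤ 2 ^ n := by
    rw [← h.card_map hZ]
    exact ShE.card_le has hz hR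
  -- `K = ⊤`
  have hKt : K = ⊤ := by
    have h1 : K ⊔ π.ker = ⊤ := by
      rw [← comap_map_eq]
      change (K.map π).comap π = ⊤
      rw [htop, comap_top]
    rw [hker] at h1
    rw [← h1]
    exact (sup_eq_left.2 h.cen).symm
  obtain ⟨g, hg⟩ := ShE.le_conj has hz
  -- the element
  obtain ⟨x, hxA, hx1, hx2⟩ : ∃ x ∈ A, π x ≠ 1 ∧ g⁻¹ * π x * g ≠ (z : H ⧸ centralizer (K : Set H)) := by
    by_contra hcon
    push Not at hcon
    have h1 : Nat.card A ≤ 2 := by
      rw [← h.card_map hZ]
      have h2 : ∀ a : A.map π, (a : H ⧸ centralizer (K : Set H)) = 1 ∨ g⁻¹ * (a : H ⧸ centralizer (K : Set H)) * g = z := by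
        rintro ⟨_, a, ha, rfl⟩
        by_cases h3 : π a = 1
        · exact Or.inl h3
        · exact Or.inr (hcon a ha h3)
      have h3 : Function.Injective (fun a : A.map π => (if (a : H ⧸ centralizer (K : Set H)) = 1 then false else true : Bool)) := by
        intro a b hab
        apply Subtype.ext
        by_cases ha : (a : H ⧸ centralizer (K : Set H)) = 1
        · by_cases hb : (b : H ⧸ centralizer (K : Set H)) = 1
          · rw [ha, hb]
          · simp [ha, hb] at hab
        · by_cases hb : (b : H ⧸ centralizer (K : Set H)) = 1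
          · simp [ha, hb] at hab
          · have h4 := (h2 a).resolve_left ha
            have h5 := (h2 b).resolve_left hb
            rw [← h5] at h4
            exact mul_left_cancel (mul_right_cancel h4)
      have h4 := Nat.card_le_card_of_injective _ h3
      rwa [Nat.card_eq_fintype_card (α := Bool), Fintype.card_bool] at h4
    have := h.eight
    omega
  obtain ⟨r, hr, hrx⟩ := hg (π x) (mem_map_of_mem π hxA)
  change (r : H ⧸ centralizer (K : Set H)) = g⁻¹ * π x * g at hrx
  have hxx : π x * π x = 1 := by rw [← map_mul, h.el x hxA, map_one]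
  have hI' : InvAt r n := by
    refine hI r hr (Subtype.ext ?_) ?_ ?_
    · rw [Subgroup.coe_mul, hrx, Subgroup.coe_one]
      calc g⁻¹ * π x * g * (g⁻¹ * π x * g) = g⁻¹ * (π x * π x) * g := by group
        _ = 1 := by rw [hxx]; group
    · intro h1
      apply hx1
      rw [h1, Subgroup.coe_one] at hrx
      calc π x = g * (g⁻¹ * π x * g) * g⁻¹ := by group
        _ = 1 := by rw [← hrx]; group
    · intro h1
      exact hx2 (by rw [← hrx, h1])
  have h2 : InvAt (π x) n := by
    have h3 := (hI'.map (K.map π).subtype (K.map π).subtype_injective).conj g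
    have h4 : g * (K.map π).subtype r * g⁻¹ = π x := by
      change g * (r : H ⧸ centralizer (K : Set H)) * g⁻¹ = π x
      rw [hrx]; group
    rwa [h4] at h3
  have hxK : x ∈ K := hKt ▸ mem_top x
  -- transport to `K / Z(K)`
  let ι : (H ⧸ centralizer (K : Set H)) →* K.map π :=
    { toFun := fun y => ⟨y, htop ▸ mem_top y⟩
      map_one' := rfl
      map_mul' := fun _ _ => rfl }
  have hι : Function.Injective ι := fun a b hab => congrArg Subtype.val hab
  have h3 : InvAt ((equivZ hZ).symm (ι (π x))) n :=
    (h2.map ι hι).map (equivZ hZ).symm.toMonoidHom (equivZ hZ).symm.injective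
  have h4 : (equivZ hZ).symm (ι (π x)) = ((⟨x, hxK⟩ : K) : K ⧸ center K) := by
    rw [MulEquiv.symm_apply_eq]
    rfl
  rw [h4] at h3
  exact InvRow.false_of_inv h hcard (x := ⟨x, hxK⟩) hxA h3

end Cfsg.Agent.Omega.ML.ShInv
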