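import Cfsg.Agent.Omega.Lie.HeisOdd
import Cfsg.Agent.Omega.ML.TorusLB

/-!
# The Heisenberg bound with a torus in odd covers

`HeisF.LB.fh` together with elements `T c ∈ K` (`c ≠ 0`) which commute with the inverting element `s` and satisfy
`T c * X t * (T c)⁻¹ = X (c * t)`: the bound `LB K ((|F| - 1) * |F| ^ h)`.
-/

set_option autoImplicit false
set_option linter.unusedSectionVars false
set_option linter.style.haveILetI false

universe u v w w'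

namespace Cfsg.Agent.Omega.ML.TorusLift

open Cfsg.Agent.Omega.Lie.Heis Cfsg.Agent.Omega.Lie.HeisF

/-- `HeisF.lift_FH` with the inverting element. -/
theorem lift_FH {K : Type u} [Group K] {F : Type w} [Field F] {r h : ℕ} {X : F → K} {A B : Fin h → F → K}
    {c : Fin h → F} (hH : FH r h X A B c) {s : K} (sX : ∀ t, s * X t * s⁻¹ = (X t)⁻¹)
    (sA : ∀ j t, s * A j t * s⁻¹ = (A j t)⁻¹) (sB : ∀ j t, s * B j t * s⁻¹ = B j t)
    (XX : ∀ t u, LC.{u, v} (X t) (X u)) (XA : ∀ j t u, LC.{u, v} (X t) (A j u))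
    (AA : ∀ i j t u, LC.{u, v} (A i t) (A j u)) {L : Type v} [Group L] {π : L →* K} (hπ : Cov π) :
    ∃ (σ : L) (X' : F → L) (A' B' : Fin h → F → L), π σ = s ∧ FH r h X' A' B' c ∧ (∀ t, π (X' t) = X t) ∧
      ∀ t, σ * X' t * σ⁻¹ = (X' t)⁻¹ := by
  obtain ⟨σ, hσ⟩ := hπ.surj s
  have hXl : ∀ t, ∃ a, π a = X t ∧ σ * a * σ⁻¹ = a⁻¹ := fun t => hπ.exists_inv_lift (by rw [hσ, sX])
  have hAl : ∀ j t, ∃ a, π a = A j t ∧ σ * a * σ⁻¹ = a⁻¹ := fun j t => hπ.exists_inv_lift (by rw [hσ, sA])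
  have hBl : ∀ j t, ∃ a, π a = B j t := fun j t => hπ.surj _
  choose X' hX' hsX using hXl
  choose A' hA' hsA using hAl
  choose B' hB' using hBl
  have cXX : ∀ t u, X' t * X' u = X' u * X' t := fun t u => XX t u L π hπ _ _ (hX' t) (hX' u)
  have cXA : ∀ j t u, X' t * A' j u = A' j u * X' t := fun j t u => XA j t u L π hπ _ _ (hX' t) (hA' j u)
  have cXB : ∀ j t u, X' t * B' j u = B' j u * X' t := fun j t u =>
    LC.of_inv (hH.XB j t u) (sX t) (sB j u) L π hπ _ _ (hX' t) (hB' j u)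
  refine ⟨σ, X', A', B', hσ, ⟨?_, ?_, cXA, cXB, ?_, ?_, ?_, hH.c_ne⟩, hX', hsX⟩
  · intro t u
    apply hπ.inv_lift_unique (σ := σ)
    · rw [map_mul, hX', hX', hX', hH.add]
    · exact hsX _
    · calc σ * (X' t * X' u) * σ⁻¹ = (σ * X' t * σ⁻¹) * (σ * X' u * σ⁻¹) := by group
        _ = (X' t)⁻¹ * (X' u)⁻¹ := by rw [hsX, hsX]
        _ = (X' u * X' t)⁻¹ := by rw [mul_inv_rev]
        _ = (X' t * X' u)⁻¹ := by rw [cXX]
  · intro j t
    apply hπ.eq_one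
    · rw [map_pow, hA', hH.A_pow]
    · have h1 : π (A' j t ^ r) = 1 := by rw [map_pow, hA', hH.A_pow]
      have h2 : σ * A' j t ^ r * σ⁻¹ = (A' j t ^ r)⁻¹ := by
        rw [← conj_pow, hsA, inv_pow]
      rw [hπ.comm h1, mul_inv_cancel_right] at h2
      rw [eq_inv_iff_mul_eq_one] at h2
      exact h2
  · intro i j t u
    exact AA i j t u L π hπ _ _ (hA' i t) (hA' j u)
  · intro i j hij t u
    exact (LC.of_inv (hH.BA i j hij t u).symm (sA j u) (sB i t)).symm L π hπ _ _ (hB' i t) (hA' j u)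
  · intro j t u
    -- `w := [B', A']` is inverted by `σ`
    set w := B' j t * A' j u * (B' j t)⁻¹ * (A' j u)⁻¹ with hw
    have hπw : π w = X (c j * t * u) := by
      rw [hw, map_mul, map_mul, map_mul, map_inv, map_inv, hB', hA', hH.conj, hH.XA j (c j * t * u) u |>.symm]
      group
    have hwA : w * A' j u = A' j u * w := XA j _ u L π hπ _ _ hπw (hA' j u)
    have hBA : B' j t * A' j u * (B' j t)⁻¹ = w * A' j u := by rw [hw]; group
    have hζ : π ((B' j t)⁻¹ * (σ * B' j t * σ⁻¹)) = 1 := by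
      rw [map_mul, map_mul, map_mul, map_inv, map_inv, hB', hσ, sB, inv_mul_cancel]
    set ζ := (B' j t)⁻¹ * (σ * B' j t * σ⁻¹) with hζd
    have h1 : σ * B' j t * σ⁻¹ = B' j t * ζ := by rw [hζd]; group
    have h2 : σ * w * σ⁻¹ = w⁻¹ := by
      have h3 : σ * w * σ⁻¹ = (σ * B' j t * σ⁻¹) * (σ * A' j u * σ⁻¹) * (σ * B' j t * σ⁻¹)⁻¹ *
          (σ * A' j u * σ⁻¹)⁻¹ := by rw [hw]; group
      rw [h3, h1, hsA]
      calc B' j t * ζ * (A' j u)⁻¹ * (B' j t * ζ)⁻¹ * ((A' j u)⁻¹)⁻¹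
          = B' j t * (ζ * (A' j u)⁻¹) * (ζ⁻¹ * (B' j t)⁻¹) * A' j u := by group
        _ = B' j t * ((A' j u)⁻¹ * ζ) * (ζ⁻¹ * (B' j t)⁻¹) * A' j u := by rw [hπ.comm hζ]
        _ = (B' j t * A' j u * (B' j t)⁻¹)⁻¹ * A' j u := by group
        _ = (w * A' j u)⁻¹ * A' j u := by rw [hBA]
        _ = (A' j u * w)⁻¹ * A' j u := by rw [hwA]
        _ = w⁻¹ := by group
    have h3 : w = X' (c j * t * u) := hπ.inv_lift_unique (by rw [hπw, hX']) h2 (hsX _)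
    rw [hBA, h3, cXA]

/-- An element commuting with the inverting element moves inverted lifts to inverted lifts. -/
theorem conj_lift {K : Type u} [Group K] {F : Type w} {X : F → K} {s : K} {L : Type v} [Group L]
    {π : L →* K} (hπ : Cov π) {σ : L} (hσ : π σ = s) {X' : F → L} (hX' : ∀ t, π (X' t) = X t)
    (hsX : ∀ t, σ * X' t * σ⁻¹ = (X' t)⁻¹) {g : L} (hg : π g * s = s * π g) {t t' : F}
    (hgt : π g * X t * (π g)⁻¹ = X t') : g * X' t * g⁻¹ = X' t' := by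
  refine hπ.inv_lift_unique (σ := σ) (by rw [map_mul, map_mul, map_inv, hX', hX', hgt]) ?_ (hsX _)
  -- `σ g = g σ k`
  have hk : π (σ⁻¹ * (g⁻¹ * (σ * g))) = 1 := by
    rw [map_mul, map_mul, map_mul, map_inv, map_inv, hσ, ← hg, inv_mul_cancel_left, inv_mul_cancel]
  set k := σ⁻¹ * (g⁻¹ * (σ * g)) with hkd
  have h1 : σ * g = g * σ * k := by rw [hkd]; group
  calc σ * (g * X' t * g⁻¹) * σ⁻¹ = (σ * g) * X' t * (σ * g)⁻¹ := by group
    _ = g * σ * (k * X' t) * k⁻¹ * σ⁻¹ * g⁻¹ := by rw [h1]; group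
    _ = g * σ * (X' t * k) * k⁻¹ * σ⁻¹ * g⁻¹ := by rw [hπ.comm hk]
    _ = g * (σ * X' t * σ⁻¹) * g⁻¹ := by group
    _ = g * (X' t)⁻¹ * g⁻¹ := by rw [hsX]
    _ = (g * X' t * g⁻¹)⁻¹ := by group

/-- **The Heisenberg bound with a torus for all perfect central extensions with kernel of odd order**:
multipliers `d i`, `i ∈ ι`. -/
theorem LB.fh {K : Type u} [Group K] [IsSimpleGroup K] {F : Type w'} [Field F] [Finite F] {r h : ℕ}
    [Fact r.Prime] [CharP F r] (hr2 : r ≠ 2) {X : F → K} {A B : Fin h → F → K}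
    {c : Fin h → F} (hH : FH r h X A B c) {s : K} (sX : ∀ t, s * X t * s⁻¹ = (X t)⁻¹)
    (sA : ∀ j t, s * A j t * s⁻¹ = (A j t)⁻¹) (sB : ∀ j t, s * B j t * s⁻¹ = B j t)
    (XX : ∀ t u, LC.{u, v} (X t) (X u)) (XA : ∀ j t u, LC.{u, v} (X t) (A j u))
    (AA : ∀ i j t u, LC.{u, v} (A i t) (A j u)) (hX1 : ∃ t, X t ≠ 1) {ι : Type*} [Finite ι] {d : ι → F}
    {T : ι → K} (hd : Function.Injective d) (hd0 : ∀ i, d i ≠ 0) (hTs : ∀ i, T i * s = s * T i)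
    (hT : ∀ i t, T i * X t * (T i)⁻¹ = X (d i * t)) :
    LB.{u, v, w} K (Nat.card ι * Nat.card F ^ h) := by
  intro L _ _ π hπ hc ho hL V _ _ h2 φ hφ
  have hcov : Cov π := ⟨hπ, hc, ho⟩
  obtain ⟨σ, X', A', B', hσ, hH', hX', hsX⟩ := lift_FH hH sX sA sB XX XA AA hcov
  obtain ⟨t, ht⟩ := hX1
  choose T' hT' using fun i => hπ (T i)
  refine TorusLB.FH.two_pow_le hH' hr2 h2 φ ⟨t, fun h => ht ?_⟩ (T := T') hd hd0 fun i t => ?_
  · have h1 : X' t ∈ π.ker := ker_le_ker hπ hc hL hφ (MonoidHom.mem_ker.2 h)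
    rw [← hX', MonoidHom.mem_ker.1 h1]
  · exact conj_lift hcov hσ hX' hsX (by rw [hT', hTs]) (by rw [hT', hT])

/-- **The full torus.** -/
theorem LB.fh_torus {K : Type u} [Group K] [IsSimpleGroup K] {F : Type w'} [Field F] [Finite F] {r h : ℕ}
    [Fact r.Prime] [CharP F r] (hr2 : r ≠ 2) {X : F → K} {A B : Fin h → F → K}
    {c : Fin h → F} (hH : FH r h X A B c) {s : K} (sX : ∀ t, s * X t * s⁻¹ = (X t)⁻¹)
    (sA : ∀ j t, s * A j t * s⁻¹ = (A j t)⁻¹) (sB : ∀ j t, s * B j t * s⁻¹ = B j t)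
    (XX : ∀ t u, LC.{u, v} (X t) (X u)) (XA : ∀ j t u, LC.{u, v} (X t) (A j u))
    (AA : ∀ i j t u, LC.{u, v} (A i t) (A j u)) (hX1 : ∃ t, X t ≠ 1) {T : F → K}
    (hTs : ∀ c, c ≠ 0 → T c * s = s * T c) (hT : ∀ c, c ≠ 0 → ∀ t, T c * X t * (T c)⁻¹ = X (c * t)) :
    LB.{u, v, w} K ((Nat.card F - 1) * Nat.card F ^ h) := by
  have h1 := LB.fh.{u, v, w, w'} hr2 hH sX sA sB XX XA AA hX1 (ι := Fˣ) (d := fun c => (c : F))
    (T := fun c => T c) Units.val_injective (fun c => c.ne_zero) (fun c => hTs c c.ne_zero)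
    (fun c t => hT c c.ne_zero t)
  rwa [Nat.card_units] at h1

end Cfsg.Agent.Omega.ML.TorusLift
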